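import Cfsg.Agent.Lib.Helper18.ChevOrdAll

/-! # Unique ordered products over the positive roots, all seven types (helper18) -/

set_option autoImplicit false

namespace Cfsg.Agent.Lib.Helper18

open Cfsg Cfsg.Lie Cfsg.Agent.Lib.Helper36

section
variable (D : ChevalleyDatum) (hD : D ∈ [chevG2, chevB2, chevD4, chevF4, chevE6, chevE7, chevE8])
variable (F : Type*) [Field F]

include hD in
/-- every element of `U` is an ordered product over the positive roots -/
theorem pos_exists (g : GL D.Idx F) (hg : g ∈ D.posUnipotent F) :
    ∃ t : ℕ → F, (∀ r, ¬ D.IsPosRoot r → t r = 0) ∧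
      (g : Matrix D.Idx D.Idx F) = D.wordMat F (D.posRoots.map fun r => (r, t r)) := by
  rw [← ordGens_zero] at hg
  obtain ⟨t, ht⟩ := ord_exists D hD F (chkOrd_all D hD) D.nroots 0 (by omega) g hg
  classical
  refine ⟨fun r => if D.IsPosRoot r then t r else 0, fun r hr => by simp [hr], ?_⟩
  rw [ht, ← ordWord_zero]
  congr 1
  apply ordWord_congr
  intro r _ hr
  simp [hr]

include hD in
/-- the ordered product determines its coefficients -/
theorem pos_unique (t t' : ℕ → F)
    (h : D.wordMat F (D.posRoots.map fun r => (r, t r)) = D.wordMat F (D.posRoots.map fun r => (r, t' r)))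
    (r : ℕ) (hr : D.IsPosRoot r) : t r = t' r := by
  rw [← ordWord_zero, ← ordWord_zero] at h
  exact ord_unique D hD F (chkPrim_all D hD) D.nroots 0 (by omega) t t' h r (Nat.zero_le _) hr

include hD in
/-- ordered products lie in `U` -/
theorem pos_word_mem (t : ℕ → F) :
    wordGL D hD F (D.posRoots.map fun r => (r, t r)) ∈ D.posUnipotent F := by
  rw [← ordWord_zero, ← ordGens_zero]
  exact ordWord_mem D hD F t 0 D.nroots

end

end Cfsg.Agent.Lib.Helper18
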