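import Cfsg.Agent.Lib.Helper38.RhDefsB

/-! # Rh hive (helper38), part B: leaf RH-PTS — the points `B`, `u p n B` of `G / B` (helper18) -/

set_option autoImplicit false

namespace Cfsg.Agent.Lib.Helper38.Rh

open Cfsg.Agent.Lib.Helper12.Rt

section partB
variable {K : Type*} [Field K] [Fintype K] {G : Type*} [Group G] {m : ℕ} (D : RtData K G m)

/-- RH-PTS.  The points: `B` and the `u p n B`, all distinct.  (Bruhat `D.R.cases`; `D.R.opp'`, `n_not_mem_B`.) -/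
theorem points (c : G ⧸ D.R.B) :
    c = ((1 : G) : G ⧸ D.R.B) ∨ ∃ p : K × K × K, c = ((D.R.u p * D.R.n : G) : G ⧸ D.R.B) := by
  obtain ⟨g, rfl⟩ := QuotientGroup.mk_surjective c
  rcases D.R.cases g with hB | ⟨p, s, p', rfl⟩
  · left
    rw [QuotientGroup.eq]
    exact mul_mem (inv_mem hB) (one_mem _)
  · right
    refine ⟨p, ?_⟩
    rw [QuotientGroup.eq]
    obtain ⟨s', hs'⟩ := D.R.n_h' s
    have : (D.R.u p * D.R.h s * D.R.n * D.R.u p')⁻¹ * (D.R.u p * D.R.n) =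
        (D.R.u p')⁻¹ * (D.R.n⁻¹ * D.R.h s * D.R.n)⁻¹ := by group
    rw [this, hs']
    exact mul_mem (inv_mem (D.R.u_mem_B _)) (inv_mem (D.R.h_mem_B _))

/-- RH-PTS (same file). -/
theorem points_inj (p p' : K × K × K)
    (h : ((D.R.u p * D.R.n : G) : G ⧸ D.R.B) = ((D.R.u p' * D.R.n : G) : G ⧸ D.R.B)) : p = p' := by
  rw [QuotientGroup.eq] at h
  obtain ⟨r, hr⟩ := D.u_inv_mul p p'
  have h1 : (D.R.u p * D.R.n)⁻¹ * (D.R.u p' * D.R.n) = D.R.n⁻¹ * D.R.u r * D.R.n := by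
    rw [← hr]; group
  rw [h1] at h
  have h2 := D.R.opp' r h
  rw [h2, D.R.u_zero] at hr
  apply D.R.u_inj
  calc D.R.u p = D.R.u p * ((D.R.u p)⁻¹ * D.R.u p') := by rw [hr, mul_one]
    _ = D.R.u p' := by group

/-- RH-PTS (same file). -/
theorem points_ne (p : K × K × K) : ((D.R.u p * D.R.n : G) : G ⧸ D.R.B) ≠ ((1 : G) : G ⧸ D.R.B) := by
  intro h
  rw [QuotientGroup.eq] at h
  apply D.R.n_not_mem_B
  have h1 : D.R.n = (D.R.u p)⁻¹ * ((D.R.u p * D.R.n)⁻¹ * 1)⁻¹ := by group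
  rw [h1]
  exact mul_mem (inv_mem (D.R.u_mem_B _)) (inv_mem h)

end partB

end Cfsg.Agent.Lib.Helper38.Rh
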