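import Cfsg.Agent.Lib.Helper18.D3Coll

/-! # D3-CA (helper18, leaf of helper12's D3 hive for S2183): conjugation by `x_a(σ)` on `V(t,S,c,d,e)`

Proof: the collector simp set of `Cfsg.Agent.Lib.Helper18.D3Coll` sorts both sides into the normal form of `U(D₄)`
(characteristic 2), then the nine coefficients are compared by `ring`. -/

set_option autoImplicit false
set_option linter.unusedSimpArgs false
set_option maxHeartbeats 1600000

namespace Cfsg.Agent.Lib.Helper12.D3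

open Cfsg Cfsg.Lie Cfsg.Agent.Lib.Helper36 Cfsg.Agent.Lib.Helper75.D4g

variable (K : Type*) [Field K] (φ : K →+* K)

theorem d3ca_xa_inv [CharP K 2] (s : K) : (xa K φ s)⁻¹ = xa K φ s := by
  rw [inv_eq_iff_mul_eq_one]
  unfold xa
  simp only [mul_assoc, d3coll_sw_13_18, d3coll_sw_13_18', d3coll_sw_12_18, d3coll_sw_12_18', d3coll_sw_14_18, d3coll_sw_14_18', d3coll_sw_19_18, d3coll_sw_19_18', d3coll_sw_16_18, d3coll_sw_16_18', d3coll_sw_15_18, d3coll_sw_15_18', d3coll_sw_21_18, d3coll_sw_21_18', d3coll_sw_17_18, d3coll_sw_17_18', d3coll_sw_20_18, d3coll_sw_20_18', d3coll_sw_22_18, d3coll_sw_22_18', d3coll_sw_23_18, d3coll_sw_23_18', d3coll_sw_12_13, d3coll_sw_12_13', d3coll_sw_14_13, d3coll_sw_14_13', d3coll_sw_19_13, d3coll_sw_19_13', d3coll_sw_16_13, d3coll_sw_16_13', d3coll_sw_15_13, d3coll_sw_15_13', d3coll_sw_21_13, d3coll_sw_21_13', d3coll_sw_17_13, d3coll_sw_17_13', d3coll_sw_20_13,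 d3coll_sw_20_13', d3coll_sw_22_13, d3coll_sw_22_13', d3coll_sw_23_13, d3coll_sw_23_13', d3coll_sw_14_12, d3coll_sw_14_12', d3coll_sw_19_12, d3coll_sw_19_12', d3coll_sw_16_12, d3coll_sw_16_12', d3coll_sw_15_12, d3coll_sw_15_12', d3coll_sw_21_12, d3coll_sw_21_12', d3coll_sw_17_12, d3coll_sw_17_12', d3coll_sw_20_12, d3coll_sw_20_12', d3coll_sw_22_12, d3coll_sw_22_12', d3coll_sw_23_12, d3coll_sw_23_12', d3coll_sw_19_14, d3coll_sw_19_14', d3coll_sw_16_14, d3coll_sw_16_14', d3coll_sw_15_14, d3coll_sw_15_14', d3coll_sw_21_14, d3coll_sw_21_14', d3coll_sw_17_14, d3coll_sw_17_14', d3coll_sw_20_14, d3coll_sw_20_14', d3coll_sw_22_14, d3coll_sw_22_14', d3coll_sw_23_14, d3coll_sw_23_14', d3coll_sw_16_19, d3coll_sw_16_19', d3coll_sw_15_19, d3coll_sw_15_19', d3coll_sw_21_19, d3coll_sw_21_19', d3coll_sw_17_19, d3coll_sw_17_19', d3coll_sw_20_19, d3coll_sw_20_19', d3coll_sw_22_19, d3coll_sw_22_19', d3coll_sw_23_19,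 d3coll_sw_23_19', d3coll_sw_15_16, d3coll_sw_15_16', d3coll_sw_21_16, d3coll_sw_21_16', d3coll_sw_17_16, d3coll_sw_17_16', d3coll_sw_20_16, d3coll_sw_20_16', d3coll_sw_22_16, d3coll_sw_22_16', d3coll_sw_23_16, d3coll_sw_23_16', d3coll_sw_21_15, d3coll_sw_21_15', d3coll_sw_17_15, d3coll_sw_17_15', d3coll_sw_20_15, d3coll_sw_20_15', d3coll_sw_22_15, d3coll_sw_22_15', d3coll_sw_23_15, d3coll_sw_23_15', d3coll_sw_17_21, d3coll_sw_17_21', d3coll_sw_20_21, d3coll_sw_20_21', d3coll_sw_22_21, d3coll_sw_22_21', d3coll_sw_23_21, d3coll_sw_23_21', d3coll_sw_20_17, d3coll_sw_20_17', d3coll_sw_22_17, d3coll_sw_22_17', d3coll_sw_23_17, d3coll_sw_23_17', d3coll_sw_22_20, d3coll_sw_22_20', d3coll_sw_23_20, d3coll_sw_23_20', d3coll_sw_23_22, d3coll_sw_23_22', d3coll_add, d3coll_add', CharTwo.add_self_eq_zero, d3coll_zero, one_mul, mul_one]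

/-- D3-CA : conjugation by `x_a(σ)` -/
theorem conj_a [CharP K 2] (h3 : ∀ x : K, φ (φ (φ x)) = x) (σ t : K) (ht : φ t = t) (S c d e : K) :
    ∃ e' : K, xa K φ σ * V K φ t S c d e * (xa K φ σ)⁻¹ =
      V K φ t (S + σ * t) (c + φ S * σ + S * φ σ + σ * φ σ * t)
        (d + (φ (φ S) * σ * φ σ + φ S * σ * φ (φ σ) + S * φ σ * φ (φ σ)) + tr3 K φ c σ + nm K φ σ * t) e' := by
  refine ⟨φ (φ S) * σ * φ σ * t + φ S * φ (φ S) * σ + φ S * σ * φ (φ σ) * t + S * φ (φ S) * φ σ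
    + S * φ S * φ (φ σ) + S * φ σ * φ (φ σ) * t + e + σ * φ σ * φ (φ σ) * t ^ 2, ?_⟩
  rw [d3ca_xa_inv]
  unfold xa V T x2ab xab
  simp only [mul_assoc, d3coll_sw_13_18, d3coll_sw_13_18', d3coll_sw_12_18, d3coll_sw_12_18', d3coll_sw_14_18, d3coll_sw_14_18', d3coll_sw_19_18, d3coll_sw_19_18', d3coll_sw_16_18, d3coll_sw_16_18', d3coll_sw_15_18, d3coll_sw_15_18', d3coll_sw_21_18, d3coll_sw_21_18', d3coll_sw_17_18, d3coll_sw_17_18', d3coll_sw_20_18, d3coll_sw_20_18', d3coll_sw_22_18, d3coll_sw_22_18', d3coll_sw_23_18, d3coll_sw_23_18', d3coll_sw_12_13, d3coll_sw_12_13', d3coll_sw_14_13, d3coll_sw_14_13', d3coll_sw_19_13, d3coll_sw_19_13', d3coll_sw_16_13, d3coll_sw_16_13', d3coll_sw_15_13, d3coll_sw_15_13', d3coll_sw_21_13, d3coll_sw_21_13', d3coll_sw_17_13, d3coll_sw_17_13', d3coll_sw_20_13, d3coll_sw_20_13', d3coll_sw_22_13, d3coll_sw_22_13', d3coll_sw_23_13, d3coll_sw_23_13', d3coll_sw_14_12,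 d3coll_sw_14_12', d3coll_sw_19_12, d3coll_sw_19_12', d3coll_sw_16_12, d3coll_sw_16_12', d3coll_sw_15_12, d3coll_sw_15_12', d3coll_sw_21_12, d3coll_sw_21_12', d3coll_sw_17_12, d3coll_sw_17_12', d3coll_sw_20_12, d3coll_sw_20_12', d3coll_sw_22_12, d3coll_sw_22_12', d3coll_sw_23_12, d3coll_sw_23_12', d3coll_sw_19_14, d3coll_sw_19_14', d3coll_sw_16_14, d3coll_sw_16_14', d3coll_sw_15_14, d3coll_sw_15_14', d3coll_sw_21_14, d3coll_sw_21_14', d3coll_sw_17_14, d3coll_sw_17_14', d3coll_sw_20_14, d3coll_sw_20_14', d3coll_sw_22_14, d3coll_sw_22_14', d3coll_sw_23_14, d3coll_sw_23_14', d3coll_sw_16_19, d3coll_sw_16_19', d3coll_sw_15_19, d3coll_sw_15_19', d3coll_sw_21_19, d3coll_sw_21_19', d3coll_sw_17_19, d3coll_sw_17_19', d3coll_sw_20_19, d3coll_sw_20_19', d3coll_sw_22_19, d3coll_sw_22_19', d3coll_sw_23_19, d3coll_sw_23_19', d3coll_sw_15_16, d3coll_sw_15_16', d3coll_sw_21_16, d3coll_sw_21_16', d3coll_sw_17_16,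 d3coll_sw_17_16', d3coll_sw_20_16, d3coll_sw_20_16', d3coll_sw_22_16, d3coll_sw_22_16', d3coll_sw_23_16, d3coll_sw_23_16', d3coll_sw_21_15, d3coll_sw_21_15', d3coll_sw_17_15, d3coll_sw_17_15', d3coll_sw_20_15, d3coll_sw_20_15', d3coll_sw_22_15, d3coll_sw_22_15', d3coll_sw_23_15, d3coll_sw_23_15', d3coll_sw_17_21, d3coll_sw_17_21', d3coll_sw_20_21, d3coll_sw_20_21', d3coll_sw_22_21, d3coll_sw_22_21', d3coll_sw_23_21, d3coll_sw_23_21', d3coll_sw_20_17, d3coll_sw_20_17', d3coll_sw_22_17, d3coll_sw_22_17', d3coll_sw_23_17, d3coll_sw_23_17', d3coll_sw_22_20, d3coll_sw_22_20', d3coll_sw_23_20, d3coll_sw_23_20', d3coll_sw_23_22, d3coll_sw_23_22', d3coll_add, d3coll_add']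
  simp only [CharTwo.add_self_eq_zero, d3coll_zero, one_mul]
  apply d3coll_nf9 <;> (try simp only [map_add, map_mul, h3, ht, tr3, nm]) <;> ring

end Cfsg.Agent.Lib.Helper12.D3
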