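import Cfsg.Agent.Lib.Helper18.ChevHT

set_option autoImplicit false

namespace Cfsg.Agent.Lib.Helper18

open Cfsg Cfsg.Lie Cfsg.Agent.Lib.Helper36

/-- the Laurent monomial `u` (second variable) -/
def lpU : LP := [((0, 1), 1)]

/-- the monomial `C (-t)^i u^j` -/
def commMono (C : ℤ) (i j : ℕ) : LP := lpMul (lpOfInt (C * (-1) ^ i)) [(((i : ℤ), (j : ℤ)), 1)]

/-- the right-hand word of the commutator formula, symbolically -/
def commWordE (terms : List (ℕ × ℤ × ℕ × ℕ)) : List (ℕ × LP) :=
  terms.map fun c => (c.1, commMono c.2.1 c.2.2.1 c.2.2.2)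

/-- symbolic check of the commutator formula for the pair `(r, s)` on column `c` -/
def chkCommCol (T : FastTab) (terms : List (ℕ × ℤ × ℕ × ℕ)) (r s c : ℕ) : Bool :=
  svIsZero (svDiff (applyWordF T [(s, lpU), (r, lpT)] [(c, lpOne)])
    (applyWordF T ((r, lpT) :: (s, lpU) :: commWordE terms) [(c, lpOne)]))

/-- symbolic check of the commutator formula for the pair `(r, s)` -/
def chkComm (T : FastTab) (terms : List (ℕ × ℤ × ℕ × ℕ)) (r s : ℕ) : Bool :=
  (List.range (T.l + T.n)).all (chkCommCol T terms r s)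

section
variable {F : Type*} [Field F]

theorem lpEval_lpU (t u : F) : lpEval t u lpU = u := by
  simp [lpU, lpEval, monoEval]

theorem lpEval_lpT' (t u : F) : lpEval t u lpT = t := by
  simp [lpT, lpEval, monoEval]

theorem lpEval_commMono (t u : F) (ht : t ≠ 0) (hu : u ≠ 0) (C : ℤ) (i j : ℕ) :
    lpEval t u (commMono C i j) = (C : F) * (-t) ^ i * u ^ j := by
  unfold commMono
  rw [lpEval_mul t u ht hu, lpEval_ofInt]
  have : lpEval t u [(((i : ℤ), (j : ℤ)), 1)] = t ^ i * u ^ j := by
    simp [lpEval, monoEval]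
  rw [this, neg_pow]
  push_cast
  ring

theorem commWordE_eval (D : ChevalleyDatum) (r s : ℕ) (t u : F) (ht : t ≠ 0) (hu : u ≠ 0) :
    (commWordE (D.commTerms r s)).map (fun rp => (rp.1, lpEval t u rp.2)) = D.commWord F r s t u := by
  unfold commWordE ChevalleyDatum.commWord
  rw [List.map_map]
  apply List.map_congr_left
  intro c _
  simp only [Function.comp_apply]
  rw [lpEval_commMono t u ht hu]

/-- the commutator formula for `(r, s)` and non-zero parameters, from the symbolic check -/
theorem comm_of_chk (D : ChevalleyDatum) (hwf : wf D = true) (hwfF : wfFast D = true) (r s : ℕ)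
    (h : chkComm (mkFast D) (D.commTerms r s) r s = true) (t u : F) (ht : t ≠ 0) (hu : u ≠ 0) :
    D.x F s u * D.x F r t = D.x F r t * D.x F s u * D.wordMat F (D.commWord F r s t u) := by
  have hc : ∀ c < D.rank + D.nroots, svIsZero (svDiff
      (applyWordF (mkFast D) [(s, lpU), (r, lpT)] [(c, lpOne)])
      (applyWordF (mkFast D) ((r, lpT) :: (s, lpU) :: commWordE (D.commTerms r s)) [(c, lpOne)])) = true := by
    intro c hc
    unfold chkComm at h
    rw [List.all_eq_true] at h
    exact h c (List.mem_range.2 hc)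
  have := wordMat_eq_of_checkF t u ht hu D hwf hwfF _ _ hc
  simp only [List.map_cons, List.map_nil, lpEval_lpU, lpEval_lpT', commWordE_eval D r s t u ht hu] at this
  simpa [ChevalleyDatum.wordMat, mul_assoc] using this

end

end Cfsg.Agent.Lib.Helper18
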