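import Cfsg.Agent.Lib.Helper18.FastLitB2
import Cfsg.Agent.Lib.Helper18.ChevComm

set_option autoImplicit false
set_option maxRecDepth 100000

namespace Cfsg.Agent.Lib.Helper18

open Cfsg Cfsg.Lie

theorem commBase_B2_4_0 : (List.range' 0 8).all (fun s => Nat.beq s 4 || Nat.beq s 3 ||
    chkComm fastB2 (chevB2.commTerms 4 s) 4 s) = true := by decide +kernel

end Cfsg.Agent.Lib.Helper18
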