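import Cfsg.Agent.Lib.Helper18.FastLitD4
import Cfsg.Agent.Lib.Helper18.ChevComm

set_option autoImplicit false
set_option maxRecDepth 100000

namespace Cfsg.Agent.Lib.Helper18

open Cfsg Cfsg.Lie

theorem commBase_D4_18_0 : (List.range' 0 24).all (fun s => Nat.beq s 18 || Nat.beq s 5 ||
    chkComm fastD4 (chevD4.commTerms 18 s) 18 s) = true := by decide +kernel

end Cfsg.Agent.Lib.Helper18
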