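import Cfsg.Agent.Lib.Helper18.FastLitE6
import Cfsg.Agent.Lib.Helper18.ChevComm

set_option autoImplicit false
set_option maxRecDepth 100000

namespace Cfsg.Agent.Lib.Helper18

open Cfsg Cfsg.Lie

theorem commBase_E6_56_0 : (List.range' 0 18).all (fun s => Nat.beq s 56 || Nat.beq s 15 ||
    chkComm fastE6 (chevE6.commTerms 56 s) 56 s) = true := by decide +kernel
theorem commBase_E6_56_18 : (List.range' 18 18).all (fun s => Nat.beq s 56 || Nat.beq s 15 ||
    chkComm fastE6 (chevE6.commTerms 56 s) 56 s) = true := by decide +kernel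
theorem commBase_E6_56_36 : (List.range' 36 18).all (fun s => Nat.beq s 56 || Nat.beq s 15 ||
    chkComm fastE6 (chevE6.commTerms 56 s) 56 s) = true := by decide +kernel
theorem commBase_E6_56_54 : (List.range' 54 18).all (fun s => Nat.beq s 56 || Nat.beq s 15 ||
    chkComm fastE6 (chevE6.commTerms 56 s) 56 s) = true := by decide +kernel

end Cfsg.Agent.Lib.Helper18
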