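import Cfsg.Agent.Lib.Helper18.FastLitE7
import Cfsg.Agent.Lib.Helper18.ChevComm

set_option autoImplicit false
set_option maxRecDepth 100000

namespace Cfsg.Agent.Lib.Helper18

open Cfsg Cfsg.Lie

theorem commBase_E7_93_0 : (List.range' 0 14).all (fun s => Nat.beq s 93 || Nat.beq s 32 ||
    chkComm fastE7 (chevE7.commTerms 93 s) 93 s) = true := by decide +kernel
theorem commBase_E7_93_14 : (List.range' 14 14).all (fun s => Nat.beq s 93 || Nat.beq s 32 ||
    chkComm fastE7 (chevE7.commTerms 93 s) 93 s) = true := by decide +kernel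
theorem commBase_E7_93_28 : (List.range' 28 14).all (fun s => Nat.beq s 93 || Nat.beq s 32 ||
    chkComm fastE7 (chevE7.commTerms 93 s) 93 s) = true := by decide +kernel
theorem commBase_E7_93_42 : (List.range' 42 14).all (fun s => Nat.beq s 93 || Nat.beq s 32 ||
    chkComm fastE7 (chevE7.commTerms 93 s) 93 s) = true := by decide +kernel
theorem commBase_E7_93_56 : (List.range' 56 14).all (fun s => Nat.beq s 93 || Nat.beq s 32 ||
    chkComm fastE7 (chevE7.commTerms 93 s) 93 s) = true := by decide +kernel
theorem commBase_E7_93_70 : (List.range' 70 14).all (fun s => Nat.beq s 93 || Nat.beq s 32 ||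
    chkComm fastE7 (chevE7.commTerms 93 s) 93 s) = true := by decide +kernel
theorem commBase_E7_93_84 : (List.range' 84 14).all (fun s => Nat.beq s 93 || Nat.beq s 32 ||
    chkComm fastE7 (chevE7.commTerms 93 s) 93 s) = true := by decide +kernel
theorem commBase_E7_93_98 : (List.range' 98 14).all (fun s => Nat.beq s 93 || Nat.beq s 32 ||
    chkComm fastE7 (chevE7.commTerms 93 s) 93 s) = true := by decide +kernel
theorem commBase_E7_93_112 : (List.range' 112 14).all (fun s => Nat.beq s 93 || Nat.beq s 32 ||
    chkComm fastE7 (chevE7.commTerms 93 s) 93 s) = true := by decide +kernel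

end Cfsg.Agent.Lib.Helper18
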