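import Cfsg.Agent.Lib.Helper18.FastLitF4
import Cfsg.Agent.Lib.Helper18.ChevComm

set_option autoImplicit false
set_option maxRecDepth 100000

namespace Cfsg.Agent.Lib.Helper18

open Cfsg Cfsg.Lie

theorem commBase_F4_33_0 : (List.range' 0 12).all (fun s => Nat.beq s 33 || Nat.beq s 14 ||
    chkComm fastF4 (chevF4.commTerms 33 s) 33 s) = true := by decide +kernel
theorem commBase_F4_33_12 : (List.range' 12 12).all (fun s => Nat.beq s 33 || Nat.beq s 14 ||
    chkComm fastF4 (chevF4.commTerms 33 s) 33 s) = true := by decide +kernel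
theorem commBase_F4_33_24 : (List.range' 24 12).all (fun s => Nat.beq s 33 || Nat.beq s 14 ||
    chkComm fastF4 (chevF4.commTerms 33 s) 33 s) = true := by decide +kernel
theorem commBase_F4_33_36 : (List.range' 36 12).all (fun s => Nat.beq s 33 || Nat.beq s 14 ||
    chkComm fastF4 (chevF4.commTerms 33 s) 33 s) = true := by decide +kernel

end Cfsg.Agent.Lib.Helper18
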