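import Cfsg.Agent.Lib.Helper18.FastLitG2
import Cfsg.Agent.Lib.Helper18.ChevComm

set_option autoImplicit false
set_option maxRecDepth 100000

namespace Cfsg.Agent.Lib.Helper18

open Cfsg Cfsg.Lie

theorem commBase_G2_6_0 : (List.range' 0 6).all (fun s => Nat.beq s 6 || Nat.beq s 5 ||
    chkComm fastG2 (chevG2.commTerms 6 s) 6 s) = true := by decide +kernel
theorem commBase_G2_6_6 : (List.range' 6 6).all (fun s => Nat.beq s 6 || Nat.beq s 5 ||
    chkComm fastG2 (chevG2.commTerms 6 s) 6 s) = true := by decide +kernel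

end Cfsg.Agent.Lib.Helper18
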