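import Cfsg.Agent.Lib.Helper18.ChevCommBaseG2r7x0
import Cfsg.Agent.Lib.Helper18.ChevCommBaseG2r6x0
import Cfsg.Agent.Lib.Helper18.ChevCommBaseB2r5x0
import Cfsg.Agent.Lib.Helper18.ChevCommBaseB2r4x0
import Cfsg.Agent.Lib.Helper18.ChevCommBaseD4r18x0
import Cfsg.Agent.Lib.Helper18.ChevCommBaseF4r33x0
import Cfsg.Agent.Lib.Helper18.ChevCommBaseF4r25x0
import Cfsg.Agent.Lib.Helper18.ChevCommBaseE6r56x0
import Cfsg.Agent.Lib.Helper18.ChevCommBaseE7r93x0
import Cfsg.Agent.Lib.Helper18.ChevCommBaseE8r162x0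
import Cfsg.Agent.Lib.Helper18.ChevCommBaseE8r162x1
import Cfsg.Agent.Lib.Helper18.ChevCommBaseE8r162x2
import Cfsg.Agent.Lib.Helper18.ChevCommBaseE8r162x3

set_option autoImplicit false

namespace Cfsg.Agent.Lib.Helper18

open Cfsg Cfsg.Lie Cfsg.Agent.Lib.Helper36

theorem commBase_imp (T : FastTab) (D : ChevalleyDatum) (b nb : ℕ) (a len : ℕ)
    (h : (List.range' a len).all (fun s => Nat.beq s b || Nat.beq s nb || chkComm T (D.commTerms b s) b s) = true)
    (s : ℕ) (h1 : a ≤ s) (h2 : s < a + len) (hb : s ≠ b) (hnb : s ≠ nb) :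
    chkComm T (D.commTerms b s) b s = true := by
  have := all_range'_imp _ _ _ h s h1 h2
  have e1 : Nat.beq s b = false := by
    rcases hx : Nat.beq s b with _ | _
    · rfl
    · exact absurd (Nat.eq_of_beq_eq_true hx) hb
  have e2 : Nat.beq s nb = false := by
    rcases hx : Nat.beq s nb with _ | _
    · rfl
    · exact absurd (Nat.eq_of_beq_eq_true hx) hnb
  rw [e1, e2, Bool.false_or, Bool.false_or] at this
  exact this

theorem commBase_G2_7 (s : ℕ) (hs : s < 12) (hb : s ≠ 7) (hnb : s ≠ 4) :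
    chkComm fastG2 (chevG2.commTerms 7 s) 7 s = true := by
  rcases Nat.lt_or_ge s 6 with h | h
  · exact commBase_imp _ _ _ _ _ _ commBase_G2_7_0 s (by omega) (by omega) hb hnb
  exact commBase_imp _ _ _ _ _ _ commBase_G2_7_6 s (by omega) (by omega) hb hnb

theorem commBase_G2_6 (s : ℕ) (hs : s < 12) (hb : s ≠ 6) (hnb : s ≠ 5) :
    chkComm fastG2 (chevG2.commTerms 6 s) 6 s = true := by
  rcases Nat.lt_or_ge s 6 with h | h
  · exact commBase_imp _ _ _ _ _ _ commBase_G2_6_0 s (by omega) (by omega) hb hnb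
  exact commBase_imp _ _ _ _ _ _ commBase_G2_6_6 s (by omega) (by omega) hb hnb

theorem commBase_B2_5 (s : ℕ) (hs : s < 8) (hb : s ≠ 5) (hnb : s ≠ 2) :
    chkComm fastB2 (chevB2.commTerms 5 s) 5 s = true := by
  exact commBase_imp _ _ _ _ _ _ commBase_B2_5_0 s (by omega) (by omega) hb hnb

theorem commBase_B2_4 (s : ℕ) (hs : s < 8) (hb : s ≠ 4) (hnb : s ≠ 3) :
    chkComm fastB2 (chevB2.commTerms 4 s) 4 s = true := by
  exact commBase_imp _ _ _ _ _ _ commBase_B2_4_0 s (by omega) (by omega) hb hnb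

theorem commBase_D4_18 (s : ℕ) (hs : s < 24) (hb : s ≠ 18) (hnb : s ≠ 5) :
    chkComm fastD4 (chevD4.commTerms 18 s) 18 s = true := by
  exact commBase_imp _ _ _ _ _ _ commBase_D4_18_0 s (by omega) (by omega) hb hnb

theorem commBase_F4_33 (s : ℕ) (hs : s < 48) (hb : s ≠ 33) (hnb : s ≠ 14) :
    chkComm fastF4 (chevF4.commTerms 33 s) 33 s = true := by
  rcases Nat.lt_or_ge s 12 with h | h
  · exact commBase_imp _ _ _ _ _ _ commBase_F4_33_0 s (by omega) (by omega) hb hnb
  rcases Nat.lt_or_ge s 24 with h | h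
  · exact commBase_imp _ _ _ _ _ _ commBase_F4_33_12 s (by omega) (by omega) hb hnb
  rcases Nat.lt_or_ge s 36 with h | h
  · exact commBase_imp _ _ _ _ _ _ commBase_F4_33_24 s (by omega) (by omega) hb hnb
  exact commBase_imp _ _ _ _ _ _ commBase_F4_33_36 s (by omega) (by omega) hb hnb

theorem commBase_F4_25 (s : ℕ) (hs : s < 48) (hb : s ≠ 25) (hnb : s ≠ 22) :
    chkComm fastF4 (chevF4.commTerms 25 s) 25 s = true := by
  rcases Nat.lt_or_ge s 12 with h | h
  · exact commBase_imp _ _ _ _ _ _ commBase_F4_25_0 s (by omega) (by omega) hb hnb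
  rcases Nat.lt_or_ge s 24 with h | h
  · exact commBase_imp _ _ _ _ _ _ commBase_F4_25_12 s (by omega) (by omega) hb hnb
  rcases Nat.lt_or_ge s 36 with h | h
  · exact commBase_imp _ _ _ _ _ _ commBase_F4_25_24 s (by omega) (by omega) hb hnb
  exact commBase_imp _ _ _ _ _ _ commBase_F4_25_36 s (by omega) (by omega) hb hnb

theorem commBase_E6_56 (s : ℕ) (hs : s < 72) (hb : s ≠ 56) (hnb : s ≠ 15) :
    chkComm fastE6 (chevE6.commTerms 56 s) 56 s = true := by
  rcases Nat.lt_or_ge s 18 with h | h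
  · exact commBase_imp _ _ _ _ _ _ commBase_E6_56_0 s (by omega) (by omega) hb hnb
  rcases Nat.lt_or_ge s 36 with h | h
  · exact commBase_imp _ _ _ _ _ _ commBase_E6_56_18 s (by omega) (by omega) hb hnb
  rcases Nat.lt_or_ge s 54 with h | h
  · exact commBase_imp _ _ _ _ _ _ commBase_E6_56_36 s (by omega) (by omega) hb hnb
  exact commBase_imp _ _ _ _ _ _ commBase_E6_56_54 s (by omega) (by omega) hb hnb

theorem commBase_E7_93 (s : ℕ) (hs : s < 126) (hb : s ≠ 93) (hnb : s ≠ 32) :
    chkComm fastE7 (chevE7.commTerms 93 s) 93 s = true := by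
  rcases Nat.lt_or_ge s 14 with h | h
  · exact commBase_imp _ _ _ _ _ _ commBase_E7_93_0 s (by omega) (by omega) hb hnb
  rcases Nat.lt_or_ge s 28 with h | h
  · exact commBase_imp _ _ _ _ _ _ commBase_E7_93_14 s (by omega) (by omega) hb hnb
  rcases Nat.lt_or_ge s 42 with h | h
  · exact commBase_imp _ _ _ _ _ _ commBase_E7_93_28 s (by omega) (by omega) hb hnb
  rcases Nat.lt_or_ge s 56 with h | h
  · exact commBase_imp _ _ _ _ _ _ commBase_E7_93_42 s (by omega) (by omega) hb hnb
  rcases Nat.lt_or_ge s 70 with h | h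
  · exact commBase_imp _ _ _ _ _ _ commBase_E7_93_56 s (by omega) (by omega) hb hnb
  rcases Nat.lt_or_ge s 84 with h | h
  · exact commBase_imp _ _ _ _ _ _ commBase_E7_93_70 s (by omega) (by omega) hb hnb
  rcases Nat.lt_or_ge s 98 with h | h
  · exact commBase_imp _ _ _ _ _ _ commBase_E7_93_84 s (by omega) (by omega) hb hnb
  rcases Nat.lt_or_ge s 112 with h | h
  · exact commBase_imp _ _ _ _ _ _ commBase_E7_93_98 s (by omega) (by omega) hb hnb
  exact commBase_imp _ _ _ _ _ _ commBase_E7_93_112 s (by omega) (by omega) hb hnb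

theorem commBase_E8_162 (s : ℕ) (hs : s < 240) (hb : s ≠ 162) (hnb : s ≠ 77) :
    chkComm fastE8 (chevE8.commTerms 162 s) 162 s = true := by
  rcases Nat.lt_or_ge s 10 with h | h
  · exact commBase_imp _ _ _ _ _ _ commBase_E8_162_0 s (by omega) (by omega) hb hnb
  rcases Nat.lt_or_ge s 20 with h | h
  · exact commBase_imp _ _ _ _ _ _ commBase_E8_162_10 s (by omega) (by omega) hb hnb
  rcases Nat.lt_or_ge s 30 with h | h
  · exact commBase_imp _ _ _ _ _ _ commBase_E8_162_20 s (by omega) (by omega) hb hnb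
  rcases Nat.lt_or_ge s 40 with h | h
  · exact commBase_imp _ _ _ _ _ _ commBase_E8_162_30 s (by omega) (by omega) hb hnb
  rcases Nat.lt_or_ge s 50 with h | h
  · exact commBase_imp _ _ _ _ _ _ commBase_E8_162_40 s (by omega) (by omega) hb hnb
  rcases Nat.lt_or_ge s 60 with h | h
  · exact commBase_imp _ _ _ _ _ _ commBase_E8_162_50 s (by omega) (by omega) hb hnb
  rcases Nat.lt_or_ge s 70 with h | h
  · exact commBase_imp _ _ _ _ _ _ commBase_E8_162_60 s (by omega) (by omega) hb hnb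
  rcases Nat.lt_or_ge s 80 with h | h
  · exact commBase_imp _ _ _ _ _ _ commBase_E8_162_70 s (by omega) (by omega) hb hnb
  rcases Nat.lt_or_ge s 90 with h | h
  · exact commBase_imp _ _ _ _ _ _ commBase_E8_162_80 s (by omega) (by omega) hb hnb
  rcases Nat.lt_or_ge s 100 with h | h
  · exact commBase_imp _ _ _ _ _ _ commBase_E8_162_90 s (by omega) (by omega) hb hnb
  rcases Nat.lt_or_ge s 110 with h | h
  · exact commBase_imp _ _ _ _ _ _ commBase_E8_162_100 s (by omega) (by omega) hb hnb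
  rcases Nat.lt_or_ge s 120 with h | h
  · exact commBase_imp _ _ _ _ _ _ commBase_E8_162_110 s (by omega) (by omega) hb hnb
  rcases Nat.lt_or_ge s 130 with h | h
  · exact commBase_imp _ _ _ _ _ _ commBase_E8_162_120 s (by omega) (by omega) hb hnb
  rcases Nat.lt_or_ge s 140 with h | h
  · exact commBase_imp _ _ _ _ _ _ commBase_E8_162_130 s (by omega) (by omega) hb hnb
  rcases Nat.lt_or_ge s 150 with h | h
  · exact commBase_imp _ _ _ _ _ _ commBase_E8_162_140 s (by omega) (by omega) hb hnb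
  rcases Nat.lt_or_ge s 160 with h | h
  · exact commBase_imp _ _ _ _ _ _ commBase_E8_162_150 s (by omega) (by omega) hb hnb
  rcases Nat.lt_or_ge s 170 with h | h
  · exact commBase_imp _ _ _ _ _ _ commBase_E8_162_160 s (by omega) (by omega) hb hnb
  rcases Nat.lt_or_ge s 180 with h | h
  · exact commBase_imp _ _ _ _ _ _ commBase_E8_162_170 s (by omega) (by omega) hb hnb
  rcases Nat.lt_or_ge s 190 with h | h
  · exact commBase_imp _ _ _ _ _ _ commBase_E8_162_180 s (by omega) (by omega) hb hnb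
  rcases Nat.lt_or_ge s 200 with h | h
  · exact commBase_imp _ _ _ _ _ _ commBase_E8_162_190 s (by omega) (by omega) hb hnb
  rcases Nat.lt_or_ge s 210 with h | h
  · exact commBase_imp _ _ _ _ _ _ commBase_E8_162_200 s (by omega) (by omega) hb hnb
  rcases Nat.lt_or_ge s 220 with h | h
  · exact commBase_imp _ _ _ _ _ _ commBase_E8_162_210 s (by omega) (by omega) hb hnb
  rcases Nat.lt_or_ge s 230 with h | h
  · exact commBase_imp _ _ _ _ _ _ commBase_E8_162_220 s (by omega) (by omega) hb hnb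
  exact commBase_imp _ _ _ _ _ _ commBase_E8_162_230 s (by omega) (by omega) hb hnb

end Cfsg.Agent.Lib.Helper18
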