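import Cfsg.Agent.Lib.Helper18.ChevCommSL
import Cfsg.Prelude.Def_ChevD4
import Cfsg.Prelude.Def_ChevE6
import Cfsg.Prelude.Def_ChevE7
import Cfsg.Prelude.Def_ChevE8

set_option autoImplicit false
set_option maxRecDepth 100000

namespace Cfsg.Agent.Lib.Helper18

open Cfsg Cfsg.Lie

theorem chkSL_D4 : chkSL chevD4 = true := by decide +kernel
theorem chkSL_E6 : chkSL chevE6 = true := by decide +kernel
theorem chkSL_E7 : chkSL chevE7 = true := by decide +kernel
theorem chkSL_E8 : chkSL chevE8 = true := by decide +kernel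

end Cfsg.Agent.Lib.Helper18
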