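import Cfsg.Agent.Lib.Helper18.ChevCommStep
import Cfsg.Prelude.Def_ChevG2
import Cfsg.Prelude.Def_ChevB2
import Cfsg.Prelude.Def_ChevF4

set_option autoImplicit false
set_option maxRecDepth 100000

namespace Cfsg.Agent.Lib.Helper18

open Cfsg Cfsg.Lie

theorem chkStep_G2_0 : chkStepI chevG2 0 = true := by decide +kernel
theorem chkStep_G2_1 : chkStepI chevG2 1 = true := by decide +kernel

theorem stepProp_G2 : StepProp chevG2 := by
  apply stepProp_of_chk
  intro i hi
  have hi' : i < 2 := hi
  interval_cases i
  · exact chkStep_G2_0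
  · exact chkStep_G2_1

theorem chkStep_B2_0 : chkStepI chevB2 0 = true := by decide +kernel
theorem chkStep_B2_1 : chkStepI chevB2 1 = true := by decide +kernel

theorem stepProp_B2 : StepProp chevB2 := by
  apply stepProp_of_chk
  intro i hi
  have hi' : i < 2 := hi
  interval_cases i
  · exact chkStep_B2_0
  · exact chkStep_B2_1

theorem chkStep_F4_0 : chkStepI chevF4 0 = true := by decide +kernel
theorem chkStep_F4_1 : chkStepI chevF4 1 = true := by decide +kernel
theorem chkStep_F4_2 : chkStepI chevF4 2 = true := by decide +kernel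
theorem chkStep_F4_3 : chkStepI chevF4 3 = true := by decide +kernel

theorem stepProp_F4 : StepProp chevF4 := by
  apply stepProp_of_chk
  intro i hi
  have hi' : i < 4 := hi
  interval_cases i
  · exact chkStep_F4_0
  · exact chkStep_F4_1
  · exact chkStep_F4_2
  · exact chkStep_F4_3

end Cfsg.Agent.Lib.Helper18
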