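import Cfsg.Agent.Lib.Helper18.ChevRootInd
import Cfsg.Prelude.Def_ChevG2
import Cfsg.Prelude.Def_ChevB2
import Cfsg.Prelude.Def_ChevD4
import Cfsg.Prelude.Def_ChevF4
import Cfsg.Prelude.Def_ChevE6
import Cfsg.Prelude.Def_ChevE7
import Cfsg.Prelude.Def_ChevE8

set_option autoImplicit false
set_option maxRecDepth 100000

namespace Cfsg.Agent.Lib.Helper18

open Cfsg Cfsg.Lie

def rootBaseG2 : List ℕ := [7, 6]
def rootCertG2 : List (ℕ × ℕ × ℕ) := [(4, 0, 7), (8, 1, 7), (3, 1, 4), (9, 0, 8), (2, 0, 3), (10, 0, 6), (5, 1, 6), (11, 1, 10), (1, 0, 5), (0, 1, 1)]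
theorem rootCertG2_ok : certCheck chevG2 rootBaseG2 rootCertG2 = true := by decide +kernel

def rootBaseB2 : List ℕ := [5, 4]
def rootCertB2 : List (ℕ × ℕ × ℕ) := [(2, 0, 5), (6, 1, 5), (1, 1, 2), (7, 0, 4), (3, 1, 4), (0, 0, 3)]
theorem rootCertB2_ok : certCheck chevB2 rootBaseB2 rootCertB2 = true := by decide +kernel

def rootBaseD4 : List ℕ := [18]
def rootCertD4 : List (ℕ × ℕ × ℕ) := [(5, 0, 18), (19, 1, 18), (4, 1, 5), (14, 0, 19), (21, 2, 19), (20, 3, 19), (9, 0, 4), (2, 2, 4), (3, 3, 4), (16, 2, 14), (15, 3, 14), (22, 3, 21), (7, 2, 9), (8, 3, 9), (1, 3, 2), (13, 1, 16), (17, 3, 16), (12, 1, 15), (23, 1, 22), (10, 1, 7), (6, 3, 7), (11, 1, 8), (0, 1, 1)]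
theorem rootCertD4_ok : certCheck chevD4 rootBaseD4 rootCertD4 = true := by decide +kernel

def rootBaseF4 : List ℕ := [33, 25]
def rootCertF4 : List (ℕ × ℕ × ℕ) := [(14, 0, 33), (34, 1, 33), (13, 1, 14), (27, 0, 34), (35, 2, 34), (20, 0, 13), (12, 2, 13), (28, 2, 27), (37, 1, 35), (36, 3, 35), (19, 2, 20), (10, 1, 12), (11, 3, 12), (29, 3, 28), (38, 3, 37), (18, 3, 19), (9, 3, 10), (39, 2, 38), (8, 2, 9), (40, 1, 39), (7, 1, 8), (44, 0, 40), (3, 0, 7), (30, 1, 25), (22, 2, 25), (26, 3, 25), (41, 0, 30), (31, 3, 30), (17, 1, 22), (21, 3, 22), (24, 2, 26), (42, 3, 41), (32, 2, 31), (6, 0, 17), (16, 3, 17), (23, 2, 21), (43, 2, 42), (5, 3, 6), (15, 2, 16), (45, 1, 43), (4, 2, 5), (46, 2, 45), (2, 1, 4), (47, 3, 46), (1, 2, 2), (0, 3, 1)]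
theorem rootCertF4_ok : certCheck chevF4 rootBaseF4 rootCertF4 = true := by decide +kernel

def rootBaseE6 : List ℕ := [56]
def rootCertE6 : List (ℕ × ℕ × ℕ) := [(15, 0, 56), (57, 2, 56), (14, 2, 15), (42, 0, 57), (58, 3, 57), (29, 0, 14), (13, 3, 14), (43, 3, 42), (61, 1, 58), (59, 4, 58), (28, 3, 29), (10, 1, 13), (12, 4, 13), (50, 1, 43), (39, 2, 43), (44, 4, 43), (62, 4, 61), (60, 5, 59), (21, 1, 28), (32, 2, 28), (27, 4, 28), (9, 4, 10), (11, 5, 12), (47, 2, 50), (51, 4, 50), (40, 4, 39), (45, 5, 44), (64, 3, 62), (63, 5, 62), (24, 2, 21), (20, 4, 21), (31, 4, 32), (26, 5, 27), (7, 3, 9), (8, 5, 9), (46, 3, 47), (48, 4, 47), (53, 3, 51), (52, 5, 51), (37, 3, 40), (41, 5, 40), (67, 2, 64), (65, 5, 64), (25, 3, 24), (23, 4, 24), (18, 3, 20), (19, 5, 20), (34, 3, 31), (30, 5, 31), (4, 2, 7), (6, 5, 7), (49, 5, 48), (54, 5, 53), (38, 5, 37), (68, 5, 67), (66, 4, 65), (22, 5, 23), (17, 5, 18),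 (33, 5, 34), (3, 5, 4), (5, 4, 6), (55, 4, 54), (36, 4, 38), (69, 4, 68), (16, 4, 17), (35, 4, 33), (2, 4, 3), (70, 3, 69), (1, 3, 2), (71, 1, 70), (0, 1, 1)]
theorem rootCertE6_ok : certCheck chevE6 rootBaseE6 rootCertE6 = true := by decide +kernel

def rootBaseE7 : List ℕ := [93]
def rootCertE7 : List (ℕ × ℕ × ℕ) := [(32, 0, 93), (94, 2, 93), (31, 2, 32), (73, 0, 94), (95, 3, 94), (52, 0, 31), (30, 3, 31), (74, 3, 73), (99, 1, 95), (96, 4, 95), (51, 3, 52), (26, 1, 30), (29, 4, 30), (83, 1, 74), (69, 2, 74), (75, 4, 74), (100, 4, 99), (97, 5, 96), (42, 1, 51), (56, 2, 51), (50, 4, 51), (25, 4, 26), (28, 5, 29), (79, 2, 83), (84, 4, 83), (70, 4, 69), (76, 5, 75), (103, 3, 100), (101, 5, 100), (98, 6, 97), (46, 2, 42), (41, 4, 42), (55, 4, 56), (49, 5, 50), (22, 3, 25), (24, 5, 25), (27, 6, 28), (78, 3, 79), (80, 4, 79), (87, 3, 84), (85, 5, 84), (66, 3, 70), (71, 5, 70), (77, 6, 76), (109, 2,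 103), (104, 5, 103), (102, 6, 101), (47, 3, 46), (45, 4, 46), (38, 3, 41), (40, 5, 41), (59, 3, 55), (54, 5, 55), (48, 6, 49), (16, 2, 22), (21, 5, 22), (23, 6, 24), (81, 5, 80), (88, 5, 87), (86, 6, 85), (67, 5, 66), (72, 6, 71), (110, 5, 109), (106, 4, 104), (105, 6, 104), (44, 5, 45), (37, 5, 38), (39, 6, 40), (58, 5, 59), (53, 6, 54), (15, 5, 16), (19, 4, 21), (20, 6, 21), (82, 6, 81), (90, 4, 88), (89, 6, 88), (64, 4, 67), (68, 6, 67), (112, 4, 110), (111, 6, 110), (107, 6, 106), (43, 6, 44), (35, 4, 37), (36, 6, 37), (61, 4, 58), (57, 6, 58), (13, 4, 15), (14, 6, 15), (18, 6, 19), (91, 6, 90), (65, 6, 64), (115, 3, 112), (113, 6, 112), (108, 5, 107), (34, 6, 35), (60, 6, 61), (10, 3, 13), (12, 6, 13), (17, 5, 18), (92, 5, 91), (63, 5, 65), (119, 1, 115), (116, 6, 115), (114, 5, 113), (33, 5, 34), (62, 5, 60), (6, 1, 10), (9, 6, 10), (11, 5, 12), (120, 6, 119), (117, 5, 116), (5, 6, 6), (8,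 5, 9), (121, 5, 120), (118, 4, 117), (4, 5, 5), (7, 4, 8), (122, 4, 121), (3, 4, 4), (123, 3, 122), (2, 3, 3), (124, 2, 123), (1, 2, 2), (125, 0, 124), (0, 0, 1)]
theorem rootCertE7_ok : certCheck chevE7 rootBaseE7 rootCertE7 = true := by decide +kernel

def rootBaseE8 : List ℕ := [162]
def rootCertE8 : List (ℕ × ℕ × ℕ) := [(77, 0, 162), (163, 2, 162), (76, 2, 77), (135, 0, 163), (164, 3, 163), (104, 0, 76), (75, 3, 76), (136, 3, 135), (169, 1, 164), (165, 4, 164), (103, 3, 104), (70, 1, 75), (74, 4, 75), (147, 1, 136), (130, 2, 136), (137, 4, 136), (170, 4, 169), (166, 5, 165), (92, 1, 103), (109, 2, 103), (102, 4, 103), (69, 4, 70), (73, 5, 74), (142, 2, 147), (148, 4, 147), (131, 4, 130), (138, 5, 137), (174, 3, 170), (171, 5, 170), (167, 6, 166), (97, 2, 92), (91, 4, 92), (108, 4, 109), (101, 5, 102), (65, 3, 69), (68, 5, 69), (72, 6, 73), (141, 3, 142), (143, 4, 142), (152, 3, 148), (149,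 5, 148), (126, 3, 131), (132, 5, 131), (139, 6, 138), (184, 2, 174), (175, 5, 174), (172, 6, 171), (168, 7, 167), (98, 3, 97), (96, 4, 97), (87, 3, 91), (90, 5, 91), (113, 3, 108), (107, 5, 108), (100, 6, 101), (55, 2, 65), (64, 5, 65), (67, 6, 68), (71, 7, 72), (144, 5, 143), (153, 5, 152), (150, 6, 149), (127, 5, 126), (133, 6, 132), (140, 7, 139), (185, 5, 184), (178, 4, 175), (176, 6, 175), (173, 7, 172), (95, 5, 96), (86, 5, 87), (89, 6, 90), (112, 5, 113), (106, 6, 107), (99, 7, 100), (54, 5, 55), (61, 4, 64), (63, 6, 64), (66, 7, 67), (145, 6, 144), (156, 4, 153), (154, 6, 153), (151, 7, 150), (123, 4, 127), (128, 6, 127), (134, 7, 133), (188, 4, 185), (186, 6, 185), (179, 6, 178), (177, 7, 176), (94, 6, 95), (83, 4, 86), (85, 6, 86), (88, 7, 89), (116, 4, 112), (111, 6, 112), (105, 7, 106), (51, 4, 54), (53, 6, 54), (60, 6, 61), (62, 7, 63), (146, 7, 145), (157, 6, 156), (155, 7, 154),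 (124, 6, 123), (129, 7, 128), (194, 3, 188), (189, 6, 188), (187, 7, 186), (181, 5, 179), (180, 7, 179), (93, 7, 94), (82, 6, 83), (84, 7, 85), (115, 6, 116), (110, 7, 111), (45, 3, 51), (50, 6, 51), (52, 7, 53), (58, 5, 60), (59, 7, 60), (159, 5, 157), (158, 7, 157), (121, 5, 124), (125, 7, 124), (204, 1, 194), (195, 6, 194), (191, 5, 189), (190, 7, 189), (182, 7, 181), (80, 5, 82), (81, 7, 82), (118, 5, 115), (114, 7, 115), (35, 1, 45), (44, 6, 45), (48, 5, 50), (49, 7, 50), (57, 7, 58), (160, 7, 159), (122, 7, 121), (205, 6, 204), (197, 5, 195), (196, 7, 195), (192, 7, 191), (183, 6, 182), (79, 7, 80), (117, 7, 118), (34, 6, 35), (42, 5, 44), (43, 7, 44), (47, 7, 48), (56, 6, 57), (161, 6, 160), (120, 6, 122), (207, 5, 205), (206, 7, 205), (200, 4, 197), (198, 7, 197), (193, 6, 192), (78, 6, 79), (119, 6, 117), (32, 5, 34), (33, 7, 34), (39, 4, 42), (41, 7, 42), (46, 6, 47), (210, 4, 207), (208,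 7, 207), (201, 7, 200), (199, 6, 198), (29, 4, 32), (31, 7, 32), (38, 7, 39), (40, 6, 41), (214, 3, 210), (211, 7, 210), (209, 6, 208), (202, 6, 201), (25, 3, 29), (28, 7, 29), (30, 6, 31), (37, 6, 38), (219, 2, 214), (215, 7, 214), (212, 6, 211), (203, 5, 202), (20, 2, 25), (24, 7, 25), (27, 6, 28), (36, 5, 37), (226, 0, 219), (220, 7, 219), (216, 6, 215), (213, 5, 212), (13, 0, 20), (19, 7, 20), (23, 6, 24), (26, 5, 27), (227, 7, 226), (221, 6, 220), (217, 5, 216), (12, 7, 13), (18, 6, 19), (22, 5, 23), (228, 6, 227), (222, 5, 221), (218, 4, 217), (11, 6, 12), (17, 5, 18), (21, 4, 22), (229, 5, 228), (223, 4, 222), (10, 5, 11), (16, 4, 17), (230, 4, 229), (224, 3, 223), (9, 4, 10), (15, 3, 16), (231, 3, 230), (225, 1, 224), (8, 3, 9), (14, 1, 15), (233, 1, 231), (232, 2, 231), (6, 1, 8), (7, 2, 8), (234, 2, 233), (5, 2, 6), (235, 3, 234), (4, 3, 5), (236, 4, 235), (3, 4, 4), (237, 5, 236), (2,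 5, 3), (238, 6, 237), (1, 6, 2), (239, 7, 238), (0, 7, 1)]
theorem rootCertE8_ok : certCheck chevE8 rootBaseE8 rootCertE8 = true := by decide +kernel

end Cfsg.Agent.Lib.Helper18
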