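import Cfsg.Agent.Lib.Helper18.ChevCommInd
import Cfsg.Agent.Lib.Helper18.ChevCommStepTab
import Cfsg.Agent.Lib.Helper18.ChevCommSLTab
import Cfsg.Agent.Lib.Helper18.ChevCommBaseAll
import Cfsg.Agent.Lib.Helper18.ChevRootCert
import Cfsg.Agent.Lib.Helper36.ChevConjAll

set_option autoImplicit false

namespace Cfsg.Agent.Lib.Helper18

open Cfsg Cfsg.Lie Cfsg.Agent.Lib.Helper36

theorem conjSpec_of_chkS (D : ChevalleyDatum) (hf : wfFast D = true) (hw2 : wf2 D = true) (h2 : chkN2 D = true)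
    (h : ∀ i < D.rank, chkConjS D i = true) (i : ℕ) (hi : i < D.rank) (s : ℕ) (hs : s < D.nroots) :
    ConjSpec D i s := by
  have h1 := h i hi
  unfold chkConjS at h1
  rw [List.all_eq_true] at h1
  exact conjSpec_of_chk D hf hw2 h2 i s hi hs (h1 s (List.mem_range.2 hs))

theorem conjSpec_G2 (i : ℕ) (hi : i < chevG2.rank) (s : ℕ) (hs : s < chevG2.nroots) : ConjSpec chevG2 i s :=
  conjSpec_of_chkS chevG2 wfFast_G2 wf2_G2 chkN2_G2 (fun i hi => chkConjS_of_all _ chkConjSAll_G2 i hi) i hi s hs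

theorem commAt_G2 {F : Type*} [Field F] : ∀ r < chevG2.nroots, CommAt F chevG2 r := by
  refine commAt_all chevG2 wf_G2 wfFast_G2 addProp_G2 chkN2_G2 conjSpec_G2 stepProp_G2
    (fun i hi s hs t => nMat_mul_x_all chevG2 (by simp) i s hi hs t) rootBaseG2 rootCertG2 rootCertG2_ok ?_
  intro b hb s hs h1 h2
  rw [mkFast_G2]
  simp only [rootBaseG2, List.mem_cons, List.not_mem_nil, or_false] at hb
  rcases hb with rfl | rfl
  · have hn : chevG2.neg 7 = 4 := by decide +kernel
    rw [hn] at h2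
    exact commBase_G2_7 s hs h1 h2
  · have hn : chevG2.neg 6 = 5 := by decide +kernel
    rw [hn] at h2
    exact commBase_G2_6 s hs h1 h2

theorem conjSpec_B2 (i : ℕ) (hi : i < chevB2.rank) (s : ℕ) (hs : s < chevB2.nroots) : ConjSpec chevB2 i s :=
  conjSpec_of_chkS chevB2 wfFast_B2 wf2_B2 chkN2_B2 (fun i hi => chkConjS_of_all _ chkConjSAll_B2 i hi) i hi s hs

theorem commAt_B2 {F : Type*} [Field F] : ∀ r < chevB2.nroots, CommAt F chevB2 r := by
  refine commAt_all chevB2 wf_B2 wfFast_B2 addProp_B2 chkN2_B2 conjSpec_B2 stepProp_B2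
    (fun i hi s hs t => nMat_mul_x_all chevB2 (by simp) i s hi hs t) rootBaseB2 rootCertB2 rootCertB2_ok ?_
  intro b hb s hs h1 h2
  rw [mkFast_B2]
  simp only [rootBaseB2, List.mem_cons, List.not_mem_nil, or_false] at hb
  rcases hb with rfl | rfl
  · have hn : chevB2.neg 5 = 2 := by decide +kernel
    rw [hn] at h2
    exact commBase_B2_5 s hs h1 h2
  · have hn : chevB2.neg 4 = 3 := by decide +kernel
    rw [hn] at h2
    exact commBase_B2_4 s hs h1 h2

theorem conjSpec_D4 (i : ℕ) (hi : i < chevD4.rank) (s : ℕ) (hs : s < chevD4.nroots) : ConjSpec chevD4 i s :=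
  conjSpec_of_chkS chevD4 wfFast_D4 wf2_D4 chkN2_D4 (fun i hi => chkConjS_of_all _ chkConjSAll_D4 i hi) i hi s hs

theorem stepProp_D4 : StepProp chevD4 :=
  stepProp_of_SL chevD4 wf_D4 chkSL_D4 chkN2_D4 conjSpec_D4

theorem commAt_D4 {F : Type*} [Field F] : ∀ r < chevD4.nroots, CommAt F chevD4 r := by
  refine commAt_all chevD4 wf_D4 wfFast_D4 addProp_D4 chkN2_D4 conjSpec_D4 stepProp_D4
    (fun i hi s hs t => nMat_mul_x_all chevD4 (by simp) i s hi hs t) rootBaseD4 rootCertD4 rootCertD4_ok ?_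
  intro b hb s hs h1 h2
  rw [mkFast_D4]
  simp only [rootBaseD4, List.mem_cons, List.not_mem_nil, or_false] at hb
  subst hb
  have hn : chevD4.neg 18 = 5 := by decide +kernel
  rw [hn] at h2
  exact commBase_D4_18 s hs h1 h2

theorem conjSpec_F4 (i : ℕ) (hi : i < chevF4.rank) (s : ℕ) (hs : s < chevF4.nroots) : ConjSpec chevF4 i s :=
  conjSpec_of_chkS chevF4 wfFast_F4 wf2_F4 chkN2_F4 (fun i hi => chkConjS_of_all _ chkConjSAll_F4 i hi) i hi s hs

theorem commAt_F4 {F : Type*} [Field F] : ∀ r < chevF4.nroots, CommAt F chevF4 r := by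
  refine commAt_all chevF4 wf_F4 wfFast_F4 addProp_F4 chkN2_F4 conjSpec_F4 stepProp_F4
    (fun i hi s hs t => nMat_mul_x_all chevF4 (by simp) i s hi hs t) rootBaseF4 rootCertF4 rootCertF4_ok ?_
  intro b hb s hs h1 h2
  rw [mkFast_F4]
  simp only [rootBaseF4, List.mem_cons, List.not_mem_nil, or_false] at hb
  rcases hb with rfl | rfl
  · have hn : chevF4.neg 33 = 14 := by decide +kernel
    rw [hn] at h2
    exact commBase_F4_33 s hs h1 h2
  · have hn : chevF4.neg 25 = 22 := by decide +kernel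
    rw [hn] at h2
    exact commBase_F4_25 s hs h1 h2

theorem conjSpec_E6 (i : ℕ) (hi : i < chevE6.rank) (s : ℕ) (hs : s < chevE6.nroots) : ConjSpec chevE6 i s :=
  conjSpec_of_chkS chevE6 wfFast_E6 wf2_E6 chkN2_E6 (fun i hi => chkConjS_of_all _ chkConjSAll_E6 i hi) i hi s hs

theorem stepProp_E6 : StepProp chevE6 :=
  stepProp_of_SL chevE6 wf_E6 chkSL_E6 chkN2_E6 conjSpec_E6

theorem commAt_E6 {F : Type*} [Field F] : ∀ r < chevE6.nroots, CommAt F chevE6 r := by
  refine commAt_all chevE6 wf_E6 wfFast_E6 addProp_E6 chkN2_E6 conjSpec_E6 stepProp_E6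
    (fun i hi s hs t => nMat_mul_x_all chevE6 (by simp) i s hi hs t) rootBaseE6 rootCertE6 rootCertE6_ok ?_
  intro b hb s hs h1 h2
  rw [mkFast_E6]
  simp only [rootBaseE6, List.mem_cons, List.not_mem_nil, or_false] at hb
  subst hb
  have hn : chevE6.neg 56 = 15 := by decide +kernel
  rw [hn] at h2
  exact commBase_E6_56 s hs h1 h2

theorem conjSpec_E7 (i : ℕ) (hi : i < chevE7.rank) (s : ℕ) (hs : s < chevE7.nroots) : ConjSpec chevE7 i s :=
  conjSpec_of_chkS chevE7 wfFast_E7 wf2_E7 chkN2_E7 (fun i hi => chkConjS_of_all _ chkConjSAll_E7 i hi) i hi s hs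

theorem stepProp_E7 : StepProp chevE7 :=
  stepProp_of_SL chevE7 wf_E7 chkSL_E7 chkN2_E7 conjSpec_E7

theorem commAt_E7 {F : Type*} [Field F] : ∀ r < chevE7.nroots, CommAt F chevE7 r := by
  refine commAt_all chevE7 wf_E7 wfFast_E7 addProp_E7 chkN2_E7 conjSpec_E7 stepProp_E7
    (fun i hi s hs t => nMat_mul_x_all chevE7 (by simp) i s hi hs t) rootBaseE7 rootCertE7 rootCertE7_ok ?_
  intro b hb s hs h1 h2
  rw [mkFast_E7]
  simp only [rootBaseE7, List.mem_cons, List.not_mem_nil, or_false] at hb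
  subst hb
  have hn : chevE7.neg 93 = 32 := by decide +kernel
  rw [hn] at h2
  exact commBase_E7_93 s hs h1 h2

theorem conjSpec_E8 (i : ℕ) (hi : i < chevE8.rank) (s : ℕ) (hs : s < chevE8.nroots) : ConjSpec chevE8 i s :=
  conjSpec_of_chkS chevE8 wfFast_E8 wf2_E8 chkN2_E8 (fun i hi => by
    have hi' : i < 8 := hi
    interval_cases i
    · exact chkConjS_E8_0
    · exact chkConjS_E8_1
    · exact chkConjS_E8_2
    · exact chkConjS_E8_3
    · exact chkConjS_E8_4
    · exact chkConjS_E8_5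
    · exact chkConjS_E8_6
    · exact chkConjS_E8_7
    ) i hi s hs

theorem stepProp_E8 : StepProp chevE8 :=
  stepProp_of_SL chevE8 wf_E8 chkSL_E8 chkN2_E8 conjSpec_E8

theorem commAt_E8 {F : Type*} [Field F] : ∀ r < chevE8.nroots, CommAt F chevE8 r := by
  refine commAt_all chevE8 wf_E8 wfFast_E8 addProp_E8 chkN2_E8 conjSpec_E8 stepProp_E8
    (fun i hi s hs t => nMat_mul_x_all chevE8 (by simp) i s hi hs t) rootBaseE8 rootCertE8 rootCertE8_ok ?_
  intro b hb s hs h1 h2
  rw [mkFast_E8]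
  simp only [rootBaseE8, List.mem_cons, List.not_mem_nil, or_false] at hb
  subst hb
  have hn : chevE8.neg 162 = 77 := by decide +kernel
  rw [hn] at h2
  exact commBase_E8_162 s hs h1 h2

/-- Chevalley's commutator formula for the seven data -/
theorem comm_formula_all (D : ChevalleyDatum) (hD : D ∈ [chevG2, chevB2, chevD4, chevF4, chevE6, chevE7, chevE8])
    {F : Type*} [Field F] (r s : ℕ) (hr : r < D.nroots) (hs : s < D.nroots) (hrs : s ≠ r) (hneg : s ≠ D.neg r)
    (t u : F) :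
    D.x F s u * D.x F r t = D.x F r t * D.x F s u * D.wordMat F (D.commWord F r s t u) := by
  simp only [List.mem_cons, List.not_mem_nil, or_false] at hD
  rcases hD with rfl | rfl | rfl | rfl | rfl | rfl | rfl
  · exact commAt_G2 r hr s hs hrs hneg t u
  · exact commAt_B2 r hr s hs hrs hneg t u
  · exact commAt_D4 r hr s hs hrs hneg t u
  · exact commAt_F4 r hr s hs hrs hneg t u
  · exact commAt_E6 r hr s hs hrs hneg t u
  · exact commAt_E7 r hr s hs hrs hneg t u
  · exact commAt_E8 r hr s hs hrs hneg t u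

end Cfsg.Agent.Lib.Helper18
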