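import Cfsg.Agent.Lib.Helper36.ChevWeyl
import Cfsg.Agent.Lib.Helper36.ChevChar
import Cfsg.Agent.Lib.Helper36.ChevNorm
import Cfsg.Agent.Lib.Helper36.ChevUN

/-! # Every element of `N` is `n_w h`, `w` a word in the fundamental reflections, `h ∈ H`; its action on the
root subgroups (helper18) -/

set_option autoImplicit false

namespace Cfsg.Agent.Lib.Helper18

open Cfsg Cfsg.Lie Cfsg.Agent.Lib.Helper36

section
variable (D : ChevalleyDatum) (hD : D ∈ [chevG2, chevB2, chevD4, chevF4, chevE6, chevE7, chevE8])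
variable (F : Type*) [Field F]

theorem nWordGL_append (l l' : List ℕ) : nWordGL D hD F (l ++ l') = nWordGL D hD F l * nWordGL D hD F l' := by
  unfold nWordGL
  rw [List.map_append, List.prod_append]

/-- the elements `n_w h` -/
def IsNWordH (g : GL D.Idx F) : Prop :=
  ∃ l : List ℕ, (∀ i ∈ l, i < D.rank) ∧ ∃ h ∈ D.diagonalSubgroup F, g = nWordGL D hD F l * h

theorem isNWordH_of_diag (h : GL D.Idx F) (hh : h ∈ D.diagonalSubgroup F) : IsNWordH D hD F h :=
  ⟨[], by simp, h, hh, by simp [nWordGL]⟩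

include hD in
theorem conj_mem_diag (n h : GL D.Idx F) (hn : n ∈ D.monomialSubgroup F) (hh : h ∈ D.diagonalSubgroup F) :
    n⁻¹ * h * n ∈ D.diagonalSubgroup F := by
  have h1 := monomial_le_normalizer D hD F (inv_mem hn)
  rw [Subgroup.mem_set_normalizer_iff] at h1
  have := (h1 h).1 hh
  rwa [inv_inv] at this

include hD in
theorem isNWordH_mul (x y : GL D.Idx F) (hx : IsNWordH D hD F x) (hy : IsNWordH D hD F y) :
    IsNWordH D hD F (x * y) := by
  obtain ⟨l, hl, h, hh, rfl⟩ := hx
  obtain ⟨l', hl', h', hh', rfl⟩ := hy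
  refine ⟨l ++ l', ?_, ((nWordGL D hD F l')⁻¹ * h * nWordGL D hD F l') * h', ?_, ?_⟩
  · intro i hi
    rcases List.mem_append.1 hi with h1 | h1
    · exact hl i h1
    · exact hl' i h1
  · exact mul_mem (conj_mem_diag D hD F _ _ (nWordGL_mem D hD F l' hl') hh) hh'
  · rw [nWordGL_append]
    group

include hD in
theorem nGL_simple_sq_mem (i : ℕ) (hi : i < D.rank) :
    (nGL D hD F (D.simple i) 1)⁻¹ * (nGL D hD F (D.simple i) 1)⁻¹ ∈ D.diagonalSubgroup F := by
  obtain ⟨hp, -⟩ := chkN2_spec D (chkN2_all D hD) i hi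
  have h1 := hGL_mem_diag D hD F (D.simple i) hp (-1) (by simp)
  rw [hGL_eq, ← nGL_inv' D hD F (D.simple i) 1] at h1
  exact h1

include hD in
theorem isNWordH_simple (i : ℕ) (hi : i < D.rank) : IsNWordH D hD F (nGL D hD F (D.simple i) 1) :=
  ⟨[i], by simpa using hi, 1, one_mem _, by simp [nWordGL]⟩

include hD in
theorem isNWordH_simple_inv (i : ℕ) (hi : i < D.rank) : IsNWordH D hD F (nGL D hD F (D.simple i) 1)⁻¹ := by
  refine ⟨[i], by simpa using hi, (nGL D hD F (D.simple i) 1)⁻¹ * (nGL D hD F (D.simple i) 1)⁻¹,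
    nGL_simple_sq_mem D hD F i hi, ?_⟩
  simp only [nWordGL, List.map_cons, List.map_nil, List.prod_cons, List.prod_nil, mul_one]
  group

include hD in
theorem isNWordH_nWord_inv (l : List ℕ) (hl : ∀ i ∈ l, i < D.rank) : IsNWordH D hD F (nWordGL D hD F l)⁻¹ := by
  induction l with
  | nil =>
    refine ⟨[], by simp, 1, one_mem _, ?_⟩
    simp [nWordGL]
  | cons i l ih =>
    have hl' : ∀ i' ∈ l, i' < D.rank := fun i' hi' => hl i' (List.mem_cons_of_mem _ hi')
    have hi := hl i (List.mem_cons_self ..)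
    have e : (nWordGL D hD F (i :: l))⁻¹ = (nWordGL D hD F l)⁻¹ * (nGL D hD F (D.simple i) 1)⁻¹ := by
      simp only [nWordGL, List.map_cons, List.prod_cons, mul_inv_rev]
    rw [e]
    exact isNWordH_mul D hD F _ _ (ih hl') (isNWordH_simple_inv D hD F i hi)

include hD in
theorem isNWordH_inv (x : GL D.Idx F) (hx : IsNWordH D hD F x) : IsNWordH D hD F x⁻¹ := by
  obtain ⟨l, hl, h, hh, rfl⟩ := hx
  rw [mul_inv_rev]
  exact isNWordH_mul D hD F _ _ (isNWordH_of_diag D hD F _ (inv_mem hh)) (isNWordH_nWord_inv D hD F l hl)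

include hD in
theorem isNWordH_nGL (r : ℕ) (hr : r < D.nroots) : IsNWordH D hD F (nGL D hD F r 1) := by
  refine root_induction D hD (fun r => IsNWordH D hD F (nGL D hD F r 1)) ?_ ?_ r hr
  · intro i hi
    exact isNWordH_simple D hD F i hi
  · intro i hi r hr ih
    obtain ⟨-, -, -, -, hs'⟩ := chkN2_spec D (chkN2_all D hD) i hi
    obtain ⟨-, -, h3, -, -, -, -⟩ := hs' r hr
    show IsNWordH D hD F (nGL D hD F (D.reflectRoot i r) 1)
    rw [nGL_reflect D hD F i r hi hr 1, mul_one]
    refine isNWordH_mul D hD F _ _ (isNWordH_mul D hD F _ _ (isNWordH_simple D hD F i hi) ?_)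
      (isNWordH_simple_inv D hD F i hi)
    rcases h3 with h | h <;> rw [h]
    · simpa using ih
    · have : ((( -1 : ℤ) : ℤ) : F) = -1 := by simp
      rw [this, ← nGL_inv' D hD F r 1]
      exact isNWordH_inv D hD F _ ih

include hD in
/-- every element of `N` is `n_w h` -/
theorem isNWordH_of_mem (n : GL D.Idx F) (hn : n ∈ D.monomialSubgroup F) : IsNWordH D hD F n := by
  unfold ChevalleyDatum.monomialSubgroup at hn
  rw [Subgroup.sup_eq_closure] at hn
  induction hn using Subgroup.closure_induction with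
  | mem x hx =>
    rcases hx with hx | hx
    · exact isNWordH_of_diag D hD F x hx
    · induction hx using Subgroup.closure_induction with
      | mem y hy =>
        obtain ⟨r, hr, hy⟩ := hy
        have : y = nGL D hD F r 1 := Units.ext (by rw [hy, nGL_coe])
        rw [this]
        exact isNWordH_nGL D hD F r hr
      | one => exact isNWordH_of_diag D hD F 1 (one_mem _)
      | mul a b _ _ ha hb => exact isNWordH_mul D hD F a b ha hb
      | inv a _ ha => exact isNWordH_inv D hD F a ha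
  | one => exact isNWordH_of_diag D hD F 1 (one_mem _)
  | mul a b _ _ ha hb => exact isNWordH_mul D hD F a b ha hb
  | inv a _ ha => exact isNWordH_inv D hD F a ha

include hD in
/-- the action of `n ∈ N` on the root elements: `n x_r(t) n⁻¹ = x_{w r}(c_r t)` with `c_r ≠ 0` -/
theorem exists_word_conj (n : GL D.Idx F) (hn : n ∈ D.monomialSubgroup F) :
    ∃ l : List ℕ, (∀ i ∈ l, i < D.rank) ∧ ∀ r < D.nroots, ∃ c : F, c ≠ 0 ∧ ∀ t : F,
      n * xGL D hD F r t * n⁻¹ = xGL D hD F (wRoot D l r) (c * t) := by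
  obtain ⟨l, hl, h, hh, rfl⟩ := isNWordH_of_mem D hD F n hn
  refine ⟨l, hl, fun r hr => ?_⟩
  obtain ⟨χ, hχ, hk⟩ := exists_character_of_mem_diagonal D hD F h hh
  obtain ⟨ε, hε, hc⟩ := nWordGL_conj D hD F l hl r hr
  refine ⟨ε * (χ r : F), ?_, fun t => ?_⟩
  · apply mul_ne_zero
    · intro e; rw [e] at hε; simp at hε
    · exact Units.ne_zero _
  · have h1 := diag_conj_xGL D hD F h χ hχ hk r hr t
    calc nWordGL D hD F l * h * xGL D hD F r t * (nWordGL D hD F l * h)⁻¹
        = nWordGL D hD F l * (h * xGL D hD F r t * h⁻¹) * (nWordGL D hD F l)⁻¹ := by group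
      _ = _ := by rw [h1, hc, mul_assoc]

end

end Cfsg.Agent.Lib.Helper18
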