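import Cfsg.Agent.Lib.Helper18.TorusKer
import Cfsg.Agent.Lib.Helper36.ChevGL
import Cfsg.Agent.Lib.Helper36.ChevLinAll

set_option autoImplicit false

namespace Cfsg.Agent.Lib.Helper18

open Cfsg Cfsg.Lie Cfsg.Agent.Lib.Helper36
open scoped BigOperators

theorem list_range_map_sum (n : ℕ) (f : ℕ → ℤ) :
    ((List.range n).map f).sum = ∑ k : Fin n, f k.val := by
  induction n with
  | zero => simp
  | succ n ih =>
    rw [List.range_succ, List.map_append, List.sum_append, ih, Fin.sum_univ_castSucc]
    simp

theorem cartan_lin_all (D : ChevalleyDatum) (hD : D ∈ [chevG2, chevB2, chevD4, chevF4, chevE6, chevE7, chevE8])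
    (i s : ℕ) (hi : i < D.rank) (hs : s < D.nroots) :
    D.cartan i s = ((List.range D.rank).map fun j => D.cartan i (D.simple j) * mCoef D j s).sum :=
  seven_cases (P := fun D => ∀ i s, i < D.rank → s < D.nroots →
      D.cartan i s = ((List.range D.rank).map fun j => D.cartan i (D.simple j) * mCoef D j s).sum) D hD
    (fun i s hi hs => cartan_lin _ wfFast_G2 chkN2_G2 chkM_G2 chkLin_G2 i s hi hs)
    (fun i s hi hs => cartan_lin _ wfFast_B2 chkN2_B2 chkM_B2 chkLin_B2 i s hi hs)
    (fun i s hi hs => cartan_lin _ wfFast_D4 chkN2_D4 chkM_D4 chkLin_D4 i s hi hs)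
    (fun i s hi hs => cartan_lin _ wfFast_F4 chkN2_F4 chkM_F4 chkLin_F4 i s hi hs)
    (fun i s hi hs => cartan_lin _ wfFast_E6 chkN2_E6 chkM_E6 chkLin_E6 i s hi hs)
    (fun i s hi hs => cartan_lin _ wfFast_E7 chkN2_E7 chkM_E7 chkLin_E7 i s hi hs)
    (fun i s hi hs => cartan_lin _ wfFast_E8 chkN2_E8 chkM_E8 chkLin_E8 i s hi hs) i s hi hs

section
variable (D : ChevalleyDatum) (hD : D ∈ [chevG2, chevB2, chevD4, chevF4, chevE6, chevE7, chevE8])
variable (F : Type*) [Field F]

/-- the Cartan matrix `A j k = ⟨p_k, p_j^∨⟩` -/
def cartanMat : Matrix (Fin D.rank) (Fin D.rank) ℤ :=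
  Matrix.of fun j k => D.cartan j.val (D.simple k.val)

/-- the character of the torus `(Fˣ)^l` on the basis vectors -/
def torusChar : (Fin D.rank → Fˣ) →* (D.Idx → Fˣ) where
  toFun t c := match c with
    | Sum.inl _ => 1
    | Sum.inr s => ∏ j, t j ^ D.cartan j.val s.val
  map_one' := by
    funext c
    rcases c with i | s <;> simp
  map_mul' a b := by
    funext c
    rcases c with i | s
    · simp
    · simp [mul_zpow, Finset.prod_mul_distrib]

/-- diagonal matrices as elements of the general linear group -/
def diagGL : (D.Idx → Fˣ) →* GL D.Idx F where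
  toFun χ := ⟨Matrix.diagonal fun c => (χ c : F), Matrix.diagonal fun c => ((χ c)⁻¹ : Fˣ),
    by rw [Matrix.diagonal_mul_diagonal]; simp, by rw [Matrix.diagonal_mul_diagonal]; simp⟩
  map_one' := by
    apply Units.ext
    simp
  map_mul' a b := by
    apply Units.ext
    simp [Matrix.diagonal_mul_diagonal]

theorem diagGL_injective : Function.Injective (diagGL D F) := by
  intro a b h
  funext c
  have h1 := congrArg (fun g : GL D.Idx F => (g : Matrix D.Idx D.Idx F) c c) h
  simp only [diagGL, MonoidHom.coe_mk, OneHom.coe_mk, Matrix.diagonal_apply_eq] at h1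
  exact Units.ext h1

/-- the torus `(Fˣ)^l → H` -/
def torusHom : (Fin D.rank → Fˣ) →* GL D.Idx F := (diagGL D F).comp (torusChar D F)

theorem torusHom_coe (t : Fin D.rank → Fˣ) :
    ((torusHom D F t : GL D.Idx F) : Matrix D.Idx D.Idx F) =
      Matrix.diagonal (Sum.elim (fun _ => (1 : F))
        (fun s : Fin D.nroots => ∏ j : Fin D.rank, (t j : F) ^ D.cartan j.val s.val)) := by
  simp only [torusHom, MonoidHom.comp_apply, diagGL, MonoidHom.coe_mk, OneHom.coe_mk]
  congr 1
  funext c
  rcases c with i | s
  · simp [torusChar]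
  · simp [torusChar, Units.coe_prod]

include hD in
theorem torusHom_mulSingle (j : Fin D.rank) (c : Fˣ) :
    torusHom D F (Pi.mulSingle j c) = hGL D hD F (D.simple j.val) (c : F) := by
  apply Units.ext
  rw [torusHom_coe, hGL_coe, hMat_simple D hD j.val j.isLt (c : F) c.ne_zero]
  congr 1
  funext x
  rcases x with i | s
  · rfl
  · simp only [Sum.elim_inr]
    rw [Finset.prod_eq_single j]
    · simp
    · intro k _ hk
      simp [Pi.mulSingle_eq_of_ne hk]
    · intro h; exact absurd (Finset.mem_univ j) h

include hD in
theorem torusHom_range : (torusHom D F).range = D.diagonalSubgroup F := by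
  apply le_antisymm
  · rintro g ⟨t, rfl⟩
    have hmem : ∀ j : Fin D.rank, Pi.mulSingle j (t j) ∈ (D.diagonalSubgroup F).comap (torusHom D F) := by
      intro j
      rw [Subgroup.mem_comap, torusHom_mulSingle D hD F]
      exact hGL_mem_diag D hD F _ (isPosRoot_simple D hD j.val j.isLt).1 _ (t j).ne_zero
    have := Subgroup.prod_mem ((D.diagonalSubgroup F).comap (torusHom D F)) (fun j (_ : j ∈ Finset.univ) => hmem j)
    rw [Finset.univ_prod_mulSingle] at this
    exact this
  · unfold ChevalleyDatum.diagonalSubgroup
    rw [Subgroup.closure_le]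
    rintro g ⟨r, t, hr, ht, hg⟩
    refine ⟨fun j => (Units.mk0 t ht) ^ cor D r j.val, ?_⟩
    apply Units.ext
    rw [torusHom_coe, hg, (hMat_all D hD r hr t ht).1]
    unfold hDiag
    congr 1
    funext x
    rcases x with i | s
    · rfl
    · simp only [Sum.elim_inr]
      have : ∀ j : Fin D.rank, (((Units.mk0 t ht) ^ cor D r j.val : Fˣ) : F) ^ D.cartan j.val s.val =
          t ^ (cor D r j.val * D.cartan j.val s.val) := by
        intro j
        rw [Units.val_zpow_eq_zpow_val, Units.val_mk0, zpow_mul]
      simp only [this]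
      unfold gc
      rw [list_range_map_sum]
      have ht' : (Units.mk0 t ht : Fˣ) = Units.mk0 t ht := rfl
      symm
      have := zpow_finset_sum (C := Fˣ) Finset.univ (Units.mk0 t ht)
        (fun j : Fin D.rank => cor D r j.val * D.cartan j.val s.val)
      have h2 := congrArg (fun u : Fˣ => (u : F)) this
      simp only [Units.val_zpow_eq_zpow_val, Units.val_mk0, Units.coe_prod] at h2
      exact h2

include hD in
theorem torusHom_ker : (torusHom D F).ker = (monoMap (C := Fˣ) (cartanMat D)).ker := by
  ext t
  rw [MonoidHom.mem_ker, MonoidHom.mem_ker]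
  constructor
  · intro h
    have h1 : torusChar D F t = 1 := by
      apply diagGL_injective D F
      rw [map_one]
      exact h
    funext k
    have h2 := congrFun h1 (Sum.inr ⟨D.simple k.val, (isPosRoot_simple D hD k.val k.isLt).1⟩)
    simp only [torusChar, MonoidHom.coe_mk, OneHom.coe_mk, Pi.one_apply] at h2
    rw [monoMap_apply]
    simpa [cartanMat] using h2
  · intro h
    have h1 : torusChar D F t = 1 := by
      funext c
      rcases c with i | s
      · rfl
      · simp only [torusChar, MonoidHom.coe_mk, OneHom.coe_mk, Pi.one_apply]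
        have hlin : ∀ j : Fin D.rank, D.cartan j.val s.val =
            ∑ k : Fin D.rank, cartanMat D j k * mCoef D k.val s.val := by
          intro j
          rw [cartan_lin_all D hD j.val s.val j.isLt s.isLt, list_range_map_sum]
          rfl
        have e1 : ∀ j : Fin D.rank, t j ^ D.cartan j.val s.val =
            ∏ k : Fin D.rank, (t j ^ cartanMat D j k) ^ mCoef D k.val s.val := by
          intro j
          rw [hlin j, zpow_finset_sum]
          apply Finset.prod_congr rfl
          intro k _
          rw [zpow_mul]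
        simp only [e1]
        rw [Finset.prod_comm]
        have e2 : ∀ k : Fin D.rank, ∏ j : Fin D.rank, (t j ^ cartanMat D j k) ^ mCoef D k.val s.val = 1 := by
          intro k
          rw [Finset.prod_zpow]
          have := congrFun h k
          rw [monoMap_apply] at this
          rw [this]
          simp
        simp only [e2]
        simp
    simp only [torusHom, MonoidHom.comp_apply, h1, map_one]

include hD in
/-- `|ker| · |H| = (q - 1)^l` -/
theorem card_ker_mul_card_diagonal [Fintype F] :
    Nat.card (monoMap (C := Fˣ) (cartanMat D)).ker * Nat.card (D.diagonalSubgroup F) =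
      (Fintype.card F - 1) ^ D.rank := by
  rw [← torusHom_ker D hD F, ← torusHom_range D hD F, ← Subgroup.index_ker, Subgroup.card_mul_index,
    Nat.card_fun, Nat.card_units, Nat.card_eq_fintype_card, Nat.card_eq_fintype_card, Fintype.card_fin]

end

end Cfsg.Agent.Lib.Helper18
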