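import Cfsg.Agent.Lib.Helper18.ChevUp

set_option autoImplicit false
set_option maxRecDepth 100000

namespace Cfsg.Agent.Lib.Helper18

open Cfsg Cfsg.Lie Cfsg.Agent.Lib.Helper36

theorem chkUp_G2 : (List.range chevG2.rank).all (chkUp chevG2) = true := by decide +kernel
theorem chkUp_B2 : (List.range chevB2.rank).all (chkUp chevB2) = true := by decide +kernel
theorem chkUp_D4 : (List.range chevD4.rank).all (chkUp chevD4) = true := by decide +kernel
theorem chkUp_F4 : (List.range chevF4.rank).all (chkUp chevF4) = true := by decide +kernel
theorem chkUp_E6 : (List.range chevE6.rank).all (chkUp chevE6) = true := by decide +kernel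
theorem chkUp_E7 : (List.range chevE7.rank).all (chkUp chevE7) = true := by decide +kernel
theorem chkUp_E8 : (List.range chevE8.rank).all (chkUp chevE8) = true := by decide +kernel

theorem chkUp_all (D : ChevalleyDatum) (hD : D ∈ [chevG2, chevB2, chevD4, chevF4, chevE6, chevE7, chevE8])
    (i : ℕ) (hi : i < D.rank) : chkUp D i = true := by
  have h : (List.range D.rank).all (chkUp D) = true :=
    seven_cases (P := fun D => (List.range D.rank).all (chkUp D) = true) D hD chkUp_G2 chkUp_B2 chkUp_D4
      chkUp_F4 chkUp_E6 chkUp_E7 chkUp_E8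
  rw [List.all_eq_true] at h
  exact h i (List.mem_range.2 hi)

end Cfsg.Agent.Lib.Helper18
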