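import Cfsg.Agent.Lib.Helper18.StPres
import Cfsg.Prelude.Def_ChevAutomorphisms
import Cfsg.Agent.Lib.Helper36.ChevFieldFix2

/-! # Automorphisms of Chevalley groups: shared vocabulary (helper18, for S2156) -/

set_option autoImplicit false

namespace Cfsg.Agent.Lib.Helper18.Au

open Cfsg Cfsg.Lie Cfsg.Agent.Lib.Helper36 Cfsg.Agent.Lib.Helper18

section
variable (D : ChevalleyDatum) (hD : D ∈ [chevG2, chevB2, chevD4, chevF4, chevE6, chevE7, chevE8])
variable (F : Type*) [Field F]

/-- `θ` maps the part of `S` inside the group onto itself -/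
def Pres (θ : ↥(D.group F) ≃* ↥(D.group F)) (S : Subgroup (GL D.Idx F)) : Prop :=
  ∀ g : ↥(D.group F), ((θ g : ↥(D.group F)) : GL D.Idx F) ∈ S ↔ (g : GL D.Idx F) ∈ S

/-- `θ` maps the root subgroup `X_r` into `X_{r'}` -/
def MapsRoot (θ : ↥(D.group F) ≃* ↥(D.group F)) (r r' : ℕ) : Prop :=
  ∀ t : F, ∃ t' : F, θ (xGr D hD F r t) = xGr D hD F r' t'

/-- `π` maps some fundamental root to one of different length -/
def SwapsLength (π : Equiv.Perm (Fin D.rank)) : Prop :=
  ∃ i : Fin D.rank, D.isLong (D.simple (π i)) ≠ D.isLong (D.simple i)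

/-- the characteristic condition under which length-swapping graph automorphisms exist -/
def SwapChar : Prop :=
  ((D = chevB2 ∨ D = chevF4) ∧ ringChar F = 2) ∨ (D = chevG2 ∧ ringChar F = 3)

variable {D F}

theorem xGr_coe (r : ℕ) (t : F) : ((xGr D hD F r t : ↥(D.group F)) : GL D.Idx F) = xGL D hD F r t := rfl

theorem eq_xGr_of_coe (g : ↥(D.group F)) (r : ℕ) (t : F)
    (h : ((g : GL D.Idx F) : Matrix D.Idx D.Idx F) = D.x F r t) : g = xGr D hD F r t := by
  apply Subtype.ext
  apply Units.ext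
  rw [h, xGr_coe, xGL_coe]

theorem xGr_coe_mat (r : ℕ) (t : F) :
    (((xGr D hD F r t : ↥(D.group F)) : GL D.Idx F) : Matrix D.Idx D.Idx F) = D.x F r t := by
  rw [xGr_coe, xGL_coe]

end

section basic
variable (D : ChevalleyDatum) (hD : D ∈ [chevG2, chevB2, chevD4, chevF4, chevE6, chevE7, chevE8])
variable (F : Type*) [Field F]

theorem xGr_add (r : ℕ) (a b : F) : xGr D hD F r (a + b) = xGr D hD F r a * xGr D hD F r b := by
  apply Subtype.ext
  rw [Subgroup.coe_mul, xGr_coe, xGr_coe, xGr_coe, xGL_add]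

theorem xGr_zero (r : ℕ) : xGr D hD F r 0 = 1 := by
  apply Subtype.ext
  rw [xGr_coe, xGL_zero]; rfl

theorem xGr_inv (r : ℕ) (a : F) : (xGr D hD F r a)⁻¹ = xGr D hD F r (-a) := by
  apply Subtype.ext
  rw [Subgroup.coe_inv, xGr_coe, xGr_coe, xGL_inv]

include hD in
theorem xGr_injective (r : ℕ) (hr : r < D.nroots) (a b : F) (h : xGr D hD F r a = xGr D hD F r b) : a = b := by
  apply x_injective D hD r hr a b
  rw [← xGr_coe_mat hD, ← xGr_coe_mat hD, h]

include hD in
theorem simple_lt' (i : Fin D.rank) : D.simple i < D.nroots := (chkN2_spec D (chkN2_all D hD) i i.2).1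

include hD in
theorem neg_simple_lt' (i : Fin D.rank) : D.neg (D.simple i) < D.nroots :=
  wf_neg D (wf_all D hD) _ (simple_lt' D hD i)

include hD in
theorem maps_add (θ : ↥(D.group F) ≃* ↥(D.group F)) (r r' : ℕ) (hr' : r' < D.nroots) (f : F → F)
    (hf : ∀ t, θ (xGr D hD F r t) = xGr D hD F r' (f t)) (a b : F) : f (a + b) = f a + f b := by
  apply xGr_injective D hD F r' hr'
  rw [← hf, xGr_add, map_mul, hf, hf, xGr_add]

include hD in
theorem maps_inj (θ : ↥(D.group F) ≃* ↥(D.group F)) (r r' : ℕ) (hr : r < D.nroots) (f : F → F)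
    (hf : ∀ t, θ (xGr D hD F r t) = xGr D hD F r' (f t)) : Function.Injective f := by
  intro a b hab
  apply xGr_injective D hD F r hr
  apply θ.injective
  rw [hf, hf, hab]

end basic

end Cfsg.Agent.Lib.Helper18.Au
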