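import Cfsg.Agent.Lib.Helper18.AutSkel

/-! # Automorphisms of Chevalley groups: assembly of S2156 from the sub-lemmas (helper18) -/

set_option autoImplicit false

namespace Cfsg.Agent.Lib.Helper18.Au

open Cfsg Cfsg.Lie Cfsg.Agent.Lib.Helper36 Cfsg.Agent.Lib.Helper18

section
variable (D : ChevalleyDatum) (hD : D ∈ [chevG2, chevB2, chevD4, chevF4, chevE6, chevE7, chevE8])
variable (F : Type*) [Field F]

theorem pow_graphExp_bijective [Finite F] (i j : ℕ) :
    Function.Bijective (fun s : F => s ^ D.graphExp (ringChar F) i j) := by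
  unfold ChevalleyDatum.graphExp
  split_ifs with h
  · obtain ⟨p, hp⟩ := CharP.exists F
    have hpp : p.Prime := by
      haveI := hp
      rcases CharP.char_is_prime_or_zero F p with h1 | h1
      · exact h1
      · exfalso
        haveI : CharP F 0 := h1 ▸ hp
        haveI : CharZero F := CharP.charP_to_charZero F
        exact not_finite F
    haveI := hp
    haveI : Fact p.Prime := ⟨hpp⟩
    have e : ringChar F = p := (ringChar.eq F p)
    rw [e]
    have hinj : Function.Injective (fun s : F => s ^ p) := frobenius_inj F p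
    exact ⟨hinj, Finite.surjective_of_injective hinj⟩
  · simp only [pow_one]
    exact Function.bijective_id

include hD in
/-- the decomposition of an automorphism -/
theorem aut_decomposition [Finite F] (θ : ↥(D.group F) ≃* ↥(D.group F)) :
    ∃ (x : ↥(D.group F)) (d g f : ↥(D.group F) ≃* ↥(D.group F)),
      D.IsDiagonalAut d ∧ D.IsGraphAut g ∧ D.IsFieldAut f ∧ ∀ y : ↥(D.group F), θ y = x * d (g (f y)) * x⁻¹ := by
  classical
  have hwf := wf_all D hD
  have hsimp : ∀ i : Fin D.rank, D.simple i < D.nroots := fun i => (chkN2_spec D (chkN2_all D hD) i i.2).1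
  have hnsimp : ∀ i : Fin D.rank, D.neg (D.simple i) < D.nroots := fun i => wf_neg D hwf _ (hsimp i)
  obtain ⟨x, θ₀, hx, hU, hV⟩ := T1_normalize D hD F θ
  obtain ⟨π, hneg⟩ := T2c_neg D hD F θ₀ hU hV
  obtain ⟨π', hpos⟩ := T2d_pos D hD F θ₀ hU hV
  have hππ' := T2e_same D hD F θ₀ π π' hneg hpos
  subst hππ'
  have hπ := T3_symm D hD F θ₀ π hpos
  choose fp hfp using hpos
  choose fn hfn using hneg
  have hc : ∀ i, fp i 1 ≠ 0 := by
    intro i h0
    have := maps_inj D hD F θ₀ _ _ (hsimp i) (fp i) (hfp i)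
    have h2 : fp i 0 = 0 := by
      have := maps_add D hD F θ₀ _ _ (hsimp (π i)) (fp i) (hfp i) 0 0
      rw [add_zero] at this
      exact (add_eq_left.1 this.symm)
    exact one_ne_zero (this (h0.trans h2.symm))
  set c : Fin D.rank → Fˣ := fun j => Units.mk0 (fp (π.symm j) 1) (hc _) with hcdef
  obtain ⟨d, hd, hdx⟩ := T4_diag D hD F c
  have hdsymm : ∀ (j : Fin D.rank) (s : F),
      d.symm (xGr D hD F (D.simple j) s) = xGr D hD F (D.simple j) (((c j)⁻¹ : Fˣ) * s) ∧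
      d.symm (xGr D hD F (D.neg (D.simple j)) s) = xGr D hD F (D.neg (D.simple j)) ((c j : F) * s) := by
    intro j s
    constructor
    · rw [MulEquiv.symm_apply_eq, (hdx j _).1, ← mul_assoc, ← Units.val_mul, mul_inv_cancel, Units.val_one, one_mul]
    · rw [MulEquiv.symm_apply_eq, (hdx j _).2, ← mul_assoc, ← Units.val_mul, inv_mul_cancel, Units.val_one, one_mul]
  set θ₁ := θ₀.trans d.symm with hθ₁
  have hcπ : ∀ i, ((c (π i) : Fˣ) : F) = fp i 1 := by
    intro i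
    simp only [hcdef, Units.val_mk0, Equiv.symm_apply_apply]
  have h1p : ∀ (i : Fin D.rank) (t : F),
      θ₁ (xGr D hD F (D.simple i) t) = xGr D hD F (D.simple (π i)) (((c (π i))⁻¹ : Fˣ) * fp i t) := by
    intro i t
    rw [hθ₁, MulEquiv.trans_apply, hfp, (hdsymm _ _).1]
  have h1n : ∀ (i : Fin D.rank) (t : F),
      θ₁ (xGr D hD F (D.neg (D.simple i)) t) = xGr D hD F (D.neg (D.simple (π i))) ((c (π i) : F) * fn i t) := by
    intro i t
    rw [hθ₁, MulEquiv.trans_apply, hfn, (hdsymm _ _).2]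
  -- rank one analysis for θ₁
  have hσ₁ : ∀ i : Fin D.rank, ∃ σ : F ≃+* F, (∀ t, ((c (π i))⁻¹ : Fˣ) * fp i t = σ t) ∧
      (∀ t, (c (π i) : F) * fn i t = σ t) := by
    intro i
    apply T5b_alg F _ _ (maps_add D hD F θ₁ _ _ (hsimp (π i)) _ (h1p i))
      (maps_add D hD F θ₁ _ _ (hnsimp (π i)) _ (h1n i))
      (maps_inj D hD F θ₁ _ _ (hsimp i) _ (h1p i))
    · rw [← hcπ, ← Units.val_mul, inv_mul_cancel, Units.val_one]
    · exact T5a_rank1 D hD F θ₁ _ _ (hsimp i) (hsimp (π i)) _ _ (h1p i) (h1n i)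
  choose σ₁ hσ₁p hσ₁n using hσ₁
  have h1 : ∀ (i : Fin D.rank) (t : F),
      θ₁ (xGr D hD F (D.simple i) t) = xGr D hD F (D.simple (π i)) (σ₁ i t) ∧
      θ₁ (xGr D hD F (D.neg (D.simple i)) t) = xGr D hD F (D.neg (D.simple (π i))) (σ₁ i t) := by
    intro i t
    rw [h1p, h1n, hσ₁p, hσ₁n]
    exact ⟨rfl, rfl⟩
  -- the graph automorphism
  obtain ⟨γ, hγ⟩ := T7_graph D hD F π hπ (fun hs => T6_char D hD F θ₁ π hπ σ₁ h1 hs)
  set θ₂ := θ₁.trans γ.symm with hθ₂
  set e : Fin D.rank → ℕ := fun i => D.graphExp (ringChar F) i (π i) with he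
  have hbij : ∀ i : Fin D.rank, Function.Bijective (fun s : F => s ^ e i) := fun i =>
    pow_graphExp_bijective D F i (π i)
  set rt : Fin D.rank → F → F := fun i => (Equiv.ofBijective _ (hbij i)).symm with hrt
  have hrtp : ∀ i s, (rt i s) ^ e i = s := fun i s => (Equiv.ofBijective _ (hbij i)).apply_symm_apply s
  have h2 : ∀ (i : Fin D.rank) (t : F),
      θ₂ (xGr D hD F (D.simple i) t) = xGr D hD F (D.simple i) (rt i (σ₁ i t)) ∧
      θ₂ (xGr D hD F (D.neg (D.simple i)) t) = xGr D hD F (D.neg (D.simple i)) (rt i (σ₁ i t)) := by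
    intro i t
    constructor
    · show γ.symm (θ₁ _) = _
      rw [(h1 i t).1, MulEquiv.symm_apply_eq, (hγ i _).1]
      show _ = xGr D hD F (D.simple (π i)) ((rt i (σ₁ i t)) ^ e i)
      rw [hrtp]
    · show γ.symm (θ₁ _) = _
      rw [(h1 i t).2, MulEquiv.symm_apply_eq, (hγ i _).2]
      show _ = xGr D hD F (D.neg (D.simple (π i))) ((rt i (σ₁ i t)) ^ e i)
      rw [hrtp]
  have hσ₂ : ∀ i : Fin D.rank, ∃ σ : F ≃+* F, (∀ t, rt i (σ₁ i t) = σ t) ∧ (∀ t, rt i (σ₁ i t) = σ t) := by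
    intro i
    apply T5b_alg F _ _ (maps_add D hD F θ₂ _ _ (hsimp i) _ (fun t => (h2 i t).1))
      (maps_add D hD F θ₂ _ _ (hnsimp i) _ (fun t => (h2 i t).2))
      (maps_inj D hD F θ₂ _ _ (hsimp i) _ (fun t => (h2 i t).1))
    · apply (hbij i).1
      show (rt i (σ₁ i 1)) ^ e i = 1 ^ e i
      rw [hrtp, map_one, one_pow]
    · exact T5a_rank1 D hD F θ₂ _ _ (hsimp i) (hsimp i) _ _ (fun t => (h2 i t).1) (fun t => (h2 i t).2)
  choose σ₂ hσ₂p _ using hσ₂
  have h2' : ∀ (i : Fin D.rank) (t : F),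
      θ₂ (xGr D hD F (D.simple i) t) = xGr D hD F (D.simple i) (σ₂ i t) ∧
      θ₂ (xGr D hD F (D.neg (D.simple i)) t) = xGr D hD F (D.neg (D.simple i)) (σ₂ i t) := by
    intro i t
    rw [← hσ₂p]
    exact h2 i t
  have heq := T9_torus D hD F θ₂ σ₂ h2'
  set i₀ : Fin D.rank := ⟨0, rank_pos D hD⟩
  obtain ⟨φ, hφ⟩ := T8_field D hD F (σ₂ i₀)
  have hθφ : θ₂.toMonoidHom = φ.toMonoidHom := by
    apply T10_ext D hD F
    intro i t
    show θ₂ _ = φ _ ∧ θ₂ _ = φ _
    rw [(h2' i t).1, (h2' i t).2, hφ, hφ, heq i i₀]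
    exact ⟨rfl, rfl⟩
  have hθφ' : ∀ y, θ₂ y = φ y := fun y => DFunLike.congr_fun hθφ y
  refine ⟨x, d, γ, φ, hd, ⟨π, hπ, ?_⟩, ⟨σ₂ i₀, ?_⟩, ?_⟩
  · intro g i t
    constructor
    · intro hg
      rw [eq_xGr_of_coe hD g _ _ hg, (hγ i t).1, xGr_coe_mat]
    · intro hg
      rw [eq_xGr_of_coe hD g _ _ hg, (hγ i t).2, xGr_coe_mat]
  · intro g r t _ hg
    rw [eq_xGr_of_coe hD g _ _ hg, hφ, xGr_coe_mat]
  · intro y
    rw [hx y]
    congr 2
    have e1 : θ₁ y = d.symm (θ₀ y) := rfl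
    have e2 : θ₂ y = γ.symm (θ₁ y) := rfl
    rw [← hθφ', e2, MulEquiv.apply_symm_apply, e1, MulEquiv.apply_symm_apply]

end

end Cfsg.Agent.Lib.Helper18.Au
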