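import Mathlib

/-! # O4: the number of automorphisms of a finite field (helper18; proof as in Helper5.AutPSL2Out) -/

set_option autoImplicit false

namespace Cfsg.Agent.Lib.Helper18.Au

section
variable {F : Type*} [Field F] [Fintype F]

/-- ring automorphisms of a field of characteristic `p` are `ZMod p`-algebra automorphisms -/
noncomputable def ringAutEquivGalH18 (p : ℕ) [Fact p.Prime] [CharP F p] :
    letI : Algebra (ZMod p) F := ZMod.algebra F p
    (F ≃ₐ[ZMod p] F) ≃* (F ≃+* F) :=
  letI : Algebra (ZMod p) F := ZMod.algebra F p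
  { toFun := fun e => e.toRingEquiv
    invFun := fun σ => AlgEquiv.ofRingEquiv (f := σ) (fun r => by
      have := Subsingleton.elim ((σ : F →+* F).comp (algebraMap (ZMod p) F)) (algebraMap (ZMod p) F)
      exact DFunLike.congr_fun this r)
    left_inv := fun e => by ext x; rfl
    right_inv := fun σ => by ext x; rfl
    map_mul' := fun e₁ e₂ => by ext x; rfl }

theorem O4_card_ringAut' (p f : ℕ) [Fact p.Prime] [CharP F p] (hF : Fintype.card F = p ^ f) :
    Nat.card (F ≃+* F) = f := by
  letI : Algebra (ZMod p) F := ZMod.algebra F p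
  rw [← Nat.card_congr (ringAutEquivGalH18 (F := F) p).toEquiv, IsGalois.card_aut_eq_finrank]
  have h1 := FiniteField.pow_finrank_eq_card p F
  rw [hF] at h1
  exact Nat.pow_right_injective (Fact.out : p.Prime).two_le h1

theorem isCyclic_ringAutH18 (p : ℕ) [Fact p.Prime] [CharP F p] : IsCyclic (F ≃+* F) := by
  letI : Algebra (ZMod p) F := ZMod.algebra F p
  exact isCyclic_of_surjective (ringAutEquivGalH18 (F := F) p).toMonoidHom
    (ringAutEquivGalH18 (F := F) p).surjective

end

end Cfsg.Agent.Lib.Helper18.Au
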