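import Cfsg.Agent.Lib.Helper18.ChevHCard

set_option autoImplicit false
set_option maxRecDepth 100000

namespace Cfsg.Agent.Lib.Helper18

open Cfsg Cfsg.Lie Cfsg.Agent.Lib.Helper36
open scoped BigOperators

/-- a square integer matrix from a list of rows -/
def matOfList (n : ℕ) (L : List (List ℤ)) : Matrix (Fin n) (Fin n) ℤ :=
  Matrix.of fun i j => (L.getD i.val []).getD j.val 0

theorem prod_gcd_eval (m : ℕ) (dL : List ℕ) (n : ℕ) (h : dL.length = n) :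
    ∏ k : Fin n, m.gcd (dL.getD k.val 0) = (dL.map fun d => m.gcd d).prod := by
  induction dL generalizing n with
  | nil =>
    subst h
    simp
  | cons a dL ih =>
    subst h
    rw [List.length_cons, Fin.prod_univ_succ, List.map_cons, List.prod_cons]
    simp only [Fin.val_zero, List.getD_cons_zero, Fin.val_succ, List.getD_cons_succ]
    rw [ih _ rfl]

section
variable (F : Type*) [Field F] [Fintype F]

theorem smithA_G2 : cartanMat chevG2 = matOfList _ [[2, 1], [-1, 0]] *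
    Matrix.diagonal (fun k => (((([1, 1] : List ℕ).getD k.val 0 : ℕ)) : ℤ)) * matOfList _ [[1, -2], [0, 1]] := by
  decide +kernel

theorem smithP_G2 : matOfList chevG2.rank [[2, 1], [-1, 0]] * matOfList _ [[0, -1], [1, 2]] = 1 := by
  decide +kernel

theorem smithP'_G2 : matOfList chevG2.rank [[0, -1], [1, 2]] * matOfList _ [[2, 1], [-1, 0]] = 1 := by
  decide +kernel

theorem smithQ_G2 : matOfList chevG2.rank [[1, -2], [0, 1]] * matOfList _ [[1, 2], [0, 1]] = 1 := by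
  decide +kernel

theorem smithQ'_G2 : matOfList chevG2.rank [[1, 2], [0, 1]] * matOfList _ [[1, -2], [0, 1]] = 1 := by
  decide +kernel

theorem card_ker_G2 : Nat.card (monoMap (C := Fˣ) (cartanMat chevG2)).ker =
    (([1, 1] : List ℕ).map fun d => (Fintype.card F - 1).gcd d).prod := by
  rw [card_ker_monoMap (C := Fˣ) _ _ _ _ _ (fun k => ([1, 1] : List ℕ).getD k.val 0) smithA_G2 smithP_G2 smithP'_G2 smithQ_G2 smithQ'_G2,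
    Nat.card_units, Nat.card_eq_fintype_card]
  exact prod_gcd_eval _ _ _ rfl

theorem smithA_B2 : cartanMat chevB2 = matOfList _ [[2, 1], [-1, 0]] *
    Matrix.diagonal (fun k => (((([1, 2] : List ℕ).getD k.val 0 : ℕ)) : ℤ)) * matOfList _ [[1, -2], [0, 1]] := by
  decide +kernel

theorem smithP_B2 : matOfList chevB2.rank [[2, 1], [-1, 0]] * matOfList _ [[0, -1], [1, 2]] = 1 := by
  decide +kernel

theorem smithP'_B2 : matOfList chevB2.rank [[0, -1], [1, 2]] * matOfList _ [[2, 1], [-1, 0]] = 1 := by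
  decide +kernel

theorem smithQ_B2 : matOfList chevB2.rank [[1, -2], [0, 1]] * matOfList _ [[1, 2], [0, 1]] = 1 := by
  decide +kernel

theorem smithQ'_B2 : matOfList chevB2.rank [[1, 2], [0, 1]] * matOfList _ [[1, -2], [0, 1]] = 1 := by
  decide +kernel

theorem card_ker_B2 : Nat.card (monoMap (C := Fˣ) (cartanMat chevB2)).ker =
    (([1, 2] : List ℕ).map fun d => (Fintype.card F - 1).gcd d).prod := by
  rw [card_ker_monoMap (C := Fˣ) _ _ _ _ _ (fun k => ([1, 2] : List ℕ).getD k.val 0) smithA_B2 smithP_B2 smithP'_B2 smithQ_B2 smithQ'_B2,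
    Nat.card_units, Nat.card_eq_fintype_card]
  exact prod_gcd_eval _ _ _ rfl

theorem smithA_D4 : cartanMat chevD4 = matOfList _ [[-1, 0, 0, 0], [2, -1, 0, 0], [-1, 2, -1, 0], [-1, 0, 1, 1]] *
    Matrix.diagonal (fun k => (((([1, 1, 2, 2] : List ℕ).getD k.val 0 : ℕ)) : ℤ)) * matOfList _ [[-2, 1, 0, 0], [-3, 0, 1, 1], [-2, 0, 0, 1], [1, 0, 0, 0]] := by
  decide +kernel

theorem smithP_D4 : matOfList chevD4.rank [[-1, 0, 0, 0], [2, -1, 0, 0], [-1, 2, -1, 0], [-1, 0, 1, 1]] * matOfList _ [[-1, 0, 0, 0], [-2, -1, 0, 0], [-3, -2, -1, 0], [2, 2, 1, 1]] = 1 := by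
  decide +kernel

theorem smithP'_D4 : matOfList chevD4.rank [[-1, 0, 0, 0], [-2, -1, 0, 0], [-3, -2, -1, 0], [2, 2, 1, 1]] * matOfList _ [[-1, 0, 0, 0], [2, -1, 0, 0], [-1, 2, -1, 0], [-1, 0, 1, 1]] = 1 := by
  decide +kernel

theorem smithQ_D4 : matOfList chevD4.rank [[-2, 1, 0, 0], [-3, 0, 1, 1], [-2, 0, 0, 1], [1, 0, 0, 0]] * matOfList _ [[0, 0, 0, 1], [1, 0, 0, 2], [0, 1, -1, 1], [0, 0, 1, 2]] = 1 := by
  decide +kernel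

theorem smithQ'_D4 : matOfList chevD4.rank [[0, 0, 0, 1], [1, 0, 0, 2], [0, 1, -1, 1], [0, 0, 1, 2]] * matOfList _ [[-2, 1, 0, 0], [-3, 0, 1, 1], [-2, 0, 0, 1], [1, 0, 0, 0]] = 1 := by
  decide +kernel

theorem card_ker_D4 : Nat.card (monoMap (C := Fˣ) (cartanMat chevD4)).ker =
    (([1, 1, 2, 2] : List ℕ).map fun d => (Fintype.card F - 1).gcd d).prod := by
  rw [card_ker_monoMap (C := Fˣ) _ _ _ _ _ (fun k => ([1, 1, 2, 2] : List ℕ).getD k.val 0) smithA_D4 smithP_D4 smithP'_D4 smithQ_D4 smithQ'_D4,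
    Nat.card_units, Nat.card_eq_fintype_card]
  exact prod_gcd_eval _ _ _ rfl

theorem smithA_F4 : cartanMat chevF4 = matOfList _ [[-1, 0, 0, 0], [2, 0, -1, 0], [-1, -1, 0, 0], [0, 2, 2, -1]] *
    Matrix.diagonal (fun k => (((([1, 1, 1, 1] : List ℕ).getD k.val 0 : ℕ)) : ℤ)) * matOfList _ [[-2, 1, 0, 0], [2, 0, -2, 1], [-3, 0, 2, 0], [-2, 0, 1, 0]] := by
  decide +kernel

theorem smithP_F4 : matOfList chevF4.rank [[-1, 0, 0, 0], [2, 0, -1, 0], [-1, -1, 0, 0], [0, 2, 2, -1]] * matOfList _ [[-1, 0, 0, 0], [1, 0, -1, 0], [-2, -1, 0, 0], [-2, -2, -2, -1]] = 1 := by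
  decide +kernel

theorem smithP'_F4 : matOfList chevF4.rank [[-1, 0, 0, 0], [1, 0, -1, 0], [-2, -1, 0, 0], [-2, -2, -2, -1]] * matOfList _ [[-1, 0, 0, 0], [2, 0, -1, 0], [-1, -1, 0, 0], [0, 2, 2, -1]] = 1 := by
  decide +kernel

theorem smithQ_F4 : matOfList chevF4.rank [[-2, 1, 0, 0], [2, 0, -2, 1], [-3, 0, 2, 0], [-2, 0, 1, 0]] * matOfList _ [[0, 0, 1, -2], [1, 0, 2, -4], [0, 0, 2, -3], [0, 1, 2, -2]] = 1 := by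
  decide +kernel

theorem smithQ'_F4 : matOfList chevF4.rank [[0, 0, 1, -2], [1, 0, 2, -4], [0, 0, 2, -3], [0, 1, 2, -2]] * matOfList _ [[-2, 1, 0, 0], [2, 0, -2, 1], [-3, 0, 2, 0], [-2, 0, 1, 0]] = 1 := by
  decide +kernel

theorem card_ker_F4 : Nat.card (monoMap (C := Fˣ) (cartanMat chevF4)).ker =
    (([1, 1, 1, 1] : List ℕ).map fun d => (Fintype.card F - 1).gcd d).prod := by
  rw [card_ker_monoMap (C := Fˣ) _ _ _ _ _ (fun k => ([1, 1, 1, 1] : List ℕ).getD k.val 0) smithA_F4 smithP_F4 smithP'_F4 smithQ_F4 smithQ'_F4,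
    Nat.card_units, Nat.card_eq_fintype_card]
  exact prod_gcd_eval _ _ _ rfl

theorem smithA_E6 : cartanMat chevE6 = matOfList _ [[-1, 0, 0, 0, 0, 0], [0, -1, 0, 0, 0, 0], [2, -1, 0, 0, -1, 0], [-1, 2, -1, 0, 0, 0], [0, -1, 2, -1, 0, 0], [0, 0, -1, 2, 4, -1]] *
    Matrix.diagonal (fun k => (((([1, 1, 1, 1, 1, 3] : List ℕ).getD k.val 0 : ℕ)) : ℤ)) * matOfList _ [[-2, 0, 1, 0, 0, 0], [0, -2, 0, 1, 0, 0], [2, -3, 0, 0, 1, 0], [4, -4, 0, 0, 0, 1], [-3, 2, 0, 0, 0, 0], [-2, 1, 0, 0, 0, 0]] := by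
  decide +kernel

theorem smithP_E6 : matOfList chevE6.rank [[-1, 0, 0, 0, 0, 0], [0, -1, 0, 0, 0, 0], [2, -1, 0, 0, -1, 0], [-1, 2, -1, 0, 0, 0], [0, -1, 2, -1, 0, 0], [0, 0, -1, 2, 4, -1]] * matOfList _ [[-1, 0, 0, 0, 0, 0], [0, -1, 0, 0, 0, 0], [1, -2, 0, -1, 0, 0], [2, -3, 0, -2, -1, 0], [-2, 1, -1, 0, 0, 0], [-5, 0, -4, -3, -2, -1]] = 1 := by
  decide +kernel

theorem smithP'_E6 : matOfList chevE6.rank [[-1, 0, 0, 0, 0, 0], [0, -1, 0, 0, 0, 0], [1, -2, 0, -1, 0, 0], [2, -3, 0, -2, -1, 0], [-2, 1, -1, 0, 0, 0], [-5, 0, -4, -3, -2, -1]] * matOfList _ [[-1, 0, 0, 0, 0, 0], [0, -1, 0, 0, 0, 0], [2, -1, 0, 0, -1, 0], [-1, 2, -1, 0, 0, 0], [0, -1, 2, -1, 0, 0], [0, 0, -1, 2, 4, -1]] = 1 := by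
  decide +kernel

theorem smithQ_E6 : matOfList chevE6.rank [[-2, 0, 1, 0, 0, 0], [0, -2, 0, 1, 0, 0], [2, -3, 0, 0, 1, 0], [4, -4, 0, 0, 0, 1], [-3, 2, 0, 0, 0, 0], [-2, 1, 0, 0, 0, 0]] * matOfList _ [[0, 0, 0, 0, 1, -2], [0, 0, 0, 0, 2, -3], [1, 0, 0, 0, 2, -4], [0, 1, 0, 0, 4, -6], [0, 0, 1, 0, 4, -5], [0, 0, 0, 1, 4, -4]] = 1 := by
  decide +kernel

theorem smithQ'_E6 : matOfList chevE6.rank [[0, 0, 0, 0, 1, -2], [0, 0, 0, 0, 2, -3], [1, 0, 0, 0, 2, -4], [0, 1, 0, 0, 4, -6], [0, 0, 1, 0, 4, -5], [0, 0, 0, 1, 4, -4]] * matOfList _ [[-2, 0, 1, 0, 0, 0], [0, -2, 0, 1, 0, 0], [2, -3, 0, 0, 1, 0], [4, -4, 0, 0, 0, 1], [-3, 2, 0, 0, 0, 0], [-2, 1, 0, 0, 0, 0]] = 1 := by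
  decide +kernel

theorem card_ker_E6 : Nat.card (monoMap (C := Fˣ) (cartanMat chevE6)).ker =
    (([1, 1, 1, 1, 1, 3] : List ℕ).map fun d => (Fintype.card F - 1).gcd d).prod := by
  rw [card_ker_monoMap (C := Fˣ) _ _ _ _ _ (fun k => ([1, 1, 1, 1, 1, 3] : List ℕ).getD k.val 0) smithA_E6 smithP_E6 smithP'_E6 smithQ_E6 smithQ'_E6,
    Nat.card_units, Nat.card_eq_fintype_card]
  exact prod_gcd_eval _ _ _ rfl

theorem smithA_E7 : cartanMat chevE7 = matOfList _ [[-1, 0, 0, 0, 0, 0, 0], [0, -1, 0, 0, 0, 0, 0], [2, -1, 0, 0, 0, -1, 0], [-1, 2, -1, 0, 0, 0, 0], [0, -1, 2, -1, 0, 0, 0], [0, 0, -1, 2, -1, 0, 0], [0, 0, 0, -1, 2, 4, -1]] *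
    Matrix.diagonal (fun k => (((([1, 1, 1, 1, 1, 1, 2] : List ℕ).getD k.val 0 : ℕ)) : ℤ)) * matOfList _ [[-2, 0, 1, 0, 0, 0, 0], [0, -2, 0, 1, 0, 0, 0], [2, -3, 0, 0, 1, 0, 0], [4, -4, 0, 0, 0, 1, 0], [6, -5, 0, 0, 0, 0, 1], [-3, 2, 0, 0, 0, 0, 0], [-2, 1, 0, 0, 0, 0, 0]] := by
  decide +kernel

theorem smithP_E7 : matOfList chevE7.rank [[-1, 0, 0, 0, 0, 0, 0], [0, -1, 0, 0, 0, 0, 0], [2, -1, 0, 0, 0, -1, 0], [-1, 2, -1, 0, 0, 0, 0], [0, -1, 2, -1, 0, 0, 0], [0, 0, -1, 2, -1, 0, 0], [0, 0, 0, -1, 2, 4, -1]] * matOfList _ [[-1, 0, 0, 0, 0, 0, 0], [0, -1, 0, 0, 0, 0, 0], [1, -2, 0, -1, 0, 0, 0], [2, -3, 0, -2, -1, 0, 0], [3, -4, 0, -3, -2, -1, 0], [-2, 1, -1, 0, 0, 0, 0], [-4, -1, -4, -4, -3, -2, -1]] = 1 := by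
  decide +kernel

theorem smithP'_E7 : matOfList chevE7.rank [[-1, 0, 0, 0, 0, 0, 0], [0, -1, 0, 0, 0, 0, 0], [1, -2, 0, -1, 0, 0, 0], [2, -3, 0, -2, -1, 0, 0], [3, -4, 0, -3, -2, -1, 0], [-2, 1, -1, 0, 0, 0, 0], [-4, -1, -4, -4, -3, -2, -1]] * matOfList _ [[-1, 0, 0, 0, 0, 0, 0], [0, -1, 0, 0, 0, 0, 0], [2, -1, 0, 0, 0, -1, 0], [-1, 2, -1, 0, 0, 0, 0], [0, -1, 2, -1, 0, 0, 0], [0, 0, -1, 2, -1, 0, 0], [0, 0, 0, -1, 2, 4, -1]] = 1 := by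
  decide +kernel

theorem smithQ_E7 : matOfList chevE7.rank [[-2, 0, 1, 0, 0, 0, 0], [0, -2, 0, 1, 0, 0, 0], [2, -3, 0, 0, 1, 0, 0], [4, -4, 0, 0, 0, 1, 0], [6, -5, 0, 0, 0, 0, 1], [-3, 2, 0, 0, 0, 0, 0], [-2, 1, 0, 0, 0, 0, 0]] * matOfList _ [[0, 0, 0, 0, 0, 1, -2], [0, 0, 0, 0, 0, 2, -3], [1, 0, 0, 0, 0, 2, -4], [0, 1, 0, 0, 0, 4, -6], [0, 0, 1, 0, 0, 4, -5], [0, 0, 0, 1, 0, 4, -4], [0, 0, 0, 0, 1, 4, -3]] = 1 := by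
  decide +kernel

theorem smithQ'_E7 : matOfList chevE7.rank [[0, 0, 0, 0, 0, 1, -2], [0, 0, 0, 0, 0, 2, -3], [1, 0, 0, 0, 0, 2, -4], [0, 1, 0, 0, 0, 4, -6], [0, 0, 1, 0, 0, 4, -5], [0, 0, 0, 1, 0, 4, -4], [0, 0, 0, 0, 1, 4, -3]] * matOfList _ [[-2, 0, 1, 0, 0, 0, 0], [0, -2, 0, 1, 0, 0, 0], [2, -3, 0, 0, 1, 0, 0], [4, -4, 0, 0, 0, 1, 0], [6, -5, 0, 0, 0, 0, 1], [-3, 2, 0, 0, 0, 0, 0], [-2, 1, 0, 0, 0, 0, 0]] = 1 := by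
  decide +kernel

theorem card_ker_E7 : Nat.card (monoMap (C := Fˣ) (cartanMat chevE7)).ker =
    (([1, 1, 1, 1, 1, 1, 2] : List ℕ).map fun d => (Fintype.card F - 1).gcd d).prod := by
  rw [card_ker_monoMap (C := Fˣ) _ _ _ _ _ (fun k => ([1, 1, 1, 1, 1, 1, 2] : List ℕ).getD k.val 0) smithA_E7 smithP_E7 smithP'_E7 smithQ_E7 smithQ'_E7,
    Nat.card_units, Nat.card_eq_fintype_card]
  exact prod_gcd_eval _ _ _ rfl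

theorem smithA_E8 : cartanMat chevE8 = matOfList _ [[-1, 0, 0, 0, 0, 0, 0, 0], [0, -1, 0, 0, 0, 0, 0, 0], [2, -1, 0, 0, 0, 0, -1, 0], [-1, 2, -1, 0, 0, 0, 0, 0], [0, -1, 2, -1, 0, 0, 0, 0], [0, 0, -1, 2, -1, 0, 0, 0], [0, 0, 0, -1, 2, -1, 0, 0], [0, 0, 0, 0, -1, 2, 4, -1]] *
    Matrix.diagonal (fun k => (((([1, 1, 1, 1, 1, 1, 1, 1] : List ℕ).getD k.val 0 : ℕ)) : ℤ)) * matOfList _ [[-2, 0, 1, 0, 0, 0, 0, 0], [0, -2, 0, 1, 0, 0, 0, 0], [2, -3, 0, 0, 1, 0, 0, 0], [4, -4, 0, 0, 0, 1, 0, 0], [6, -5, 0, 0, 0, 0, 1, 0], [8, -6, 0, 0, 0, 0, 0, 1], [-3, 2, 0, 0, 0, 0, 0, 0], [-2, 1, 0, 0, 0, 0, 0, 0]] := by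
  decide +kernel

theorem smithP_E8 : matOfList chevE8.rank [[-1, 0, 0, 0, 0, 0, 0, 0], [0, -1, 0, 0, 0, 0, 0, 0], [2, -1, 0, 0, 0, 0, -1, 0], [-1, 2, -1, 0, 0, 0, 0, 0], [0, -1, 2, -1, 0, 0, 0, 0], [0, 0, -1, 2, -1, 0, 0, 0], [0, 0, 0, -1, 2, -1, 0, 0], [0, 0, 0, 0, -1, 2, 4, -1]] * matOfList _ [[-1, 0, 0, 0, 0, 0, 0, 0], [0, -1, 0, 0, 0, 0, 0, 0], [1, -2, 0, -1, 0, 0, 0, 0], [2, -3, 0, -2, -1, 0, 0, 0], [3, -4, 0, -3, -2, -1, 0, 0], [4, -5, 0, -4, -3, -2, -1, 0], [-2, 1, -1, 0, 0, 0, 0, 0], [-3, -2, -4, -5, -4, -3, -2, -1]] = 1 := by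
  decide +kernel

theorem smithP'_E8 : matOfList chevE8.rank [[-1, 0, 0, 0, 0, 0, 0, 0], [0, -1, 0, 0, 0, 0, 0, 0], [1, -2, 0, -1, 0, 0, 0, 0], [2, -3, 0, -2, -1, 0, 0, 0], [3, -4, 0, -3, -2, -1, 0, 0], [4, -5, 0, -4, -3, -2, -1, 0], [-2, 1, -1, 0, 0, 0, 0, 0], [-3, -2, -4, -5, -4, -3, -2, -1]] * matOfList _ [[-1, 0, 0, 0, 0, 0, 0, 0], [0, -1, 0, 0, 0, 0, 0, 0], [2, -1, 0, 0, 0, 0, -1, 0], [-1, 2, -1, 0, 0, 0, 0, 0], [0, -1, 2, -1, 0, 0, 0, 0], [0, 0, -1, 2, -1, 0, 0, 0], [0, 0, 0, -1, 2, -1, 0, 0], [0, 0, 0, 0, -1, 2, 4, -1]] = 1 := by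
  decide +kernel

theorem smithQ_E8 : matOfList chevE8.rank [[-2, 0, 1, 0, 0, 0, 0, 0], [0, -2, 0, 1, 0, 0, 0, 0], [2, -3, 0, 0, 1, 0, 0, 0], [4, -4, 0, 0, 0, 1, 0, 0], [6, -5, 0, 0, 0, 0, 1, 0], [8, -6, 0, 0, 0, 0, 0, 1], [-3, 2, 0, 0, 0, 0, 0, 0], [-2, 1, 0, 0, 0, 0, 0, 0]] * matOfList _ [[0, 0, 0, 0, 0, 0, 1, -2], [0, 0, 0, 0, 0, 0, 2, -3], [1, 0, 0, 0, 0, 0, 2, -4], [0, 1, 0, 0, 0, 0, 4, -6], [0, 0, 1, 0, 0, 0, 4, -5], [0, 0, 0, 1, 0, 0, 4, -4], [0, 0, 0, 0, 1, 0, 4, -3], [0, 0, 0, 0, 0, 1, 4, -2]] = 1 := by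
  decide +kernel

theorem smithQ'_E8 : matOfList chevE8.rank [[0, 0, 0, 0, 0, 0, 1, -2], [0, 0, 0, 0, 0, 0, 2, -3], [1, 0, 0, 0, 0, 0, 2, -4], [0, 1, 0, 0, 0, 0, 4, -6], [0, 0, 1, 0, 0, 0, 4, -5], [0, 0, 0, 1, 0, 0, 4, -4], [0, 0, 0, 0, 1, 0, 4, -3], [0, 0, 0, 0, 0, 1, 4, -2]] * matOfList _ [[-2, 0, 1, 0, 0, 0, 0, 0], [0, -2, 0, 1, 0, 0, 0, 0], [2, -3, 0, 0, 1, 0, 0, 0], [4, -4, 0, 0, 0, 1, 0, 0], [6, -5, 0, 0, 0, 0, 1, 0], [8, -6, 0, 0, 0, 0, 0, 1], [-3, 2, 0, 0, 0, 0, 0, 0], [-2, 1, 0, 0, 0, 0, 0, 0]] = 1 := by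
  decide +kernel

theorem card_ker_E8 : Nat.card (monoMap (C := Fˣ) (cartanMat chevE8)).ker =
    (([1, 1, 1, 1, 1, 1, 1, 1] : List ℕ).map fun d => (Fintype.card F - 1).gcd d).prod := by
  rw [card_ker_monoMap (C := Fˣ) _ _ _ _ _ (fun k => ([1, 1, 1, 1, 1, 1, 1, 1] : List ℕ).getD k.val 0) smithA_E8 smithP_E8 smithP'_E8 smithQ_E8 smithQ'_E8,
    Nat.card_units, Nat.card_eq_fintype_card]
  exact prod_gcd_eval _ _ _ rfl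

end

end Cfsg.Agent.Lib.Helper18
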