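import Cfsg.Agent.Lib.Helper18.AutOutSwap
import Cfsg.Agent.Lib.Helper18.ChevHSmith
import Cfsg.Agent.Lib.Helper36.ChevChar

/-! # Diagonal automorphisms modulo inner ones (helper18) -/

set_option autoImplicit false

namespace Cfsg.Agent.Lib.Helper18.Au

open Cfsg Cfsg.Lie Cfsg.Agent.Lib.Helper36 Cfsg.Agent.Lib.Helper18

section
variable (D : ChevalleyDatum) (hD : D ∈ [chevG2, chevB2, chevD4, chevF4, chevE6, chevE7, chevE8])
variable (F : Type*) [Field F]

include hD in
/-- the action of a diagonal automorphism on all root elements -/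
theorem diagAut_xGr (d : ↥(D.group F) ≃* ↥(D.group F)) (χ : ℕ → Fˣ) (hχ : D.IsRootCharacter χ)
    (hd : ∀ g : ↥(D.group F), ((d g : GL D.Idx F) : Matrix D.Idx D.Idx F) =
      D.charDiag F χ * ((g : GL D.Idx F) : Matrix D.Idx D.Idx F) * D.charDiag F (fun r => (χ r)⁻¹))
    (r : ℕ) (hr : r < D.nroots) (t : F) : d (xGr D hD F r t) = xGr D hD F r ((χ r : F) * t) := by
  apply eq_xGr_of_coe hD
  rw [hd, xGr_coe_mat]
  exact Cfsg.Agent.S2157.conj_of_chk D (s2157chk_all D hD) χ hχ r hr t

include hD in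
theorem pres_diag [Finite F] (d : ↥(D.group F) ≃* ↥(D.group F)) (hd : D.IsDiagonalAut d) :
    Pres D F d (D.posUnipotent F) ∧ Pres D F d (D.negUnipotent F) := by
  obtain ⟨χ, hχ, hd⟩ := hd
  constructor
  · apply pres_of_gens D hD F D.IsPosRoot d
    intro r t hr
    rw [diagAut_xGr D hD F d χ hχ hd r hr.1 t]
    exact xGL_mem_pos D hD F _ hr _
  · apply pres_of_gens D hD F D.IsNegRoot d
    intro r t hr
    rw [diagAut_xGr D hD F d χ hχ hd r hr.1 t]
    exact Subgroup.subset_closure ⟨_, _, hr, xGL_coe D hD F _ _⟩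

/-- the diagonal automorphism with prescribed values on the fundamental roots -/
noncomputable def diagOf (c : Fin D.rank → Fˣ) : MulAut ↥(D.group F) :=
  Classical.choose (T4_diag D hD F c)

theorem diagOf_isDiagonalAut (c : Fin D.rank → Fˣ) : D.IsDiagonalAut (diagOf D hD F c) :=
  (Classical.choose_spec (T4_diag D hD F c)).1

theorem diagOf_pos (c : Fin D.rank → Fˣ) (i : Fin D.rank) (t : F) :
    diagOf D hD F c (xGr D hD F (D.simple i) t) = xGr D hD F (D.simple i) ((c i : F) * t) :=
  ((Classical.choose_spec (T4_diag D hD F c)).2 i t).1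

theorem diagOf_neg (c : Fin D.rank → Fˣ) (i : Fin D.rank) (t : F) :
    diagOf D hD F c (xGr D hD F (D.neg (D.simple i)) t) =
      xGr D hD F (D.neg (D.simple i)) (((c i)⁻¹ : Fˣ) * t) :=
  ((Classical.choose_spec (T4_diag D hD F c)).2 i t).2

theorem diagOf_mul (a b : Fin D.rank → Fˣ) : diagOf D hD F (a * b) = diagOf D hD F a * diagOf D hD F b := by
  apply mulEquiv_ext_simple D hD F
  intro i t
  rw [MulAut.mul_apply, MulAut.mul_apply, diagOf_pos, diagOf_pos, diagOf_pos, diagOf_neg, diagOf_neg, diagOf_neg]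
  constructor
  · congr 1
    simp only [Pi.mul_apply, Units.val_mul]
    ring
  · congr 1
    simp only [Pi.mul_apply, mul_inv, Units.val_mul]
    ring

theorem diagOf_one : diagOf D hD F 1 = 1 := by
  apply mulEquiv_ext_simple D hD F
  intro i t
  rw [diagOf_pos, diagOf_neg]
  simp

/-- `diagOf` as a homomorphism -/
noncomputable def diagHom : (Fin D.rank → Fˣ) →* MulAut ↥(D.group F) where
  toFun := diagOf D hD F
  map_one' := diagOf_one D hD F
  map_mul' := diagOf_mul D hD F

theorem diagHom_apply (c : Fin D.rank → Fˣ) : diagHom D hD F c = diagOf D hD F c := rfl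

include hD in
theorem diagOf_inj (a b : Fin D.rank → Fˣ) (h : diagOf D hD F a = diagOf D hD F b) : a = b := by
  funext i
  have h1 := congrArg (fun θ : MulAut ↥(D.group F) => θ (xGr D hD F (D.simple i) 1)) h
  simp only [diagOf_pos, mul_one] at h1
  exact Units.ext (xGr_injective D hD F _ (simple_lt' D hD i) _ _ h1)

include hD in
theorem eq_diagOf (d : ↥(D.group F) ≃* ↥(D.group F)) (hd : D.IsDiagonalAut d) :
    ∃ c : Fin D.rank → Fˣ, d = diagOf D hD F c := by
  obtain ⟨χ, hχ, hd'⟩ := hd
  refine ⟨fun i => χ (D.simple i), mulEquiv_ext_simple D hD F _ _ fun i t => ?_⟩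
  rw [diagOf_pos, diagOf_neg, diagAut_xGr D hD F d χ hχ hd' _ (simple_lt' D hD i),
    diagAut_xGr D hD F d χ hχ hd' _ (neg_simple_lt' D hD i), hχ.1 _ (simple_lt' D hD i)]
  exact ⟨rfl, rfl⟩

include hD in
/-- the torus element as an element of the group -/
theorem torusHom_mem (t : Fin D.rank → Fˣ) : torusHom D F t ∈ D.group F := by
  apply diagonal_le_group D hD F
  rw [← torusHom_range D hD F]
  exact ⟨t, rfl⟩

include hD in
/-- conjugation by a torus element is the diagonal automorphism of the image under the Cartan map -/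
theorem conj_torus (t : Fin D.rank → Fˣ) :
    MulAut.conj (⟨torusHom D F t, torusHom_mem D hD F t⟩ : ↥(D.group F)) =
      diagOf D hD F (monoMap (C := Fˣ) (cartanMat D) t) := by
  have hH : torusHom D F t ∈ D.diagonalSubgroup F := by
    rw [← torusHom_range D hD F]; exact ⟨t, rfl⟩
  obtain ⟨χ, hχ, hk⟩ := exists_character_of_mem_diagonal D hD F _ hH
  have hval : ∀ s : Fin D.nroots, ((χ s.val : Fˣ) : F) = ∏ j : Fin D.rank, (t j : F) ^ D.cartan j.val s.val := by
    intro s
    have e := torusHom_coe D F t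
    rw [hk] at e
    unfold ChevalleyDatum.charDiag at e
    have e2 := congrFun (Matrix.diagonal_injective e) (Sum.inr s)
    simpa using e2
  have hsimple : ∀ j : Fin D.rank, χ (D.simple j) = monoMap (C := Fˣ) (cartanMat D) t j := by
    intro j
    apply Units.ext
    have := hval ⟨D.simple j, simple_lt' D hD j⟩
    rw [this, monoMap_apply, Units.coe_prod]
    apply Finset.prod_congr rfl
    intro i _
    rw [Units.val_zpow_eq_zpow_val]
    rfl
  apply mulEquiv_ext_simple D hD F
  intro j u
  rw [diagOf_pos, diagOf_neg, ← hsimple j]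
  constructor
  · apply Subtype.ext
    rw [MulAut.conj_apply, Subgroup.coe_mul, Subgroup.coe_mul, Subgroup.coe_inv, xGr_coe, xGr_coe]
    exact diag_conj_xGL D hD F _ χ hχ hk _ (simple_lt' D hD j) u
  · apply Subtype.ext
    rw [MulAut.conj_apply, Subgroup.coe_mul, Subgroup.coe_mul, Subgroup.coe_inv, xGr_coe, xGr_coe]
    have := diag_conj_xGL D hD F _ χ hχ hk _ (neg_simple_lt' D hD j) u
    rw [hχ.1 _ (simple_lt' D hD j)] at this
    exact this

include hD in
/-- a diagonal automorphism which is inner comes from the torus -/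
theorem mem_range_of_diagOf_inner [Finite F] (c : Fin D.rank → Fˣ) (y : ↥(D.group F))
    (h : diagOf D hD F c = MulAut.conj y) : c ∈ (monoMap (C := Fˣ) (cartanMat D)).range := by
  obtain ⟨hU, hV⟩ := pres_diag D hD F _ (diagOf_isDiagonalAut D hD F c)
  rw [h] at hU hV
  have hy := O1_mem_diag D hD F y hU hV
  rw [← torusHom_range D hD F] at hy
  obtain ⟨t, ht⟩ := hy
  refine ⟨t, ?_⟩
  apply diagOf_inj D hD F
  rw [← conj_torus D hD F t, h]
  congr 1
  exact Subtype.ext ht

end

end Cfsg.Agent.Lib.Helper18.Au
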