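import Cfsg.Agent.Lib.Helper18.CoxLevel

set_option autoImplicit false

namespace Cfsg.Agent.Lib.Helper18

section rep
variable {n : ℕ}

/-- matrix of the `i`-th simple reflection in weight coordinates -/
def reflMat (A : Matrix (Fin n) (Fin n) ℤ) (i : Fin n) : Matrix (Fin n) (Fin n) ℤ :=
  Matrix.of fun j k => (if j = k then 1 else 0) - (if k = i then A i j else 0)

/-- the `i`-th simple reflection on weight coordinate vectors -/
def reflVec (A : Matrix (Fin n) (Fin n) ℤ) (i : Fin n) (v : Fin n → ℤ) : Fin n → ℤ :=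
  fun j => v j - v i * A i j

theorem reflMat_mulVec (A : Matrix (Fin n) (Fin n) ℤ) (i : Fin n) (v : Fin n → ℤ) :
    (reflMat A i).mulVec v = reflVec A i v := by
  funext j
  simp only [Matrix.mulVec, dotProduct, reflMat, Matrix.of_apply, reflVec, sub_mul,
    Finset.sum_sub_distrib, ite_mul, one_mul, zero_mul, Finset.sum_ite_eq, Finset.mem_univ,
    if_true, Finset.sum_ite_eq']
  ring

variable (M : CoxeterMatrix (Fin n)) (A : Matrix (Fin n) (Fin n) ℤ) (hA : M.IsLiftable (reflMat A))

/-- the reflection representation in weight coordinates -/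
noncomputable def rho : M.Group →* Matrix (Fin n) (Fin n) ℤ := M.toCoxeterSystem.lift ⟨reflMat A, hA⟩

theorem rho_simple (i : Fin n) : rho M A hA (M.simple i) = reflMat A i :=
  M.toCoxeterSystem.lift_apply_simple hA i

theorem simple_sq (i : Fin n) : M.simple i * M.simple i = 1 :=
  M.toCoxeterSystem.simple_mul_simple_self i

theorem simple_inv (i : Fin n) : (M.simple i)⁻¹ = M.simple i :=
  inv_eq_of_mul_eq_one_right (simple_sq M i)

/-- the image of the base vector under the inverse of `w` -/
noncomputable def fvec (base : Fin n → ℤ) (w : M.Group) : Fin n → ℤ := (rho M A hA w⁻¹).mulVec base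

theorem fvec_one (base : Fin n → ℤ) : fvec M A hA base 1 = base := by
  simp [fvec]

theorem fvec_mul_simple (base : Fin n → ℤ) (w : M.Group) (i : Fin n) :
    fvec M A hA base (w * M.simple i) = reflVec A i (fvec M A hA base w) := by
  rw [← reflMat_mulVec]
  simp only [fvec, mul_inv_rev, map_mul, simple_inv, rho_simple, Matrix.mulVec_mulVec]

theorem fvec_fix (base : Fin n → ℤ) (i : Fin n) (h : reflVec A i base = base) (w : M.Group) :
    fvec M A hA base (M.simple i * w) = fvec M A hA base w := by
  rw [← reflMat_mulVec] at h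
  simp only [fvec, mul_inv_rev, map_mul, simple_inv, rho_simple, ← Matrix.mulVec_mulVec, h]

theorem fvec_of_rho_eq_one (base : Fin n → ℤ) (w : M.Group) (h : rho M A hA w = 1) :
    fvec M A hA base w = fvec M A hA base 1 := by
  have h2 : rho M A hA w⁻¹ = 1 := by
    have : rho M A hA w⁻¹ * rho M A hA w = 1 := by rw [← map_mul, inv_mul_cancel, map_one]
    rwa [h, mul_one] at this
  simp [fvec, h2]

/-- generators indexed by a list -/
def gens (J : List (Fin n)) : Set M.Group := {x | ∃ j ∈ J, x = M.simple j}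

theorem gens_inv (J : List (Fin n)) : ∀ x ∈ gens M J, x * x = 1 := by
  rintro x ⟨j, _, rfl⟩
  exact simple_sq M j

theorem gens_mono {J J' : List (Fin n)} (h : ∀ j ∈ J', j ∈ J) : gens M J' ⊆ gens M J := by
  rintro x ⟨j, hj, rfl⟩
  exact ⟨j, h j hj, rfl⟩

theorem closure_gens_all (J : List (Fin n)) (hJ : ∀ j, j ∈ J) : Subgroup.closure (gens M J) = ⊤ := by
  rw [← M.toCoxeterSystem.subgroup_closure_range_simple]
  congr 1
  ext x
  constructor
  · rintro ⟨j, _, rfl⟩
    exact ⟨j, rfl⟩
  · rintro ⟨j, rfl⟩
    exact ⟨j, hJ j, rfl⟩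

theorem closure_gens_nil : Subgroup.closure (gens M ([] : List (Fin n))) = ⊥ := by
  have : gens M ([] : List (Fin n)) = ∅ := by
    ext x
    simp [gens]
  rw [this, Subgroup.closure_empty]

end rep

end Cfsg.Agent.Lib.Helper18
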