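import Cfsg.Agent.Lib.Helper36.ChevRoot
import Cfsg.Agent.Lib.Helper36.ChevWeyl
import Cfsg.Prelude.Def_ChevAutomorphisms

/-! # Diagram symmetries acting on the roots for the types D₄, E₆ (helper18) -/

set_option autoImplicit false
set_option maxRecDepth 100000

namespace Cfsg.Agent.Lib.Helper18

open Cfsg Cfsg.Lie Cfsg.Agent.Lib.Helper36

/-- table check: coroot coordinate vectors are pairwise different, and the Cartan matrix of the fundamental roots is
`-bonds` off the diagonal -/
def chkDSym (D : ChevalleyDatum) : Bool :=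
  ((List.range D.nroots).all fun r => (List.range D.nroots).all fun s =>
    Nat.beq r s || (List.range D.rank).any fun j => !(corF D r j == corF D s j)) &&
  ((List.range D.rank).all fun i => (List.range D.rank).all fun j =>
    Nat.beq i j || (D.cartan i (D.simple j) == - D.bonds i j))

theorem chkDSym_D4 : chkDSym chevD4 = true := by decide +kernel
theorem chkDSym_E6 : chkDSym chevE6 = true := by decide +kernel

theorem two_sub_seven {D : ChevalleyDatum} (hD : D ∈ [chevD4, chevE6]) :
    D ∈ [chevG2, chevB2, chevD4, chevF4, chevE6, chevE7, chevE8] := by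
  simp only [List.mem_cons, List.not_mem_nil, or_false] at hD ⊢
  rcases hD with rfl | rfl <;> simp

theorem chkDSym_all (D : ChevalleyDatum) (hD : D ∈ [chevD4, chevE6]) : chkDSym D = true := by
  simp only [List.mem_cons, List.not_mem_nil, or_false] at hD
  rcases hD with rfl | rfl
  · exact chkDSym_D4
  · exact chkDSym_E6

variable (D : ChevalleyDatum) (hD : D ∈ [chevD4, chevE6])

include hD in
theorem cor_inj (r s : ℕ) (hr : r < D.nroots) (hs : s < D.nroots)
    (h : ∀ j < D.rank, cor D r j = cor D s j) : r = s := by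
  have hc := chkDSym_all D hD
  unfold chkDSym at hc
  simp only [Bool.and_eq_true, List.all_eq_true, List.any_eq_true, Bool.or_eq_true, List.mem_range,
    Bool.not_eq_true', beq_eq_false_iff_ne] at hc
  rcases hc.1 r hr s hs with h1 | ⟨j, hj, hne⟩
  · exact Nat.eq_of_beq_eq_true h1
  · exfalso
    apply hne
    have h7 := two_sub_seven hD
    unfold corF
    rw [fast_coroot D (wfFast_all D h7) r j hr hj, fast_coroot D (wfFast_all D h7) s j hs hj]
    exact h j hj

include hD in
theorem cartan_eq_neg_bonds (i j : ℕ) (hi : i < D.rank) (hj : j < D.rank) (hij : i ≠ j) :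
    D.cartan i (D.simple j) = - D.bonds i j := by
  have hc := chkDSym_all D hD
  unfold chkDSym at hc
  simp only [Bool.and_eq_true, List.all_eq_true, Bool.or_eq_true, List.mem_range, beq_iff_eq] at hc
  rcases hc.2 i hi j hj with h1 | h1
  · exact absurd (Nat.eq_of_beq_eq_true h1) hij
  · exact h1

include hD in
theorem cartan_perm (π : Equiv.Perm (Fin D.rank)) (hπ : D.IsDiagramSymmetry π) (i j : Fin D.rank) :
    D.cartan (π j) (D.simple (π i)) = D.cartan j (D.simple i) := by
  by_cases hij : j = i
  · subst hij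
    obtain ⟨-, -, -, h1, -⟩ := chkN2_spec D (chkN2_all D (two_sub_seven hD)) j j.isLt
    obtain ⟨-, -, -, h2, -⟩ := chkN2_spec D (chkN2_all D (two_sub_seven hD)) (π j) (π j).isLt
    rw [h1, h2]
  · have hne : (π j : ℕ) ≠ (π i : ℕ) := fun h => hij (π.injective (Fin.ext h))
    have hne' : (j : ℕ) ≠ (i : ℕ) := fun h => hij (Fin.ext h)
    rw [cartan_eq_neg_bonds D hD _ _ (π j).isLt (π i).isLt hne,
      cartan_eq_neg_bonds D hD _ _ j.isLt i.isLt hne', hπ j i hij]

/-- the defining property of `permRoot π r` -/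
def PermRel (π : Equiv.Perm (Fin D.rank)) (r s : ℕ) : Prop :=
  s < D.nroots ∧ ∀ i : Fin D.rank, cor D s (π i) = cor D r i

include hD in
theorem permRoot_eq (π : Equiv.Perm (Fin D.rank)) (r s : ℕ) (h : PermRel D π r s) : D.permRoot π r = s := by
  unfold ChevalleyDatum.permRoot
  set p : ℕ → Bool := fun s => (List.finRange D.rank).all fun i =>
      (D.coroot.getD s #[]).getD (π i).val 0 == (D.coroot.getD r #[]).getD i.val 0 with hp
  have hps : p s = true := by
    rw [hp]
    simp only [List.all_eq_true, beq_iff_eq]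
    intro i _
    exact h.2 i
  cases hf : (List.range D.nroots).find? p with
  | none =>
    rw [List.find?_eq_none] at hf
    exact absurd hps (hf s (List.mem_range.2 h.1))
  | some s' =>
    have h1 := List.find?_some hf
    have h2 := List.mem_range.1 (List.mem_of_find?_eq_some hf)
    rw [Option.getD_some]
    rw [hp] at h1
    simp only [List.all_eq_true, beq_iff_eq] at h1
    apply cor_inj D hD s' s h2 h.1
    intro j hj
    obtain ⟨i, hi⟩ := π.surjective ⟨j, hj⟩
    have e1 := h1 i (List.mem_finRange i)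
    have e2 := h.2 i
    rw [hi] at e1 e2
    unfold cor at e2 ⊢
    rw [e1, e2]

include hD in
theorem permRel_simple (π : Equiv.Perm (Fin D.rank)) (i : Fin D.rank) :
    PermRel D π (D.simple i) (D.simple (π i)) := by
  have h7 := two_sub_seven hD
  obtain ⟨hp, -⟩ := chkN2_spec D (chkN2_all D h7) (π i) (π i).isLt
  refine ⟨hp, fun j => ?_⟩
  rw [cor_simple D h7 (π i) (π j) (π i).isLt (π j).isLt, cor_simple D h7 i j i.isLt j.isLt]
  by_cases hji : j = i
  · subst hji; simp
  · have hne : (π j : ℕ) ≠ (π i : ℕ) := fun h => hji (π.injective (Fin.ext h))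
    have hne' : (j : ℕ) ≠ (i : ℕ) := fun h => hji (Fin.ext h)
    rw [if_neg hne, if_neg hne']

include hD in
theorem corT_perm (π : Equiv.Perm (Fin D.rank)) (hπ : D.IsDiagramSymmetry π) (i : Fin D.rank) (r s : ℕ)
    (h : PermRel D π r s) : corT D (π i) s = corT D i r := by
  unfold corT
  rw [list_range_sum_eq, list_range_sum_eq, ← Equiv.sum_comp π]
  apply Finset.sum_congr rfl
  intro j _
  rw [cartan_perm D hD π hπ i j, h.2 j]

include hD in
theorem permRel_reflect (π : Equiv.Perm (Fin D.rank)) (hπ : D.IsDiagramSymmetry π) (i : Fin D.rank) (r s : ℕ)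
    (hr : r < D.nroots) (h : PermRel D π r s) :
    PermRel D π (D.reflectRoot i r) (D.reflectRoot (π i) s) := by
  have h7 := two_sub_seven hD
  obtain ⟨-, -, -, -, hs'⟩ := chkN2_spec D (chkN2_all D h7) (π i) (π i).isLt
  obtain ⟨h1', h2', -⟩ := hs' s h.1
  refine ⟨h2' ▸ h1', fun j => ?_⟩
  rw [cor_reflect D h7 (π i) s (π j) (π i).isLt h.1 (π j).isLt, cor_reflect D h7 i r j i.isLt hr j.isLt,
    h.2 j, corT_perm D hD π hπ i r s h]
  by_cases hji : j = i
  · subst hji; simp
  · have hne : (π j : ℕ) ≠ (π i : ℕ) := fun h => hji (π.injective (Fin.ext h))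
    have hne' : (j : ℕ) ≠ (i : ℕ) := fun h => hji (Fin.ext h)
    rw [if_neg hne, if_neg hne']

end Cfsg.Agent.Lib.Helper18
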