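import Cfsg.Agent.Lib.Helper18.AutOutGen
import Cfsg.Agent.S2161

/-! # Outer automorphism groups of E₆ and E₇ (helper18) -/

set_option autoImplicit false
set_option maxRecDepth 100000

namespace Cfsg.Agent.Lib.Helper18.Au

open Cfsg Cfsg.Lie Cfsg.Agent.Lib.Helper36 Cfsg.Agent.Lib.Helper18

section
variable (D : ChevalleyDatum) (hD2 : D ∈ [chevD4, chevE6])
variable (F : Type*) [Field F]

include hD2 in
theorem exists_permRel (π : Equiv.Perm (Fin D.rank)) (hπ : D.IsDiagramSymmetry π) :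
    ∀ r < D.nroots, ∃ s, PermRel D π r s := by
  have h7 := two_sub_seven hD2
  apply root_induction D h7
  · intro i hi
    exact ⟨_, permRel_simple D hD2 π ⟨i, hi⟩⟩
  · rintro i hi r hr ⟨s, hs⟩
    exact ⟨_, permRel_reflect D hD2 π hπ ⟨i, hi⟩ r s hr hs⟩

include hD2 in
/-- `permRoot π` preserves the sign of a root -/
theorem permRoot_sign (π : Equiv.Perm (Fin D.rank)) (hπ : D.IsDiagramSymmetry π) (r : ℕ) (hr : r < D.nroots) :
    D.permRoot π r < D.nroots ∧ (D.IsPosRoot r → D.IsPosRoot (D.permRoot π r)) ∧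
      (D.IsNegRoot r → D.IsNegRoot (D.permRoot π r)) := by
  have h7 := two_sub_seven hD2
  obtain ⟨s, hs⟩ := exists_permRel D hD2 π hπ r hr
  rw [permRoot_eq D hD2 π r s hs]
  refine ⟨hs.1, fun hp => ?_, fun hn => ?_⟩
  · rw [isPosRoot_iff D (wfFast_all D h7) s hs.1]
    intro j hj
    obtain ⟨i, hi⟩ := π.surjective ⟨j, hj⟩
    have := hs.2 i
    rw [hi] at this
    rw [this]
    exact (isPosRoot_iff D (wfFast_all D h7) r hr).1 hp i i.2
  · rw [isNegRoot_iff D (wfFast_all D h7) s hs.1]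
    intro j hj
    obtain ⟨i, hi⟩ := π.surjective ⟨j, hj⟩
    have := hs.2 i
    rw [hi] at this
    rw [this]
    exact (isNegRoot_iff D (wfFast_all D h7) r hr).1 hn i i.2

include hD2 in
/-- graph automorphisms of the simply laced types preserve `U` and `V` -/
theorem graph_pres_simplyLaced [Finite F] (hno : noLong D = true) (π : Equiv.Perm (Fin D.rank))
    (hπ : D.IsDiagramSymmetry π) (g : ↥(D.group F) ≃* ↥(D.group F))
    (hg : GraphActs D (two_sub_seven hD2) F g π) :
    Pres D F g (D.posUnipotent F) ∧ Pres D F g (D.negUnipotent F) := by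
  have h7 := two_sub_seven hD2
  unfold noLong at hno
  rw [List.all_eq_true] at hno
  have hexp : ∀ i j : Fin D.rank, D.graphExp (ringChar F) i j = 1 := by
    intro i j
    unfold ChevalleyDatum.graphExp
    have := hno _ (List.mem_range.2 j.2)
    rw [Bool.not_eq_true'] at this
    rw [this]
    simp
  have hφ : ∀ (x : ↥(D.group F)) (i : Fin D.rank) (t : F),
      (((x : GL D.Idx F) : Matrix D.Idx D.Idx F) = D.x F (D.simple i) t →
        ((g x : GL D.Idx F) : Matrix D.Idx D.Idx F) = D.x F (D.simple (π i)) t) ∧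
      (((x : GL D.Idx F) : Matrix D.Idx D.Idx F) = D.x F (D.neg (D.simple i)) t →
        ((g x : GL D.Idx F) : Matrix D.Idx D.Idx F) = D.x F (D.neg (D.simple (π i))) t) := by
    intro x i t
    constructor
    · intro hx
      rw [eq_xGr_of_coe h7 x _ _ hx, (hg i t).1, hexp, pow_one, xGr_coe_mat]
    · intro hx
      rw [eq_xGr_of_coe h7 x _ _ hx, (hg i t).2, hexp, pow_one, xGr_coe_mat]
  have hall : ∀ r < D.nroots, ∀ t : F, ∃ u : F, g (xGr D h7 F r t) = xGr D h7 F (D.permRoot π r) u := by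
    intro r hr t
    obtain ⟨ε, -, h⟩ := Cfsg.Agent.S2161.result D hD2 π hπ g hφ r hr
    exact ⟨ε * t, eq_xGr_of_coe h7 _ _ _ (h _ t (xGr_coe_mat h7 _ _))⟩
  constructor
  · apply pres_of_gens D h7 F D.IsPosRoot g
    intro r t hr
    obtain ⟨u, hu⟩ := hall r hr.1 t
    rw [hu]
    exact xGL_mem_pos D h7 F _ ((permRoot_sign D hD2 π hπ r hr.1).2.1 hr) _
  · apply pres_of_gens D h7 F D.IsNegRoot g
    intro r t hr
    obtain ⟨u, hu⟩ := hall r hr.1 t
    rw [hu]
    exact Subgroup.subset_closure ⟨_, _, (permRoot_sign D hD2 π hπ r hr.1).2.2 hr, xGL_coe D h7 F _ _⟩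

end

theorem hgraph_E7 (F : Type*) [Field F] (hD : chevE7 ∈ [chevG2, chevB2, chevD4, chevF4, chevE6, chevE7, chevE8])
    (g : ↥(chevE7.group F) ≃* ↥(chevE7.group F)) (hg : chevE7.IsGraphAut g) : g = MulEquiv.refl _ := by
  obtain ⟨π, hπ, h⟩ := isGraphAut_xGr chevE7 hD F g hg
  have hmem := symSearch_sound chevE7 π hπ _ chevE7.rank 0 (by simp) search_E7
  simp only [List.mem_cons, List.not_mem_nil, or_false] at hmem
  have : π = 1 := perm_eq_one_of_pre chevE7 π hmem
  subst this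
  exact graph_trivial chevE7 hD F g h

/-- `|Out E₇(q)| = gcd(2, q - 1) f` -/
theorem out_card_E7 {F : Type*} [Field F] [Fintype F] (p f : ℕ) [Fact p.Prime] [CharP F p]
    (hF : Fintype.card F = p ^ f) :
    Nat.card (Cfsg.Out ↥(chevE7.group F)) = Nat.gcd 2 (p ^ f - 1) * f := by
  have hD : chevE7 ∈ [chevG2, chevB2, chevD4, chevF4, chevE6, chevE7, chevE8] := by simp
  rw [out_card_general chevE7 hD F p f hF Unit (fun _ => 1) (fun _ => 1) (fun _ _ _ => rfl)
    (fun _ i t => by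
      simp only [Equiv.Perm.coe_one, id_eq, MulAut.one_apply]
      rw [graphExp_self, pow_one]
      exact ⟨rfl, rfl⟩)
    (fun _ => Pres.one chevE7 F _) (fun _ => Pres.one chevE7 F _)
    (fun g hg => ⟨(), hgraph_E7 F hD g hg⟩), card_ker_E7, hF]
  simp [Nat.gcd_comm]

end Cfsg.Agent.Lib.Helper18.Au
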