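import Cfsg.Agent.Lib.Helper18.AutOutE

/-! # The outer automorphism group of E₆ (helper18) -/

set_option autoImplicit false
set_option maxRecDepth 100000

namespace Cfsg.Agent.Lib.Helper18.Au

open Cfsg Cfsg.Lie Cfsg.Agent.Lib.Helper36 Cfsg.Agent.Lib.Helper18 Cfsg.Agent.Lib.Helper18.GO

section
variable (D : ChevalleyDatum) (hD : D ∈ [chevG2, chevB2, chevD4, chevF4, chevE6, chevE7, chevE8])
variable (F : Type*) [Field F]

/-- a permutation is determined by its list of values -/
theorem perm_eq_of_pre (π π' : Equiv.Perm (Fin D.rank)) (h : pre D π D.rank = pre D π' D.rank) : π = π' := by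
  apply Equiv.ext
  intro i
  apply Fin.ext
  have e1 := pre_getD D π D.rank i i.2
  have e2 := pre_getD D π' D.rank i i.2
  rw [pv_fin] at e1 e2
  rw [← e1, ← e2, h]

include hD in
/-- a graph automorphism is determined by its permutation -/
theorem graphActs_unique (g g' : ↥(D.group F) ≃* ↥(D.group F)) (π : Equiv.Perm (Fin D.rank))
    (h : GraphActs D hD F g π) (h' : GraphActs D hD F g' π) : g = g' := by
  apply mulEquiv_ext_simple D hD F
  intro i t
  rw [(h i t).1, (h i t).2, (h' i t).1, (h' i t).2]
  exact ⟨rfl, rfl⟩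

end

/-- the nontrivial diagram symmetry of `E₆` -/
def permE6 : Equiv.Perm (Fin chevE6.rank) :=
  Equiv.swap ⟨0, by decide⟩ ⟨5, by decide⟩ * Equiv.swap ⟨2, by decide⟩ ⟨4, by decide⟩

theorem pre_permE6 : pre chevE6 permE6 chevE6.rank = [5, 1, 4, 3, 2, 0] := by decide

theorem permE6_ne_one : permE6 ≠ 1 := by decide

theorem permE6_sym : chevE6.IsDiagramSymmetry permE6 := by
  unfold ChevalleyDatum.IsDiagramSymmetry
  decide

/-- `|Out E₆(q)| = 2 gcd(3, q - 1) f` -/
theorem out_card_E6 {F : Type*} [Field F] [Fintype F] (p f : ℕ) [Fact p.Prime] [CharP F p]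
    (hF : Fintype.card F = p ^ f) :
    Nat.card (Cfsg.Out ↥(chevE6.group F)) = 2 * Nat.gcd 3 (p ^ f - 1) * f := by
  have hD : chevE6 ∈ [chevG2, chevB2, chevD4, chevF4, chevE6, chevE7, chevE8] := by simp
  obtain ⟨γ₀, hγ₀⟩ := concl_of_graphFor chevE6 hD F permE6 _ pre_permE6
    (graphFor_data chevE6 hD F gE6 chkGraph_E6 noLong_E6)
  have hγ₀' : GraphActs chevE6 hD F γ₀ permE6 := hγ₀
  have hpres := graph_pres_simplyLaced chevE6 (by simp) F noLong_E6 permE6 permE6_sym γ₀ hγ₀'
  have h1 : GraphActs chevE6 hD F (1 : MulAut ↥(chevE6.group F)) 1 := by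
    intro i t
    simp only [Equiv.Perm.coe_one, id_eq, MulAut.one_apply]
    rw [graphExp_self, pow_one]
    exact ⟨rfl, rfl⟩
  rw [out_card_general chevE6 hD F p f hF Bool (fun b => if b then γ₀ else 1)
    (fun b => if b then permE6 else 1)
    (by
      intro a b h
      cases a <;> cases b <;> simp at h ⊢
      · exact permE6_ne_one h.symm
      · exact permE6_ne_one h)
    (by
      intro b
      cases b
      · simpa using h1
      · simpa using hγ₀')
    (by
      intro b
      cases b
      · simpa using Pres.one chevE6 F _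
      · simpa using hpres.1)
    (by
      intro b
      cases b
      · simpa using Pres.one chevE6 F _
      · simpa using hpres.2)
    (by
      intro g hg
      obtain ⟨π, hπ, h⟩ := isGraphAut_xGr chevE6 hD F g hg
      have hmem := symSearch_sound chevE6 π hπ _ chevE6.rank 0 (by simp) search_E6
      simp only [List.mem_cons, List.not_mem_nil, or_false] at hmem
      rcases hmem with hL | hL
      · refine ⟨false, ?_⟩
        have : π = 1 := perm_eq_one_of_pre chevE6 π hL
        subst this
        exact graph_trivial chevE6 hD F g h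
      · refine ⟨true, ?_⟩
        have : π = permE6 := perm_eq_of_pre chevE6 π permE6 (hL.trans pre_permE6.symm)
        subst this
        simpa using graphActs_unique chevE6 hD F g γ₀ permE6 h hγ₀'),
    card_ker_E6, hF]
  simp only [List.map_cons, List.map_nil, List.prod_cons, List.prod_nil, Nat.gcd_one_right, one_mul,
    mul_one, Fintype.card_bool]
  rw [Nat.gcd_comm]
  ring

end Cfsg.Agent.Lib.Helper18.Au
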