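import Cfsg.Agent.Lib.Helper18.AutOutDiag

/-! # The order of the outer automorphism group of a Chevalley group: general count (helper18) -/

set_option autoImplicit false
set_option maxRecDepth 100000

namespace Cfsg.Agent.Lib.Helper18.Au

open Cfsg Cfsg.Lie Cfsg.Agent.Lib.Helper36 Cfsg.Agent.Lib.Helper18

/-- the root elements of distinct fundamental roots can be told apart -/
def chkSimpleDistinct (D : ChevalleyDatum) : Bool :=
  (List.range D.rank).all fun i => (List.range D.rank).all fun j =>
    decide (i = j) || (decide (D.simple i ≠ D.simple j) &&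
      decide (D.chainCoeff (D.simple i) (D.neg (D.simple j)) (D.simple j) = []))

theorem chkSimpleDistinct_all (D : ChevalleyDatum)
    (hD : D ∈ [chevG2, chevB2, chevD4, chevF4, chevE6, chevE7, chevE8]) : chkSimpleDistinct D = true := by
  simp only [List.mem_cons, List.not_mem_nil, or_false] at hD
  rcases hD with rfl | rfl | rfl | rfl | rfl | rfl | rfl <;> decide +kernel

section
variable (D : ChevalleyDatum) (hD : D ∈ [chevG2, chevB2, chevD4, chevF4, chevE6, chevE7, chevE8])
variable (F : Type*) [Field F]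

include hD in
theorem simple_root_elements_ne (i j : Fin D.rank) (hij : i ≠ j) (a b : F)
    (h : xGr D hD F (D.simple i) b = xGr D hD F (D.simple j) a) : a = 0 := by
  have hchk := chkSimpleDistinct_all D hD
  unfold chkSimpleDistinct at hchk
  simp only [List.all_eq_true, List.mem_range, Bool.or_eq_true, Bool.and_eq_true, decide_eq_true_eq] at hchk
  have := hchk i i.2 j j.2
  rcases this with h1 | ⟨h1, h2⟩
  · exact absurd (Fin.ext h1) hij
  · apply xGL_eq_root D hD F (D.simple j) (D.simple i) (simple_lt' D hD j) (simple_lt' D hD i) h1 h2 a b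
    have := congrArg (fun z : ↥(D.group F) => (z : GL D.Idx F)) h
    exact this

theorem card_quotient_range_eq_card_ker {C : Type*} [CommGroup C] [Finite C] (M : C →* C) :
    Nat.card (C ⧸ M.range) = Nat.card M.ker := by
  have h1 : Nat.card C = Nat.card (C ⧸ M.range) * Nat.card M.range :=
    Subgroup.card_eq_card_quotient_mul_card_subgroup M.range
  have h2 : Nat.card C = Nat.card (C ⧸ M.ker) * Nat.card M.ker :=
    Subgroup.card_eq_card_quotient_mul_card_subgroup M.ker
  have h3 : Nat.card (C ⧸ M.ker) = Nat.card M.range :=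
    Nat.card_congr (QuotientGroup.quotientKerEquivRange M).toEquiv
  rw [h3, mul_comm] at h2
  have hpos : 0 < Nat.card M.range := Nat.card_pos
  have : Nat.card (C ⧸ M.range) * Nat.card M.range = Nat.card M.ker * Nat.card M.range := by
    rw [← h1, h2]
  exact Nat.eq_of_mul_eq_mul_right hpos this

include hD in
/-- the general count of outer automorphisms -/
theorem out_card_general [Fintype F] (p f : ℕ) [Fact p.Prime] [CharP F p] (hF : Fintype.card F = p ^ f)
    (ι : Type) [Fintype ι] (γ : ι → MulAut ↥(D.group F)) (πs : ι → Equiv.Perm (Fin D.rank))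
    (hπinj : Function.Injective πs)
    (hact : ∀ j, GraphActs D hD F (γ j) (πs j))
    (hU : ∀ j, Pres D F (γ j) (D.posUnipotent F)) (hV : ∀ j, Pres D F (γ j) (D.negUnipotent F))
    (hcomplete : ∀ g : ↥(D.group F) ≃* ↥(D.group F), D.IsGraphAut g → ∃ j, g = γ j) :
    Nat.card (Cfsg.Out ↥(D.group F)) =
      Nat.card (monoMap (C := Fˣ) (cartanMat D)).ker * Fintype.card ι * f := by
  classical
  set M := monoMap (C := Fˣ) (cartanMat D) with hM
  let Q := (Fin D.rank → Fˣ) ⧸ M.range
  have hn : (Cfsg.Inn ↥(D.group F)).Normal := inferInstance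
  let A : Q × ι × (F ≃+* F) → MulAut ↥(D.group F) := fun q =>
    diagOf D hD F (Quotient.out q.1) * γ q.2.1 * (fieldAut D hD F q.2.2 : MulAut ↥(D.group F))
  let Ψ : Q × ι × (F ≃+* F) → Cfsg.Out ↥(D.group F) := fun q => QuotientGroup.mk (A q)
  have hAU : ∀ q, Pres D F (A q) (D.posUnipotent F) := fun q =>
    Pres.mul (Pres.mul (pres_diag D hD F _ (diagOf_isDiagonalAut D hD F _)).1 (hU _)) (pres_fieldAut_pos D hD F _)
  have hAV : ∀ q, Pres D F (A q) (D.negUnipotent F) := fun q =>
    Pres.mul (Pres.mul (pres_diag D hD F _ (diagOf_isDiagonalAut D hD F _)).2 (hV _)) (pres_fieldAut_neg D hD F _)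
  have hApos : ∀ (q : Q × ι × (F ≃+* F)) (i : Fin D.rank) (t : F),
      A q (xGr D hD F (D.simple i) t) = xGr D hD F (D.simple (πs q.2.1 i))
        ((Quotient.out q.1 (πs q.2.1 i) : F) * (q.2.2 t) ^ D.graphExp (ringChar F) i (πs q.2.1 i)) := by
    intro q i t
    show diagOf D hD F (Quotient.out q.1) (γ q.2.1 (fieldAut D hD F q.2.2 _)) = _
    rw [fieldAut_xGr, (hact q.2.1 i _).1, diagOf_pos]
  have hinj : Function.Injective Ψ := by
    rintro ⟨q, j, σ⟩ ⟨q', k, τ⟩ h
    have h1 : (A (q, j, σ))⁻¹ * A (q', k, τ) ∈ Cfsg.Inn ↥(D.group F) := QuotientGroup.eq.1 h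
    obtain ⟨y, hy⟩ := h1
    have hyU : Pres D F (MulAut.conj y) (D.posUnipotent F) := by
      rw [hy]; exact Pres.mul (Pres.inv (hAU _)) (hAU _)
    have hyV : Pres D F (MulAut.conj y) (D.negUnipotent F) := by
      rw [hy]; exact Pres.mul (Pres.inv (hAV _)) (hAV _)
    have hyH := O1_mem_diag D hD F y hyU hyV
    obtain ⟨χ, hχ, hk⟩ := exists_character_of_mem_diagonal D hD F _ hyH
    have hconj : ∀ (i : Fin D.rank) (t : F),
        MulAut.conj y (xGr D hD F (D.simple i) t) = xGr D hD F (D.simple i) ((χ (D.simple i) : F) * t) := by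
      intro i t
      apply Subtype.ext
      rw [MulAut.conj_apply, Subgroup.coe_mul, Subgroup.coe_mul, Subgroup.coe_inv, xGr_coe, xGr_coe]
      exact diag_conj_xGL D hD F _ χ hχ hk _ (simple_lt' D hD i) t
    have hAB : A (q, j, σ) * MulAut.conj y = A (q', k, τ) := by rw [hy]; group
    have hev : ∀ (i : Fin D.rank) (t : F),
        xGr D hD F (D.simple (πs j i))
          ((Quotient.out q (πs j i) : F) * (σ ((χ (D.simple i) : F) * t)) ^ D.graphExp (ringChar F) i (πs j i)) =
        xGr D hD F (D.simple (πs k i))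
          ((Quotient.out q' (πs k i) : F) * (τ t) ^ D.graphExp (ringChar F) i (πs k i)) := by
      intro i t
      have := congrArg (fun θ : MulAut ↥(D.group F) => θ (xGr D hD F (D.simple i) t)) hAB
      simp only [MulAut.mul_apply] at this
      rw [hconj, hApos, hApos] at this
      exact this
    -- the permutations agree
    have hjk : j = k := by
      apply hπinj
      apply Equiv.ext
      intro i
      by_contra hne
      have := simple_root_elements_ne D hD F _ _ hne _ _ (hev i 1)
      simp only [map_one, one_pow, mul_one] at this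
      exact (Units.ne_zero _) this
    subst hjk
    -- the field automorphisms agree
    have hpar : ∀ (i : Fin D.rank) (t : F),
        (Quotient.out q (πs j i) : F) * (σ ((χ (D.simple i) : F) * t)) ^ D.graphExp (ringChar F) i (πs j i) =
        (Quotient.out q' (πs j i) : F) * (τ t) ^ D.graphExp (ringChar F) i (πs j i) :=
      fun i t => xGr_injective D hD F _ (simple_lt' D hD _) _ _ (hev i t)
    have hστ : σ = τ := by
      apply RingEquiv.ext
      intro t
      set i₀ : Fin D.rank := ⟨0, rank_pos D hD⟩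
      have e1 := hpar i₀ 1
      have e2 := hpar i₀ t
      simp only [map_one, one_pow, mul_one] at e1
      rw [map_mul, mul_pow, ← mul_assoc, e1] at e2
      have e3 := mul_left_cancel₀ (Units.ne_zero _) e2
      exact (pow_graphExp_bijective D F i₀ (πs j i₀)).1 e3
    subst hστ
    -- the diagonal parts agree modulo the torus
    have hdiag : (diagOf D hD F (Quotient.out q))⁻¹ * diagOf D hD F (Quotient.out q') ∈
        Cfsg.Inn ↥(D.group F) := by
      have e : (diagOf D hD F (Quotient.out q))⁻¹ * diagOf D hD F (Quotient.out q') =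
          (γ j * (fieldAut D hD F σ : MulAut ↥(D.group F))) * MulAut.conj y *
            (γ j * (fieldAut D hD F σ : MulAut ↥(D.group F)))⁻¹ := by
        rw [hy]
        simp only [A]
        group
      rw [e]
      exact hn.conj_mem _ ⟨y, rfl⟩ _
    rw [← diagHom_apply, ← diagHom_apply, ← map_inv, ← map_mul, diagHom_apply] at hdiag
    obtain ⟨z, hz⟩ := hdiag
    have hmem := mem_range_of_diagOf_inner D hD F _ z hz.symm
    have hq : q = q' := by
      rw [← Quotient.out_eq q, ← Quotient.out_eq q']
      exact QuotientGroup.eq.2 hmem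
    rw [hq]
  have hsurj : Function.Surjective Ψ := by
    intro o
    obtain ⟨θ, rfl⟩ := QuotientGroup.mk_surjective o
    obtain ⟨x, d, g, φ, hd, hg, hφ, hθ⟩ := aut_decomposition D hD F θ
    obtain ⟨σ, rfl⟩ := eq_fieldAut_of_isFieldAut D hD F φ hφ
    obtain ⟨c, rfl⟩ := eq_diagOf D hD F d hd
    obtain ⟨j, rfl⟩ := hcomplete g hg
    set q : Q := QuotientGroup.mk c with hq
    have hr : (Quotient.out q)⁻¹ * c ∈ M.range := by
      apply QuotientGroup.eq.1
      exact Quotient.out_eq q
    obtain ⟨t, ht⟩ := hr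
    have hc : diagOf D hD F c = diagOf D hD F (Quotient.out q) *
        MulAut.conj (⟨torusHom D F t, torusHom_mem D hD F t⟩ : ↥(D.group F)) := by
      rw [conj_torus D hD F t, ← diagOf_mul, ← hM, ht, mul_inv_cancel_left]
    refine ⟨(q, j, σ), ?_⟩
    show (QuotientGroup.mk (A (q, j, σ)) : Cfsg.Out ↥(D.group F)) = QuotientGroup.mk θ
    rw [QuotientGroup.eq]
    have e : θ = MulAut.conj x * diagOf D hD F c * γ j * (fieldAut D hD F σ : MulAut ↥(D.group F)) := by
      apply MulEquiv.ext
      intro y
      rw [hθ y]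
      rfl
    rw [e, hc]
    have e2 : (A (q, j, σ))⁻¹ * (MulAut.conj x * (diagOf D hD F (Quotient.out q) *
        MulAut.conj (⟨torusHom D F t, torusHom_mem D hD F t⟩ : ↥(D.group F))) * γ j *
          (fieldAut D hD F σ : MulAut ↥(D.group F))) =
        (A (q, j, σ))⁻¹ * (MulAut.conj x * (diagOf D hD F (Quotient.out q) *
          MulAut.conj (⟨torusHom D F t, torusHom_mem D hD F t⟩ : ↥(D.group F)) *
          (diagOf D hD F (Quotient.out q))⁻¹)) * ((A (q, j, σ))⁻¹)⁻¹ := by
      simp only [A]
      group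
    rw [e2]
    apply hn.conj_mem
    exact mul_mem ⟨x, rfl⟩ (hn.conj_mem _ ⟨_, rfl⟩ _)
  rw [← Nat.card_congr (Equiv.ofBijective Ψ ⟨hinj, hsurj⟩), Nat.card_prod, Nat.card_prod,
    card_quotient_range_eq_card_ker M, O4_card_ringAut F p f hF, Nat.card_eq_fintype_card (α := ι), mul_assoc]

end

end Cfsg.Agent.Lib.Helper18.Au
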