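import Cfsg.Agent.Lib.Helper18.AutOutSkel

/-! # Outer automorphism groups of G₂, F₄, E₈: assembly (helper18) -/

set_option autoImplicit false

namespace Cfsg.Agent.Lib.Helper18.Au

open Cfsg Cfsg.Lie Cfsg.Agent.Lib.Helper36 Cfsg.Agent.Lib.Helper18

section
variable (D : ChevalleyDatum) (hD : D ∈ [chevG2, chevB2, chevD4, chevF4, chevE6, chevE7, chevE8])
variable (F : Type*) [Field F]

include hD in
theorem mulEquiv_ext_simple (α β : ↥(D.group F) ≃* ↥(D.group F))
    (h : ∀ (i : Fin D.rank) (t : F), α (xGr D hD F (D.simple i) t) = β (xGr D hD F (D.simple i) t) ∧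
      α (xGr D hD F (D.neg (D.simple i)) t) = β (xGr D hD F (D.neg (D.simple i)) t)) : α = β := by
  have := T10_ext D hD F α.toMonoidHom β.toMonoidHom h
  exact MulEquiv.toMonoidHom_injective this

/-- field automorphisms as a homomorphism -/
noncomputable def fieldAutHom : RingAut F →* MulAut ↥(D.group F) where
  toFun σ := fieldAut D hD F σ
  map_one' := by
    apply mulEquiv_ext_simple D hD F
    intro i t
    rw [fieldAut_xGr, fieldAut_xGr]
    exact ⟨rfl, rfl⟩
  map_mul' := by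
    intro σ τ
    apply mulEquiv_ext_simple D hD F
    intro i t
    rw [fieldAut_xGr, fieldAut_xGr, MulAut.mul_apply, MulAut.mul_apply, fieldAut_xGr, fieldAut_xGr, fieldAut_xGr,
      fieldAut_xGr]
    exact ⟨rfl, rfl⟩

theorem fieldAutHom_apply (σ : RingAut F) : fieldAutHom D hD F σ = fieldAut D hD F σ := rfl

include hD in
theorem eq_fieldAut_of_isFieldAut (φ : ↥(D.group F) ≃* ↥(D.group F)) (hφ : D.IsFieldAut φ) :
    ∃ σ : F ≃+* F, φ = fieldAut D hD F σ := by
  obtain ⟨σ, hσ⟩ := hφ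
  refine ⟨σ, mulEquiv_ext_simple D hD F _ _ fun i t => ?_⟩
  rw [fieldAut_xGr, fieldAut_xGr]
  exact ⟨eq_xGr_of_coe hD _ _ _ (hσ _ _ t (simple_lt' D hD i) (xGr_coe_mat hD _ _)),
    eq_xGr_of_coe hD _ _ _ (hσ _ _ t (neg_simple_lt' D hD i) (xGr_coe_mat hD _ _))⟩

end

end Cfsg.Agent.Lib.Helper18.Au
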