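import Cfsg.Agent.Lib.Helper18.AutMain
import Cfsg.Prelude.Def_KGroupFacts
import Cfsg.Agent.Lib.Helper18.AutO4
import Cfsg.Agent.Lib.Helper72.AutO1
import Cfsg.Agent.Lib.Helper1.AutO3

/-! # Outer automorphism groups of G₂, F₄, E₈: skeleton (helper18), on top of S2156

Sub-lemmas `O1`, `O3`, `O4` (proved by helper72, helper1 and in `AutO4`). -/

set_option autoImplicit false

namespace Cfsg.Agent.Lib.Helper18.Au

open Cfsg Cfsg.Lie Cfsg.Agent.Lib.Helper36 Cfsg.Agent.Lib.Helper18

section
variable (D : ChevalleyDatum) (hD : D ∈ [chevG2, chevB2, chevD4, chevF4, chevE6, chevE7, chevE8])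
variable (F : Type*) [Field F]

include hD in
/-- O1: an element whose conjugation preserves `U` and `V` lies in `H`. -/
theorem O1_mem_diag [Finite F] (y : ↥(D.group F))
    (hU : Pres D F (MulAut.conj y) (D.posUnipotent F)) (hV : Pres D F (MulAut.conj y) (D.negUnipotent F)) :
    (y : GL D.Idx F) ∈ D.diagonalSubgroup F := by
  exact Cfsg.Agent.Lib.Helper72.Au.O1_mem_diag D hD F y hU hV

/-- O3: a field automorphism which is inner is trivial. -/
theorem O3_field_inner [Finite F] (σ : F ≃+* F) (y : ↥(D.group F))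
    (h : fieldAut D hD F σ = MulAut.conj y) : σ = RingEquiv.refl F := by
  exact O3_field_inner_of D hD F (fun y hU hV => O1_mem_diag D hD F y hU hV) σ y h

/-- O4: the number of automorphisms of a finite field. -/
theorem O4_card_ringAut [Fintype F] (p f : ℕ) [Fact p.Prime] [CharP F p] (hF : Fintype.card F = p ^ f) :
    Nat.card (F ≃+* F) = f := by
  exact O4_card_ringAut' p f hF

end

end Cfsg.Agent.Lib.Helper18.Au
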