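import Cfsg.Agent.Lib.Helper18.AutT8

/-! # Automorphisms preserving `U` and `V` (helper18) -/

set_option autoImplicit false

namespace Cfsg.Agent.Lib.Helper18.Au

open Cfsg Cfsg.Lie Cfsg.Agent.Lib.Helper36 Cfsg.Agent.Lib.Helper18

section
variable (D : ChevalleyDatum) (hD : D ∈ [chevG2, chevB2, chevD4, chevF4, chevE6, chevE7, chevE8])
variable (F : Type*) [Field F]

variable {D F} in
theorem Pres.trans {θ₁ θ₂ : ↥(D.group F) ≃* ↥(D.group F)} {S : Subgroup (GL D.Idx F)}
    (h₁ : Pres D F θ₁ S) (h₂ : Pres D F θ₂ S) : Pres D F (θ₁.trans θ₂) S := by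
  intro g
  rw [MulEquiv.trans_apply, h₂, h₁]

variable {D F} in
theorem Pres.symm {θ : ↥(D.group F) ≃* ↥(D.group F)} {S : Subgroup (GL D.Idx F)}
    (h : Pres D F θ S) : Pres D F θ.symm S := by
  intro g
  rw [← h (θ.symm g), MulEquiv.apply_symm_apply]

variable {D F} in
theorem Pres.mul {θ₁ θ₂ : MulAut ↥(D.group F)} {S : Subgroup (GL D.Idx F)}
    (h₁ : Pres D F θ₁ S) (h₂ : Pres D F θ₂ S) : Pres D F (θ₁ * θ₂ : MulAut ↥(D.group F)) S := by
  intro g
  rw [MulAut.mul_apply, h₁, h₂]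

variable {D F} in
theorem Pres.inv {θ : MulAut ↥(D.group F)} {S : Subgroup (GL D.Idx F)}
    (h : Pres D F θ S) : Pres D F (θ⁻¹ : MulAut ↥(D.group F)) S := Pres.symm h

theorem Pres.one (S : Subgroup (GL D.Idx F)) : Pres D F (1 : MulAut ↥(D.group F)) S := fun _ => Iff.rfl

include hD in
theorem pres_fieldAut_pos (σ : F ≃+* F) : Pres D F (fieldAut D hD F σ) (D.posUnipotent F) := by
  intro g
  constructor
  · intro h
    have := glMap_pos_le D hD (σ.symm : F →+* F) ⟨_, h, rfl⟩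
    rw [fieldAut_coe, glMap_comp_symm D F σ σ.symm (fun t => σ.symm_apply_apply t)] at this
    exact this
  · intro h
    exact glMap_pos_le D hD (σ : F →+* F) ⟨_, h, rfl⟩

include hD in
theorem pres_fieldAut_neg (σ : F ≃+* F) : Pres D F (fieldAut D hD F σ) (D.negUnipotent F) := by
  intro g
  constructor
  · intro h
    have := glMap_neg_le D hD (σ.symm : F →+* F) ⟨_, h, rfl⟩
    rw [fieldAut_coe, glMap_comp_symm D F σ σ.symm (fun t => σ.symm_apply_apply t)] at this
    exact this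
  · intro h
    exact glMap_neg_le D hD (σ : F →+* F) ⟨_, h, rfl⟩

/-- an automorphism mapping the generators of a subgroup generated by root elements into it preserves it -/
theorem pres_of_gens [Finite F] (P : ℕ → Prop) (θ : ↥(D.group F) ≃* ↥(D.group F))
    (h : ∀ (r : ℕ) (t : F), P r → ((θ (xGr D hD F r t) : ↥(D.group F)) : GL D.Idx F) ∈
      Subgroup.closure {g : GL D.Idx F | ∃ (r : ℕ) (t : F), P r ∧ (g : Matrix D.Idx D.Idx F) = D.x F r t}) :
    Pres D F θ (Subgroup.closure {g : GL D.Idx F | ∃ (r : ℕ) (t : F), P r ∧ (g : Matrix D.Idx D.Idx F) = D.x F r t}) := by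
  set S := Subgroup.closure {g : GL D.Idx F | ∃ (r : ℕ) (t : F), P r ∧ (g : Matrix D.Idx D.Idx F) = D.x F r t}
    with hS
  have hA : ∀ x ∈ S, ∃ hxG : x ∈ D.group F, ((θ ⟨x, hxG⟩ : ↥(D.group F)) : GL D.Idx F) ∈ S := by
    intro x hx
    induction hx using Subgroup.closure_induction with
    | mem x hx' =>
      obtain ⟨r, t, hr, hxr⟩ := hx'
      have e : x = xGL D hD F r t := Units.ext (by rw [hxr, xGL_coe])
      subst e
      exact ⟨xGL_mem_group D hD F r t, h r t hr⟩
    | one =>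
      refine ⟨one_mem _, ?_⟩
      have : (⟨1, one_mem _⟩ : ↥(D.group F)) = 1 := rfl
      rw [this, map_one]
      exact one_mem _
    | mul x y _ _ ihx ihy =>
      obtain ⟨hx1, hx2⟩ := ihx
      obtain ⟨hy1, hy2⟩ := ihy
      refine ⟨mul_mem hx1 hy1, ?_⟩
      have : (⟨x * y, mul_mem hx1 hy1⟩ : ↥(D.group F)) = ⟨x, hx1⟩ * ⟨y, hy1⟩ := rfl
      rw [this, map_mul, Subgroup.coe_mul]
      exact mul_mem hx2 hy2
    | inv x _ ihx =>
      obtain ⟨hx1, hx2⟩ := ihx
      refine ⟨inv_mem hx1, ?_⟩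
      have : (⟨x⁻¹, inv_mem hx1⟩ : ↥(D.group F)) = (⟨x, hx1⟩ : ↥(D.group F))⁻¹ := rfl
      rw [this, map_inv, Subgroup.coe_inv]
      exact inv_mem hx2
  have hfwd : ∀ g : ↥(D.group F), (g : GL D.Idx F) ∈ S → ((θ g : ↥(D.group F)) : GL D.Idx F) ∈ S := by
    intro g hg
    obtain ⟨_, h2⟩ := hA _ hg
    exact h2
  -- finiteness
  let T := {g : ↥(D.group F) // (g : GL D.Idx F) ∈ S}
  haveI : Finite T := inferInstance
  let f : T → T := fun g => ⟨θ g.1, hfwd g.1 g.2⟩
  have hfinj : Function.Injective f := by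
    intro a b hab
    apply Subtype.ext
    exact θ.injective (congrArg Subtype.val hab)
  have hfsurj : Function.Surjective f := Finite.surjective_of_injective hfinj
  intro g
  constructor
  · intro hg
    obtain ⟨g', hg'⟩ := hfsurj ⟨θ g, hg⟩
    have : θ g'.1 = θ g := congrArg Subtype.val hg'
    rw [← θ.injective this]
    exact g'.2
  · exact hfwd g

end

end Cfsg.Agent.Lib.Helper18.Au
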