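import Cfsg.Agent.Lib.Helper18.AutOutMain
import Cfsg.Agent.Lib.Helper18.AutPres
import Cfsg.Agent.Lib.Helper36.ChevCentRoot

/-! # Outer automorphism groups of G₂, F₄, E₈: graph automorphisms and the case `|Out| = 2f` (helper18) -/

set_option autoImplicit false
set_option maxRecDepth 100000

namespace Cfsg.Agent.Lib.Helper18.Au

open Cfsg Cfsg.Lie Cfsg.Agent.Lib.Helper36 Cfsg.Agent.Lib.Helper18

section
variable (D : ChevalleyDatum) (hD : D ∈ [chevG2, chevB2, chevD4, chevF4, chevE6, chevE7, chevE8])
variable (F : Type*) [Field F]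

/-- the action of `g` on the fundamental root elements is the graph action attached to `π` -/
def GraphActs (g : ↥(D.group F) ≃* ↥(D.group F)) (π : Equiv.Perm (Fin D.rank)) : Prop :=
  ∀ (i : Fin D.rank) (t : F),
    g (xGr D hD F (D.simple i) t) = xGr D hD F (D.simple (π i)) (t ^ D.graphExp (ringChar F) i (π i)) ∧
    g (xGr D hD F (D.neg (D.simple i)) t) =
      xGr D hD F (D.neg (D.simple (π i))) (t ^ D.graphExp (ringChar F) i (π i))

theorem isGraphAut_xGr (g : ↥(D.group F) ≃* ↥(D.group F)) (hg : D.IsGraphAut g) :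
    ∃ π : Equiv.Perm (Fin D.rank), D.IsDiagramSymmetry π ∧ GraphActs D hD F g π := by
  obtain ⟨π, hπ, h⟩ := hg
  refine ⟨π, hπ, fun i t => ?_⟩
  exact ⟨eq_xGr_of_coe hD _ _ _ ((h _ i t).1 (xGr_coe_mat hD _ _)),
    eq_xGr_of_coe hD _ _ _ ((h _ i t).2 (xGr_coe_mat hD _ _))⟩

theorem perm_eq_one_of_pre (π : Equiv.Perm (Fin D.rank)) (h : pre D π D.rank = List.range D.rank) : π = 1 := by
  apply Equiv.ext
  intro i
  apply Fin.ext
  have e1 := pre_getD D π D.rank i i.2
  rw [h, pv_fin] at e1
  rw [← e1, List.getD_eq_getElem _ _ (by simpa using i.2)]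
  simp

include hD in
theorem graph_trivial (g : ↥(D.group F) ≃* ↥(D.group F)) (h : GraphActs D hD F g 1) : g = MulEquiv.refl _ := by
  apply mulEquiv_ext_simple D hD F
  intro i t
  have := h i t
  simp only [Equiv.Perm.coe_one, id_eq] at this
  rw [graphExp_self, pow_one] at this
  exact this

/-- Frobenius as a ring automorphism of a finite field -/
noncomputable def frobAut [Finite F] (p : ℕ) [Fact p.Prime] [CharP F p] : F ≃+* F :=
  RingEquiv.ofBijective (frobenius F p) ⟨frobenius_inj F p, Finite.surjective_of_injective (frobenius_inj F p)⟩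

theorem frobAut_apply [Finite F] (p : ℕ) [Fact p.Prime] [CharP F p] (t : F) : frobAut F p t = t ^ p := rfl

include hD in
theorem graph_swap_char [Finite F] (p : ℕ) [Fact p.Prime] [CharP F p] (g : ↥(D.group F) ≃* ↥(D.group F))
    (π : Equiv.Perm (Fin D.rank)) (hπ : D.IsDiagramSymmetry π) (h : GraphActs D hD F g π)
    (hs : SwapsLength D π) : SwapChar D F := by
  classical
  have hchar : ringChar F = p := ringChar.eq F p
  let σ : Fin D.rank → F ≃+* F := fun i =>
    if D.isLong (D.simple (π i)) && !D.isLong (D.simple i) then frobAut F p else RingEquiv.refl F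
  have hσ : ∀ i t, σ i t = t ^ D.graphExp (ringChar F) i (π i) := by
    intro i t
    simp only [σ]
    unfold ChevalleyDatum.graphExp
    split_ifs
    · rw [frobAut_apply, hchar]
    · simp
  apply T6_char D hD F g π hπ σ _ hs
  intro i t
  rw [hσ]
  exact h i t

end

/-! ### the hypotheses `hgraph` of `out_card_field` -/

theorem hgraph_E8 (F : Type*) [Field F] (hD : chevE8 ∈ [chevG2, chevB2, chevD4, chevF4, chevE6, chevE7, chevE8])
    (g : ↥(chevE8.group F) ≃* ↥(chevE8.group F)) (hg : chevE8.IsGraphAut g) : g = MulEquiv.refl _ := by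
  obtain ⟨π, hπ, h⟩ := isGraphAut_xGr chevE8 hD F g hg
  have hmem := symSearch_sound chevE8 π hπ _ chevE8.rank 0 (by simp) search_E8
  simp only [List.mem_cons, List.not_mem_nil, or_false] at hmem
  have : π = 1 := perm_eq_one_of_pre chevE8 π hmem
  subst this
  exact graph_trivial chevE8 hD F g h

theorem hgraph_F4 (F : Type*) [Field F] [Finite F] (p : ℕ) [Fact p.Prime] [CharP F p] (hp : p ≠ 2)
    (hD : chevF4 ∈ [chevG2, chevB2, chevD4, chevF4, chevE6, chevE7, chevE8])
    (g : ↥(chevF4.group F) ≃* ↥(chevF4.group F)) (hg : chevF4.IsGraphAut g) : g = MulEquiv.refl _ := by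
  obtain ⟨π, hπ, h⟩ := isGraphAut_xGr chevF4 hD F g hg
  have hmem := symSearch_sound chevF4 π hπ _ chevF4.rank 0 (by simp) search_F4
  simp only [List.mem_cons, List.not_mem_nil, or_false] at hmem
  rcases hmem with hL | hL
  · have : π = 1 := perm_eq_one_of_pre chevF4 π hL
    subst this
    exact graph_trivial chevF4 hD F g h
  · exfalso
    have hs := graph_swap_char chevF4 hD F p g π hπ h (swaps_of_chk _ π _ hL chkSwaps_F4)
    have hchar : ringChar F = p := ringChar.eq F p
    rcases hs with ⟨_, h2⟩ | ⟨h1, _⟩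
    · exact hp (hchar.symm.trans h2)
    · exact absurd h1 F4_ne_G2

theorem hgraph_G2 (F : Type*) [Field F] [Finite F] (p : ℕ) [Fact p.Prime] [CharP F p] (hp : p ≠ 3)
    (hD : chevG2 ∈ [chevG2, chevB2, chevD4, chevF4, chevE6, chevE7, chevE8])
    (g : ↥(chevG2.group F) ≃* ↥(chevG2.group F)) (hg : chevG2.IsGraphAut g) : g = MulEquiv.refl _ := by
  obtain ⟨π, hπ, h⟩ := isGraphAut_xGr chevG2 hD F g hg
  have hmem := symSearch_sound chevG2 π hπ _ chevG2.rank 0 (by simp) search_G2
  simp only [List.mem_cons, List.not_mem_nil, or_false] at hmem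
  rcases hmem with hL | hL
  · have : π = 1 := perm_eq_one_of_pre chevG2 π hL
    subst this
    exact graph_trivial chevG2 hD F g h
  · exfalso
    have hs := graph_swap_char chevG2 hD F p g π hπ h (swaps_of_chk _ π _ hL chkSwaps_G2)
    have hchar : ringChar F = p := ringChar.eq F p
    rcases hs with ⟨h1 | h1, _⟩ | ⟨_, h3⟩
    · exact absurd h1 G2_ne_B2
    · exact absurd h1 G2_ne_F4
    · exact hp (hchar.symm.trans h3)

end Cfsg.Agent.Lib.Helper18.Au

namespace Cfsg.Agent.Lib.Helper18.Au

open Cfsg Cfsg.Lie Cfsg.Agent.Lib.Helper36 Cfsg.Agent.Lib.Helper18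

/-- `rho` preserves the signs of the roots -/
def chkRhoSign (D : ChevalleyDatum) (rho : List ℕ) : Bool :=
  (List.range D.nroots).all fun r =>
    (!decide (D.IsPosRoot r) || decide (D.IsPosRoot (rho.getD r 0))) &&
    (!decide (D.IsNegRoot r) || decide (D.IsNegRoot (rho.getD r 0)))

/-- some fundamental root is moved by `L`, with the data needed to tell the root elements apart -/
def chkDistinct (D : ChevalleyDatum) (L : List ℕ) : Bool :=
  (List.range D.rank).any fun i =>
    decide (D.simple i ≠ D.simple (L.getD i 0)) && decide (D.simple i < D.nroots) &&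
    decide (D.simple (L.getD i 0) < D.nroots) &&
    decide (D.chainCoeff (D.simple i) (D.neg (D.simple (L.getD i 0))) (D.simple (L.getD i 0)) = [])

theorem chkRhoSign_G2 : chkRhoSign chevG2 rhoG2 = true := by decide +kernel
theorem chkRhoSign_F4 : chkRhoSign chevF4 rhoF4 = true := by decide +kernel
theorem chkDistinct_G2 : chkDistinct chevG2 [1, 0] = true := by decide +kernel
theorem chkDistinct_F4 : chkDistinct chevF4 [3, 2, 1, 0] = true := by decide +kernel

section
variable (D : ChevalleyDatum) (hD : D ∈ [chevG2, chevB2, chevD4, chevF4, chevE6, chevE7, chevE8])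
variable (F : Type*) [Field F]

theorem fieldAut_inv (σ : RingAut F) :
    (fieldAut D hD F σ : MulAut ↥(D.group F))⁻¹ = fieldAut D hD F (σ⁻¹ : RingAut F) := by
  rw [← fieldAutHom_apply, ← fieldAutHom_apply, map_inv]

end

end Cfsg.Agent.Lib.Helper18.Au
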