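import Cfsg.Agent.Lib.Helper18.AutOutE6

/-! # The outer automorphism groups of G₂, F₄, E₈ through the general count (helper18)

This avoids the sub-lemmas O2 and O3 of the first skeleton. -/

set_option autoImplicit false
set_option maxRecDepth 100000

namespace Cfsg.Agent.Lib.Helper18.Au

open Cfsg Cfsg.Lie Cfsg.Agent.Lib.Helper36 Cfsg.Agent.Lib.Helper18

section
variable (D : ChevalleyDatum) (hD : D ∈ [chevG2, chevB2, chevD4, chevF4, chevE6, chevE7, chevE8])
variable (F : Type*) [Field F]

include hD in
/-- the exceptional graph automorphism with its properties -/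
theorem exists_tw_graph [Fintype F] (p : ℕ) [Fact p.Prime] [CharP F p] (rho lam L : List ℕ)
    (hchk : chkTw D p rho lam = true) (hdata : chkTwData D p rho lam L = true)
    (hsign : chkRhoSign D rho = true) (π : Equiv.Perm (Fin D.rank)) (hπ : pre D π D.rank = L) :
    ∃ γ : ↥(D.group F) ≃* ↥(D.group F), GraphActs D hD F γ π ∧ Pres D F γ (D.posUnipotent F) ∧
      Pres D F γ (D.negUnipotent F) := by
  classical
  have hchar : ringChar F = p := ringChar.eq F p
  have hperf : ∀ x : F, ∃ y : F, y ^ p = x := fun x =>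
    Finite.surjective_of_injective (frobenius_inj F p) x
  obtain ⟨γ, hγ⟩ := tw_aut D hD F p rho lam hchk hperf (Or.inr inferInstance)
  unfold chkRhoSign at hsign
  simp only [List.all_eq_true, List.mem_range, Bool.and_eq_true, Bool.or_eq_true, Bool.not_eq_true',
    decide_eq_false_iff_not, decide_eq_true_eq] at hsign
  have hγU : Pres D F γ (D.posUnipotent F) := by
    apply pres_of_gens D hD F D.IsPosRoot γ
    intro r t hr
    rw [hγ r hr.1 t]
    have := (hsign r hr.1).1
    rcases this with h1 | h1
    · exact absurd hr h1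
    · exact xGL_mem_pos D hD F _ h1 _
  have hγV : Pres D F γ (D.negUnipotent F) := by
    apply pres_of_gens D hD F D.IsNegRoot γ
    intro r t hr
    rw [hγ r hr.1 t]
    have := (hsign r hr.1).2
    rcases this with h1 | h1
    · exact absurd hr h1
    · exact Subgroup.subset_closure ⟨_, _, h1, xGL_coe D hD F _ _⟩
  unfold chkTwData at hdata
  simp only [List.all_eq_true, List.mem_range, Bool.and_eq_true, decide_eq_true_eq] at hdata
  refine ⟨γ, fun i t => ?_, hγU, hγV⟩
  obtain ⟨⟨⟨⟨⟨e1, e2⟩, e3⟩, e4⟩, e5⟩, e6⟩ := hdata i i.2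
  have e : L.getD i 0 = (π i : ℕ) := by rw [← hπ, pre_getD D π _ _ i.2, pv_fin]
  rw [hγ _ e5, hγ _ e6, e1, e2, e3, e4, e, hchar]
  exact ⟨rfl, rfl⟩

include hD in
/-- the count when there is no non-trivial graph automorphism -/
theorem out_card_trivial [Fintype F] (p f : ℕ) [Fact p.Prime] [CharP F p] (hF : Fintype.card F = p ^ f)
    (hgraph : ∀ g : ↥(D.group F) ≃* ↥(D.group F), D.IsGraphAut g → g = MulEquiv.refl _) :
    Nat.card (Cfsg.Out ↥(D.group F)) = Nat.card (monoMap (C := Fˣ) (cartanMat D)).ker * f := by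
  rw [out_card_general D hD F p f hF Unit (fun _ => 1) (fun _ => 1) (fun _ _ _ => rfl)
    (fun _ i t => by
      simp only [Equiv.Perm.coe_one, id_eq, MulAut.one_apply]
      rw [graphExp_self, pow_one]
      exact ⟨rfl, rfl⟩)
    (fun _ => Pres.one D F _) (fun _ => Pres.one D F _)
    (fun g hg => ⟨(), hgraph g hg⟩)]
  simp

include hD in
/-- the count when there is exactly one non-trivial graph automorphism -/
theorem out_card_two [Fintype F] (p f : ℕ) [Fact p.Prime] [CharP F p] (hF : Fintype.card F = p ^ f)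
    (π : Equiv.Perm (Fin D.rank)) (hπ1 : π ≠ 1) (γ : ↥(D.group F) ≃* ↥(D.group F))
    (hact : GraphActs D hD F γ π) (hU : Pres D F γ (D.posUnipotent F)) (hV : Pres D F γ (D.negUnipotent F))
    (hsols : ∀ π' : Equiv.Perm (Fin D.rank), D.IsDiagramSymmetry π' → π' = 1 ∨ π' = π) :
    Nat.card (Cfsg.Out ↥(D.group F)) = Nat.card (monoMap (C := Fˣ) (cartanMat D)).ker * 2 * f := by
  have h1 : GraphActs D hD F (1 : MulAut ↥(D.group F)) 1 := by
    intro i t
    simp only [Equiv.Perm.coe_one, id_eq, MulAut.one_apply]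
    rw [graphExp_self, pow_one]
    exact ⟨rfl, rfl⟩
  rw [out_card_general D hD F p f hF Bool (fun b => if b then γ else 1)
    (fun b => if b then π else 1)
    (by
      intro a b h
      cases a <;> cases b <;> simp at h ⊢
      · exact hπ1 h.symm
      · exact hπ1 h)
    (by
      intro b
      cases b
      · simpa using h1
      · simpa using hact)
    (by
      intro b
      cases b
      · simpa using Pres.one D F _
      · simpa using hU)
    (by
      intro b
      cases b
      · simpa using Pres.one D F _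
      · simpa using hV)
    (by
      intro g hg
      obtain ⟨π', hπ', h⟩ := isGraphAut_xGr D hD F g hg
      rcases hsols π' hπ' with hL | hL
      · refine ⟨false, ?_⟩
        subst hL
        exact graph_trivial D hD F g h
      · refine ⟨true, ?_⟩
        subst hL
        simpa using graphActs_unique D hD F g γ π' h hact)]
  simp

end

/-! ### E₈ -/

/-- `|Out E₈(q)| = f` -/
theorem out_card_E8 {F : Type*} [Field F] [Fintype F] (p f : ℕ) [Fact p.Prime] [CharP F p]
    (hF : Fintype.card F = p ^ f) :
    Nat.card (Cfsg.Out ↥(chevE8.group F)) = f := by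
  have hD : chevE8 ∈ [chevG2, chevB2, chevD4, chevF4, chevE6, chevE7, chevE8] := by simp
  rw [out_card_trivial chevE8 hD F p f hF (hgraph_E8 F hD), card_ker_E8]
  simp

/-! ### F₄ -/

/-- the diagram symmetry of `F₄` -/
def permF4 : Equiv.Perm (Fin chevF4.rank) :=
  Equiv.swap ⟨0, by decide⟩ ⟨3, by decide⟩ * Equiv.swap ⟨1, by decide⟩ ⟨2, by decide⟩

theorem pre_permF4 : pre chevF4 permF4 chevF4.rank = [3, 2, 1, 0] := by decide

theorem permF4_ne_one : permF4 ≠ 1 := by decide

/-- `|Out F₄(q)| = gcd(2, p) f` -/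
theorem out_card_F4 {F : Type*} [Field F] [Fintype F] (p f : ℕ) [Fact p.Prime] [CharP F p]
    (hF : Fintype.card F = p ^ f) :
    Nat.card (Cfsg.Out ↥(chevF4.group F)) = Nat.gcd 2 p * f := by
  have hD : chevF4 ∈ [chevG2, chevB2, chevD4, chevF4, chevE6, chevE7, chevE8] := by simp
  by_cases hp : p = 2
  · subst hp
    obtain ⟨γ, hact, hU, hV⟩ := exists_tw_graph chevF4 hD F 2 rhoF4 lamF4 [3, 2, 1, 0] chkTw_F4 chkTwData_F4
      chkRhoSign_F4 permF4 pre_permF4
    rw [out_card_two chevF4 hD F 2 f hF permF4 permF4_ne_one γ hact hU hV ?_, card_ker_F4]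
    · simp
    · intro π hπ
      have hmem := symSearch_sound chevF4 π hπ _ chevF4.rank 0 (by simp) search_F4
      simp only [List.mem_cons, List.not_mem_nil, or_false] at hmem
      rcases hmem with h | h
      · left; exact perm_eq_one_of_pre chevF4 π h
      · right; exact perm_eq_of_pre chevF4 π permF4 (h.trans pre_permF4.symm)
  · have hp2 : Nat.gcd 2 p = 1 := by
      have hpp : p.Prime := Fact.out
      rw [Nat.coprime_comm.1 ((Nat.Prime.coprime_iff_not_dvd hpp).2 ?_)]
      intro h2
      exact hp ((Nat.prime_dvd_prime_iff_eq hpp Nat.prime_two).1 h2)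
    rw [hp2, one_mul, out_card_trivial chevF4 hD F p f hF (hgraph_F4 F p hp hD), card_ker_F4]
    simp

/-! ### G₂ -/

/-- the diagram symmetry of `G₂` -/
def permG2 : Equiv.Perm (Fin chevG2.rank) := Equiv.swap ⟨0, by decide⟩ ⟨1, by decide⟩

theorem pre_permG2 : pre chevG2 permG2 chevG2.rank = [1, 0] := by decide

theorem permG2_ne_one : permG2 ≠ 1 := by decide

/-- `|Out G₂(q)| = 2f` if `p = 3`, and `f` otherwise -/
theorem out_card_G2 {F : Type*} [Field F] [Fintype F] (p f : ℕ) [Fact p.Prime] [CharP F p]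
    (hF : Fintype.card F = p ^ f) :
    Nat.card (Cfsg.Out ↥(chevG2.group F)) = (if p = 3 then 2 * f else f) := by
  have hD : chevG2 ∈ [chevG2, chevB2, chevD4, chevF4, chevE6, chevE7, chevE8] := by simp
  by_cases hp : p = 3
  · subst hp
    rw [if_pos rfl]
    obtain ⟨γ, hact, hU, hV⟩ := exists_tw_graph chevG2 hD F 3 rhoG2 lamG2 [1, 0] chkTw_G2 chkTwData_G2
      chkRhoSign_G2 permG2 pre_permG2
    rw [out_card_two chevG2 hD F 3 f hF permG2 permG2_ne_one γ hact hU hV ?_, card_ker_G2]
    · simp
    · intro π hπ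
      have hmem := symSearch_sound chevG2 π hπ _ chevG2.rank 0 (by simp) search_G2
      simp only [List.mem_cons, List.not_mem_nil, or_false] at hmem
      rcases hmem with h | h
      · left; exact perm_eq_one_of_pre chevG2 π h
      · right; exact perm_eq_of_pre chevG2 π permG2 (h.trans pre_permG2.symm)
  · rw [if_neg hp, out_card_trivial chevG2 hD F p f hF (hgraph_G2 F p hp hD), card_ker_G2]
    simp

end Cfsg.Agent.Lib.Helper18.Au
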