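import Cfsg.Agent.Lib.Helper36.ChevGL

/-! # Graph automorphisms of the Chevalley groups of type E₆ and D₄

(helper36's file `ChevGraph.lean` of commit 662a1e2a, vendored by helper18 under a new namespace, because the file of
that name was later replaced by a different one) -/

set_option autoImplicit false
set_option maxRecDepth 100000

namespace Cfsg.Agent.Lib.Helper18.GO

open Cfsg Cfsg.Lie Cfsg.Agent.Lib.Helper36

/-- data of a graph automorphism: the permutation of the fundamental roots, the induced permutation of the roots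
and the signs `P e_r = ε_r e_{ρ r}`, together with the same data for the inverse -/
structure GraphData where
  perm : List ℕ
  rt : List ℕ
  sg : List ℤ
  permInv : List ℕ
  rtInv : List ℕ
  sgInv : List ℤ

/-- the signed permutation matrix of a graph automorphism -/
def Pgraph (perm rt : List ℕ) (sg : List ℤ) : SMat := fun c =>
  match c with
  | .inl j => [(.inl (perm.getD j 0), 1)]
  | .inr s => [(.inr (rt.getD s 0), sg.getD s 0)]

def gE6 : GraphData where
  perm := [5, 1, 4, 3, 2, 0]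
  rt := [0, 1, 2, 5, 16, 3, 6, 17, 8, 19, 22, 11, 26, 30, 33, 35, 4, 7, 18, 9, 20, 23, 10, 21, 24, 25, 12, 27, 31, 34, 13, 28, 32, 14, 29, 15, 56, 42, 57, 39, 43, 58, 37, 40, 44, 59, 46, 47, 50, 61, 48, 51, 62, 53, 64, 67, 36, 38, 41, 45, 60, 49, 52, 63, 54, 65, 68, 55, 66, 69, 70, 71]
  sg := [1, 1, 1, 1, -1, 1, 1, -1, 1, -1, -1, 1, -1, 1, -1, 1, -1, -1, 1, -1, 1, 1, -1, 1, 1, 1, -1, 1, -1, 1, 1, -1, 1, -1, 1, 1, 1, 1, -1, 1, -1, 1, 1, -1, 1, -1, 1, 1, 1, -1, 1, 1, -1, 1, -1, -1, 1, -1, 1, -1, 1, -1, -1, 1, -1, 1, 1, -1, 1, 1, 1, 1]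
  permInv := [5, 1, 4, 3, 2, 0]
  rtInv := [0, 1, 2, 5, 16, 3, 6, 17, 8, 19, 22, 11, 26, 30, 33, 35, 4, 7, 18, 9, 20, 23, 10, 21, 24, 25, 12, 27, 31, 34, 13, 28, 32, 14, 29, 15, 56, 42, 57, 39, 43, 58, 37, 40, 44, 59, 46, 47, 50, 61, 48, 51, 62, 53, 64, 67, 36, 38, 41, 45, 60, 49, 52, 63, 54, 65, 68, 55, 66, 69, 70, 71]
  sgInv := [1, 1, 1, 1, -1, 1, 1, -1, 1, -1, -1, 1, -1, 1, -1, 1, -1, -1, 1, -1, 1, 1, -1, 1, 1, 1, -1, 1, -1, 1, 1, -1, 1, -1, 1, 1, 1, 1, -1, 1, -1, 1, 1, -1, 1, -1, 1, 1, 1, -1, 1, 1, -1, 1, -1, -1, 1, -1, 1, -1, 1, -1, -1, 1, -1, 1, 1, -1, 1, 1, 1, 1]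

def gD4a : GraphData where
  perm := [2, 1, 3, 0]
  rt := [0, 1, 6, 2, 7, 10, 3, 8, 4, 9, 11, 5, 18, 12, 14, 19, 15, 20, 13, 16, 21, 17, 22, 23]
  sg := [1, 1, -1, 1, -1, 1, -1, 1, -1, 1, 1, 1, 1, 1, 1, -1, 1, -1, 1, -1, 1, -1, 1, 1]
  permInv := [3, 1, 0, 2]
  rtInv := [0, 1, 3, 6, 8, 11, 2, 4, 7, 9, 5, 10, 13, 18, 14, 16, 19, 21, 12, 15, 17, 20, 22, 23]
  sgInv := [1, 1, 1, -1, -1, 1, -1, -1, 1, 1, 1, 1, 1, 1, 1, 1, -1, -1, 1, -1, -1, 1, 1, 1]

def gD4b : GraphData where
  perm := [3, 1, 0, 2]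
  rt := [0, 1, 3, 6, 8, 11, 2, 4, 7, 9, 5, 10, 13, 18, 14, 16, 19, 21, 12, 15, 17, 20, 22, 23]
  sg := [1, 1, 1, -1, -1, 1, -1, -1, 1, 1, 1, 1, 1, 1, 1, 1, -1, -1, 1, -1, -1, 1, 1, 1]
  permInv := [2, 1, 3, 0]
  rtInv := [0, 1, 6, 2, 7, 10, 3, 8, 4, 9, 11, 5, 18, 12, 14, 19, 15, 20, 13, 16, 21, 17, 22, 23]
  sgInv := [1, 1, -1, 1, -1, 1, -1, 1, -1, 1, 1, 1, 1, 1, 1, -1, 1, -1, 1, -1, 1, -1, 1, 1]

/-- the checks for a graph automorphism -/
def chkGraph (D : ChevalleyDatum) (g : GraphData) : Bool :=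
  let P := Pgraph g.perm g.rt g.sg
  let P' := Pgraph g.permInv g.rtInv g.sgInv
  decide (g.perm.length = D.rank) && decide (g.permInv.length = D.rank) &&
  g.perm.all (fun j => decide (j < D.rank)) && g.permInv.all (fun j => decide (j < D.rank)) &&
  g.rt.all (fun s => decide (s < D.nroots)) && g.rtInv.all (fun s => decide (s < D.nroots)) &&
  ((List.range D.rank).all fun j => decide (g.perm.getD (g.permInv.getD j 0) 0 = j)) &&
  ((allCols D).all fun c => vecEq (comp P P' c) (oneM c) && vecEq (comp P' P c) (oneM c)) &&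
  ((List.range D.rank).all fun i =>
    decide (D.simple i < D.nroots) && decide (D.simple (g.perm.getD i 0) < D.nroots) &&
    decide (D.neg (D.simple i) < D.nroots) && decide (D.neg (D.simple (g.perm.getD i 0)) < D.nroots) &&
    [1, 2, 3].all fun k => (allCols D).all fun c =>
      vecEq (comp P (Efast (mkFast D) (D.simple i) k) c)
        (comp (Efast (mkFast D) (D.simple (g.perm.getD i 0)) k) P c) &&
      vecEq (comp P (Efast (mkFast D) (D.neg (D.simple i)) k) c)
        (comp (Efast (mkFast D) (D.neg (D.simple (g.perm.getD i 0))) k) P c))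

theorem chkGraph_E6 : chkGraph chevE6 gE6 = true := by decide +kernel
theorem chkGraph_D4a : chkGraph chevD4 gD4a = true := by decide +kernel
theorem chkGraph_D4b : chkGraph chevD4 gD4b = true := by decide +kernel

variable (D : ChevalleyDatum)

theorem getD_lt_of_all (l : List ℕ) (n j : ℕ) (h : l.all (fun x => decide (x < n)) = true) (hn : 0 < n) :
    l.getD j 0 < n := by
  rw [List.all_eq_true] at h
  by_cases hj : j < l.length
  · have : l.getD j 0 = l[j] := by simp [List.getD, hj]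
    rw [this]
    simpa using h _ (List.getElem_mem hj)
  · have : l.getD j 0 = 0 := by simp [List.getD, Nat.le_of_not_lt hj]
    rw [this]; exact hn

theorem Pgraph_WF (perm rt : List ℕ) (sg : List ℤ) (h1 : perm.all (fun j => decide (j < D.rank)) = true)
    (h2 : rt.all (fun s => decide (s < D.nroots)) = true) : (MExp.lit (Pgraph perm rt sg)).WF D := by
  intro c hc p hp
  rcases c with j | s
  · simp only [Pgraph, List.mem_singleton] at hp
    rw [hp]
    exact getD_lt_of_all perm D.rank j h1 (Nat.lt_of_le_of_lt (Nat.zero_le _) hc)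
  · simp only [Pgraph, List.mem_singleton] at hp
    rw [hp]
    exact getD_lt_of_all rt D.nroots s h2 (Nat.lt_of_le_of_lt (Nat.zero_le _) hc)

/-- what `chkGraph` proves, as integer matrix identities -/
structure GraphSpec (g : GraphData) : Prop where
  mul_inv : toMat D (Pgraph g.perm g.rt g.sg) * toMat D (Pgraph g.permInv g.rtInv g.sgInv) = 1
  inv_mul : toMat D (Pgraph g.permInv g.rtInv g.sgInv) * toMat D (Pgraph g.perm g.rt g.sg) = 1
  perm_lt : ∀ i < D.rank, g.perm.getD i 0 < D.rank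
  permInv_lt : ∀ i < D.rank, g.permInv.getD i 0 < D.rank
  perm_permInv : ∀ j < D.rank, g.perm.getD (g.permInv.getD j 0) 0 = j
  conj_pos : ∀ i < D.rank, ∀ k, 1 ≤ k → k ≤ 3 →
    toMat D (Pgraph g.perm g.rt g.sg) * toMat D (E D (D.simple i) k) =
      toMat D (E D (D.simple (g.perm.getD i 0)) k) * toMat D (Pgraph g.perm g.rt g.sg)
  conj_neg : ∀ i < D.rank, ∀ k, 1 ≤ k → k ≤ 3 →
    toMat D (Pgraph g.perm g.rt g.sg) * toMat D (E D (D.neg (D.simple i)) k) =
      toMat D (E D (D.neg (D.simple (g.perm.getD i 0))) k) * toMat D (Pgraph g.perm g.rt g.sg)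

theorem graphSpec_of_chk (hwf : wf D = true) (hf : wfFast D = true) (g : GraphData) (h : chkGraph D g = true) :
    GraphSpec D g := by
  unfold chkGraph at h
  simp only [Bool.and_eq_true, decide_eq_true_eq, List.all_eq_true] at h
  obtain ⟨⟨⟨⟨⟨⟨⟨⟨l1, l2⟩, w1⟩, w2⟩, w3⟩, w4⟩, w5⟩, hinv⟩, hconj⟩ := h
  have w1' : g.perm.all (fun j => decide (j < D.rank)) = true := by
    rw [List.all_eq_true]; intro x hx; simpa using w1 x hx
  have w2' : g.permInv.all (fun j => decide (j < D.rank)) = true := by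
    rw [List.all_eq_true]; intro x hx; simpa using w2 x hx
  have w3' : g.rt.all (fun j => decide (j < D.nroots)) = true := by
    rw [List.all_eq_true]; intro x hx; simpa using w3 x hx
  have w4' : g.rtInv.all (fun j => decide (j < D.nroots)) = true := by
    rw [List.all_eq_true]; intro x hx; simpa using w4 x hx
  have hP := Pgraph_WF D g.perm g.rt g.sg w1' w3'
  have hP' := Pgraph_WF D g.permInv g.rtInv g.sgInv w2' w4'
  have hone : (MExp.lit oneM).WF D := by
    intro c hc p hp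
    simp only [oneM, List.mem_singleton] at hp
    rw [hp]; exact hc
  refine ⟨?_, ?_, fun i hi => getD_lt_of_all _ _ _ w1' (by omega), fun i hi => getD_lt_of_all _ _ _ w2' (by omega),
    fun j hj => w5 j (List.mem_range.2 hj), ?_, ?_⟩
  · have := MExp.sem_eq_of_check_all D hwf hf (.comp (.lit (Pgraph g.perm g.rt g.sg)) (.lit (Pgraph g.permInv g.rtInv g.sgInv)))
      (.lit oneM) ⟨hP, hP'⟩ hone (fun c hc => (hinv c hc).1)
    simpa [MExp.sem, toMat_oneM] using this
  · have := MExp.sem_eq_of_check_all D hwf hf (.comp (.lit (Pgraph g.permInv g.rtInv g.sgInv)) (.lit (Pgraph g.perm g.rt g.sg)))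
      (.lit oneM) ⟨hP', hP⟩ hone (fun c hc => (hinv c hc).2)
    simpa [MExp.sem, toMat_oneM] using this
  · intro i hi k hk1 hk3
    obtain ⟨⟨⟨⟨r1, r2⟩, r3⟩, r4⟩, hk⟩ := hconj i (List.mem_range.2 hi)
    have hkm : k ∈ [1, 2, 3] := by
      interval_cases k <;> simp
    exact MExp.sem_eq_of_check_all D hwf hf (.comp (.lit (Pgraph g.perm g.rt g.sg)) (.E (D.simple i) k))
      (.comp (.E (D.simple (g.perm.getD i 0)) k) (.lit (Pgraph g.perm g.rt g.sg))) ⟨hP, r1⟩ ⟨r2, hP⟩
      (fun c hc => (hk k hkm c hc).1)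
  · intro i hi k hk1 hk3
    obtain ⟨⟨⟨⟨r1, r2⟩, r3⟩, r4⟩, hk⟩ := hconj i (List.mem_range.2 hi)
    have hkm : k ∈ [1, 2, 3] := by
      interval_cases k <;> simp
    exact MExp.sem_eq_of_check_all D hwf hf (.comp (.lit (Pgraph g.perm g.rt g.sg)) (.E (D.neg (D.simple i)) k))
      (.comp (.E (D.neg (D.simple (g.perm.getD i 0))) k) (.lit (Pgraph g.perm g.rt g.sg))) ⟨hP, r3⟩ ⟨r4, hP⟩
      (fun c hc => (hk k hkm c hc).2)

/-- the matrix of the graph automorphism over `F` -/
noncomputable def PF (F : Type*) [Field F] (g : GraphData) : Matrix D.Idx D.Idx F :=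
  (Int.castRingHom F).mapMatrix (toMat D (Pgraph g.perm g.rt g.sg))

noncomputable def PF' (F : Type*) [Field F] (g : GraphData) : Matrix D.Idx D.Idx F :=
  (Int.castRingHom F).mapMatrix (toMat D (Pgraph g.permInv g.rtInv g.sgInv))

theorem PF_mul_x_of (hwf : wf D = true) (F : Type*) [Field F] (g : GraphData) (r r' : ℕ) (hr : r < D.nroots)
    (hr' : r' < D.nroots)
    (h : ∀ k, 1 ≤ k → k ≤ 3 → toMat D (Pgraph g.perm g.rt g.sg) * toMat D (E D r k) =
      toMat D (E D r' k) * toMat D (Pgraph g.perm g.rt g.sg)) (t : F) :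
    PF D F g * D.x F r t = D.x F r' t * PF D F g := by
  rw [x_eq_sum D hwf F r hr, x_eq_sum D hwf F r' hr']
  have e1 := congrArg (Int.castRingHom F).mapMatrix (h 1 le_rfl (by omega))
  have e2 := congrArg (Int.castRingHom F).mapMatrix (h 2 (by omega) (by omega))
  have e3 := congrArg (Int.castRingHom F).mapMatrix (h 3 (by omega) le_rfl)
  simp only [map_mul, ← EF_eq_mapMatrix] at e1 e2 e3
  have h0 : EF D F r 0 = 1 := by rw [EF_eq_mapMatrix, toMat_E_zero, map_one]
  have h0' : EF D F r' 0 = 1 := by rw [EF_eq_mapMatrix, toMat_E_zero, map_one]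
  unfold PF
  set P := (Int.castRingHom F).mapMatrix (toMat D (Pgraph g.perm g.rt g.sg))
  simp only [Finset.sum_range_succ, Finset.sum_range_zero, zero_add, h0, h0', pow_zero, one_smul, pow_one,
    mul_add, add_mul, Matrix.mul_smul, Matrix.smul_mul, e1, e2, e3, mul_one, one_mul]

variable (hD : D ∈ [chevG2, chevB2, chevD4, chevF4, chevE6, chevE7, chevE8])

include hD in
/-- the Chevalley group is generated by the root elements of the fundamental roots and their negatives -/
theorem group_eq_closure_simple (F : Type*) [Field F] :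
    D.group F = Subgroup.closure {g : GL D.Idx F | ∃ i < D.rank, ∃ t : F,
      (g : Matrix D.Idx D.Idx F) = D.x F (D.simple i) t ∨ (g : Matrix D.Idx D.Idx F) = D.x F (D.neg (D.simple i)) t} := by
  set K := Subgroup.closure {g : GL D.Idx F | ∃ i < D.rank, ∃ t : F,
      (g : Matrix D.Idx D.Idx F) = D.x F (D.simple i) t ∨ (g : Matrix D.Idx D.Idx F) = D.x F (D.neg (D.simple i)) t}
    with hK
  apply le_antisymm
  · apply group_le D hD F K
    intro r hr
    refine root_induction D hD (fun r => ∀ t : F, xGL D hD F r t ∈ K) ?_ ?_ r hr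
    · intro i hi t
      exact Subgroup.subset_closure ⟨i, hi, t, Or.inl (xGL_coe D hD F _ t)⟩
    · intro i hi r hr ih t
      rw [xGL_reflect D hD F i r hi hr t]
      have hn : nGL D hD F (D.simple i) 1 ∈ K := by
        apply wordGL_mem D hD F K
        intro p hp
        simp only [ChevalleyDatum.nWord, List.mem_cons, List.mem_nil_iff, or_false] at hp
        rcases hp with rfl | rfl | rfl
        · exact Subgroup.subset_closure ⟨i, hi, _, Or.inl (xGL_coe D hD F _ _)⟩
        · exact Subgroup.subset_closure ⟨i, hi, _, Or.inr (xGL_coe D hD F _ _)⟩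
        · exact Subgroup.subset_closure ⟨i, hi, _, Or.inl (xGL_coe D hD F _ _)⟩
      exact mul_mem (mul_mem hn (ih _)) (inv_mem hn)
  · rw [hK, Subgroup.closure_le]
    rintro g ⟨i, hi, t, hg | hg⟩
    · have : g = xGL D hD F (D.simple i) t := Units.ext (by rw [hg, xGL_coe])
      rw [this]; exact xGL_mem_group D hD F _ t
    · have : g = xGL D hD F (D.neg (D.simple i)) t := Units.ext (by rw [hg, xGL_coe])
      rw [this]; exact xGL_mem_group D hD F _ t

/-- the graph automorphism as an element of the general linear group -/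
noncomputable def PGL (F : Type*) [Field F] (g : GraphData) (hg : GraphSpec D g) : GL D.Idx F :=
  ⟨PF D F g, PF' D F g, by unfold PF PF'; rw [← map_mul, hg.mul_inv, map_one],
    by unfold PF PF'; rw [← map_mul, hg.inv_mul, map_one]⟩

include hD in
theorem PGL_conj_pos (F : Type*) [Field F] (g : GraphData) (hg : GraphSpec D g) (i : ℕ) (hi : i < D.rank) (t : F) :
    PGL D F g hg * xGL D hD F (D.simple i) t * (PGL D F g hg)⁻¹ = xGL D hD F (D.simple (g.perm.getD i 0)) t := by
  obtain ⟨hp, -⟩ := chkN2_spec D (chkN2_all D hD) i hi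
  obtain ⟨hp', -⟩ := chkN2_spec D (chkN2_all D hD) _ (hg.perm_lt i hi)
  rw [mul_inv_eq_iff_eq_mul]
  apply Units.ext
  rw [Units.val_mul, Units.val_mul, xGL_coe, xGL_coe]
  exact PF_mul_x_of D (wf_all D hD) F g _ _ hp hp' (hg.conj_pos i hi) t

include hD in
theorem PGL_conj_neg (F : Type*) [Field F] (g : GraphData) (hg : GraphSpec D g) (i : ℕ) (hi : i < D.rank) (t : F) :
    PGL D F g hg * xGL D hD F (D.neg (D.simple i)) t * (PGL D F g hg)⁻¹ =
      xGL D hD F (D.neg (D.simple (g.perm.getD i 0))) t := by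
  obtain ⟨hp, -⟩ := chkN2_spec D (chkN2_all D hD) i hi
  obtain ⟨hp', -⟩ := chkN2_spec D (chkN2_all D hD) _ (hg.perm_lt i hi)
  rw [mul_inv_eq_iff_eq_mul]
  apply Units.ext
  rw [Units.val_mul, Units.val_mul, xGL_coe, xGL_coe]
  exact PF_mul_x_of D (wf_all D hD) F g _ _ (wf_neg D (wf_all D hD) _ hp) (wf_neg D (wf_all D hD) _ hp')
    (hg.conj_neg i hi) t

include hD in
theorem group_map_conj (F : Type*) [Field F] (g : GraphData) (hg : GraphSpec D g) :
    (D.group F).map (MulAut.conj (PGL D F g hg)).toMonoidHom = D.group F := by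
  apply le_antisymm
  · rw [group_eq_closure_simple D hD F, MonoidHom.map_closure, Subgroup.closure_le]
    rintro _ ⟨x, ⟨i, hi, t, hx | hx⟩, rfl⟩
    · have ex : x = xGL D hD F (D.simple i) t := Units.ext (by rw [hx, xGL_coe])
      have : (MulAut.conj (PGL D F g hg)).toMonoidHom x = xGL D hD F (D.simple (g.perm.getD i 0)) t := by
        rw [ex, ← PGL_conj_pos D hD F g hg i hi t]; rfl
      rw [SetLike.mem_coe, this]
      exact Subgroup.subset_closure ⟨_, hg.perm_lt i hi, t, Or.inl (xGL_coe D hD F _ t)⟩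
    · have ex : x = xGL D hD F (D.neg (D.simple i)) t := Units.ext (by rw [hx, xGL_coe])
      have : (MulAut.conj (PGL D F g hg)).toMonoidHom x = xGL D hD F (D.neg (D.simple (g.perm.getD i 0))) t := by
        rw [ex, ← PGL_conj_neg D hD F g hg i hi t]; rfl
      rw [SetLike.mem_coe, this]
      exact Subgroup.subset_closure ⟨_, hg.perm_lt i hi, t, Or.inr (xGL_coe D hD F _ t)⟩
  · have hGK := group_eq_closure_simple D hD F
    rw [hGK, Subgroup.closure_le]
    rintro x ⟨j, hj, t, hx | hx⟩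
    · have ex : x = xGL D hD F (D.simple j) t := Units.ext (by rw [hx, xGL_coe])
      have hc := PGL_conj_pos D hD F g hg _ (hg.permInv_lt j hj) t
      rw [hg.perm_permInv j hj] at hc
      rw [SetLike.mem_coe, ex, ← hc]
      refine Subgroup.mem_map.2 ⟨xGL D hD F (D.simple (g.permInv.getD j 0)) t, ?_, rfl⟩
      exact Subgroup.subset_closure ⟨_, hg.permInv_lt j hj, t, Or.inl (xGL_coe D hD F _ t)⟩
    · have ex : x = xGL D hD F (D.neg (D.simple j)) t := Units.ext (by rw [hx, xGL_coe])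
      have hc := PGL_conj_neg D hD F g hg _ (hg.permInv_lt j hj) t
      rw [hg.perm_permInv j hj] at hc
      rw [SetLike.mem_coe, ex, ← hc]
      refine Subgroup.mem_map.2 ⟨xGL D hD F (D.neg (D.simple (g.permInv.getD j 0))) t, ?_, rfl⟩
      exact Subgroup.subset_closure ⟨_, hg.permInv_lt j hj, t, Or.inr (xGL_coe D hD F _ t)⟩

include hD in
/-- the graph automorphism of the Chevalley group -/
theorem exists_graph_aut (F : Type*) [Field F] (g : GraphData) (hchk : chkGraph D g = true) :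
    ∃ α : ↥(D.group F) ≃* ↥(D.group F), ∀ (x : ↥(D.group F)) (i : ℕ) (t : F), i < D.rank →
      (((x : GL D.Idx F) : Matrix D.Idx D.Idx F) = D.x F (D.simple i) t →
        ((α x : GL D.Idx F) : Matrix D.Idx D.Idx F) = D.x F (D.simple (g.perm.getD i 0)) t) ∧
      (((x : GL D.Idx F) : Matrix D.Idx D.Idx F) = D.x F (D.neg (D.simple i)) t →
        ((α x : GL D.Idx F) : Matrix D.Idx D.Idx F) = D.x F (D.neg (D.simple (g.perm.getD i 0))) t) := by
  have hg := graphSpec_of_chk D (wf_all D hD) (wfFast_all D hD) g hchk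
  have hmap := group_map_conj D hD F g hg
  let α : ↥(D.group F) ≃* ↥(D.group F) :=
    ((MulAut.conj (PGL D F g hg)).subgroupMap (D.group F)).trans (MulEquiv.subgroupCongr hmap)
  have hα : ∀ x : ↥(D.group F), ((α x : ↥(D.group F)) : GL D.Idx F) =
      PGL D F g hg * (x : GL D.Idx F) * (PGL D F g hg)⁻¹ := by
    intro x
    rfl
  refine ⟨α, fun x i t hi => ⟨fun hx => ?_, fun hx => ?_⟩⟩
  · have ex : (x : GL D.Idx F) = xGL D hD F (D.simple i) t := Units.ext (by rw [hx, xGL_coe])
    rw [hα, ex, PGL_conj_pos D hD F g hg i hi t, xGL_coe]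
  · have ex : (x : GL D.Idx F) = xGL D hD F (D.neg (D.simple i)) t := Units.ext (by rw [hx, xGL_coe])
    rw [hα, ex, PGL_conj_neg D hD F g hg i hi t, xGL_coe]

end Cfsg.Agent.Lib.Helper18.GO
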