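import Cfsg.Agent.Lib.Helper18.AutDefs
import Cfsg.Agent.Lib.Helper18.GraphOld

/-! # S2156, T10: homomorphisms agreeing on the fundamental root elements are equal (helper18) -/

set_option autoImplicit false

namespace Cfsg.Agent.Lib.Helper18.Au

open Cfsg Cfsg.Lie Cfsg.Agent.Lib.Helper36 Cfsg.Agent.Lib.Helper18 Cfsg.Agent.Lib.Helper18.GO

section
variable (D : ChevalleyDatum) (hD : D ∈ [chevG2, chevB2, chevD4, chevF4, chevE6, chevE7, chevE8])
variable (F : Type*) [Field F]

include hD in
theorem T10_ext' (α β : ↥(D.group F) →* ↥(D.group F))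
    (h : ∀ (i : Fin D.rank) (t : F), α (xGr D hD F (D.simple i) t) = β (xGr D hD F (D.simple i) t) ∧
      α (xGr D hD F (D.neg (D.simple i)) t) = β (xGr D hD F (D.neg (D.simple i)) t)) : α = β := by
  set E : Subgroup (GL D.Idx F) := (MonoidHom.eqLocus α β).map (D.group F).subtype with hE
  have hle : D.group F ≤ E := by
    rw [group_eq_closure_simple D hD F, Subgroup.closure_le]
    rintro g ⟨i, hi, t, hg | hg⟩
    · have e : g = xGL D hD F (D.simple i) t := Units.ext (by rw [hg, xGL_coe])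
      rw [e]
      exact ⟨xGr D hD F (D.simple i) t, (h ⟨i, hi⟩ t).1, rfl⟩
    · have e : g = xGL D hD F (D.neg (D.simple i)) t := Units.ext (by rw [hg, xGL_coe])
      rw [e]
      exact ⟨xGr D hD F (D.neg (D.simple i)) t, (h ⟨i, hi⟩ t).2, rfl⟩
  apply MonoidHom.ext
  intro y
  obtain ⟨z, hz, hzy⟩ := hle y.2
  have : z = y := Subtype.ext hzy
  rw [← this]
  exact hz

end

end Cfsg.Agent.Lib.Helper18.Au
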