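import Cfsg.Agent.Lib.Helper18.StOrd

/-! # The positive and the negative ordered sides (helper18) -/

set_option autoImplicit false
set_option maxRecDepth 100000

namespace Cfsg.Agent.Lib.Helper18

open Cfsg Cfsg.Lie Cfsg.Agent.Lib.Helper36

/-- table check: `neg` is an involution negating the coroot coordinates -/
def chkNeg2 (D : ChevalleyDatum) : Bool :=
  (List.range D.nroots).all fun r => Nat.beq (D.neg (D.neg r)) r &&
    (List.range D.rank).all fun i => corF D (D.neg r) i == - corF D r i

theorem chkNeg2_G2 : chkNeg2 chevG2 = true := by decide +kernel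
theorem chkNeg2_B2 : chkNeg2 chevB2 = true := by decide +kernel
theorem chkNeg2_D4 : chkNeg2 chevD4 = true := by decide +kernel
theorem chkNeg2_F4 : chkNeg2 chevF4 = true := by decide +kernel
theorem chkNeg2_E6 : chkNeg2 chevE6 = true := by decide +kernel
theorem chkNeg2_E7 : chkNeg2 chevE7 = true := by decide +kernel
theorem chkNeg2_E8 : chkNeg2 chevE8 = true := by decide +kernel

theorem chkNeg2_all (D : ChevalleyDatum) (hD : D ∈ [chevG2, chevB2, chevD4, chevF4, chevE6, chevE7, chevE8]) :
    chkNeg2 D = true :=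
  seven_cases (P := fun D => chkNeg2 D = true) D hD chkNeg2_G2 chkNeg2_B2 chkNeg2_D4 chkNeg2_F4 chkNeg2_E6
    chkNeg2_E7 chkNeg2_E8

section
variable (D : ChevalleyDatum) (hD : D ∈ [chevG2, chevB2, chevD4, chevF4, chevE6, chevE7, chevE8])

include hD in
theorem neg_neg_root (r : ℕ) (hr : r < D.nroots) : D.neg (D.neg r) = r := by
  have h := chkNeg2_all D hD
  unfold chkNeg2 at h
  simp only [List.all_eq_true, Bool.and_eq_true, List.mem_range] at h
  exact Nat.eq_of_beq_eq_true (h r hr).1

include hD in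
theorem cor_neg_root (r i : ℕ) (hr : r < D.nroots) (hi : i < D.rank) : cor D (D.neg r) i = - cor D r i := by
  have h := chkNeg2_all D hD
  unfold chkNeg2 at h
  simp only [List.all_eq_true, Bool.and_eq_true, List.mem_range, beq_iff_eq] at h
  have h1 := (h r hr).2 i hi
  unfold corF at h1
  rw [fast_coroot D (wfFast_all D hD) _ i (wf_neg D (wf_all D hD) r hr) hi,
    fast_coroot D (wfFast_all D hD) r i hr hi] at h1
  exact h1

include hD in
theorem isNegRoot_neg (r : ℕ) (hr : D.IsPosRoot r) : D.IsNegRoot (D.neg r) := by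
  apply isNegRoot_of_htF_neg D hD _ (wf_neg D (wf_all D hD) r hr.1)
  rw [(addAt_htF D hD r hr.1).1]
  have := htF_pos D hD r hr
  omega

include hD in
theorem isPosRoot_neg (r : ℕ) (hr : D.IsNegRoot r) : D.IsPosRoot (D.neg r) := by
  apply isPosRoot_of_htF_pos D hD _ (wf_neg D (wf_all D hD) r hr.1)
  rw [(addAt_htF D hD r hr.1).1]
  have := htF_neg D hD r hr
  omega

include hD in
/-- the positive side -/
theorem sidePos : OrdSide D (fun r => r) (htW D) := by
  obtain ⟨hadd, hpos, hmono⟩ := chkW_spec D (chkW_all D hD)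
  refine ⟨fun r hr => hr.1, ?_, ?_, hadd, hpos, hmono, ?_, ?_⟩
  · intro r s hr hs hrs
    refine ⟨by omega, fun e => ?_⟩
    have := isNegRoot_neg D hD r hr
    rw [← e] at this
    exact not_pos_and_neg D hD s hs this
  · intro r s hr hs _ c hc
    obtain ⟨h1, h2⟩ := commTerms_pos D hD r s hr hs c hc
    exact ⟨c.1, h1, h2, rfl⟩
  · intro r hr d hd
    exact chkPrim_spec D (chkPrim_all D hD) r hr d hd
  · intro r hr
    exact ⟨(wf2_spec D (wf2_all D hD) r hr.1).1, wf_neg D (wf_all D hD) r hr.1⟩

include hD in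
/-- the negative side -/
theorem sideNeg : OrdSide D D.neg (fun r => - htW D r) := by
  obtain ⟨hadd, hpos, hmono⟩ := chkW_spec D (chkW_all D hD)
  have hwf := wf_all D hD
  have hnegW : ∀ r < D.nroots, htW D (D.neg r) = - htW D r := fun r hr => (hadd r hr).1
  refine ⟨fun r hr => wf_neg D hwf r hr.1, ?_, ?_, ?_, ?_, ?_, ?_, ?_⟩
  · intro r s hr hs hrs
    constructor
    · intro e
      have := congrArg D.neg e
      rw [neg_neg_root D hD s hs.1, neg_neg_root D hD r hr.1] at this
      omega
    · rw [neg_neg_root D hD r hr.1]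
      intro e
      have := isNegRoot_neg D hD s hs
      rw [e] at this
      exact not_pos_and_neg D hD r hr this
  · intro r s hr hs hrs c hc
    have hnr := isNegRoot_neg D hD r hr
    have hns := isNegRoot_neg D hD s hs
    have hcn := commTerms_neg D hD _ _ hnr hns c hc
    obtain ⟨h3, h4⟩ := commTerms_ht D (htW D) hwf hadd _ _ hnr.1 hns.1 c hc
    obtain ⟨e1, e2⟩ := commTerms_exp_pos D _ _ c hc
    have hi : (1 : ℤ) ≤ (c.2.2.1 : ℤ) := by exact_mod_cast e1
    have hj : (1 : ℤ) ≤ (c.2.2.2 : ℤ) := by exact_mod_cast e2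
    have hcp := isPosRoot_neg D hD c.1 hcn
    refine ⟨D.neg c.1, hcp, ?_, (neg_neg_root D hD c.1 h4).symm⟩
    have q1 := hpos r hr
    have q2 := hpos s hs
    have hgt : htW D r < htW D (D.neg c.1) := by
      rw [hnegW c.1 h4, h3, hnegW r hr.1, hnegW s hs.1]
      nlinarith
    by_contra hle
    rcases Nat.lt_or_ge (D.neg c.1) r with h | h
    · have := hmono _ r hcp hr h
      omega
    · have : D.neg c.1 = r := by omega
      rw [this] at hgt
      exact lt_irrefl _ hgt
  · intro r hr
    obtain ⟨a, b⟩ := hadd r hr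
    refine ⟨by show - htW D (D.neg r) = - - htW D r; rw [a], fun e he k q hq => ?_⟩
    have := b e he k q hq
    show - htW D q.1 = - htW D e.1 + ((k : ℤ) + 1) * - htW D r
    rw [this]; ring
  · intro r hr
    show 0 < - htW D (D.neg r)
    rw [hnegW r hr.1]
    have := hpos r hr
    omega
  · intro r s hr hs hrs
    show - htW D (D.neg r) < - htW D (D.neg s)
    rw [hnegW r hr.1, hnegW s hs.1]
    have := hmono r s hr hs hrs
    omega
  · intro r hr d hd
    apply chkPrim_spec D (chkPrim_all D hD) r hr d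
    intro i hi
    have := hd i hi
    rw [cor_neg_root D hD r i hr.1 hi] at this
    exact (Int.dvd_neg).1 this
  · intro r hr
    have h1 := wf_neg D hwf r hr.1
    exact ⟨(wf2_spec D (wf2_all D hD) _ h1).1, wf_neg D hwf _ h1⟩

end

end Cfsg.Agent.Lib.Helper18
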