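import Cfsg.Agent.Lib.Helper18.AutDefs
import Cfsg.Agent.Lib.Helper36.ChevRank1
import Cfsg.Agent.Lib.Helper36.ChevBV
import Cfsg.Agent.Lib.Helper18.StSides

/-! # S2156, T5a: the rank one computation (helper18) -/

set_option autoImplicit false

namespace Cfsg.Agent.Lib.Helper18.Au

open Cfsg Cfsg.Lie Cfsg.Agent.Lib.Helper36 Cfsg.Agent.Lib.Helper18 Matrix

section abstract
variable {F : Type*} [Field F] {G : Type*} [Group G] (S : SL2Data F G)

open SL2Data

theorem sl2_identity (a b c : F) (hp : 1 + a * b ≠ 0) :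
    (sU a * sV b * sU a) * sU c =
      (sV (b / (1 + a * b)) * sU ((1 + a * b) ^ 2 * c) * sV (-(b / (1 + a * b)))) * (sU a * sV b * sU a) := by
  have hp' : 1 + b * a ≠ 0 := by rwa [mul_comm b a]
  apply Subtype.ext
  show (!![1, a; 0, 1] * !![1, 0; b, 1] * !![1, a; 0, 1] * !![1, c; 0, 1] : Matrix (Fin 2) (Fin 2) F) =
    !![1, 0; b / (1 + a * b), 1] * !![1, (1 + a * b) ^ 2 * c; 0, 1] * !![1, 0; -(b / (1 + a * b)), 1] *
      (!![1, a; 0, 1] * !![1, 0; b, 1] * !![1, a; 0, 1])
  simp only [Matrix.mul_fin_two]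
  ext i j
  fin_cases i <;> fin_cases j <;> simp <;> field_simp <;> ring

theorem n_conj_x (a c : F) (ha : a ≠ 0) : S.n a * S.x c * (S.n a)⁻¹ = S.y (-(a ^ 2)⁻¹ * c) := by
  rw [mul_inv_eq_iff_eq_mul, S.n_eq a, mul_assoc, S.nx, ← mul_assoc, S.hy _ _ ha, mul_assoc]
  congr 2
  ring

theorem sl2_conj_key (hdisj : ∀ a b : F, S.x a = S.y b → a = 0) (hyinj : Function.Injective S.y)
    (a b c e : F) (hc : c ≠ 0)
    (h : (S.x a * S.y b * S.x a) * S.x c * (S.x a * S.y b * S.x a)⁻¹ = S.y e) :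
    e = -(a ^ 2)⁻¹ * c := by
  by_cases hp : 1 + a * b = 0
  · have ha : a ≠ 0 := by
      rintro rfl
      simp at hp
    have hb : b = -a⁻¹ := by
      have : a * b = -1 := by linear_combination hp
      field_simp
      linear_combination this
    rw [hb] at h
    have e1 : S.x a * S.y (-a⁻¹) * S.x a = S.n a := rfl
    rw [e1, n_conj_x S a c ha] at h
    exact (hyinj h).symm
  · exfalso
    have I1 := congrArg S.hom (sl2_identity a b c hp)
    simp only [map_mul, hom_sU, hom_sV] at I1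
    rw [mul_inv_eq_iff_eq_mul, I1, mul_left_inj] at h
    have h2 : S.x ((1 + a * b) ^ 2 * c) = S.y e := by
      have h3 : S.x ((1 + a * b) ^ 2 * c) =
          (S.y (b / (1 + a * b)))⁻¹ * S.y e * (S.y (-(b / (1 + a * b))))⁻¹ := by
        rw [← h]; group
      rw [h3, S.y_inv, S.y_inv, S.y_add, S.y_add]
      congr 1
      ring
    have := hdisj _ _ h2
    exact hc ((mul_eq_zero.1 this).resolve_left (pow_ne_zero 2 hp))

end abstract

section
variable (D : ChevalleyDatum) (hD : D ∈ [chevG2, chevB2, chevD4, chevF4, chevE6, chevE7, chevE8])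
variable (F : Type*) [Field F]

include hD in
theorem xGL_mem_neg' (r : ℕ) (hr : D.IsNegRoot r) (t : F) : xGL D hD F r t ∈ D.negUnipotent F :=
  Subgroup.subset_closure ⟨r, t, hr, xGL_coe D hD F r t⟩

include hD in
theorem xGL_disj (r : ℕ) (hr : r < D.nroots) (a b : F) (h : xGL D hD F r a = xGL D hD F (D.neg r) b) : a = 0 := by
  have hbot := borel_inf_neg D hD F
  have h1 : xGL D hD F r a = 1 := by
    rcases pos_or_neg D hD r hr with hp | hn
    · have m1 : xGL D hD F r a ∈ D.borelSubgroup F := pos_le_borel D F (xGL_mem_pos D hD F r hp a)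
      have m2 : xGL D hD F r a ∈ D.negUnipotent F := by
        rw [h]; exact xGL_mem_neg' D hD F _ (isNegRoot_neg D hD r hp) b
      have : xGL D hD F r a ∈ D.borelSubgroup F ⊓ D.negUnipotent F := ⟨m1, m2⟩
      rw [hbot] at this
      exact this
    · have m1 : xGL D hD F r a ∈ D.borelSubgroup F := by
        rw [h]; exact pos_le_borel D F (xGL_mem_pos D hD F _ (isPosRoot_neg D hD r hn) b)
      have m2 : xGL D hD F r a ∈ D.negUnipotent F := xGL_mem_neg' D hD F _ hn a
      have : xGL D hD F r a ∈ D.borelSubgroup F ⊓ D.negUnipotent F := ⟨m1, m2⟩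
      rw [hbot] at this
      exact this
  apply x_eq_one_iff D hD F r hr a
  rw [← xGL_coe D hD, h1]; rfl

include hD in
theorem T5a_rank1' (θ : ↥(D.group F) ≃* ↥(D.group F)) (r r' : ℕ) (hr : r < D.nroots) (hr' : r' < D.nroots)
    (f g : F → F) (hf : ∀ t, θ (xGr D hD F r t) = xGr D hD F r' (f t))
    (hg : ∀ t, θ (xGr D hD F (D.neg r) t) = xGr D hD F (D.neg r') (g t)) :
    ∀ t u : F, t ≠ 0 → g (-(t ^ 2)⁻¹ * u) = -((f t) ^ 2)⁻¹ * f u := by
  intro t u ht
  have hnr : D.neg r < D.nroots := wf_neg D (wf_all D hD) r hr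
  have hnr' : D.neg r' < D.nroots := wf_neg D (wf_all D hD) r' hr'
  have hfa := maps_add D hD F θ r r' hr' f hf
  have hga := maps_add D hD F θ _ _ hnr' g hg
  have hfi := maps_inj D hD F θ r r' hr f hf
  have hf0 : f 0 = 0 := by
    have := hfa 0 0
    rw [add_zero] at this
    exact add_eq_left.1 this.symm
  have hg0 : g 0 = 0 := by
    have := hga 0 0
    rw [add_zero] at this
    exact add_eq_left.1 this.symm
  by_cases hu : u = 0
  · subst hu
    rw [mul_zero, hg0, hf0, mul_zero]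
  have hc : f u ≠ 0 := fun h0 => hu (hfi (h0.trans hf0.symm))
  set S := rank1Data D hD F r hr with hS
  set S' := rank1Data D hD F r' hr' with hS'
  -- the relation in the group
  have rel : (xGr D hD F r t * xGr D hD F (D.neg r) (-t⁻¹) * xGr D hD F r t) * xGr D hD F r u *
      (xGr D hD F r t * xGr D hD F (D.neg r) (-t⁻¹) * xGr D hD F r t)⁻¹ =
      xGr D hD F (D.neg r) (-(t ^ 2)⁻¹ * u) := by
    apply Subtype.ext
    simp only [Subgroup.coe_mul, Subgroup.coe_inv, xGr_coe]
    exact n_conj_x S t u ht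
  have rel' := congrArg θ rel
  simp only [map_mul, map_inv, hf, hg] at rel'
  have rel'' := congrArg (fun z : ↥(D.group F) => (z : GL D.Idx F)) rel'
  simp only [Subgroup.coe_mul, Subgroup.coe_inv, xGr_coe] at rel''
  exact sl2_conj_key S' (fun a b h => xGL_disj D hD F r' hr' a b h)
    (fun a b h => x_injective D hD _ hnr' a b (by
      rw [← xGL_coe D hD, ← xGL_coe D hD]
      exact congrArg Units.val h)) (f t) (g (-t⁻¹)) (f u) _ hc rel''

end

end Cfsg.Agent.Lib.Helper18.Au
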