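import Mathlib

/-! # S2156, T5b: an additive injective map with the rank one relation is a field automorphism (helper18) -/

set_option autoImplicit false

namespace Cfsg.Agent.Lib.Helper18.Au

theorem T5b_alg' (F : Type*) [Field F] [Finite F] (f g : F → F) (hfa : ∀ a b, f (a + b) = f a + f b)
    (_hga : ∀ a b, g (a + b) = g a + g b)
    (hfi : Function.Injective f) (h1 : f 1 = 1)
    (hrel : ∀ t u : F, t ≠ 0 → g (-(t ^ 2)⁻¹ * u) = -((f t) ^ 2)⁻¹ * f u) :
    ∃ σ : F ≃+* F, (∀ t, f t = σ t) ∧ (∀ t, g t = σ t) := by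
  have hf0 : f 0 = 0 := by
    have := hfa 0 0
    rw [add_zero] at this
    exact add_eq_left.1 this.symm
  have hfneg : ∀ a, f (-a) = - f a := by
    intro a
    have := hfa a (-a)
    rw [add_neg_cancel, hf0] at this
    exact (neg_eq_of_add_eq_zero_right this.symm).symm
  have hfsub : ∀ a b, f (a - b) = f a - f b := by
    intro a b
    rw [sub_eq_add_neg, hfa, hfneg, ← sub_eq_add_neg]
  have hgneg : ∀ u, g (-u) = - f u := by
    intro u
    have := hrel 1 u one_ne_zero
    simpa [h1] using this
  have hgf : ∀ u, g u = f u := by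
    intro u
    have := hgneg (-u)
    rw [neg_neg, hfneg, neg_neg] at this
    exact this
  have hne : ∀ t, t ≠ 0 → f t ≠ 0 := by
    intro t ht h0
    exact ht (hfi (h0.trans hf0.symm))
  have hstar : ∀ t u : F, t ≠ 0 → f ((t ^ 2)⁻¹ * u) = ((f t) ^ 2)⁻¹ * f u := by
    intro t u ht
    have := hrel t u ht
    rw [neg_mul, hgneg, neg_mul, neg_inj] at this
    exact this
  have hsq : ∀ w u : F, f (w ^ 2 * u) = f (w ^ 2) * f u := by
    intro w u
    by_cases hw : w = 0
    · subst hw
      simp [hf0]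
    · have hw' : w⁻¹ ≠ 0 := inv_ne_zero hw
      have e : ((w⁻¹) ^ 2)⁻¹ = w ^ 2 := by
        rw [inv_pow, inv_inv]
      have a1 := hstar w⁻¹ u hw'
      have a2 := hstar w⁻¹ 1 hw'
      rw [e] at a1 a2
      rw [mul_one, h1, mul_one] at a2
      rw [a1, a2]
  have hmul : ∀ a u : F, f (a * u) = f a * f u := by
    intro a u
    by_cases h2 : (2 : F) = 0
    · have hchar : ringChar F = 2 := by
        haveI : CharP F 2 := by
          apply CharTwo.of_one_ne_zero_of_two_eq_zero one_ne_zero h2
        exact ringChar.eq F 2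
      obtain ⟨w, hw⟩ := FiniteField.isSquare_of_char_two hchar a
      have : a = w ^ 2 := by rw [hw, pow_two]
      rw [this]
      exact hsq w u
    · have ea : a = ((a + 1) / 2) ^ 2 - ((a - 1) / 2) ^ 2 := by
        field_simp
        ring
      have e1 : a * u = ((a + 1) / 2) ^ 2 * u - ((a - 1) / 2) ^ 2 * u := by
        rw [← sub_mul, ← ea]
      rw [e1, hfsub, hsq, hsq, ← sub_mul, ← hfsub, ← ea]
  let φ : F →+* F :=
    { toFun := f
      map_one' := h1
      map_mul' := hmul
      map_zero' := hf0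
      map_add' := hfa }
  have hbij : Function.Bijective φ := ⟨hfi, Finite.surjective_of_injective hfi⟩
  refine ⟨RingEquiv.ofBijective φ hbij, fun t => rfl, fun t => ?_⟩
  rw [hgf]
  rfl

end Cfsg.Agent.Lib.Helper18.Au
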