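import Cfsg.Agent.Lib.Helper18.AutT7a

/-! # S2156, T7: existence of graph automorphisms for every diagram symmetry (helper18) -/

set_option autoImplicit false
set_option maxRecDepth 100000

namespace Cfsg.Agent.Lib.Helper18.Au

open Cfsg Cfsg.Lie Cfsg.Agent.Lib.Helper36 Cfsg.Agent.Lib.Helper18 Cfsg.Agent.Lib.Helper18.GO

def gD4t23 : GraphData where
  perm := [0, 1, 3, 2]
  rt := [0, 1, 3, 2, 4, 5, 6, 8, 7, 9, 11, 10, 13, 12, 14, 16, 15, 17, 18, 19, 21, 20, 22, 23]
  sg := [1, 1, 1, 1, 1, 1, 1, 1, 1, 1, 1, 1, 1, 1, 1, 1, 1, 1, 1, 1, 1, 1, 1, 1]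
  permInv := [0, 1, 3, 2]
  rtInv := [0, 1, 3, 2, 4, 5, 6, 8, 7, 9, 11, 10, 13, 12, 14, 16, 15, 17, 18, 19, 21, 20, 22, 23]
  sgInv := [1, 1, 1, 1, 1, 1, 1, 1, 1, 1, 1, 1, 1, 1, 1, 1, 1, 1, 1, 1, 1, 1, 1, 1]

def gD4t02 : GraphData where
  perm := [2, 1, 0, 3]
  rt := [0, 1, 2, 6, 7, 10, 3, 4, 8, 9, 5, 11, 12, 18, 14, 15, 19, 20, 13, 16, 17, 21, 22, 23]
  sg := [1, 1, 1, -1, -1, 1, -1, -1, 1, 1, 1, 1, 1, 1, 1, 1, -1, -1, 1, -1, -1, 1, 1, 1]
  permInv := [2, 1, 0, 3]
  rtInv := [0, 1, 2, 6, 7, 10, 3, 4, 8, 9, 5, 11, 12, 18, 14, 15, 19, 20, 13, 16, 17, 21, 22, 23]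
  sgInv := [1, 1, 1, -1, -1, 1, -1, -1, 1, 1, 1, 1, 1, 1, 1, 1, -1, -1, 1, -1, -1, 1, 1, 1]

def gD4t03 : GraphData where
  perm := [3, 1, 2, 0]
  rt := [0, 1, 6, 3, 8, 11, 2, 7, 4, 9, 10, 5, 18, 13, 14, 19, 16, 21, 12, 15, 20, 17, 22, 23]
  sg := [1, 1, -1, 1, -1, 1, -1, 1, -1, 1, 1, 1, 1, 1, 1, -1, 1, -1, 1, -1, 1, -1, 1, 1]
  permInv := [3, 1, 2, 0]
  rtInv := [0, 1, 6, 3, 8, 11, 2, 7, 4, 9, 10, 5, 18, 13, 14, 19, 16, 21, 12, 15, 20, 17, 22, 23]
  sgInv := [1, 1, -1, 1, -1, 1, -1, 1, -1, 1, 1, 1, 1, 1, 1, -1, 1, -1, 1, -1, 1, -1, 1, 1]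

theorem chkGraph_D4t23 : chkGraph chevD4 gD4t23 = true := by decide +kernel
theorem chkGraph_D4t02 : chkGraph chevD4 gD4t02 = true := by decide +kernel
theorem chkGraph_D4t03 : chkGraph chevD4 gD4t03 = true := by decide +kernel

/-- no fundamental root is long (types with one root length) -/
def noLong (D : ChevalleyDatum) : Bool := (List.range D.rank).all fun j => !D.isLong (D.simple j)

theorem noLong_D4 : noLong chevD4 = true := by decide +kernel
theorem noLong_E6 : noLong chevE6 = true := by decide +kernel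
theorem noLong_E7 : noLong chevE7 = true := by decide +kernel
theorem noLong_E8 : noLong chevE8 = true := by decide +kernel

/-- the data check relating a special graph automorphism to the list of values `L` of the permutation -/
def chkTwData (D : ChevalleyDatum) (p : ℕ) (rho lam L : List ℕ) : Bool :=
  (List.range D.rank).all fun i =>
    decide (rho.getD (D.simple i) 0 = D.simple (L.getD i 0)) &&
    decide (rho.getD (D.neg (D.simple i)) 0 = D.neg (D.simple (L.getD i 0))) &&
    decide (lam.getD (D.simple i) 0 = D.graphExp p i (L.getD i 0)) &&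
    decide (lam.getD (D.neg (D.simple i)) 0 = D.graphExp p i (L.getD i 0)) &&
    decide (D.simple i < D.nroots) && decide (D.neg (D.simple i) < D.nroots)

theorem chkTwData_B2 : chkTwData chevB2 2 rhoB2 lamB2 [1, 0] = true := by decide +kernel
theorem chkTwData_G2 : chkTwData chevG2 3 rhoG2 lamG2 [1, 0] = true := by decide +kernel
theorem chkTwData_F4 : chkTwData chevF4 2 rhoF4 lamF4 [3, 2, 1, 0] = true := by decide +kernel

/-- the permutation with values `L` exchanges root lengths somewhere -/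
def chkSwaps (D : ChevalleyDatum) (L : List ℕ) : Bool :=
  (List.range D.rank).any fun i => D.isLong (D.simple (L.getD i 0)) != D.isLong (D.simple i)

theorem chkSwaps_B2 : chkSwaps chevB2 [1, 0] = true := by decide +kernel
theorem chkSwaps_G2 : chkSwaps chevG2 [1, 0] = true := by decide +kernel
theorem chkSwaps_F4 : chkSwaps chevF4 [3, 2, 1, 0] = true := by decide +kernel

section
variable (D : ChevalleyDatum) (hD : D ∈ [chevG2, chevB2, chevD4, chevF4, chevE6, chevE7, chevE8])
variable (F : Type*) [Field F]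

/-- the conclusion of T7 in terms of a list of values -/
def GraphFor (L : List ℕ) : Prop :=
  ∃ γ : ↥(D.group F) ≃* ↥(D.group F), ∀ i < D.rank, ∀ t : F,
    γ (xGr D hD F (D.simple i) t) =
      xGr D hD F (D.simple (L.getD i 0)) (t ^ D.graphExp (ringChar F) i (L.getD i 0)) ∧
    γ (xGr D hD F (D.neg (D.simple i)) t) =
      xGr D hD F (D.neg (D.simple (L.getD i 0))) (t ^ D.graphExp (ringChar F) i (L.getD i 0))

theorem graphExp_self (c i : ℕ) : D.graphExp c i i = 1 := by
  unfold ChevalleyDatum.graphExp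
  cases D.isLong (D.simple i) <;> simp

theorem graphFor_id : GraphFor D hD F (List.range D.rank) := by
  refine ⟨MulEquiv.refl _, fun i hi t => ?_⟩
  have e : (List.range D.rank).getD i 0 = i := by
    rw [List.getD_eq_getElem _ _ (by simpa using hi)]
    simp
  rw [e, graphExp_self, pow_one]
  exact ⟨rfl, rfl⟩

include hD in
theorem graphFor_data (g : GraphData) (hchk : chkGraph D g = true) (hno : noLong D = true) :
    GraphFor D hD F g.perm := by
  obtain ⟨α, hα⟩ := exists_graph_aut D hD F g hchk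
  refine ⟨α, fun i hi t => ?_⟩
  unfold noLong at hno
  rw [List.all_eq_true] at hno
  have hgi : g.perm.getD i 0 < D.rank := by
    have hg := graphSpec_of_chk D (wf_all D hD) (wfFast_all D hD) g hchk
    exact hg.perm_lt i hi
  have e : D.graphExp (ringChar F) i (g.perm.getD i 0) = 1 := by
    unfold ChevalleyDatum.graphExp
    have := hno _ (List.mem_range.2 hgi)
    rw [Bool.not_eq_true'] at this
    rw [this]
    simp
  rw [e, pow_one]
  obtain ⟨h1, h2⟩ := hα (xGr D hD F (D.simple i) t) i t hi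
  obtain ⟨h3, h4⟩ := hα (xGr D hD F (D.neg (D.simple i)) t) i t hi
  exact ⟨eq_xGr_of_coe hD _ _ _ (h1 (xGr_coe_mat hD _ _)), eq_xGr_of_coe hD _ _ _ (h4 (xGr_coe_mat hD _ _))⟩

include hD in
theorem graphFor_tw [Finite F] (p : ℕ) [Fact p.Prime] [CharP F p] (rho lam L : List ℕ)
    (h : chkTw D p rho lam = true) (hdata : chkTwData D p rho lam L = true) : GraphFor D hD F L := by
  have hperf : ∀ x : F, ∃ y : F, y ^ p = x := by
    intro x
    exact Finite.surjective_of_injective (frobenius_inj F p) x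
  obtain ⟨α, hα⟩ := tw_aut D hD F p rho lam h hperf (Or.inr inferInstance)
  have hchar : ringChar F = p := ringChar.eq F p
  refine ⟨α, fun i hi t => ?_⟩
  unfold chkTwData at hdata
  simp only [List.all_eq_true, List.mem_range, Bool.and_eq_true, decide_eq_true_eq] at hdata
  obtain ⟨⟨⟨⟨⟨e1, e2⟩, e3⟩, e4⟩, e5⟩, e6⟩ := hdata i hi
  rw [hα _ e5, hα _ e6, e1, e2, e3, e4, hchar]
  exact ⟨rfl, rfl⟩

end

end Cfsg.Agent.Lib.Helper18.Au

namespace Cfsg.Agent.Lib.Helper18.Au

open Cfsg Cfsg.Lie Cfsg.Agent.Lib.Helper36 Cfsg.Agent.Lib.Helper18 Cfsg.Agent.Lib.Helper18.GO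

section
variable (D : ChevalleyDatum) (hD : D ∈ [chevG2, chevB2, chevD4, chevF4, chevE6, chevE7, chevE8])
variable (F : Type*) [Field F]

/-- the conclusion of T7 -/
def GraphConcl (π : Equiv.Perm (Fin D.rank)) : Prop :=
  ∃ γ : ↥(D.group F) ≃* ↥(D.group F), ∀ (i : Fin D.rank) (t : F),
      γ (xGr D hD F (D.simple i) t) =
        xGr D hD F (D.simple (π i)) (t ^ D.graphExp (ringChar F) i (π i)) ∧
      γ (xGr D hD F (D.neg (D.simple i)) t) =
        xGr D hD F (D.neg (D.simple (π i))) (t ^ D.graphExp (ringChar F) i (π i))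

theorem concl_of_graphFor (π : Equiv.Perm (Fin D.rank)) (L : List ℕ) (hL : pre D π D.rank = L)
    (h : GraphFor D hD F L) : GraphConcl D hD F π := by
  obtain ⟨γ, hγ⟩ := h
  refine ⟨γ, fun i t => ?_⟩
  have e : L.getD i 0 = (π i : ℕ) := by rw [← hL, pre_getD D π _ _ i.2, pv_fin]
  have := hγ i i.2 t
  rw [e] at this
  exact this

theorem swaps_of_chk (π : Equiv.Perm (Fin D.rank)) (L : List ℕ) (hL : pre D π D.rank = L)
    (h : chkSwaps D L = true) : SwapsLength D π := by
  unfold chkSwaps at h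
  rw [List.any_eq_true] at h
  obtain ⟨i, hi, hne⟩ := h
  have hi := List.mem_range.1 hi
  refine ⟨⟨i, hi⟩, ?_⟩
  have e : L.getD i 0 = ((π ⟨i, hi⟩ : Fin D.rank) : ℕ) := by
    rw [← hL, pre_getD D π _ _ hi]
    unfold pv
    rw [dif_pos hi]
  rw [e] at hne
  simpa using hne

end

theorem B2_ne_G2 : chevB2 ≠ chevG2 := by
  intro h
  have := congrArg ChevalleyDatum.nroots h
  revert this
  decide

theorem F4_ne_G2 : chevF4 ≠ chevG2 := by
  intro h
  have := congrArg ChevalleyDatum.rank h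
  revert this
  decide

theorem G2_ne_B2 : chevG2 ≠ chevB2 := fun h => B2_ne_G2 h.symm

theorem G2_ne_F4 : chevG2 ≠ chevF4 := fun h => F4_ne_G2 h.symm

theorem T7_graph' (D : ChevalleyDatum) (hD : D ∈ [chevG2, chevB2, chevD4, chevF4, chevE6, chevE7, chevE8])
    (F : Type*) [Field F] [Finite F] (π : Equiv.Perm (Fin D.rank)) (hπ : D.IsDiagramSymmetry π)
    (hc : SwapsLength D π → SwapChar D F) : GraphConcl D hD F π := by
  have hD' := hD
  simp only [List.mem_cons, List.not_mem_nil, or_false] at hD'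
  rcases hD' with rfl | rfl | rfl | rfl | rfl | rfl | rfl
  · -- G2
    have hmem := symSearch_sound chevG2 π hπ _ chevG2.rank 0 (by simp) search_G2
    simp only [List.mem_cons, List.not_mem_nil, or_false] at hmem
    rcases hmem with hL | hL
    · exact concl_of_graphFor _ hD F π _ hL (graphFor_id chevG2 hD F)
    · have hs := hc (swaps_of_chk _ π _ hL chkSwaps_G2)
      rcases hs with ⟨h1 | h1, _⟩ | ⟨_, h3⟩
      · exact absurd h1 G2_ne_B2
      · exact absurd h1 G2_ne_F4
      · haveI : CharP F 3 := ringChar.of_eq h3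
        haveI : Fact (Nat.Prime 3) := ⟨Nat.prime_three⟩
        exact concl_of_graphFor _ hD F π _ hL (graphFor_tw chevG2 hD F 3 rhoG2 lamG2 _ chkTw_G2 chkTwData_G2)
  · -- B2
    have hmem := symSearch_sound chevB2 π hπ _ chevB2.rank 0 (by simp) search_B2
    simp only [List.mem_cons, List.not_mem_nil, or_false] at hmem
    rcases hmem with hL | hL
    · exact concl_of_graphFor _ hD F π _ hL (graphFor_id chevB2 hD F)
    · have hs := hc (swaps_of_chk _ π _ hL chkSwaps_B2)
      rcases hs with ⟨_, h2⟩ | ⟨h1, _⟩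
      · haveI : CharP F 2 := ringChar.of_eq h2
        haveI : Fact (Nat.Prime 2) := ⟨Nat.prime_two⟩
        exact concl_of_graphFor _ hD F π _ hL (graphFor_tw chevB2 hD F 2 rhoB2 lamB2 _ chkTw_B2 chkTwData_B2)
      · exact absurd h1 B2_ne_G2
  · -- D4
    have hmem := symSearch_sound chevD4 π hπ _ chevD4.rank 0 (by simp) search_D4
    simp only [List.mem_cons, List.not_mem_nil, or_false] at hmem
    rcases hmem with hL | hL | hL | hL | hL | hL
    · exact concl_of_graphFor _ hD F π _ hL (graphFor_id chevD4 hD F)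
    · exact concl_of_graphFor _ hD F π _ hL (graphFor_data chevD4 hD F gD4a chkGraph_D4a noLong_D4)
    · exact concl_of_graphFor _ hD F π _ hL (graphFor_data chevD4 hD F gD4b chkGraph_D4b noLong_D4)
    · exact concl_of_graphFor _ hD F π _ hL (graphFor_data chevD4 hD F gD4t23 chkGraph_D4t23 noLong_D4)
    · exact concl_of_graphFor _ hD F π _ hL (graphFor_data chevD4 hD F gD4t02 chkGraph_D4t02 noLong_D4)
    · exact concl_of_graphFor _ hD F π _ hL (graphFor_data chevD4 hD F gD4t03 chkGraph_D4t03 noLong_D4)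
  · -- F4
    have hmem := symSearch_sound chevF4 π hπ _ chevF4.rank 0 (by simp) search_F4
    simp only [List.mem_cons, List.not_mem_nil, or_false] at hmem
    rcases hmem with hL | hL
    · exact concl_of_graphFor _ hD F π _ hL (graphFor_id chevF4 hD F)
    · have hs := hc (swaps_of_chk _ π _ hL chkSwaps_F4)
      rcases hs with ⟨_, h2⟩ | ⟨h1, _⟩
      · haveI : CharP F 2 := ringChar.of_eq h2
        haveI : Fact (Nat.Prime 2) := ⟨Nat.prime_two⟩
        exact concl_of_graphFor _ hD F π _ hL (graphFor_tw chevF4 hD F 2 rhoF4 lamF4 _ chkTw_F4 chkTwData_F4)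
      · exact absurd h1 F4_ne_G2
  · -- E6
    have hmem := symSearch_sound chevE6 π hπ _ chevE6.rank 0 (by simp) search_E6
    simp only [List.mem_cons, List.not_mem_nil, or_false] at hmem
    rcases hmem with hL | hL
    · exact concl_of_graphFor _ hD F π _ hL (graphFor_id chevE6 hD F)
    · exact concl_of_graphFor _ hD F π _ hL (graphFor_data chevE6 hD F gE6 chkGraph_E6 noLong_E6)
  · -- E7
    have hmem := symSearch_sound chevE7 π hπ _ chevE7.rank 0 (by simp) search_E7
    simp only [List.mem_cons, List.not_mem_nil, or_false] at hmem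
    exact concl_of_graphFor _ hD F π _ hmem (graphFor_id chevE7 hD F)
  · -- E8
    have hmem := symSearch_sound chevE8 π hπ _ chevE8.rank 0 (by simp) search_E8
    simp only [List.mem_cons, List.not_mem_nil, or_false] at hmem
    exact concl_of_graphFor _ hD F π _ hmem (graphFor_id chevE8 hD F)

end Cfsg.Agent.Lib.Helper18.Au
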