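import Cfsg.Agent.Lib.Helper18.AutDefs
import Cfsg.Agent.Lib.Helper36.ChevFieldMap

/-! # S2156, T8: existence of field automorphisms of the Chevalley group (helper18) -/

set_option autoImplicit false

namespace Cfsg.Agent.Lib.Helper18.Au

open Cfsg Cfsg.Lie Cfsg.Agent.Lib.Helper36 Cfsg.Agent.Lib.Helper18

section
variable (D : ChevalleyDatum) (hD : D ∈ [chevG2, chevB2, chevD4, chevF4, chevE6, chevE7, chevE8])
variable (F : Type*) [Field F]

theorem glMap_comp_symm (σ τ : F ≃+* F) (h : ∀ t, τ (σ t) = t) (g : GL D.Idx F) :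
    glMap D (τ : F →+* F) (glMap D (σ : F →+* F) g) = g := by
  apply Units.ext
  rw [coe_glMap, coe_glMap]
  ext i j
  simp [Matrix.map_apply, h]

include hD in
theorem glMap_mem_group (τ : F ≃+* F) (g : ↥(D.group F)) :
    glMap D (τ : F →+* F) (g : GL D.Idx F) ∈ D.group F :=
  glMap_group_le D hD (τ : F →+* F) ⟨g, g.2, rfl⟩

/-- the field automorphism of the Chevalley group attached to `σ` -/
noncomputable def fieldAut (σ : F ≃+* F) : ↥(D.group F) ≃* ↥(D.group F) where
  toFun := fun g => ⟨glMap D (σ : F →+* F) (g : GL D.Idx F), glMap_mem_group D hD F σ g⟩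
  invFun := fun g => ⟨glMap D (σ.symm : F →+* F) (g : GL D.Idx F), glMap_mem_group D hD F σ.symm g⟩
  left_inv := by
    intro g
    apply Subtype.ext
    exact glMap_comp_symm D F σ σ.symm (fun t => σ.symm_apply_apply t) _
  right_inv := by
    intro g
    apply Subtype.ext
    exact glMap_comp_symm D F σ.symm σ (fun t => σ.apply_symm_apply t) _
  map_mul' := by
    intro a b
    apply Subtype.ext
    simp only [Subgroup.coe_mul, map_mul]

theorem fieldAut_coe (σ : F ≃+* F) (g : ↥(D.group F)) :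
    ((fieldAut D hD F σ g : ↥(D.group F)) : GL D.Idx F) = glMap D (σ : F →+* F) (g : GL D.Idx F) := rfl

theorem fieldAut_xGr (σ : F ≃+* F) (r : ℕ) (t : F) :
    fieldAut D hD F σ (xGr D hD F r t) = xGr D hD F r (σ t) := by
  apply Subtype.ext
  show glMap D (σ : F →+* F) (xGL D hD F r t) = xGL D hD F r (σ t)
  rw [glMap_xGL]
  rfl

include hD in
theorem T8_field' (σ : F ≃+* F) :
    ∃ φ : ↥(D.group F) ≃* ↥(D.group F), ∀ (r : ℕ) (t : F), φ (xGr D hD F r t) = xGr D hD F r (σ t) :=
  ⟨fieldAut D hD F σ, fieldAut_xGr D hD F σ⟩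

end

end Cfsg.Agent.Lib.Helper18.Au
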