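import Cfsg.Agent.Lib.Helper18.AutDefs
import Cfsg.Agent.Lib.Helper36.ChevFieldFix2

/-! # S2156, T9: the field automorphisms on the fundamental root subgroups agree (helper18) -/

set_option autoImplicit false

namespace Cfsg.Agent.Lib.Helper18.Au

open Cfsg Cfsg.Lie Cfsg.Agent.Lib.Helper36 Cfsg.Agent.Lib.Helper18

section defs
variable (D : ChevalleyDatum)

/-- nodes joined by a bond one of whose Cartan integers is `-1` -/
def adjM (k k' : ℕ) : Bool :=
  D.cartan k (D.simple k') == -1 || D.cartan k' (D.simple k) == -1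

def closeStepM (S : List ℕ) : List ℕ :=
  S ++ (List.range D.rank).filter fun k' => S.any fun k => adjM D k k'

def closeNM : ℕ → List ℕ → List ℕ
  | 0, S => S
  | n + 1, S => closeNM n (closeStepM D S)

def reachAllM (S : List ℕ) : Bool :=
  (List.range D.rank).all fun k => (closeNM D D.rank S).contains k

theorem closeStepM_sound (P : ℕ → Prop)
    (hstep : ∀ k k', k < D.rank → k' < D.rank → adjM D k k' = true → P k → P k')
    (S : List ℕ) (hS : ∀ k ∈ S, k < D.rank ∧ P k) : ∀ k ∈ closeStepM D S, k < D.rank ∧ P k := by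
  intro k hk
  unfold closeStepM at hk
  rw [List.mem_append] at hk
  rcases hk with hk | hk
  · exact hS k hk
  · rw [List.mem_filter, List.any_eq_true] at hk
    obtain ⟨hk1, k0, hk0, hadj⟩ := hk
    have hk1 := List.mem_range.1 hk1
    exact ⟨hk1, hstep k0 k (hS k0 hk0).1 hk1 hadj (hS k0 hk0).2⟩

theorem closeNM_sound (P : ℕ → Prop)
    (hstep : ∀ k k', k < D.rank → k' < D.rank → adjM D k k' = true → P k → P k')
    (n : ℕ) (S : List ℕ) (hS : ∀ k ∈ S, k < D.rank ∧ P k) : ∀ k ∈ closeNM D n S, k < D.rank ∧ P k := by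
  induction n generalizing S with
  | zero => exact hS
  | succ n ih => exact ih _ (closeStepM_sound D P hstep S hS)

theorem reachAllM_sound (P : ℕ → Prop)
    (hstep : ∀ k k', k < D.rank → k' < D.rank → adjM D k k' = true → P k → P k')
    (S : List ℕ) (hS : ∀ k ∈ S, k < D.rank ∧ P k) (h : reachAllM D S = true) : ∀ k < D.rank, P k := by
  intro k hk
  unfold reachAllM at h
  rw [List.all_eq_true] at h
  have := h k (List.mem_range.2 hk)
  rw [List.contains_iff_mem] at this
  exact (closeNM_sound D P hstep _ S hS k this).2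

theorem reachM_all (hD : D ∈ [chevG2, chevB2, chevD4, chevF4, chevE6, chevE7, chevE8]) :
    reachAllM D [0] = true := by
  simp only [List.mem_cons, List.not_mem_nil, or_false] at hD
  rcases hD with rfl | rfl | rfl | rfl | rfl | rfl | rfl <;> decide +kernel

end defs

section
variable (D : ChevalleyDatum) (hD : D ∈ [chevG2, chevB2, chevD4, chevF4, chevE6, chevE7, chevE8])
variable (F : Type*) [Field F]

theorem map_hGr (θ : ↥(D.group F) ≃* ↥(D.group F)) (r r' : ℕ) (σ : F ≃+* F)
    (hp : ∀ t, θ (xGr D hD F r t) = xGr D hD F r' (σ t))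
    (hn : ∀ t, θ (xGr D hD F (D.neg r) t) = xGr D hD F (D.neg r') (σ t)) (t : F) :
    θ (wordGr D hD F (D.hWord r t)) = wordGr D hD F (D.hWord r' (σ t)) := by
  unfold wordGr ChevalleyDatum.hWord ChevalleyDatum.nWord
  simp only [List.cons_append, List.nil_append, List.map_cons, List.map_nil, List.prod_cons, List.prod_nil,
    mul_one, map_mul, hp, hn, map_neg, map_inv₀, map_one]

include hD in
theorem hGr_conj (i j : Fin D.rank) (t : F) (ht : t ≠ 0) (u : F) :
    wordGr D hD F (D.hWord (D.simple i) t) * xGr D hD F (D.simple j) u *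
      (wordGr D hD F (D.hWord (D.simple i) t))⁻¹ =
      xGr D hD F (D.simple j) (t ^ (D.cartan i (D.simple j)) * u) := by
  have hsi : D.simple i < D.nroots := (chkN2_spec D (chkN2_all D hD) i i.2).1
  have hsj : D.simple j < D.nroots := (chkN2_spec D (chkN2_all D hD) j j.2).1
  apply Subtype.ext
  rw [Subgroup.coe_mul, Subgroup.coe_mul, Subgroup.coe_inv, wordGr_coe, xGr_coe, xGr_coe]
  have := hGL_conj_xGL D hD F (D.simple i) (D.simple j) hsi hsj t ht u
  rw [gc_simple D hD i _ i.2] at this
  exact this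

include hD in
theorem T9_torus' (θ₂ : ↥(D.group F) ≃* ↥(D.group F)) (σ : Fin D.rank → F ≃+* F)
    (h : ∀ (i : Fin D.rank) (t : F),
      θ₂ (xGr D hD F (D.simple i) t) = xGr D hD F (D.simple i) (σ i t) ∧
      θ₂ (xGr D hD F (D.neg (D.simple i)) t) = xGr D hD F (D.neg (D.simple i)) (σ i t)) :
    ∀ i j : Fin D.rank, σ i = σ j := by
  have hsimp : ∀ i : Fin D.rank, D.simple i < D.nroots := fun i => (chkN2_spec D (chkN2_all D hD) i i.2).1
  -- the basic relation
  have hrel : ∀ (i j : Fin D.rank) (t : F), t ≠ 0 →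
      (σ i t) ^ (D.cartan i (D.simple j)) = (σ j t) ^ (D.cartan i (D.simple j)) := by
    intro i j t ht
    have e := congrArg θ₂ (hGr_conj D hD F i j t ht 1)
    rw [map_mul, map_mul, map_inv, map_hGr D hD F θ₂ _ _ (σ i) (fun t => (h i t).1) (fun t => (h i t).2),
      (h j _).1, (h j _).1, hGr_conj D hD F i j (σ i t) (by simpa using ht)] at e
    have e2 := xGr_injective D hD F _ (hsimp j) _ _ e
    simpa [map_zpow₀] using e2
  have hadj : ∀ i j : Fin D.rank, adjM D i j = true → σ i = σ j := by
    intro i j hij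
    unfold adjM at hij
    rw [Bool.or_eq_true, beq_iff_eq, beq_iff_eq] at hij
    apply RingEquiv.ext
    intro t
    by_cases ht : t = 0
    · rw [ht, map_zero, map_zero]
    rcases hij with hij | hij
    · have := hrel i j t ht
      rw [hij, zpow_neg_one, zpow_neg_one, inv_inj] at this
      exact this
    · have := hrel j i t ht
      rw [hij, zpow_neg_one, zpow_neg_one, inv_inj] at this
      exact this.symm
  have hrk : 0 < D.rank := rank_pos D hD
  have key : ∀ k < D.rank, ∀ hk : k < D.rank, σ ⟨k, hk⟩ = σ ⟨0, hrk⟩ := by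
    apply reachAllM_sound D (fun k => ∀ hk : k < D.rank, σ ⟨k, hk⟩ = σ ⟨0, hrk⟩) ?_ [0] ?_ (reachM_all D hD)
    · intro k k' hk hk' hkk' hP _
      rw [← hP hk]
      exact (hadj ⟨k, hk⟩ ⟨k', hk'⟩ hkk').symm
    · intro k hk
      rw [List.mem_singleton] at hk
      subst hk
      exact ⟨hrk, fun _ => rfl⟩
  intro i j
  rw [key i i.2 i.2, key j j.2 j.2]

end

end Cfsg.Agent.Lib.Helper18.Au
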