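import Cfsg.Agent.Lib.Helper18.ChevBruhat
import Cfsg.Agent.S0312

/-! # `G ∩ Ĥ ≤ H`: a group element that is the diagonal matrix of a character of the root lattice lies in `H`
(helper18) -/

set_option autoImplicit false

namespace Cfsg.Agent.Lib.Helper18

open Cfsg Cfsg.Lie Cfsg.Agent.Lib.Helper36

section
variable (D : ChevalleyDatum) (hD : D ∈ [chevG2, chevB2, chevD4, chevF4, chevE6, chevE7, chevE8])
variable (F : Type*) [Field F]

theorem val_inv_charDiag (g : GL D.Idx F) (χ : ℕ → Fˣ) (hg : (g : Matrix D.Idx D.Idx F) = D.charDiag F χ) :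
    ((g⁻¹ : GL D.Idx F) : Matrix D.Idx D.Idx F) = D.charDiag F (fun s => (χ s)⁻¹) := by
  have h1 : (g : Matrix D.Idx D.Idx F) * ((g⁻¹ : GL D.Idx F) : Matrix D.Idx D.Idx F) = 1 := by
    rw [← Units.val_mul, mul_inv_cancel, Units.val_one]
  have h2 := charDiag_inv_mul D F χ
  rw [← hg] at h2
  calc ((g⁻¹ : GL D.Idx F) : Matrix D.Idx D.Idx F)
      = (D.charDiag F (fun s => (χ s)⁻¹) * (g : Matrix D.Idx D.Idx F)) * ((g⁻¹ : GL D.Idx F) : Matrix D.Idx D.Idx F) := by
        rw [h2, one_mul]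
    _ = _ := by rw [mul_assoc, h1, mul_one]

theorem blockMono_charDiag (χ : ℕ → Fˣ) : BlockMono D F (D.charDiag F χ) := by
  unfold ChevalleyDatum.charDiag
  exact BlockMono.diagonal D F _ (fun j => rfl)

include hD in
/-- the diagonal matrix of a character normalises `U` -/
theorem charDiag_conj_mem_pos (g : GL D.Idx F) (χ : ℕ → Fˣ) (hχ : D.IsRootCharacter χ)
    (hg : (g : Matrix D.Idx D.Idx F) = D.charDiag F χ) (u : GL D.Idx F) (hu : u ∈ D.posUnipotent F) :
    g * u * g⁻¹ ∈ D.posUnipotent F := by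
  unfold ChevalleyDatum.posUnipotent at hu ⊢
  apply conj_mem_closure _ g _ u hu
  rintro k ⟨r, t, hr, hk⟩
  have hk' : k = xGL D hD F r t := Units.ext hk
  rw [hk', diag_conj_xGL D hD F g χ hχ hg r hr.1 t]
  exact Subgroup.subset_closure ⟨r, _, hr, rfl⟩

theorem isRootCharacter_inv' (χ : ℕ → Fˣ) (hχ : D.IsRootCharacter χ) : D.IsRootCharacter (fun s => (χ s)⁻¹) := by
  refine ⟨fun r hr => ?_, fun r s k hr hs hk => ?_⟩
  · simp only; rw [hχ.1 r hr]
  · simp only; rw [hχ.2 r s k hr hs hk, mul_inv]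

include hD in
/-- the diagonal matrix of a character commutes with `H` -/
theorem charDiag_comm_diag (g : GL D.Idx F) (χ : ℕ → Fˣ)
    (hg : (g : Matrix D.Idx D.Idx F) = D.charDiag F χ) (h : GL D.Idx F) (hh : h ∈ D.diagonalSubgroup F) :
    g * h = h * g := by
  obtain ⟨χ', -, hh'⟩ := exists_character_of_mem_diagonal D hD F h hh
  apply Units.ext
  rw [Units.val_mul, Units.val_mul, hg, hh', charDiag_mul, charDiag_mul]
  congr 1
  funext s
  exact mul_comm _ _

include hD in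
/-- `G ∩ Ĥ ≤ H` -/
theorem mem_diagonal_of_charDiag (P : Cfsg.BNPair ↥(D.group F))
    (hB : P.B = (D.borelSubgroup F).subgroupOf (D.group F))
    (hN : P.N = (D.monomialSubgroup F).subgroupOf (D.group F))
    (χ : ℕ → Fˣ) (hχ : D.IsRootCharacter χ) (g : GL D.Idx F) (hg : g ∈ D.group F)
    (hgχ : (g : Matrix D.Idx D.Idx F) = D.charDiag F χ) : g ∈ D.diagonalSubgroup F := by
  obtain ⟨b, hb, n, hn, u, hu, hgbnu⟩ := bruhat_exists D hD F P hB hN g hg
  have huU : u ∈ D.posUnipotent F := uMinus_le_pos D F n hu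
  obtain ⟨u1, hu1, h, hh, hbe⟩ := (mem_borel_iff D hD F b).1 hb
  have hHN : D.diagonalSubgroup F ≤ D.monomialSubgroup F := by
    unfold ChevalleyDatum.monomialSubgroup; exact le_sup_left
  have hHB : D.diagonalSubgroup F ≤ D.borelSubgroup F := by
    unfold ChevalleyDatum.borelSubgroup; exact le_sup_right
  have hUB : D.posUnipotent F ≤ D.borelSubgroup F := by
    unfold ChevalleyDatum.borelSubgroup; exact le_sup_left
  have hginv := val_inv_charDiag D F g χ hgχ
  have hχi := isRootCharacter_inv' D F χ hχ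
  -- c = g⁻¹ u1⁻¹ g ∈ U
  have hc : g⁻¹ * u1⁻¹ * g ∈ D.posUnipotent F := by
    have := charDiag_conj_mem_pos D hD F g⁻¹ _ hχi hginv u1⁻¹ (inv_mem hu1)
    rwa [inv_inv] at this
  -- v = g⁻¹ h n = c u⁻¹ ∈ U
  have hv : g⁻¹ * h * n = (g⁻¹ * u1⁻¹ * g) * u⁻¹ := by
    have : n = h⁻¹ * u1⁻¹ * g * u⁻¹ := by
      rw [hgbnu, ← hbe]; group
    rw [this]; group
  have hvU : g⁻¹ * h * n ∈ D.posUnipotent F := by
    rw [hv]; exact mul_mem hc (inv_mem huU)
  have hvB : BlockMono D F ((g⁻¹ * h * n : GL D.Idx F) : Matrix D.Idx D.Idx F) := by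
    rw [Units.val_mul, Units.val_mul, hginv]
    exact ((blockMono_charDiag D F _).mul D (blockMono_of_mem_monomial D hD F h (hHN hh))).mul D
      (blockMono_of_mem_monomial D hD F n hn)
  have hv1 : g⁻¹ * h * n = 1 := by
    apply Units.ext
    exact eq_one_of_blockMono_of_raises D F _ hvB (posUnipotent_le_raises D hD F hvU)
  -- n = h⁻¹ g
  have hn' : n = h⁻¹ * g := by
    have : n = (g⁻¹ * h)⁻¹ * (g⁻¹ * h * n) := by group
    rw [this, hv1]; group
  -- g normalises B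
  have hgB : ∀ y : GL D.Idx F, y ∈ D.borelSubgroup F → g * y * g⁻¹ ∈ D.borelSubgroup F := by
    intro y hy
    obtain ⟨uy, huy, hy', hhy, rfl⟩ := (mem_borel_iff D hD F y).1 hy
    have e : g * (uy * hy') * g⁻¹ = (g * uy * g⁻¹) * hy' := by
      have := charDiag_comm_diag D hD F g χ hgχ hy' hhy
      calc g * (uy * hy') * g⁻¹ = g * uy * (hy' * g⁻¹) := by group
        _ = g * uy * (g⁻¹ * (g * hy') * g⁻¹) := by group
        _ = g * uy * (g⁻¹ * (hy' * g) * g⁻¹) := by rw [this]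
        _ = _ := by group
    rw [e]
    exact mul_mem (hUB (charDiag_conj_mem_pos D hD F g χ hχ hgχ uy huy)) (hHB hhy)
  have hgB' : ∀ y : GL D.Idx F, y ∈ D.borelSubgroup F → g⁻¹ * y * g ∈ D.borelSubgroup F := by
    intro y hy
    obtain ⟨uy, huy, hy', hhy, rfl⟩ := (mem_borel_iff D hD F y).1 hy
    have e : g⁻¹ * (uy * hy') * g = (g⁻¹ * uy * g) * hy' := by
      have := charDiag_comm_diag D hD F g χ hgχ hy' hhy
      calc g⁻¹ * (uy * hy') * g = g⁻¹ * uy * (hy' * g) := by group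
        _ = g⁻¹ * uy * (g * hy') := by rw [this]
        _ = _ := by group
    rw [e]
    have := charDiag_conj_mem_pos D hD F g⁻¹ _ hχi hginv uy huy
    rw [inv_inv] at this
    exact mul_mem (hUB this) (hHB hhy)
  -- n normalises B, inside the group
  have hnG : n ∈ D.group F := monomial_le_group D hD F hn
  have hnorm : (⟨n, hnG⟩ : ↥(D.group F)) ∈ Subgroup.normalizer (P.parabolic ∅ : Set ↥(D.group F)) := by
    have hpar : P.parabolic ∅ = P.B := by
      unfold Cfsg.BNPair.parabolic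
      rw [Subgroup.closure_empty, sup_bot_eq]
    rw [hpar, Subgroup.mem_set_normalizer_iff]
    intro y
    rw [SetLike.mem_coe, SetLike.mem_coe, hB, Subgroup.mem_subgroupOf, Subgroup.mem_subgroupOf]
    have hcoe : ((⟨n, hnG⟩ * y * (⟨n, hnG⟩ : ↥(D.group F))⁻¹ : ↥(D.group F)) : GL D.Idx F) =
        n * (y : GL D.Idx F) * n⁻¹ := rfl
    rw [hcoe, hn']
    constructor
    · intro hy
      have h1 := hgB _ hy
      have e : h⁻¹ * g * (y : GL D.Idx F) * (h⁻¹ * g)⁻¹ = h⁻¹ * (g * (y : GL D.Idx F) * g⁻¹) * h := by group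
      rw [e]
      exact mul_mem (mul_mem (inv_mem (hHB hh)) h1) (hHB hh)
    · intro hy
      have h1 : h * (h⁻¹ * g * (y : GL D.Idx F) * (h⁻¹ * g)⁻¹) * h⁻¹ ∈ D.borelSubgroup F :=
        mul_mem (mul_mem (hHB hh) hy) (inv_mem (hHB hh))
      have h2 := hgB' _ h1
      have e : g⁻¹ * (h * (h⁻¹ * g * (y : GL D.Idx F) * (h⁻¹ * g)⁻¹) * h⁻¹) * g = (y : GL D.Idx F) := by group
      rw [e] at h2
      exact h2
  rw [Cfsg.Agent.S0312.result P (Set.empty_subset _)] at hnorm
  have hpar : P.parabolic ∅ = P.B := by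
    unfold Cfsg.BNPair.parabolic
    rw [Subgroup.closure_empty, sup_bot_eq]
  rw [hpar, hB, Subgroup.mem_subgroupOf] at hnorm
  have hnH : n ∈ D.diagonalSubgroup F := by
    rw [← borel_inf_monomial D hD F]
    exact ⟨hnorm, hn⟩
  have : g = h * n := by rw [hn']; group
  rw [this]
  exact mul_mem hh hnH

end

end Cfsg.Agent.Lib.Helper18
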