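import Cfsg.Agent.Lib.Helper18.CoxRep

set_option autoImplicit false
set_option linter.unusedVariables false
set_option maxRecDepth 100000

namespace Cfsg.Agent.Lib.Helper18.CoxB2

open Cfsg.Agent.Lib.Helper18

noncomputable section

abbrev M : CoxeterMatrix (Fin 2) := (CoxeterMatrix.B 2)
abbrev W : Type := M.Group
def A : Matrix (Fin 2) (Fin 2) ℤ := !![2, -1; -2, 2]

theorem hA_0_0 : (reflMat A 0 * reflMat A 0) ^ 1 = 1 := by
  apply Matrix.ext_of_mulVec_single; intro k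
  simp only [pow_succ, pow_zero, one_mul, ← Matrix.mulVec_mulVec, reflMat_mulVec, Matrix.one_mulVec]
  revert k; decide +kernel
theorem hA_0_1 : (reflMat A 0 * reflMat A 1) ^ 4 = 1 := by
  apply Matrix.ext_of_mulVec_single; intro k
  simp only [pow_succ, pow_zero, one_mul, ← Matrix.mulVec_mulVec, reflMat_mulVec, Matrix.one_mulVec]
  revert k; decide +kernel
theorem hA_1_0 : (reflMat A 1 * reflMat A 0) ^ 4 = 1 := by
  apply Matrix.ext_of_mulVec_single; intro k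
  simp only [pow_succ, pow_zero, one_mul, ← Matrix.mulVec_mulVec, reflMat_mulVec, Matrix.one_mulVec]
  revert k; decide +kernel
theorem hA_1_1 : (reflMat A 1 * reflMat A 1) ^ 1 = 1 := by
  apply Matrix.ext_of_mulVec_single; intro k
  simp only [pow_succ, pow_zero, one_mul, ← Matrix.mulVec_mulVec, reflMat_mulVec, Matrix.one_mulVec]
  revert k; decide +kernel
theorem hA : M.IsLiftable (reflMat A) := fun i i' =>
  match i, i' with
  | 0, 0 => hA_0_0
  | 0, 1 => hA_0_1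
  | 1, 0 => hA_1_0
  | 1, 1 => hA_1_1

abbrev s (i : Fin 2) : W := M.simple i
theorem s_sq (i : Fin 2) : s i * s i = 1 := simple_sq M i
theorem r_0_1 : s 0 = s 1 * s 0 * s 1 * s 0 * s 1 * s 0 * s 1 :=
  rel4 (s_sq 0) (s_sq 1) (M.toCoxeterSystem.simple_mul_simple_pow 0 1)
theorem r_1_0 : s 1 = s 0 * s 1 * s 0 * s 1 * s 0 * s 1 * s 0 :=
  rel4 (s_sq 1) (s_sq 0) (M.toCoxeterSystem.simple_mul_simple_pow 1 0)

def J0 : List (Fin 2) := [0, 1]
def J1 : List (Fin 2) := [0]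
def J2 : List (Fin 2) := []

-- level 0: index 4
def base0 : Fin 2 → ℤ := ![0, 1]
def fv0 : W → (Fin 2 → ℤ) := fvec M A hA base0
def u0_0 : W := 1
def u0_1 : W := u0_0 * s 1
def u0_2 : W := u0_1 * s 0
def u0_3 : W := u0_2 * s 1
def reps0 : List W := [u0_0, u0_1, u0_2, u0_3]
theorem v0_0 : fv0 u0_0 = ![0, 1] := fvec_one M A hA base0
theorem v0_1 : fv0 u0_1 = ![2, -1] := by
  show fvec M A hA base0 (u0_0 * M.simple 1) = _
  rw [fvec_mul_simple]; show reflVec A 1 (fv0 u0_0) = _; rw [v0_0]; decide +kernel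
theorem v0_2 : fv0 u0_2 = ![-2, 1] := by
  show fvec M A hA base0 (u0_1 * M.simple 0) = _
  rw [fvec_mul_simple]; show reflVec A 0 (fv0 u0_1) = _; rw [v0_1]; decide +kernel
theorem v0_3 : fv0 u0_3 = ![0, -1] := by
  show fvec M A hA base0 (u0_2 * M.simple 1) = _
  rw [fvec_mul_simple]; show reflVec A 1 (fv0 u0_2) = _; rw [v0_2]; decide +kernel
theorem e0_0_1 : u0_0 * s 1 = 1 * u0_1 := (one_mul (u0_0 * s 1)).symm
theorem e0_1_1 : u0_1 * s 1 = 1 * u0_0 := tree_up (s_sq 1)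
theorem e0_1_0 : u0_1 * s 0 = 1 * u0_2 := (one_mul (u0_1 * s 0)).symm
theorem e0_2_0 : u0_2 * s 0 = 1 * u0_1 := tree_up (s_sq 0)
theorem e0_2_1 : u0_2 * s 1 = 1 * u0_3 := (one_mul (u0_2 * s 1)).symm
theorem e0_3_1 : u0_3 * s 1 = 1 * u0_2 := tree_up (s_sq 1)
theorem e0_0_0 : u0_0 * s 0 = s 0 * u0_0 := (one_mul (s 0)).trans (mul_one (s 0)).symm
theorem e0_3_0 : u0_3 * s 0 = s 0 * u0_3 := by
  simpa only [one_mul, mul_one] using ded4 r_0_1 e0_3_1 e0_2_0 e0_1_1 e0_0_0 e0_0_1 e0_1_0 e0_2_1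
def P0 (u : W) : Prop := u ∈ Subgroup.closure (gens M J0) ∧ ∀ x ∈ gens M J0, ∃ h ∈ Subgroup.closure (gens M J1), ∃ u' ∈ reps0, u * x = h * u'
theorem mr0_0 : u0_0 ∈ reps0 := List.getElem_mem (l := reps0) (n := 0) (by decide)
theorem mr0_1 : u0_1 ∈ reps0 := List.getElem_mem (l := reps0) (n := 1) (by decide)
theorem mr0_2 : u0_2 ∈ reps0 := List.getElem_mem (l := reps0) (n := 2) (by decide)
theorem mr0_3 : u0_3 ∈ reps0 := List.getElem_mem (l := reps0) (n := 3) (by decide)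
theorem mm0_0 : u0_0 ∈ Subgroup.closure (gens M J0) := one_mem _
theorem mm0_1 : u0_1 ∈ Subgroup.closure (gens M J0) := mul_mem mm0_0 (Subgroup.subset_closure ⟨1, by decide, rfl⟩)
theorem mm0_2 : u0_2 ∈ Subgroup.closure (gens M J0) := mul_mem mm0_1 (Subgroup.subset_closure ⟨0, by decide, rfl⟩)
theorem mm0_3 : u0_3 ∈ Subgroup.closure (gens M J0) := mul_mem mm0_2 (Subgroup.subset_closure ⟨1, by decide, rfl⟩)
theorem c0_0 : P0 u0_0 := by
  refine ⟨mm0_0, ?_⟩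
  rintro x ⟨j, hj, rfl⟩
  simp only [J0, List.mem_cons, List.not_mem_nil, or_false] at hj
  rcases hj with rfl | rfl
  · exact ⟨s 0, Subgroup.subset_closure ⟨0, by decide, rfl⟩, u0_0, mr0_0, e0_0_0⟩
  · exact ⟨1, one_mem _, u0_1, mr0_1, e0_0_1⟩
theorem c0_1 : P0 u0_1 := by
  refine ⟨mm0_1, ?_⟩
  rintro x ⟨j, hj, rfl⟩
  simp only [J0, List.mem_cons, List.not_mem_nil, or_false] at hj
  rcases hj with rfl | rfl
  · exact ⟨1, one_mem _, u0_2, mr0_2, e0_1_0⟩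
  · exact ⟨1, one_mem _, u0_0, mr0_0, e0_1_1⟩
theorem c0_2 : P0 u0_2 := by
  refine ⟨mm0_2, ?_⟩
  rintro x ⟨j, hj, rfl⟩
  simp only [J0, List.mem_cons, List.not_mem_nil, or_false] at hj
  rcases hj with rfl | rfl
  · exact ⟨1, one_mem _, u0_1, mr0_1, e0_2_0⟩
  · exact ⟨1, one_mem _, u0_3, mr0_3, e0_2_1⟩
theorem c0_3 : P0 u0_3 := by
  refine ⟨mm0_3, ?_⟩
  rintro x ⟨j, hj, rfl⟩
  simp only [J0, List.mem_cons, List.not_mem_nil, or_false] at hj
  rcases hj with rfl | rfl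
  · exact ⟨s 0, Subgroup.subset_closure ⟨0, by decide, rfl⟩, u0_3, mr0_3, e0_3_0⟩
  · exact ⟨1, one_mem _, u0_2, mr0_2, e0_3_1⟩
def preps0 : List {u : W // P0 u} := [⟨u0_0, c0_0⟩, ⟨u0_1, c0_1⟩, ⟨u0_2, c0_2⟩, ⟨u0_3, c0_3⟩]
theorem preps0_map : preps0.map Subtype.val = reps0 := rfl
theorem allP0 : ∀ u ∈ reps0, P0 u := by
  intro u hu
  rw [← preps0_map, List.mem_map] at hu
  obtain ⟨x, _, rfl⟩ := hu
  exact x.2
def vecs0 : List (Fin 2 → ℤ) := [![0, 1], ![2, -1], ![-2, 1], ![0, -1]]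
theorem map0 : reps0.map fv0 = vecs0 := by
  simp only [reps0, List.map_cons, List.map_nil, v0_0, v0_1, v0_2, v0_3]
  rfl
theorem nd0 : (reps0.map fv0).Nodup := by rw [map0]; decide +kernel
theorem fix0 : ∀ h ∈ gens M J1, ∀ w, fv0 (h * w) = fv0 w := by
  rintro h ⟨j, hj, rfl⟩ w
  simp only [J1, List.mem_cons, List.not_mem_nil, or_false] at hj
  subst hj
  all_goals exact fvec_fix M A hA base0 _ (by decide +kernel) w
theorem sub0 : gens M J1 ⊆ gens M J0 := gens_mono M (by decide)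
theorem card0 : Nat.card (Subgroup.closure (gens M J0)) = Nat.card (Subgroup.closure (gens M J1)) * 4 :=
  level_card (gens M J0) (gens M J1) sub0 (gens_inv M J0) reps0 mr0_0 (fun u hu => (allP0 u hu).1) (fun u hu => (allP0 u hu).2) fv0 fix0 nd0
theorem ker0 : ∀ w ∈ Subgroup.closure (gens M J0), fv0 w = fv0 1 → w ∈ Subgroup.closure (gens M J1) :=
  level_ker (gens M J0) (gens M J1) (gens_inv M J0) reps0 mr0_0 (fun u hu => (allP0 u hu).2) fv0 fix0 nd0

-- level 1: index 2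
def base1 : Fin 2 → ℤ := ![1, 0]
def fv1 : W → (Fin 2 → ℤ) := fvec M A hA base1
def u1_0 : W := 1
def u1_1 : W := u1_0 * s 0
def reps1 : List W := [u1_0, u1_1]
theorem v1_0 : fv1 u1_0 = ![1, 0] := fvec_one M A hA base1
theorem v1_1 : fv1 u1_1 = ![-1, 1] := by
  show fvec M A hA base1 (u1_0 * M.simple 0) = _
  rw [fvec_mul_simple]; show reflVec A 0 (fv1 u1_0) = _; rw [v1_0]; decide +kernel
theorem e1_0_0 : u1_0 * s 0 = 1 * u1_1 := (one_mul (u1_0 * s 0)).symm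
theorem e1_1_0 : u1_1 * s 0 = 1 * u1_0 := tree_up (s_sq 0)
def P1 (u : W) : Prop := u ∈ Subgroup.closure (gens M J1) ∧ ∀ x ∈ gens M J1, ∃ h ∈ Subgroup.closure (gens M J2), ∃ u' ∈ reps1, u * x = h * u'
theorem mr1_0 : u1_0 ∈ reps1 := List.getElem_mem (l := reps1) (n := 0) (by decide)
theorem mr1_1 : u1_1 ∈ reps1 := List.getElem_mem (l := reps1) (n := 1) (by decide)
theorem mm1_0 : u1_0 ∈ Subgroup.closure (gens M J1) := one_mem _
theorem mm1_1 : u1_1 ∈ Subgroup.closure (gens M J1) := mul_mem mm1_0 (Subgroup.subset_closure ⟨0, by decide, rfl⟩)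
theorem c1_0 : P1 u1_0 := by
  refine ⟨mm1_0, ?_⟩
  rintro x ⟨j, hj, rfl⟩
  simp only [J1, List.mem_cons, List.not_mem_nil, or_false] at hj
  subst hj
  · exact ⟨1, one_mem _, u1_1, mr1_1, e1_0_0⟩
theorem c1_1 : P1 u1_1 := by
  refine ⟨mm1_1, ?_⟩
  rintro x ⟨j, hj, rfl⟩
  simp only [J1, List.mem_cons, List.not_mem_nil, or_false] at hj
  subst hj
  · exact ⟨1, one_mem _, u1_0, mr1_0, e1_1_0⟩
def preps1 : List {u : W // P1 u} := [⟨u1_0, c1_0⟩, ⟨u1_1, c1_1⟩]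
theorem preps1_map : preps1.map Subtype.val = reps1 := rfl
theorem allP1 : ∀ u ∈ reps1, P1 u := by
  intro u hu
  rw [← preps1_map, List.mem_map] at hu
  obtain ⟨x, _, rfl⟩ := hu
  exact x.2
def vecs1 : List (Fin 2 → ℤ) := [![1, 0], ![-1, 1]]
theorem map1 : reps1.map fv1 = vecs1 := by
  simp only [reps1, List.map_cons, List.map_nil, v1_0, v1_1]
  rfl
theorem nd1 : (reps1.map fv1).Nodup := by rw [map1]; decide +kernel
theorem fix1 : ∀ h ∈ gens M J2, ∀ w, fv1 (h * w) = fv1 w := by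
  rintro h ⟨j, hj, rfl⟩ w
  simp [J2] at hj
theorem sub1 : gens M J2 ⊆ gens M J1 := gens_mono M (by decide)
theorem card1 : Nat.card (Subgroup.closure (gens M J1)) = Nat.card (Subgroup.closure (gens M J2)) * 2 :=
  level_card (gens M J1) (gens M J2) sub1 (gens_inv M J1) reps1 mr1_0 (fun u hu => (allP1 u hu).1) (fun u hu => (allP1 u hu).2) fv1 fix1 nd1
theorem ker1 : ∀ w ∈ Subgroup.closure (gens M J1), fv1 w = fv1 1 → w ∈ Subgroup.closure (gens M J2) :=
  level_ker (gens M J1) (gens M J2) (gens_inv M J1) reps1 mr1_0 (fun u hu => (allP1 u hu).2) fv1 fix1 nd1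

theorem card_eq : Nat.card W = 8 := by
  have htop : Subgroup.closure (gens M J0) = ⊤ := closure_gens_all M J0 (by decide)
  have hbot : Nat.card (Subgroup.closure (gens M J2)) = 1 := by
    show Nat.card (Subgroup.closure (gens M ([] : List (Fin 2)))) = 1
    rw [closure_gens_nil]; exact Subgroup.card_bot
  rw [← Subgroup.card_top (G := W), ← htop, card0, card1, hbot]
theorem rho_ker (w : W) (h : rho M A hA w = 1) : w = 1 := by
  have h0 : w ∈ Subgroup.closure (gens M J0) := by rw [closure_gens_all M J0 (by decide)]; trivial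
  have h1 := ker0 w h0 (fvec_of_rho_eq_one M A hA base0 w h)
  have h2 := ker1 w h1 (fvec_of_rho_eq_one M A hA base1 w h)
  have hb : Subgroup.closure (gens M J2) = ⊥ := closure_gens_nil M
  rw [hb] at h2
  exact Subgroup.mem_bot.mp h2

def cox : W := ((List.finRange 2).map M.simple).prod
def Cm0 : Matrix (Fin 2) (Fin 2) ℤ := 1
def Cm1 : Matrix (Fin 2) (Fin 2) ℤ := !![-1, 0; 1, 1]
theorem hCm1 : Cm0 * reflMat A 0 = Cm1 := by decide +kernel
def Cm2 : Matrix (Fin 2) (Fin 2) ℤ := !![-1, -2; 1, 1]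
theorem hCm2 : Cm1 * reflMat A 1 = Cm2 := by decide +kernel
theorem rho_cox : rho M A hA cox = Cm2 := by
  have : cox = M.simple 0 * M.simple 1 := by
    simp [cox, List.finRange_succ, mul_assoc]
  rw [this]
  simp only [map_mul, rho_simple]
  rw [← one_mul (reflMat A 0), ← Cm0, hCm1, hCm2]
def Pw1 : Matrix (Fin 2) (Fin 2) ℤ := Cm2
def Pw2 : Matrix (Fin 2) (Fin 2) ℤ := !![-1, 0; 0, -1]
theorem hPw2 : Pw1 * Cm2 = Pw2 := by decide +kernel
def Pw3 : Matrix (Fin 2) (Fin 2) ℤ := !![1, 2; -1, -1]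
theorem hPw3 : Pw2 * Cm2 = Pw3 := by decide +kernel
def Pw4 : Matrix (Fin 2) (Fin 2) ℤ := !![1, 0; 0, 1]
theorem hPw4 : Pw3 * Cm2 = Pw4 := by decide +kernel
theorem rho_cox_pow1 : rho M A hA (cox ^ 1) = Pw1 := by rw [pow_one, rho_cox]; rfl
theorem rho_cox_pow2 : rho M A hA (cox ^ 2) = Pw2 := by rw [pow_succ, map_mul, rho_cox_pow1, rho_cox, hPw2]
theorem rho_cox_pow3 : rho M A hA (cox ^ 3) = Pw3 := by rw [pow_succ, map_mul, rho_cox_pow2, rho_cox, hPw3]
theorem rho_cox_pow4 : rho M A hA (cox ^ 4) = Pw4 := by rw [pow_succ, map_mul, rho_cox_pow3, rho_cox, hPw4]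
theorem cox_order : orderOf cox = 4 := by
  rw [orderOf_eq_iff (by norm_num)]
  refine ⟨rho_ker _ (by rw [rho_cox_pow4]; decide +kernel), ?_⟩
  intro m hm hm0 hc
  have hr : rho M A hA (cox ^ m) = 1 := by rw [hc, map_one]
  interval_cases m
  · rw [rho_cox_pow1] at hr; revert hr; decide +kernel
  · rw [rho_cox_pow2] at hr; revert hr; decide +kernel
  · rw [rho_cox_pow3] at hr; revert hr; decide +kernel

end

end Cfsg.Agent.Lib.Helper18.CoxB2
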