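import Cfsg.Agent.Lib.Helper18.CoxRep
import Cfsg.Prelude.Def_ChevStructure

set_option autoImplicit false
set_option linter.unusedVariables false
set_option maxRecDepth 100000

namespace Cfsg.Agent.Lib.Helper18.CoxD4

open Cfsg.Agent.Lib.Helper18

noncomputable section

abbrev M : CoxeterMatrix (Fin 4) := Cfsg.Lie.coxeterD4
abbrev W : Type := M.Group
def A : Matrix (Fin 4) (Fin 4) ℤ := !![2, -1, 0, 0; -1, 2, -1, -1; 0, -1, 2, 0; 0, -1, 0, 2]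

theorem hA_0_0 : (reflMat A 0 * reflMat A 0) ^ 1 = 1 := by
  apply Matrix.ext_of_mulVec_single; intro k
  simp only [pow_succ, pow_zero, one_mul, ← Matrix.mulVec_mulVec, reflMat_mulVec, Matrix.one_mulVec]
  revert k; decide +kernel
theorem hA_0_1 : (reflMat A 0 * reflMat A 1) ^ 3 = 1 := by
  apply Matrix.ext_of_mulVec_single; intro k
  simp only [pow_succ, pow_zero, one_mul, ← Matrix.mulVec_mulVec, reflMat_mulVec, Matrix.one_mulVec]
  revert k; decide +kernel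
theorem hA_0_2 : (reflMat A 0 * reflMat A 2) ^ 2 = 1 := by
  apply Matrix.ext_of_mulVec_single; intro k
  simp only [pow_succ, pow_zero, one_mul, ← Matrix.mulVec_mulVec, reflMat_mulVec, Matrix.one_mulVec]
  revert k; decide +kernel
theorem hA_0_3 : (reflMat A 0 * reflMat A 3) ^ 2 = 1 := by
  apply Matrix.ext_of_mulVec_single; intro k
  simp only [pow_succ, pow_zero, one_mul, ← Matrix.mulVec_mulVec, reflMat_mulVec, Matrix.one_mulVec]
  revert k; decide +kernel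
theorem hA_1_0 : (reflMat A 1 * reflMat A 0) ^ 3 = 1 := by
  apply Matrix.ext_of_mulVec_single; intro k
  simp only [pow_succ, pow_zero, one_mul, ← Matrix.mulVec_mulVec, reflMat_mulVec, Matrix.one_mulVec]
  revert k; decide +kernel
theorem hA_1_1 : (reflMat A 1 * reflMat A 1) ^ 1 = 1 := by
  apply Matrix.ext_of_mulVec_single; intro k
  simp only [pow_succ, pow_zero, one_mul, ← Matrix.mulVec_mulVec, reflMat_mulVec, Matrix.one_mulVec]
  revert k; decide +kernel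
theorem hA_1_2 : (reflMat A 1 * reflMat A 2) ^ 3 = 1 := by
  apply Matrix.ext_of_mulVec_single; intro k
  simp only [pow_succ, pow_zero, one_mul, ← Matrix.mulVec_mulVec, reflMat_mulVec, Matrix.one_mulVec]
  revert k; decide +kernel
theorem hA_1_3 : (reflMat A 1 * reflMat A 3) ^ 3 = 1 := by
  apply Matrix.ext_of_mulVec_single; intro k
  simp only [pow_succ, pow_zero, one_mul, ← Matrix.mulVec_mulVec, reflMat_mulVec, Matrix.one_mulVec]
  revert k; decide +kernel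
theorem hA_2_0 : (reflMat A 2 * reflMat A 0) ^ 2 = 1 := by
  apply Matrix.ext_of_mulVec_single; intro k
  simp only [pow_succ, pow_zero, one_mul, ← Matrix.mulVec_mulVec, reflMat_mulVec, Matrix.one_mulVec]
  revert k; decide +kernel
theorem hA_2_1 : (reflMat A 2 * reflMat A 1) ^ 3 = 1 := by
  apply Matrix.ext_of_mulVec_single; intro k
  simp only [pow_succ, pow_zero, one_mul, ← Matrix.mulVec_mulVec, reflMat_mulVec, Matrix.one_mulVec]
  revert k; decide +kernel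
theorem hA_2_2 : (reflMat A 2 * reflMat A 2) ^ 1 = 1 := by
  apply Matrix.ext_of_mulVec_single; intro k
  simp only [pow_succ, pow_zero, one_mul, ← Matrix.mulVec_mulVec, reflMat_mulVec, Matrix.one_mulVec]
  revert k; decide +kernel
theorem hA_2_3 : (reflMat A 2 * reflMat A 3) ^ 2 = 1 := by
  apply Matrix.ext_of_mulVec_single; intro k
  simp only [pow_succ, pow_zero, one_mul, ← Matrix.mulVec_mulVec, reflMat_mulVec, Matrix.one_mulVec]
  revert k; decide +kernel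
theorem hA_3_0 : (reflMat A 3 * reflMat A 0) ^ 2 = 1 := by
  apply Matrix.ext_of_mulVec_single; intro k
  simp only [pow_succ, pow_zero, one_mul, ← Matrix.mulVec_mulVec, reflMat_mulVec, Matrix.one_mulVec]
  revert k; decide +kernel
theorem hA_3_1 : (reflMat A 3 * reflMat A 1) ^ 3 = 1 := by
  apply Matrix.ext_of_mulVec_single; intro k
  simp only [pow_succ, pow_zero, one_mul, ← Matrix.mulVec_mulVec, reflMat_mulVec, Matrix.one_mulVec]
  revert k; decide +kernel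
theorem hA_3_2 : (reflMat A 3 * reflMat A 2) ^ 2 = 1 := by
  apply Matrix.ext_of_mulVec_single; intro k
  simp only [pow_succ, pow_zero, one_mul, ← Matrix.mulVec_mulVec, reflMat_mulVec, Matrix.one_mulVec]
  revert k; decide +kernel
theorem hA_3_3 : (reflMat A 3 * reflMat A 3) ^ 1 = 1 := by
  apply Matrix.ext_of_mulVec_single; intro k
  simp only [pow_succ, pow_zero, one_mul, ← Matrix.mulVec_mulVec, reflMat_mulVec, Matrix.one_mulVec]
  revert k; decide +kernel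
theorem hA : M.IsLiftable (reflMat A) := fun i i' =>
  match i, i' with
  | 0, 0 => hA_0_0
  | 0, 1 => hA_0_1
  | 0, 2 => hA_0_2
  | 0, 3 => hA_0_3
  | 1, 0 => hA_1_0
  | 1, 1 => hA_1_1
  | 1, 2 => hA_1_2
  | 1, 3 => hA_1_3
  | 2, 0 => hA_2_0
  | 2, 1 => hA_2_1
  | 2, 2 => hA_2_2
  | 2, 3 => hA_2_3
  | 3, 0 => hA_3_0
  | 3, 1 => hA_3_1
  | 3, 2 => hA_3_2
  | 3, 3 => hA_3_3

abbrev s (i : Fin 4) : W := M.simple i
theorem s_sq (i : Fin 4) : s i * s i = 1 := simple_sq M i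
theorem r_0_1 : s 0 = s 1 * s 0 * s 1 * s 0 * s 1 :=
  rel3 (s_sq 0) (s_sq 1) (M.toCoxeterSystem.simple_mul_simple_pow 0 1)
theorem r_0_2 : s 0 = s 2 * s 0 * s 2 :=
  rel2 (s_sq 0) (s_sq 2) (M.toCoxeterSystem.simple_mul_simple_pow 0 2)
theorem r_0_3 : s 0 = s 3 * s 0 * s 3 :=
  rel2 (s_sq 0) (s_sq 3) (M.toCoxeterSystem.simple_mul_simple_pow 0 3)
theorem r_1_0 : s 1 = s 0 * s 1 * s 0 * s 1 * s 0 :=
  rel3 (s_sq 1) (s_sq 0) (M.toCoxeterSystem.simple_mul_simple_pow 1 0)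
theorem r_1_2 : s 1 = s 2 * s 1 * s 2 * s 1 * s 2 :=
  rel3 (s_sq 1) (s_sq 2) (M.toCoxeterSystem.simple_mul_simple_pow 1 2)
theorem r_1_3 : s 1 = s 3 * s 1 * s 3 * s 1 * s 3 :=
  rel3 (s_sq 1) (s_sq 3) (M.toCoxeterSystem.simple_mul_simple_pow 1 3)
theorem r_2_0 : s 2 = s 0 * s 2 * s 0 :=
  rel2 (s_sq 2) (s_sq 0) (M.toCoxeterSystem.simple_mul_simple_pow 2 0)
theorem r_2_1 : s 2 = s 1 * s 2 * s 1 * s 2 * s 1 :=
  rel3 (s_sq 2) (s_sq 1) (M.toCoxeterSystem.simple_mul_simple_pow 2 1)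
theorem r_2_3 : s 2 = s 3 * s 2 * s 3 :=
  rel2 (s_sq 2) (s_sq 3) (M.toCoxeterSystem.simple_mul_simple_pow 2 3)
theorem r_3_0 : s 3 = s 0 * s 3 * s 0 :=
  rel2 (s_sq 3) (s_sq 0) (M.toCoxeterSystem.simple_mul_simple_pow 3 0)
theorem r_3_1 : s 3 = s 1 * s 3 * s 1 * s 3 * s 1 :=
  rel3 (s_sq 3) (s_sq 1) (M.toCoxeterSystem.simple_mul_simple_pow 3 1)
theorem r_3_2 : s 3 = s 2 * s 3 * s 2 :=
  rel2 (s_sq 3) (s_sq 2) (M.toCoxeterSystem.simple_mul_simple_pow 3 2)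

def J0 : List (Fin 4) := [0, 1, 2, 3]
def J1 : List (Fin 4) := [1, 2, 3]
def J2 : List (Fin 4) := [1, 3]
def J3 : List (Fin 4) := [1]
def J4 : List (Fin 4) := []

-- level 0: index 8
def base0 : Fin 4 → ℤ := ![1, 0, 0, 0]
def fv0 : W → (Fin 4 → ℤ) := fvec M A hA base0
def u0_0 : W := 1
def u0_1 : W := u0_0 * s 0
def u0_2 : W := u0_1 * s 1
def u0_3 : W := u0_2 * s 2
def u0_4 : W := u0_2 * s 3
def u0_5 : W := u0_3 * s 3
def u0_6 : W := u0_5 * s 1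
def u0_7 : W := u0_6 * s 0
def reps0 : List W := [u0_0, u0_1, u0_2, u0_3, u0_4, u0_5, u0_6, u0_7]
theorem v0_0 : fv0 u0_0 = ![1, 0, 0, 0] := fvec_one M A hA base0
theorem v0_1 : fv0 u0_1 = ![-1, 1, 0, 0] := by
  show fvec M A hA base0 (u0_0 * M.simple 0) = _
  rw [fvec_mul_simple]; show reflVec A 0 (fv0 u0_0) = _; rw [v0_0]; decide +kernel
theorem v0_2 : fv0 u0_2 = ![0, -1, 1, 1] := by
  show fvec M A hA base0 (u0_1 * M.simple 1) = _
  rw [fvec_mul_simple]; show reflVec A 1 (fv0 u0_1) = _; rw [v0_1]; decide +kernel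
theorem v0_3 : fv0 u0_3 = ![0, 0, -1, 1] := by
  show fvec M A hA base0 (u0_2 * M.simple 2) = _
  rw [fvec_mul_simple]; show reflVec A 2 (fv0 u0_2) = _; rw [v0_2]; decide +kernel
theorem v0_4 : fv0 u0_4 = ![0, 0, 1, -1] := by
  show fvec M A hA base0 (u0_2 * M.simple 3) = _
  rw [fvec_mul_simple]; show reflVec A 3 (fv0 u0_2) = _; rw [v0_2]; decide +kernel
theorem v0_5 : fv0 u0_5 = ![0, 1, -1, -1] := by
  show fvec M A hA base0 (u0_3 * M.simple 3) = _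
  rw [fvec_mul_simple]; show reflVec A 3 (fv0 u0_3) = _; rw [v0_3]; decide +kernel
theorem v0_6 : fv0 u0_6 = ![1, -1, 0, 0] := by
  show fvec M A hA base0 (u0_5 * M.simple 1) = _
  rw [fvec_mul_simple]; show reflVec A 1 (fv0 u0_5) = _; rw [v0_5]; decide +kernel
theorem v0_7 : fv0 u0_7 = ![-1, 0, 0, 0] := by
  show fvec M A hA base0 (u0_6 * M.simple 0) = _
  rw [fvec_mul_simple]; show reflVec A 0 (fv0 u0_6) = _; rw [v0_6]; decide +kernel
theorem e0_0_0 : u0_0 * s 0 = 1 * u0_1 := (one_mul (u0_0 * s 0)).symm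
theorem e0_1_0 : u0_1 * s 0 = 1 * u0_0 := tree_up (s_sq 0)
theorem e0_1_1 : u0_1 * s 1 = 1 * u0_2 := (one_mul (u0_1 * s 1)).symm
theorem e0_2_1 : u0_2 * s 1 = 1 * u0_1 := tree_up (s_sq 1)
theorem e0_2_2 : u0_2 * s 2 = 1 * u0_3 := (one_mul (u0_2 * s 2)).symm
theorem e0_3_2 : u0_3 * s 2 = 1 * u0_2 := tree_up (s_sq 2)
theorem e0_2_3 : u0_2 * s 3 = 1 * u0_4 := (one_mul (u0_2 * s 3)).symm
theorem e0_4_3 : u0_4 * s 3 = 1 * u0_2 := tree_up (s_sq 3)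
theorem e0_3_3 : u0_3 * s 3 = 1 * u0_5 := (one_mul (u0_3 * s 3)).symm
theorem e0_5_3 : u0_5 * s 3 = 1 * u0_3 := tree_up (s_sq 3)
theorem e0_5_1 : u0_5 * s 1 = 1 * u0_6 := (one_mul (u0_5 * s 1)).symm
theorem e0_6_1 : u0_6 * s 1 = 1 * u0_5 := tree_up (s_sq 1)
theorem e0_6_0 : u0_6 * s 0 = 1 * u0_7 := (one_mul (u0_6 * s 0)).symm
theorem e0_7_0 : u0_7 * s 0 = 1 * u0_6 := tree_up (s_sq 0)
theorem e0_0_1 : u0_0 * s 1 = s 1 * u0_0 := (one_mul (s 1)).trans (mul_one (s 1)).symm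
theorem e0_0_2 : u0_0 * s 2 = s 2 * u0_0 := (one_mul (s 2)).trans (mul_one (s 2)).symm
theorem e0_0_3 : u0_0 * s 3 = s 3 * u0_0 := (one_mul (s 3)).trans (mul_one (s 3)).symm
theorem e0_2_0 : u0_2 * s 0 = s 1 * u0_2 := by
  simpa only [one_mul, mul_one] using ded3 r_0_1 e0_2_1 e0_1_0 e0_0_1 e0_0_0 e0_1_1
theorem e0_1_2 : u0_1 * s 2 = s 2 * u0_1 := by
  simpa only [one_mul, mul_one] using ded2 r_2_0 e0_1_0 e0_0_2 e0_0_0
theorem e0_1_3 : u0_1 * s 3 = s 3 * u0_1 := by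
  simpa only [one_mul, mul_one] using ded2 r_3_0 e0_1_0 e0_0_3 e0_0_0
theorem e0_3_1 : u0_3 * s 1 = s 2 * u0_3 := by
  simpa only [one_mul, mul_one] using ded3 r_1_2 e0_3_2 e0_2_1 e0_1_2 e0_1_1 e0_2_2
theorem e0_4_1 : u0_4 * s 1 = s 3 * u0_4 := by
  simpa only [one_mul, mul_one] using ded3 r_1_3 e0_4_3 e0_2_1 e0_1_3 e0_1_1 e0_2_3
theorem e0_3_0 : u0_3 * s 0 = s 1 * u0_3 := by
  simpa only [one_mul, mul_one] using ded2 r_0_2 e0_3_2 e0_2_0 e0_2_2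
theorem e0_4_0 : u0_4 * s 0 = s 1 * u0_4 := by
  simpa only [one_mul, mul_one] using ded2 r_0_3 e0_4_3 e0_2_0 e0_2_3
theorem e0_5_2 : u0_5 * s 2 = 1 * u0_4 := by
  simpa only [one_mul, mul_one] using ded2 r_2_3 e0_5_3 e0_3_2 e0_2_3
theorem e0_4_2 : u0_4 * s 2 = 1 * u0_5 := rev_edge (s_sq 2) e0_5_2
theorem e0_5_0 : u0_5 * s 0 = s 1 * u0_5 := by
  simpa only [one_mul, mul_one] using ded2 r_0_3 e0_5_3 e0_3_0 e0_3_3
theorem e0_6_3 : u0_6 * s 3 = s 2 * u0_6 := by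
  simpa only [one_mul, mul_one] using ded3 r_3_1 e0_6_1 e0_5_3 e0_3_1 e0_3_3 e0_5_1
theorem e0_6_2 : u0_6 * s 2 = s 3 * u0_6 := by
  simpa only [one_mul, mul_one] using ded3 r_2_1 e0_6_1 e0_5_2 e0_4_1 e0_4_2 e0_5_1
theorem e0_7_1 : u0_7 * s 1 = s 1 * u0_7 := by
  simpa only [one_mul, mul_one] using ded3 r_1_0 e0_7_0 e0_6_1 e0_5_0 e0_5_1 e0_6_0
theorem e0_7_2 : u0_7 * s 2 = s 3 * u0_7 := by
  simpa only [one_mul, mul_one] using ded2 r_2_0 e0_7_0 e0_6_2 e0_6_0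
theorem e0_7_3 : u0_7 * s 3 = s 2 * u0_7 := by
  simpa only [one_mul, mul_one] using ded2 r_3_0 e0_7_0 e0_6_3 e0_6_0
def P0 (u : W) : Prop := u ∈ Subgroup.closure (gens M J0) ∧ ∀ x ∈ gens M J0, ∃ h ∈ Subgroup.closure (gens M J1), ∃ u' ∈ reps0, u * x = h * u'
theorem mr0_0 : u0_0 ∈ reps0 := List.getElem_mem (l := reps0) (n := 0) (by decide)
theorem mr0_1 : u0_1 ∈ reps0 := List.getElem_mem (l := reps0) (n := 1) (by decide)
theorem mr0_2 : u0_2 ∈ reps0 := List.getElem_mem (l := reps0) (n := 2) (by decide)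
theorem mr0_3 : u0_3 ∈ reps0 := List.getElem_mem (l := reps0) (n := 3) (by decide)
theorem mr0_4 : u0_4 ∈ reps0 := List.getElem_mem (l := reps0) (n := 4) (by decide)
theorem mr0_5 : u0_5 ∈ reps0 := List.getElem_mem (l := reps0) (n := 5) (by decide)
theorem mr0_6 : u0_6 ∈ reps0 := List.getElem_mem (l := reps0) (n := 6) (by decide)
theorem mr0_7 : u0_7 ∈ reps0 := List.getElem_mem (l := reps0) (n := 7) (by decide)
theorem mm0_0 : u0_0 ∈ Subgroup.closure (gens M J0) := one_mem _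
theorem mm0_1 : u0_1 ∈ Subgroup.closure (gens M J0) := mul_mem mm0_0 (Subgroup.subset_closure ⟨0, by decide, rfl⟩)
theorem mm0_2 : u0_2 ∈ Subgroup.closure (gens M J0) := mul_mem mm0_1 (Subgroup.subset_closure ⟨1, by decide, rfl⟩)
theorem mm0_3 : u0_3 ∈ Subgroup.closure (gens M J0) := mul_mem mm0_2 (Subgroup.subset_closure ⟨2, by decide, rfl⟩)
theorem mm0_4 : u0_4 ∈ Subgroup.closure (gens M J0) := mul_mem mm0_2 (Subgroup.subset_closure ⟨3, by decide, rfl⟩)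
theorem mm0_5 : u0_5 ∈ Subgroup.closure (gens M J0) := mul_mem mm0_3 (Subgroup.subset_closure ⟨3, by decide, rfl⟩)
theorem mm0_6 : u0_6 ∈ Subgroup.closure (gens M J0) := mul_mem mm0_5 (Subgroup.subset_closure ⟨1, by decide, rfl⟩)
theorem mm0_7 : u0_7 ∈ Subgroup.closure (gens M J0) := mul_mem mm0_6 (Subgroup.subset_closure ⟨0, by decide, rfl⟩)
theorem c0_0 : P0 u0_0 := by
  refine ⟨mm0_0, ?_⟩
  rintro x ⟨j, hj, rfl⟩
  simp only [J0, List.mem_cons, List.not_mem_nil, or_false] at hj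
  rcases hj with rfl | rfl | rfl | rfl
  · exact ⟨1, one_mem _, u0_1, mr0_1, e0_0_0⟩
  · exact ⟨s 1, Subgroup.subset_closure ⟨1, by decide, rfl⟩, u0_0, mr0_0, e0_0_1⟩
  · exact ⟨s 2, Subgroup.subset_closure ⟨2, by decide, rfl⟩, u0_0, mr0_0, e0_0_2⟩
  · exact ⟨s 3, Subgroup.subset_closure ⟨3, by decide, rfl⟩, u0_0, mr0_0, e0_0_3⟩
theorem c0_1 : P0 u0_1 := by
  refine ⟨mm0_1, ?_⟩
  rintro x ⟨j, hj, rfl⟩
  simp only [J0, List.mem_cons, List.not_mem_nil, or_false] at hj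
  rcases hj with rfl | rfl | rfl | rfl
  · exact ⟨1, one_mem _, u0_0, mr0_0, e0_1_0⟩
  · exact ⟨1, one_mem _, u0_2, mr0_2, e0_1_1⟩
  · exact ⟨s 2, Subgroup.subset_closure ⟨2, by decide, rfl⟩, u0_1, mr0_1, e0_1_2⟩
  · exact ⟨s 3, Subgroup.subset_closure ⟨3, by decide, rfl⟩, u0_1, mr0_1, e0_1_3⟩
theorem c0_2 : P0 u0_2 := by
  refine ⟨mm0_2, ?_⟩
  rintro x ⟨j, hj, rfl⟩
  simp only [J0, List.mem_cons, List.not_mem_nil, or_false] at hj
  rcases hj with rfl | rfl | rfl | rfl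
  · exact ⟨s 1, Subgroup.subset_closure ⟨1, by decide, rfl⟩, u0_2, mr0_2, e0_2_0⟩
  · exact ⟨1, one_mem _, u0_1, mr0_1, e0_2_1⟩
  · exact ⟨1, one_mem _, u0_3, mr0_3, e0_2_2⟩
  · exact ⟨1, one_mem _, u0_4, mr0_4, e0_2_3⟩
theorem c0_3 : P0 u0_3 := by
  refine ⟨mm0_3, ?_⟩
  rintro x ⟨j, hj, rfl⟩
  simp only [J0, List.mem_cons, List.not_mem_nil, or_false] at hj
  rcases hj with rfl | rfl | rfl | rfl
  · exact ⟨s 1, Subgroup.subset_closure ⟨1, by decide, rfl⟩, u0_3, mr0_3, e0_3_0⟩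
  · exact ⟨s 2, Subgroup.subset_closure ⟨2, by decide, rfl⟩, u0_3, mr0_3, e0_3_1⟩
  · exact ⟨1, one_mem _, u0_2, mr0_2, e0_3_2⟩
  · exact ⟨1, one_mem _, u0_5, mr0_5, e0_3_3⟩
theorem c0_4 : P0 u0_4 := by
  refine ⟨mm0_4, ?_⟩
  rintro x ⟨j, hj, rfl⟩
  simp only [J0, List.mem_cons, List.not_mem_nil, or_false] at hj
  rcases hj with rfl | rfl | rfl | rfl
  · exact ⟨s 1, Subgroup.subset_closure ⟨1, by decide, rfl⟩, u0_4, mr0_4, e0_4_0⟩
  · exact ⟨s 3, Subgroup.subset_closure ⟨3, by decide, rfl⟩, u0_4, mr0_4, e0_4_1⟩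
  · exact ⟨1, one_mem _, u0_5, mr0_5, e0_4_2⟩
  · exact ⟨1, one_mem _, u0_2, mr0_2, e0_4_3⟩
theorem c0_5 : P0 u0_5 := by
  refine ⟨mm0_5, ?_⟩
  rintro x ⟨j, hj, rfl⟩
  simp only [J0, List.mem_cons, List.not_mem_nil, or_false] at hj
  rcases hj with rfl | rfl | rfl | rfl
  · exact ⟨s 1, Subgroup.subset_closure ⟨1, by decide, rfl⟩, u0_5, mr0_5, e0_5_0⟩
  · exact ⟨1, one_mem _, u0_6, mr0_6, e0_5_1⟩
  · exact ⟨1, one_mem _, u0_4, mr0_4, e0_5_2⟩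
  · exact ⟨1, one_mem _, u0_3, mr0_3, e0_5_3⟩
theorem c0_6 : P0 u0_6 := by
  refine ⟨mm0_6, ?_⟩
  rintro x ⟨j, hj, rfl⟩
  simp only [J0, List.mem_cons, List.not_mem_nil, or_false] at hj
  rcases hj with rfl | rfl | rfl | rfl
  · exact ⟨1, one_mem _, u0_7, mr0_7, e0_6_0⟩
  · exact ⟨1, one_mem _, u0_5, mr0_5, e0_6_1⟩
  · exact ⟨s 3, Subgroup.subset_closure ⟨3, by decide, rfl⟩, u0_6, mr0_6, e0_6_2⟩
  · exact ⟨s 2, Subgroup.subset_closure ⟨2, by decide, rfl⟩, u0_6, mr0_6, e0_6_3⟩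
theorem c0_7 : P0 u0_7 := by
  refine ⟨mm0_7, ?_⟩
  rintro x ⟨j, hj, rfl⟩
  simp only [J0, List.mem_cons, List.not_mem_nil, or_false] at hj
  rcases hj with rfl | rfl | rfl | rfl
  · exact ⟨1, one_mem _, u0_6, mr0_6, e0_7_0⟩
  · exact ⟨s 1, Subgroup.subset_closure ⟨1, by decide, rfl⟩, u0_7, mr0_7, e0_7_1⟩
  · exact ⟨s 3, Subgroup.subset_closure ⟨3, by decide, rfl⟩, u0_7, mr0_7, e0_7_2⟩
  · exact ⟨s 2, Subgroup.subset_closure ⟨2, by decide, rfl⟩, u0_7, mr0_7, e0_7_3⟩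
def preps0 : List {u : W // P0 u} := [⟨u0_0, c0_0⟩, ⟨u0_1, c0_1⟩, ⟨u0_2, c0_2⟩, ⟨u0_3, c0_3⟩, ⟨u0_4, c0_4⟩, ⟨u0_5, c0_5⟩, ⟨u0_6, c0_6⟩, ⟨u0_7, c0_7⟩]
theorem preps0_map : preps0.map Subtype.val = reps0 := rfl
theorem allP0 : ∀ u ∈ reps0, P0 u := by
  intro u hu
  rw [← preps0_map, List.mem_map] at hu
  obtain ⟨x, _, rfl⟩ := hu
  exact x.2
def vecs0 : List (Fin 4 → ℤ) := [![1, 0, 0, 0], ![-1, 1, 0, 0], ![0, -1, 1, 1], ![0, 0, -1, 1], ![0, 0, 1, -1], ![0, 1, -1, -1], ![1, -1, 0, 0], ![-1, 0, 0, 0]]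
theorem map0 : reps0.map fv0 = vecs0 := by
  simp only [reps0, List.map_cons, List.map_nil, v0_0, v0_1, v0_2, v0_3, v0_4, v0_5, v0_6, v0_7]
  rfl
theorem nd0 : (reps0.map fv0).Nodup := by rw [map0]; decide +kernel
theorem fix0 : ∀ h ∈ gens M J1, ∀ w, fv0 (h * w) = fv0 w := by
  rintro h ⟨j, hj, rfl⟩ w
  simp only [J1, List.mem_cons, List.not_mem_nil, or_false] at hj
  rcases hj with rfl | rfl | rfl
  all_goals exact fvec_fix M A hA base0 _ (by decide +kernel) w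
theorem sub0 : gens M J1 ⊆ gens M J0 := gens_mono M (by decide)
theorem card0 : Nat.card (Subgroup.closure (gens M J0)) = Nat.card (Subgroup.closure (gens M J1)) * 8 :=
  level_card (gens M J0) (gens M J1) sub0 (gens_inv M J0) reps0 mr0_0 (fun u hu => (allP0 u hu).1) (fun u hu => (allP0 u hu).2) fv0 fix0 nd0
theorem ker0 : ∀ w ∈ Subgroup.closure (gens M J0), fv0 w = fv0 1 → w ∈ Subgroup.closure (gens M J1) :=
  level_ker (gens M J0) (gens M J1) (gens_inv M J0) reps0 mr0_0 (fun u hu => (allP0 u hu).2) fv0 fix0 nd0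

-- level 1: index 4
def base1 : Fin 4 → ℤ := ![0, 0, 1, 0]
def fv1 : W → (Fin 4 → ℤ) := fvec M A hA base1
def u1_0 : W := 1
def u1_1 : W := u1_0 * s 2
def u1_2 : W := u1_1 * s 1
def u1_3 : W := u1_2 * s 3
def reps1 : List W := [u1_0, u1_1, u1_2, u1_3]
theorem v1_0 : fv1 u1_0 = ![0, 0, 1, 0] := fvec_one M A hA base1
theorem v1_1 : fv1 u1_1 = ![0, 1, -1, 0] := by
  show fvec M A hA base1 (u1_0 * M.simple 2) = _
  rw [fvec_mul_simple]; show reflVec A 2 (fv1 u1_0) = _; rw [v1_0]; decide +kernel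
theorem v1_2 : fv1 u1_2 = ![1, -1, 0, 1] := by
  show fvec M A hA base1 (u1_1 * M.simple 1) = _
  rw [fvec_mul_simple]; show reflVec A 1 (fv1 u1_1) = _; rw [v1_1]; decide +kernel
theorem v1_3 : fv1 u1_3 = ![1, 0, 0, -1] := by
  show fvec M A hA base1 (u1_2 * M.simple 3) = _
  rw [fvec_mul_simple]; show reflVec A 3 (fv1 u1_2) = _; rw [v1_2]; decide +kernel
theorem e1_0_2 : u1_0 * s 2 = 1 * u1_1 := (one_mul (u1_0 * s 2)).symm
theorem e1_1_2 : u1_1 * s 2 = 1 * u1_0 := tree_up (s_sq 2)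
theorem e1_1_1 : u1_1 * s 1 = 1 * u1_2 := (one_mul (u1_1 * s 1)).symm
theorem e1_2_1 : u1_2 * s 1 = 1 * u1_1 := tree_up (s_sq 1)
theorem e1_2_3 : u1_2 * s 3 = 1 * u1_3 := (one_mul (u1_2 * s 3)).symm
theorem e1_3_3 : u1_3 * s 3 = 1 * u1_2 := tree_up (s_sq 3)
theorem e1_0_1 : u1_0 * s 1 = s 1 * u1_0 := (one_mul (s 1)).trans (mul_one (s 1)).symm
theorem e1_0_3 : u1_0 * s 3 = s 3 * u1_0 := (one_mul (s 3)).trans (mul_one (s 3)).symm
theorem e1_2_2 : u1_2 * s 2 = s 1 * u1_2 := by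
  simpa only [one_mul, mul_one] using ded3 r_2_1 e1_2_1 e1_1_2 e1_0_1 e1_0_2 e1_1_1
theorem e1_1_3 : u1_1 * s 3 = s 3 * u1_1 := by
  simpa only [one_mul, mul_one] using ded2 r_3_2 e1_1_2 e1_0_3 e1_0_2
theorem e1_3_1 : u1_3 * s 1 = s 3 * u1_3 := by
  simpa only [one_mul, mul_one] using ded3 r_1_3 e1_3_3 e1_2_1 e1_1_3 e1_1_1 e1_2_3
theorem e1_3_2 : u1_3 * s 2 = s 1 * u1_3 := by
  simpa only [one_mul, mul_one] using ded2 r_2_3 e1_3_3 e1_2_2 e1_2_3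
def P1 (u : W) : Prop := u ∈ Subgroup.closure (gens M J1) ∧ ∀ x ∈ gens M J1, ∃ h ∈ Subgroup.closure (gens M J2), ∃ u' ∈ reps1, u * x = h * u'
theorem mr1_0 : u1_0 ∈ reps1 := List.getElem_mem (l := reps1) (n := 0) (by decide)
theorem mr1_1 : u1_1 ∈ reps1 := List.getElem_mem (l := reps1) (n := 1) (by decide)
theorem mr1_2 : u1_2 ∈ reps1 := List.getElem_mem (l := reps1) (n := 2) (by decide)
theorem mr1_3 : u1_3 ∈ reps1 := List.getElem_mem (l := reps1) (n := 3) (by decide)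
theorem mm1_0 : u1_0 ∈ Subgroup.closure (gens M J1) := one_mem _
theorem mm1_1 : u1_1 ∈ Subgroup.closure (gens M J1) := mul_mem mm1_0 (Subgroup.subset_closure ⟨2, by decide, rfl⟩)
theorem mm1_2 : u1_2 ∈ Subgroup.closure (gens M J1) := mul_mem mm1_1 (Subgroup.subset_closure ⟨1, by decide, rfl⟩)
theorem mm1_3 : u1_3 ∈ Subgroup.closure (gens M J1) := mul_mem mm1_2 (Subgroup.subset_closure ⟨3, by decide, rfl⟩)
theorem c1_0 : P1 u1_0 := by
  refine ⟨mm1_0, ?_⟩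
  rintro x ⟨j, hj, rfl⟩
  simp only [J1, List.mem_cons, List.not_mem_nil, or_false] at hj
  rcases hj with rfl | rfl | rfl
  · exact ⟨s 1, Subgroup.subset_closure ⟨1, by decide, rfl⟩, u1_0, mr1_0, e1_0_1⟩
  · exact ⟨1, one_mem _, u1_1, mr1_1, e1_0_2⟩
  · exact ⟨s 3, Subgroup.subset_closure ⟨3, by decide, rfl⟩, u1_0, mr1_0, e1_0_3⟩
theorem c1_1 : P1 u1_1 := by
  refine ⟨mm1_1, ?_⟩
  rintro x ⟨j, hj, rfl⟩
  simp only [J1, List.mem_cons, List.not_mem_nil, or_false] at hj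
  rcases hj with rfl | rfl | rfl
  · exact ⟨1, one_mem _, u1_2, mr1_2, e1_1_1⟩
  · exact ⟨1, one_mem _, u1_0, mr1_0, e1_1_2⟩
  · exact ⟨s 3, Subgroup.subset_closure ⟨3, by decide, rfl⟩, u1_1, mr1_1, e1_1_3⟩
theorem c1_2 : P1 u1_2 := by
  refine ⟨mm1_2, ?_⟩
  rintro x ⟨j, hj, rfl⟩
  simp only [J1, List.mem_cons, List.not_mem_nil, or_false] at hj
  rcases hj with rfl | rfl | rfl
  · exact ⟨1, one_mem _, u1_1, mr1_1, e1_2_1⟩
  · exact ⟨s 1, Subgroup.subset_closure ⟨1, by decide, rfl⟩, u1_2, mr1_2, e1_2_2⟩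
  · exact ⟨1, one_mem _, u1_3, mr1_3, e1_2_3⟩
theorem c1_3 : P1 u1_3 := by
  refine ⟨mm1_3, ?_⟩
  rintro x ⟨j, hj, rfl⟩
  simp only [J1, List.mem_cons, List.not_mem_nil, or_false] at hj
  rcases hj with rfl | rfl | rfl
  · exact ⟨s 3, Subgroup.subset_closure ⟨3, by decide, rfl⟩, u1_3, mr1_3, e1_3_1⟩
  · exact ⟨s 1, Subgroup.subset_closure ⟨1, by decide, rfl⟩, u1_3, mr1_3, e1_3_2⟩
  · exact ⟨1, one_mem _, u1_2, mr1_2, e1_3_3⟩
def preps1 : List {u : W // P1 u} := [⟨u1_0, c1_0⟩, ⟨u1_1, c1_1⟩, ⟨u1_2, c1_2⟩, ⟨u1_3, c1_3⟩]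
theorem preps1_map : preps1.map Subtype.val = reps1 := rfl
theorem allP1 : ∀ u ∈ reps1, P1 u := by
  intro u hu
  rw [← preps1_map, List.mem_map] at hu
  obtain ⟨x, _, rfl⟩ := hu
  exact x.2
def vecs1 : List (Fin 4 → ℤ) := [![0, 0, 1, 0], ![0, 1, -1, 0], ![1, -1, 0, 1], ![1, 0, 0, -1]]
theorem map1 : reps1.map fv1 = vecs1 := by
  simp only [reps1, List.map_cons, List.map_nil, v1_0, v1_1, v1_2, v1_3]
  rfl
theorem nd1 : (reps1.map fv1).Nodup := by rw [map1]; decide +kernel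
theorem fix1 : ∀ h ∈ gens M J2, ∀ w, fv1 (h * w) = fv1 w := by
  rintro h ⟨j, hj, rfl⟩ w
  simp only [J2, List.mem_cons, List.not_mem_nil, or_false] at hj
  rcases hj with rfl | rfl
  all_goals exact fvec_fix M A hA base1 _ (by decide +kernel) w
theorem sub1 : gens M J2 ⊆ gens M J1 := gens_mono M (by decide)
theorem card1 : Nat.card (Subgroup.closure (gens M J1)) = Nat.card (Subgroup.closure (gens M J2)) * 4 :=
  level_card (gens M J1) (gens M J2) sub1 (gens_inv M J1) reps1 mr1_0 (fun u hu => (allP1 u hu).1) (fun u hu => (allP1 u hu).2) fv1 fix1 nd1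
theorem ker1 : ∀ w ∈ Subgroup.closure (gens M J1), fv1 w = fv1 1 → w ∈ Subgroup.closure (gens M J2) :=
  level_ker (gens M J1) (gens M J2) (gens_inv M J1) reps1 mr1_0 (fun u hu => (allP1 u hu).2) fv1 fix1 nd1

-- level 2: index 3
def base2 : Fin 4 → ℤ := ![0, 0, 0, 1]
def fv2 : W → (Fin 4 → ℤ) := fvec M A hA base2
def u2_0 : W := 1
def u2_1 : W := u2_0 * s 3
def u2_2 : W := u2_1 * s 1
def reps2 : List W := [u2_0, u2_1, u2_2]
theorem v2_0 : fv2 u2_0 = ![0, 0, 0, 1] := fvec_one M A hA base2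
theorem v2_1 : fv2 u2_1 = ![0, 1, 0, -1] := by
  show fvec M A hA base2 (u2_0 * M.simple 3) = _
  rw [fvec_mul_simple]; show reflVec A 3 (fv2 u2_0) = _; rw [v2_0]; decide +kernel
theorem v2_2 : fv2 u2_2 = ![1, -1, 1, 0] := by
  show fvec M A hA base2 (u2_1 * M.simple 1) = _
  rw [fvec_mul_simple]; show reflVec A 1 (fv2 u2_1) = _; rw [v2_1]; decide +kernel
theorem e2_0_3 : u2_0 * s 3 = 1 * u2_1 := (one_mul (u2_0 * s 3)).symm
theorem e2_1_3 : u2_1 * s 3 = 1 * u2_0 := tree_up (s_sq 3)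
theorem e2_1_1 : u2_1 * s 1 = 1 * u2_2 := (one_mul (u2_1 * s 1)).symm
theorem e2_2_1 : u2_2 * s 1 = 1 * u2_1 := tree_up (s_sq 1)
theorem e2_0_1 : u2_0 * s 1 = s 1 * u2_0 := (one_mul (s 1)).trans (mul_one (s 1)).symm
theorem e2_2_3 : u2_2 * s 3 = s 1 * u2_2 := by
  simpa only [one_mul, mul_one] using ded3 r_3_1 e2_2_1 e2_1_3 e2_0_1 e2_0_3 e2_1_1
def P2 (u : W) : Prop := u ∈ Subgroup.closure (gens M J2) ∧ ∀ x ∈ gens M J2, ∃ h ∈ Subgroup.closure (gens M J3), ∃ u' ∈ reps2, u * x = h * u'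
theorem mr2_0 : u2_0 ∈ reps2 := List.getElem_mem (l := reps2) (n := 0) (by decide)
theorem mr2_1 : u2_1 ∈ reps2 := List.getElem_mem (l := reps2) (n := 1) (by decide)
theorem mr2_2 : u2_2 ∈ reps2 := List.getElem_mem (l := reps2) (n := 2) (by decide)
theorem mm2_0 : u2_0 ∈ Subgroup.closure (gens M J2) := one_mem _
theorem mm2_1 : u2_1 ∈ Subgroup.closure (gens M J2) := mul_mem mm2_0 (Subgroup.subset_closure ⟨3, by decide, rfl⟩)
theorem mm2_2 : u2_2 ∈ Subgroup.closure (gens M J2) := mul_mem mm2_1 (Subgroup.subset_closure ⟨1, by decide, rfl⟩)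
theorem c2_0 : P2 u2_0 := by
  refine ⟨mm2_0, ?_⟩
  rintro x ⟨j, hj, rfl⟩
  simp only [J2, List.mem_cons, List.not_mem_nil, or_false] at hj
  rcases hj with rfl | rfl
  · exact ⟨s 1, Subgroup.subset_closure ⟨1, by decide, rfl⟩, u2_0, mr2_0, e2_0_1⟩
  · exact ⟨1, one_mem _, u2_1, mr2_1, e2_0_3⟩
theorem c2_1 : P2 u2_1 := by
  refine ⟨mm2_1, ?_⟩
  rintro x ⟨j, hj, rfl⟩
  simp only [J2, List.mem_cons, List.not_mem_nil, or_false] at hj
  rcases hj with rfl | rfl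
  · exact ⟨1, one_mem _, u2_2, mr2_2, e2_1_1⟩
  · exact ⟨1, one_mem _, u2_0, mr2_0, e2_1_3⟩
theorem c2_2 : P2 u2_2 := by
  refine ⟨mm2_2, ?_⟩
  rintro x ⟨j, hj, rfl⟩
  simp only [J2, List.mem_cons, List.not_mem_nil, or_false] at hj
  rcases hj with rfl | rfl
  · exact ⟨1, one_mem _, u2_1, mr2_1, e2_2_1⟩
  · exact ⟨s 1, Subgroup.subset_closure ⟨1, by decide, rfl⟩, u2_2, mr2_2, e2_2_3⟩
def preps2 : List {u : W // P2 u} := [⟨u2_0, c2_0⟩, ⟨u2_1, c2_1⟩, ⟨u2_2, c2_2⟩]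
theorem preps2_map : preps2.map Subtype.val = reps2 := rfl
theorem allP2 : ∀ u ∈ reps2, P2 u := by
  intro u hu
  rw [← preps2_map, List.mem_map] at hu
  obtain ⟨x, _, rfl⟩ := hu
  exact x.2
def vecs2 : List (Fin 4 → ℤ) := [![0, 0, 0, 1], ![0, 1, 0, -1], ![1, -1, 1, 0]]
theorem map2 : reps2.map fv2 = vecs2 := by
  simp only [reps2, List.map_cons, List.map_nil, v2_0, v2_1, v2_2]
  rfl
theorem nd2 : (reps2.map fv2).Nodup := by rw [map2]; decide +kernel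
theorem fix2 : ∀ h ∈ gens M J3, ∀ w, fv2 (h * w) = fv2 w := by
  rintro h ⟨j, hj, rfl⟩ w
  simp only [J3, List.mem_cons, List.not_mem_nil, or_false] at hj
  subst hj
  all_goals exact fvec_fix M A hA base2 _ (by decide +kernel) w
theorem sub2 : gens M J3 ⊆ gens M J2 := gens_mono M (by decide)
theorem card2 : Nat.card (Subgroup.closure (gens M J2)) = Nat.card (Subgroup.closure (gens M J3)) * 3 :=
  level_card (gens M J2) (gens M J3) sub2 (gens_inv M J2) reps2 mr2_0 (fun u hu => (allP2 u hu).1) (fun u hu => (allP2 u hu).2) fv2 fix2 nd2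
theorem ker2 : ∀ w ∈ Subgroup.closure (gens M J2), fv2 w = fv2 1 → w ∈ Subgroup.closure (gens M J3) :=
  level_ker (gens M J2) (gens M J3) (gens_inv M J2) reps2 mr2_0 (fun u hu => (allP2 u hu).2) fv2 fix2 nd2

-- level 3: index 2
def base3 : Fin 4 → ℤ := ![0, 1, 0, 0]
def fv3 : W → (Fin 4 → ℤ) := fvec M A hA base3
def u3_0 : W := 1
def u3_1 : W := u3_0 * s 1
def reps3 : List W := [u3_0, u3_1]
theorem v3_0 : fv3 u3_0 = ![0, 1, 0, 0] := fvec_one M A hA base3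
theorem v3_1 : fv3 u3_1 = ![1, -1, 1, 1] := by
  show fvec M A hA base3 (u3_0 * M.simple 1) = _
  rw [fvec_mul_simple]; show reflVec A 1 (fv3 u3_0) = _; rw [v3_0]; decide +kernel
theorem e3_0_1 : u3_0 * s 1 = 1 * u3_1 := (one_mul (u3_0 * s 1)).symm
theorem e3_1_1 : u3_1 * s 1 = 1 * u3_0 := tree_up (s_sq 1)
def P3 (u : W) : Prop := u ∈ Subgroup.closure (gens M J3) ∧ ∀ x ∈ gens M J3, ∃ h ∈ Subgroup.closure (gens M J4), ∃ u' ∈ reps3, u * x = h * u'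
theorem mr3_0 : u3_0 ∈ reps3 := List.getElem_mem (l := reps3) (n := 0) (by decide)
theorem mr3_1 : u3_1 ∈ reps3 := List.getElem_mem (l := reps3) (n := 1) (by decide)
theorem mm3_0 : u3_0 ∈ Subgroup.closure (gens M J3) := one_mem _
theorem mm3_1 : u3_1 ∈ Subgroup.closure (gens M J3) := mul_mem mm3_0 (Subgroup.subset_closure ⟨1, by decide, rfl⟩)
theorem c3_0 : P3 u3_0 := by
  refine ⟨mm3_0, ?_⟩
  rintro x ⟨j, hj, rfl⟩
  simp only [J3, List.mem_cons, List.not_mem_nil, or_false] at hj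
  subst hj
  · exact ⟨1, one_mem _, u3_1, mr3_1, e3_0_1⟩
theorem c3_1 : P3 u3_1 := by
  refine ⟨mm3_1, ?_⟩
  rintro x ⟨j, hj, rfl⟩
  simp only [J3, List.mem_cons, List.not_mem_nil, or_false] at hj
  subst hj
  · exact ⟨1, one_mem _, u3_0, mr3_0, e3_1_1⟩
def preps3 : List {u : W // P3 u} := [⟨u3_0, c3_0⟩, ⟨u3_1, c3_1⟩]
theorem preps3_map : preps3.map Subtype.val = reps3 := rfl
theorem allP3 : ∀ u ∈ reps3, P3 u := by
  intro u hu
  rw [← preps3_map, List.mem_map] at hu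
  obtain ⟨x, _, rfl⟩ := hu
  exact x.2
def vecs3 : List (Fin 4 → ℤ) := [![0, 1, 0, 0], ![1, -1, 1, 1]]
theorem map3 : reps3.map fv3 = vecs3 := by
  simp only [reps3, List.map_cons, List.map_nil, v3_0, v3_1]
  rfl
theorem nd3 : (reps3.map fv3).Nodup := by rw [map3]; decide +kernel
theorem fix3 : ∀ h ∈ gens M J4, ∀ w, fv3 (h * w) = fv3 w := by
  rintro h ⟨j, hj, rfl⟩ w
  simp [J4] at hj
theorem sub3 : gens M J4 ⊆ gens M J3 := gens_mono M (by decide)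
theorem card3 : Nat.card (Subgroup.closure (gens M J3)) = Nat.card (Subgroup.closure (gens M J4)) * 2 :=
  level_card (gens M J3) (gens M J4) sub3 (gens_inv M J3) reps3 mr3_0 (fun u hu => (allP3 u hu).1) (fun u hu => (allP3 u hu).2) fv3 fix3 nd3
theorem ker3 : ∀ w ∈ Subgroup.closure (gens M J3), fv3 w = fv3 1 → w ∈ Subgroup.closure (gens M J4) :=
  level_ker (gens M J3) (gens M J4) (gens_inv M J3) reps3 mr3_0 (fun u hu => (allP3 u hu).2) fv3 fix3 nd3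

theorem card_eq : Nat.card W = 192 := by
  have htop : Subgroup.closure (gens M J0) = ⊤ := closure_gens_all M J0 (by decide)
  have hbot : Nat.card (Subgroup.closure (gens M J4)) = 1 := by
    show Nat.card (Subgroup.closure (gens M ([] : List (Fin 4)))) = 1
    rw [closure_gens_nil]; exact Subgroup.card_bot
  rw [← Subgroup.card_top (G := W), ← htop, card0, card1, card2, card3, hbot]
theorem rho_ker (w : W) (h : rho M A hA w = 1) : w = 1 := by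
  have h0 : w ∈ Subgroup.closure (gens M J0) := by rw [closure_gens_all M J0 (by decide)]; trivial
  have h1 := ker0 w h0 (fvec_of_rho_eq_one M A hA base0 w h)
  have h2 := ker1 w h1 (fvec_of_rho_eq_one M A hA base1 w h)
  have h3 := ker2 w h2 (fvec_of_rho_eq_one M A hA base2 w h)
  have h4 := ker3 w h3 (fvec_of_rho_eq_one M A hA base3 w h)
  have hb : Subgroup.closure (gens M J4) = ⊥ := closure_gens_nil M
  rw [hb] at h4
  exact Subgroup.mem_bot.mp h4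

def cox : W := ((List.finRange 4).map M.simple).prod
def Cm0 : Matrix (Fin 4) (Fin 4) ℤ := 1
def Cm1 : Matrix (Fin 4) (Fin 4) ℤ := !![-1, 0, 0, 0; 1, 1, 0, 0; 0, 0, 1, 0; 0, 0, 0, 1]
theorem hCm1 : Cm0 * reflMat A 0 = Cm1 := by decide +kernel
def Cm2 : Matrix (Fin 4) (Fin 4) ℤ := !![-1, -1, 0, 0; 1, 0, 0, 0; 0, 1, 1, 0; 0, 1, 0, 1]
theorem hCm2 : Cm1 * reflMat A 1 = Cm2 := by decide +kernel
def Cm3 : Matrix (Fin 4) (Fin 4) ℤ := !![-1, -1, -1, 0; 1, 0, 0, 0; 0, 1, 0, 0; 0, 1, 1, 1]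
theorem hCm3 : Cm2 * reflMat A 2 = Cm3 := by decide +kernel
def Cm4 : Matrix (Fin 4) (Fin 4) ℤ := !![-1, -1, -1, -1; 1, 0, 0, 0; 0, 1, 0, 1; 0, 1, 1, 0]
theorem hCm4 : Cm3 * reflMat A 3 = Cm4 := by decide +kernel
theorem rho_cox : rho M A hA cox = Cm4 := by
  have : cox = M.simple 0 * M.simple 1 * M.simple 2 * M.simple 3 := by
    simp [cox, List.finRange_succ, mul_assoc]
  rw [this]
  simp only [map_mul, rho_simple]
  rw [← one_mul (reflMat A 0), ← Cm0, hCm1, hCm2, hCm3, hCm4]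
def Pw1 : Matrix (Fin 4) (Fin 4) ℤ := Cm4
def Pw2 : Matrix (Fin 4) (Fin 4) ℤ := !![0, -1, 0, 0; -1, -1, -1, -1; 1, 1, 1, 0; 1, 1, 0, 1]
theorem hPw2 : Pw1 * Cm4 = Pw2 := by decide +kernel
def Pw3 : Matrix (Fin 4) (Fin 4) ℤ := !![-1, 0, 0, 0; 0, -1, 0, 0; 0, 0, -1, 0; 0, 0, 0, -1]
theorem hPw3 : Pw2 * Cm4 = Pw3 := by decide +kernel
def Pw4 : Matrix (Fin 4) (Fin 4) ℤ := !![1, 1, 1, 1; -1, 0, 0, 0; 0, -1, 0, -1; 0, -1, -1, 0]
theorem hPw4 : Pw3 * Cm4 = Pw4 := by decide +kernel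
def Pw5 : Matrix (Fin 4) (Fin 4) ℤ := !![0, 1, 0, 0; 1, 1, 1, 1; -1, -1, -1, 0; -1, -1, 0, -1]
theorem hPw5 : Pw4 * Cm4 = Pw5 := by decide +kernel
def Pw6 : Matrix (Fin 4) (Fin 4) ℤ := !![1, 0, 0, 0; 0, 1, 0, 0; 0, 0, 1, 0; 0, 0, 0, 1]
theorem hPw6 : Pw5 * Cm4 = Pw6 := by decide +kernel
theorem rho_cox_pow1 : rho M A hA (cox ^ 1) = Pw1 := by rw [pow_one, rho_cox]; rfl
theorem rho_cox_pow2 : rho M A hA (cox ^ 2) = Pw2 := by rw [pow_succ, map_mul, rho_cox_pow1, rho_cox, hPw2]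
theorem rho_cox_pow3 : rho M A hA (cox ^ 3) = Pw3 := by rw [pow_succ, map_mul, rho_cox_pow2, rho_cox, hPw3]
theorem rho_cox_pow4 : rho M A hA (cox ^ 4) = Pw4 := by rw [pow_succ, map_mul, rho_cox_pow3, rho_cox, hPw4]
theorem rho_cox_pow5 : rho M A hA (cox ^ 5) = Pw5 := by rw [pow_succ, map_mul, rho_cox_pow4, rho_cox, hPw5]
theorem rho_cox_pow6 : rho M A hA (cox ^ 6) = Pw6 := by rw [pow_succ, map_mul, rho_cox_pow5, rho_cox, hPw6]
theorem cox_order : orderOf cox = 6 := by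
  rw [orderOf_eq_iff (by norm_num)]
  refine ⟨rho_ker _ (by rw [rho_cox_pow6]; decide +kernel), ?_⟩
  intro m hm hm0 hc
  have hr : rho M A hA (cox ^ m) = 1 := by rw [hc, map_one]
  interval_cases m
  · rw [rho_cox_pow1] at hr; revert hr; decide +kernel
  · rw [rho_cox_pow2] at hr; revert hr; decide +kernel
  · rw [rho_cox_pow3] at hr; revert hr; decide +kernel
  · rw [rho_cox_pow4] at hr; revert hr; decide +kernel
  · rw [rho_cox_pow5] at hr; revert hr; decide +kernel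

end

end Cfsg.Agent.Lib.Helper18.CoxD4
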