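import Cfsg.Agent.Lib.Helper18.CoxRep

set_option autoImplicit false
set_option linter.unusedVariables false
set_option maxRecDepth 100000

namespace Cfsg.Agent.Lib.Helper18.CoxE6

open Cfsg.Agent.Lib.Helper18

noncomputable section

abbrev M : CoxeterMatrix (Fin 6) := CoxeterMatrix.E₆
abbrev W : Type := M.Group
def A : Matrix (Fin 6) (Fin 6) ℤ := !![2, 0, -1, 0, 0, 0; 0, 2, 0, -1, 0, 0; -1, 0, 2, -1, 0, 0; 0, -1, -1, 2, -1, 0; 0, 0, 0, -1, 2, -1; 0, 0, 0, 0, -1, 2]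

theorem hA_0_0 : (reflMat A 0 * reflMat A 0) ^ 1 = 1 := by
  apply Matrix.ext_of_mulVec_single; intro k
  simp only [pow_succ, pow_zero, one_mul, ← Matrix.mulVec_mulVec, reflMat_mulVec, Matrix.one_mulVec]
  revert k; decide +kernel
theorem hA_0_1 : (reflMat A 0 * reflMat A 1) ^ 2 = 1 := by
  apply Matrix.ext_of_mulVec_single; intro k
  simp only [pow_succ, pow_zero, one_mul, ← Matrix.mulVec_mulVec, reflMat_mulVec, Matrix.one_mulVec]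
  revert k; decide +kernel
theorem hA_0_2 : (reflMat A 0 * reflMat A 2) ^ 3 = 1 := by
  apply Matrix.ext_of_mulVec_single; intro k
  simp only [pow_succ, pow_zero, one_mul, ← Matrix.mulVec_mulVec, reflMat_mulVec, Matrix.one_mulVec]
  revert k; decide +kernel
theorem hA_0_3 : (reflMat A 0 * reflMat A 3) ^ 2 = 1 := by
  apply Matrix.ext_of_mulVec_single; intro k
  simp only [pow_succ, pow_zero, one_mul, ← Matrix.mulVec_mulVec, reflMat_mulVec, Matrix.one_mulVec]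
  revert k; decide +kernel
theorem hA_0_4 : (reflMat A 0 * reflMat A 4) ^ 2 = 1 := by
  apply Matrix.ext_of_mulVec_single; intro k
  simp only [pow_succ, pow_zero, one_mul, ← Matrix.mulVec_mulVec, reflMat_mulVec, Matrix.one_mulVec]
  revert k; decide +kernel
theorem hA_0_5 : (reflMat A 0 * reflMat A 5) ^ 2 = 1 := by
  apply Matrix.ext_of_mulVec_single; intro k
  simp only [pow_succ, pow_zero, one_mul, ← Matrix.mulVec_mulVec, reflMat_mulVec, Matrix.one_mulVec]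
  revert k; decide +kernel
theorem hA_1_0 : (reflMat A 1 * reflMat A 0) ^ 2 = 1 := by
  apply Matrix.ext_of_mulVec_single; intro k
  simp only [pow_succ, pow_zero, one_mul, ← Matrix.mulVec_mulVec, reflMat_mulVec, Matrix.one_mulVec]
  revert k; decide +kernel
theorem hA_1_1 : (reflMat A 1 * reflMat A 1) ^ 1 = 1 := by
  apply Matrix.ext_of_mulVec_single; intro k
  simp only [pow_succ, pow_zero, one_mul, ← Matrix.mulVec_mulVec, reflMat_mulVec, Matrix.one_mulVec]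
  revert k; decide +kernel
theorem hA_1_2 : (reflMat A 1 * reflMat A 2) ^ 2 = 1 := by
  apply Matrix.ext_of_mulVec_single; intro k
  simp only [pow_succ, pow_zero, one_mul, ← Matrix.mulVec_mulVec, reflMat_mulVec, Matrix.one_mulVec]
  revert k; decide +kernel
theorem hA_1_3 : (reflMat A 1 * reflMat A 3) ^ 3 = 1 := by
  apply Matrix.ext_of_mulVec_single; intro k
  simp only [pow_succ, pow_zero, one_mul, ← Matrix.mulVec_mulVec, reflMat_mulVec, Matrix.one_mulVec]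
  revert k; decide +kernel
theorem hA_1_4 : (reflMat A 1 * reflMat A 4) ^ 2 = 1 := by
  apply Matrix.ext_of_mulVec_single; intro k
  simp only [pow_succ, pow_zero, one_mul, ← Matrix.mulVec_mulVec, reflMat_mulVec, Matrix.one_mulVec]
  revert k; decide +kernel
theorem hA_1_5 : (reflMat A 1 * reflMat A 5) ^ 2 = 1 := by
  apply Matrix.ext_of_mulVec_single; intro k
  simp only [pow_succ, pow_zero, one_mul, ← Matrix.mulVec_mulVec, reflMat_mulVec, Matrix.one_mulVec]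
  revert k; decide +kernel
theorem hA_2_0 : (reflMat A 2 * reflMat A 0) ^ 3 = 1 := by
  apply Matrix.ext_of_mulVec_single; intro k
  simp only [pow_succ, pow_zero, one_mul, ← Matrix.mulVec_mulVec, reflMat_mulVec, Matrix.one_mulVec]
  revert k; decide +kernel
theorem hA_2_1 : (reflMat A 2 * reflMat A 1) ^ 2 = 1 := by
  apply Matrix.ext_of_mulVec_single; intro k
  simp only [pow_succ, pow_zero, one_mul, ← Matrix.mulVec_mulVec, reflMat_mulVec, Matrix.one_mulVec]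
  revert k; decide +kernel
theorem hA_2_2 : (reflMat A 2 * reflMat A 2) ^ 1 = 1 := by
  apply Matrix.ext_of_mulVec_single; intro k
  simp only [pow_succ, pow_zero, one_mul, ← Matrix.mulVec_mulVec, reflMat_mulVec, Matrix.one_mulVec]
  revert k; decide +kernel
theorem hA_2_3 : (reflMat A 2 * reflMat A 3) ^ 3 = 1 := by
  apply Matrix.ext_of_mulVec_single; intro k
  simp only [pow_succ, pow_zero, one_mul, ← Matrix.mulVec_mulVec, reflMat_mulVec, Matrix.one_mulVec]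
  revert k; decide +kernel
theorem hA_2_4 : (reflMat A 2 * reflMat A 4) ^ 2 = 1 := by
  apply Matrix.ext_of_mulVec_single; intro k
  simp only [pow_succ, pow_zero, one_mul, ← Matrix.mulVec_mulVec, reflMat_mulVec, Matrix.one_mulVec]
  revert k; decide +kernel
theorem hA_2_5 : (reflMat A 2 * reflMat A 5) ^ 2 = 1 := by
  apply Matrix.ext_of_mulVec_single; intro k
  simp only [pow_succ, pow_zero, one_mul, ← Matrix.mulVec_mulVec, reflMat_mulVec, Matrix.one_mulVec]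
  revert k; decide +kernel
theorem hA_3_0 : (reflMat A 3 * reflMat A 0) ^ 2 = 1 := by
  apply Matrix.ext_of_mulVec_single; intro k
  simp only [pow_succ, pow_zero, one_mul, ← Matrix.mulVec_mulVec, reflMat_mulVec, Matrix.one_mulVec]
  revert k; decide +kernel
theorem hA_3_1 : (reflMat A 3 * reflMat A 1) ^ 3 = 1 := by
  apply Matrix.ext_of_mulVec_single; intro k
  simp only [pow_succ, pow_zero, one_mul, ← Matrix.mulVec_mulVec, reflMat_mulVec, Matrix.one_mulVec]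
  revert k; decide +kernel
theorem hA_3_2 : (reflMat A 3 * reflMat A 2) ^ 3 = 1 := by
  apply Matrix.ext_of_mulVec_single; intro k
  simp only [pow_succ, pow_zero, one_mul, ← Matrix.mulVec_mulVec, reflMat_mulVec, Matrix.one_mulVec]
  revert k; decide +kernel
theorem hA_3_3 : (reflMat A 3 * reflMat A 3) ^ 1 = 1 := by
  apply Matrix.ext_of_mulVec_single; intro k
  simp only [pow_succ, pow_zero, one_mul, ← Matrix.mulVec_mulVec, reflMat_mulVec, Matrix.one_mulVec]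
  revert k; decide +kernel
theorem hA_3_4 : (reflMat A 3 * reflMat A 4) ^ 3 = 1 := by
  apply Matrix.ext_of_mulVec_single; intro k
  simp only [pow_succ, pow_zero, one_mul, ← Matrix.mulVec_mulVec, reflMat_mulVec, Matrix.one_mulVec]
  revert k; decide +kernel
theorem hA_3_5 : (reflMat A 3 * reflMat A 5) ^ 2 = 1 := by
  apply Matrix.ext_of_mulVec_single; intro k
  simp only [pow_succ, pow_zero, one_mul, ← Matrix.mulVec_mulVec, reflMat_mulVec, Matrix.one_mulVec]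
  revert k; decide +kernel
theorem hA_4_0 : (reflMat A 4 * reflMat A 0) ^ 2 = 1 := by
  apply Matrix.ext_of_mulVec_single; intro k
  simp only [pow_succ, pow_zero, one_mul, ← Matrix.mulVec_mulVec, reflMat_mulVec, Matrix.one_mulVec]
  revert k; decide +kernel
theorem hA_4_1 : (reflMat A 4 * reflMat A 1) ^ 2 = 1 := by
  apply Matrix.ext_of_mulVec_single; intro k
  simp only [pow_succ, pow_zero, one_mul, ← Matrix.mulVec_mulVec, reflMat_mulVec, Matrix.one_mulVec]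
  revert k; decide +kernel
theorem hA_4_2 : (reflMat A 4 * reflMat A 2) ^ 2 = 1 := by
  apply Matrix.ext_of_mulVec_single; intro k
  simp only [pow_succ, pow_zero, one_mul, ← Matrix.mulVec_mulVec, reflMat_mulVec, Matrix.one_mulVec]
  revert k; decide +kernel
theorem hA_4_3 : (reflMat A 4 * reflMat A 3) ^ 3 = 1 := by
  apply Matrix.ext_of_mulVec_single; intro k
  simp only [pow_succ, pow_zero, one_mul, ← Matrix.mulVec_mulVec, reflMat_mulVec, Matrix.one_mulVec]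
  revert k; decide +kernel
theorem hA_4_4 : (reflMat A 4 * reflMat A 4) ^ 1 = 1 := by
  apply Matrix.ext_of_mulVec_single; intro k
  simp only [pow_succ, pow_zero, one_mul, ← Matrix.mulVec_mulVec, reflMat_mulVec, Matrix.one_mulVec]
  revert k; decide +kernel
theorem hA_4_5 : (reflMat A 4 * reflMat A 5) ^ 3 = 1 := by
  apply Matrix.ext_of_mulVec_single; intro k
  simp only [pow_succ, pow_zero, one_mul, ← Matrix.mulVec_mulVec, reflMat_mulVec, Matrix.one_mulVec]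
  revert k; decide +kernel
theorem hA_5_0 : (reflMat A 5 * reflMat A 0) ^ 2 = 1 := by
  apply Matrix.ext_of_mulVec_single; intro k
  simp only [pow_succ, pow_zero, one_mul, ← Matrix.mulVec_mulVec, reflMat_mulVec, Matrix.one_mulVec]
  revert k; decide +kernel
theorem hA_5_1 : (reflMat A 5 * reflMat A 1) ^ 2 = 1 := by
  apply Matrix.ext_of_mulVec_single; intro k
  simp only [pow_succ, pow_zero, one_mul, ← Matrix.mulVec_mulVec, reflMat_mulVec, Matrix.one_mulVec]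
  revert k; decide +kernel
theorem hA_5_2 : (reflMat A 5 * reflMat A 2) ^ 2 = 1 := by
  apply Matrix.ext_of_mulVec_single; intro k
  simp only [pow_succ, pow_zero, one_mul, ← Matrix.mulVec_mulVec, reflMat_mulVec, Matrix.one_mulVec]
  revert k; decide +kernel
theorem hA_5_3 : (reflMat A 5 * reflMat A 3) ^ 2 = 1 := by
  apply Matrix.ext_of_mulVec_single; intro k
  simp only [pow_succ, pow_zero, one_mul, ← Matrix.mulVec_mulVec, reflMat_mulVec, Matrix.one_mulVec]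
  revert k; decide +kernel
theorem hA_5_4 : (reflMat A 5 * reflMat A 4) ^ 3 = 1 := by
  apply Matrix.ext_of_mulVec_single; intro k
  simp only [pow_succ, pow_zero, one_mul, ← Matrix.mulVec_mulVec, reflMat_mulVec, Matrix.one_mulVec]
  revert k; decide +kernel
theorem hA_5_5 : (reflMat A 5 * reflMat A 5) ^ 1 = 1 := by
  apply Matrix.ext_of_mulVec_single; intro k
  simp only [pow_succ, pow_zero, one_mul, ← Matrix.mulVec_mulVec, reflMat_mulVec, Matrix.one_mulVec]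
  revert k; decide +kernel
theorem hA : M.IsLiftable (reflMat A) := fun i i' =>
  match i, i' with
  | 0, 0 => hA_0_0
  | 0, 1 => hA_0_1
  | 0, 2 => hA_0_2
  | 0, 3 => hA_0_3
  | 0, 4 => hA_0_4
  | 0, 5 => hA_0_5
  | 1, 0 => hA_1_0
  | 1, 1 => hA_1_1
  | 1, 2 => hA_1_2
  | 1, 3 => hA_1_3
  | 1, 4 => hA_1_4
  | 1, 5 => hA_1_5
  | 2, 0 => hA_2_0
  | 2, 1 => hA_2_1
  | 2, 2 => hA_2_2
  | 2, 3 => hA_2_3
  | 2, 4 => hA_2_4
  | 2, 5 => hA_2_5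
  | 3, 0 => hA_3_0
  | 3, 1 => hA_3_1
  | 3, 2 => hA_3_2
  | 3, 3 => hA_3_3
  | 3, 4 => hA_3_4
  | 3, 5 => hA_3_5
  | 4, 0 => hA_4_0
  | 4, 1 => hA_4_1
  | 4, 2 => hA_4_2
  | 4, 3 => hA_4_3
  | 4, 4 => hA_4_4
  | 4, 5 => hA_4_5
  | 5, 0 => hA_5_0
  | 5, 1 => hA_5_1
  | 5, 2 => hA_5_2
  | 5, 3 => hA_5_3
  | 5, 4 => hA_5_4
  | 5, 5 => hA_5_5

abbrev s (i : Fin 6) : W := M.simple i
theorem s_sq (i : Fin 6) : s i * s i = 1 := simple_sq M i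
theorem r_0_1 : s 0 = s 1 * s 0 * s 1 :=
  rel2 (s_sq 0) (s_sq 1) (M.toCoxeterSystem.simple_mul_simple_pow 0 1)
theorem r_0_2 : s 0 = s 2 * s 0 * s 2 * s 0 * s 2 :=
  rel3 (s_sq 0) (s_sq 2) (M.toCoxeterSystem.simple_mul_simple_pow 0 2)
theorem r_0_3 : s 0 = s 3 * s 0 * s 3 :=
  rel2 (s_sq 0) (s_sq 3) (M.toCoxeterSystem.simple_mul_simple_pow 0 3)
theorem r_0_4 : s 0 = s 4 * s 0 * s 4 :=
  rel2 (s_sq 0) (s_sq 4) (M.toCoxeterSystem.simple_mul_simple_pow 0 4)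
theorem r_0_5 : s 0 = s 5 * s 0 * s 5 :=
  rel2 (s_sq 0) (s_sq 5) (M.toCoxeterSystem.simple_mul_simple_pow 0 5)
theorem r_1_0 : s 1 = s 0 * s 1 * s 0 :=
  rel2 (s_sq 1) (s_sq 0) (M.toCoxeterSystem.simple_mul_simple_pow 1 0)
theorem r_1_2 : s 1 = s 2 * s 1 * s 2 :=
  rel2 (s_sq 1) (s_sq 2) (M.toCoxeterSystem.simple_mul_simple_pow 1 2)
theorem r_1_3 : s 1 = s 3 * s 1 * s 3 * s 1 * s 3 :=
  rel3 (s_sq 1) (s_sq 3) (M.toCoxeterSystem.simple_mul_simple_pow 1 3)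
theorem r_1_4 : s 1 = s 4 * s 1 * s 4 :=
  rel2 (s_sq 1) (s_sq 4) (M.toCoxeterSystem.simple_mul_simple_pow 1 4)
theorem r_1_5 : s 1 = s 5 * s 1 * s 5 :=
  rel2 (s_sq 1) (s_sq 5) (M.toCoxeterSystem.simple_mul_simple_pow 1 5)
theorem r_2_0 : s 2 = s 0 * s 2 * s 0 * s 2 * s 0 :=
  rel3 (s_sq 2) (s_sq 0) (M.toCoxeterSystem.simple_mul_simple_pow 2 0)
theorem r_2_1 : s 2 = s 1 * s 2 * s 1 :=
  rel2 (s_sq 2) (s_sq 1) (M.toCoxeterSystem.simple_mul_simple_pow 2 1)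
theorem r_2_3 : s 2 = s 3 * s 2 * s 3 * s 2 * s 3 :=
  rel3 (s_sq 2) (s_sq 3) (M.toCoxeterSystem.simple_mul_simple_pow 2 3)
theorem r_2_4 : s 2 = s 4 * s 2 * s 4 :=
  rel2 (s_sq 2) (s_sq 4) (M.toCoxeterSystem.simple_mul_simple_pow 2 4)
theorem r_2_5 : s 2 = s 5 * s 2 * s 5 :=
  rel2 (s_sq 2) (s_sq 5) (M.toCoxeterSystem.simple_mul_simple_pow 2 5)
theorem r_3_0 : s 3 = s 0 * s 3 * s 0 :=
  rel2 (s_sq 3) (s_sq 0) (M.toCoxeterSystem.simple_mul_simple_pow 3 0)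
theorem r_3_1 : s 3 = s 1 * s 3 * s 1 * s 3 * s 1 :=
  rel3 (s_sq 3) (s_sq 1) (M.toCoxeterSystem.simple_mul_simple_pow 3 1)
theorem r_3_2 : s 3 = s 2 * s 3 * s 2 * s 3 * s 2 :=
  rel3 (s_sq 3) (s_sq 2) (M.toCoxeterSystem.simple_mul_simple_pow 3 2)
theorem r_3_4 : s 3 = s 4 * s 3 * s 4 * s 3 * s 4 :=
  rel3 (s_sq 3) (s_sq 4) (M.toCoxeterSystem.simple_mul_simple_pow 3 4)
theorem r_3_5 : s 3 = s 5 * s 3 * s 5 :=
  rel2 (s_sq 3) (s_sq 5) (M.toCoxeterSystem.simple_mul_simple_pow 3 5)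
theorem r_4_0 : s 4 = s 0 * s 4 * s 0 :=
  rel2 (s_sq 4) (s_sq 0) (M.toCoxeterSystem.simple_mul_simple_pow 4 0)
theorem r_4_1 : s 4 = s 1 * s 4 * s 1 :=
  rel2 (s_sq 4) (s_sq 1) (M.toCoxeterSystem.simple_mul_simple_pow 4 1)
theorem r_4_2 : s 4 = s 2 * s 4 * s 2 :=
  rel2 (s_sq 4) (s_sq 2) (M.toCoxeterSystem.simple_mul_simple_pow 4 2)
theorem r_4_3 : s 4 = s 3 * s 4 * s 3 * s 4 * s 3 :=
  rel3 (s_sq 4) (s_sq 3) (M.toCoxeterSystem.simple_mul_simple_pow 4 3)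
theorem r_4_5 : s 4 = s 5 * s 4 * s 5 * s 4 * s 5 :=
  rel3 (s_sq 4) (s_sq 5) (M.toCoxeterSystem.simple_mul_simple_pow 4 5)
theorem r_5_0 : s 5 = s 0 * s 5 * s 0 :=
  rel2 (s_sq 5) (s_sq 0) (M.toCoxeterSystem.simple_mul_simple_pow 5 0)
theorem r_5_1 : s 5 = s 1 * s 5 * s 1 :=
  rel2 (s_sq 5) (s_sq 1) (M.toCoxeterSystem.simple_mul_simple_pow 5 1)
theorem r_5_2 : s 5 = s 2 * s 5 * s 2 :=
  rel2 (s_sq 5) (s_sq 2) (M.toCoxeterSystem.simple_mul_simple_pow 5 2)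
theorem r_5_3 : s 5 = s 3 * s 5 * s 3 :=
  rel2 (s_sq 5) (s_sq 3) (M.toCoxeterSystem.simple_mul_simple_pow 5 3)
theorem r_5_4 : s 5 = s 4 * s 5 * s 4 * s 5 * s 4 :=
  rel3 (s_sq 5) (s_sq 4) (M.toCoxeterSystem.simple_mul_simple_pow 5 4)

def J0 : List (Fin 6) := [0, 1, 2, 3, 4, 5]
def J1 : List (Fin 6) := [1, 2, 3, 4, 5]
def J2 : List (Fin 6) := [1, 2, 3, 4]
def J3 : List (Fin 6) := [1, 2, 3]
def J4 : List (Fin 6) := [1, 2]
def J5 : List (Fin 6) := [1]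
def J6 : List (Fin 6) := []

-- level 0: index 27
def base0 : Fin 6 → ℤ := ![1, 0, 0, 0, 0, 0]
def fv0 : W → (Fin 6 → ℤ) := fvec M A hA base0
def u0_0 : W := 1
def u0_1 : W := u0_0 * s 0
def u0_2 : W := u0_1 * s 2
def u0_3 : W := u0_2 * s 3
def u0_4 : W := u0_3 * s 1
def u0_5 : W := u0_3 * s 4
def u0_6 : W := u0_4 * s 4
def u0_7 : W := u0_5 * s 5
def u0_8 : W := u0_6 * s 3
def u0_9 : W := u0_6 * s 5
def u0_10 : W := u0_8 * s 2
def u0_11 : W := u0_8 * s 5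
def u0_12 : W := u0_10 * s 0
def u0_13 : W := u0_10 * s 5
def u0_14 : W := u0_11 * s 4
def u0_15 : W := u0_12 * s 5
def u0_16 : W := u0_13 * s 4
def u0_17 : W := u0_15 * s 4
def u0_18 : W := u0_16 * s 3
def u0_19 : W := u0_17 * s 3
def u0_20 : W := u0_18 * s 1
def u0_21 : W := u0_19 * s 1
def u0_22 : W := u0_19 * s 2
def u0_23 : W := u0_21 * s 2
def u0_24 : W := u0_23 * s 3
def u0_25 : W := u0_24 * s 4
def u0_26 : W := u0_25 * s 5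
def reps0 : List W := [u0_0, u0_1, u0_2, u0_3, u0_4, u0_5, u0_6, u0_7, u0_8, u0_9, u0_10, u0_11, u0_12, u0_13, u0_14, u0_15, u0_16, u0_17, u0_18, u0_19, u0_20, u0_21, u0_22, u0_23, u0_24, u0_25, u0_26]
theorem v0_0 : fv0 u0_0 = ![1, 0, 0, 0, 0, 0] := fvec_one M A hA base0
theorem v0_1 : fv0 u0_1 = ![-1, 0, 1, 0, 0, 0] := by
  show fvec M A hA base0 (u0_0 * M.simple 0) = _
  rw [fvec_mul_simple]; show reflVec A 0 (fv0 u0_0) = _; rw [v0_0]; decide +kernel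
theorem v0_2 : fv0 u0_2 = ![0, 0, -1, 1, 0, 0] := by
  show fvec M A hA base0 (u0_1 * M.simple 2) = _
  rw [fvec_mul_simple]; show reflVec A 2 (fv0 u0_1) = _; rw [v0_1]; decide +kernel
theorem v0_3 : fv0 u0_3 = ![0, 1, 0, -1, 1, 0] := by
  show fvec M A hA base0 (u0_2 * M.simple 3) = _
  rw [fvec_mul_simple]; show reflVec A 3 (fv0 u0_2) = _; rw [v0_2]; decide +kernel
theorem v0_4 : fv0 u0_4 = ![0, -1, 0, 0, 1, 0] := by
  show fvec M A hA base0 (u0_3 * M.simple 1) = _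
  rw [fvec_mul_simple]; show reflVec A 1 (fv0 u0_3) = _; rw [v0_3]; decide +kernel
theorem v0_5 : fv0 u0_5 = ![0, 1, 0, 0, -1, 1] := by
  show fvec M A hA base0 (u0_3 * M.simple 4) = _
  rw [fvec_mul_simple]; show reflVec A 4 (fv0 u0_3) = _; rw [v0_3]; decide +kernel
theorem v0_6 : fv0 u0_6 = ![0, -1, 0, 1, -1, 1] := by
  show fvec M A hA base0 (u0_4 * M.simple 4) = _
  rw [fvec_mul_simple]; show reflVec A 4 (fv0 u0_4) = _; rw [v0_4]; decide +kernel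
theorem v0_7 : fv0 u0_7 = ![0, 1, 0, 0, 0, -1] := by
  show fvec M A hA base0 (u0_5 * M.simple 5) = _
  rw [fvec_mul_simple]; show reflVec A 5 (fv0 u0_5) = _; rw [v0_5]; decide +kernel
theorem v0_8 : fv0 u0_8 = ![0, 0, 1, -1, 0, 1] := by
  show fvec M A hA base0 (u0_6 * M.simple 3) = _
  rw [fvec_mul_simple]; show reflVec A 3 (fv0 u0_6) = _; rw [v0_6]; decide +kernel
theorem v0_9 : fv0 u0_9 = ![0, -1, 0, 1, 0, -1] := by
  show fvec M A hA base0 (u0_6 * M.simple 5) = _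
  rw [fvec_mul_simple]; show reflVec A 5 (fv0 u0_6) = _; rw [v0_6]; decide +kernel
theorem v0_10 : fv0 u0_10 = ![1, 0, -1, 0, 0, 1] := by
  show fvec M A hA base0 (u0_8 * M.simple 2) = _
  rw [fvec_mul_simple]; show reflVec A 2 (fv0 u0_8) = _; rw [v0_8]; decide +kernel
theorem v0_11 : fv0 u0_11 = ![0, 0, 1, -1, 1, -1] := by
  show fvec M A hA base0 (u0_8 * M.simple 5) = _
  rw [fvec_mul_simple]; show reflVec A 5 (fv0 u0_8) = _; rw [v0_8]; decide +kernel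
theorem v0_12 : fv0 u0_12 = ![-1, 0, 0, 0, 0, 1] := by
  show fvec M A hA base0 (u0_10 * M.simple 0) = _
  rw [fvec_mul_simple]; show reflVec A 0 (fv0 u0_10) = _; rw [v0_10]; decide +kernel
theorem v0_13 : fv0 u0_13 = ![1, 0, -1, 0, 1, -1] := by
  show fvec M A hA base0 (u0_10 * M.simple 5) = _
  rw [fvec_mul_simple]; show reflVec A 5 (fv0 u0_10) = _; rw [v0_10]; decide +kernel
theorem v0_14 : fv0 u0_14 = ![0, 0, 1, 0, -1, 0] := by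
  show fvec M A hA base0 (u0_11 * M.simple 4) = _
  rw [fvec_mul_simple]; show reflVec A 4 (fv0 u0_11) = _; rw [v0_11]; decide +kernel
theorem v0_15 : fv0 u0_15 = ![-1, 0, 0, 0, 1, -1] := by
  show fvec M A hA base0 (u0_12 * M.simple 5) = _
  rw [fvec_mul_simple]; show reflVec A 5 (fv0 u0_12) = _; rw [v0_12]; decide +kernel
theorem v0_16 : fv0 u0_16 = ![1, 0, -1, 1, -1, 0] := by
  show fvec M A hA base0 (u0_13 * M.simple 4) = _
  rw [fvec_mul_simple]; show reflVec A 4 (fv0 u0_13) = _; rw [v0_13]; decide +kernel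
theorem v0_17 : fv0 u0_17 = ![-1, 0, 0, 1, -1, 0] := by
  show fvec M A hA base0 (u0_15 * M.simple 4) = _
  rw [fvec_mul_simple]; show reflVec A 4 (fv0 u0_15) = _; rw [v0_15]; decide +kernel
theorem v0_18 : fv0 u0_18 = ![1, 1, 0, -1, 0, 0] := by
  show fvec M A hA base0 (u0_16 * M.simple 3) = _
  rw [fvec_mul_simple]; show reflVec A 3 (fv0 u0_16) = _; rw [v0_16]; decide +kernel
theorem v0_19 : fv0 u0_19 = ![-1, 1, 1, -1, 0, 0] := by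
  show fvec M A hA base0 (u0_17 * M.simple 3) = _
  rw [fvec_mul_simple]; show reflVec A 3 (fv0 u0_17) = _; rw [v0_17]; decide +kernel
theorem v0_20 : fv0 u0_20 = ![1, -1, 0, 0, 0, 0] := by
  show fvec M A hA base0 (u0_18 * M.simple 1) = _
  rw [fvec_mul_simple]; show reflVec A 1 (fv0 u0_18) = _; rw [v0_18]; decide +kernel
theorem v0_21 : fv0 u0_21 = ![-1, -1, 1, 0, 0, 0] := by
  show fvec M A hA base0 (u0_19 * M.simple 1) = _
  rw [fvec_mul_simple]; show reflVec A 1 (fv0 u0_19) = _; rw [v0_19]; decide +kernel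
theorem v0_22 : fv0 u0_22 = ![0, 1, -1, 0, 0, 0] := by
  show fvec M A hA base0 (u0_19 * M.simple 2) = _
  rw [fvec_mul_simple]; show reflVec A 2 (fv0 u0_19) = _; rw [v0_19]; decide +kernel
theorem v0_23 : fv0 u0_23 = ![0, -1, -1, 1, 0, 0] := by
  show fvec M A hA base0 (u0_21 * M.simple 2) = _
  rw [fvec_mul_simple]; show reflVec A 2 (fv0 u0_21) = _; rw [v0_21]; decide +kernel
theorem v0_24 : fv0 u0_24 = ![0, 0, 0, -1, 1, 0] := by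
  show fvec M A hA base0 (u0_23 * M.simple 3) = _
  rw [fvec_mul_simple]; show reflVec A 3 (fv0 u0_23) = _; rw [v0_23]; decide +kernel
theorem v0_25 : fv0 u0_25 = ![0, 0, 0, 0, -1, 1] := by
  show fvec M A hA base0 (u0_24 * M.simple 4) = _
  rw [fvec_mul_simple]; show reflVec A 4 (fv0 u0_24) = _; rw [v0_24]; decide +kernel
theorem v0_26 : fv0 u0_26 = ![0, 0, 0, 0, 0, -1] := by
  show fvec M A hA base0 (u0_25 * M.simple 5) = _
  rw [fvec_mul_simple]; show reflVec A 5 (fv0 u0_25) = _; rw [v0_25]; decide +kernel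
theorem e0_0_0 : u0_0 * s 0 = 1 * u0_1 := (one_mul (u0_0 * s 0)).symm
theorem e0_1_0 : u0_1 * s 0 = 1 * u0_0 := tree_up (s_sq 0)
theorem e0_1_2 : u0_1 * s 2 = 1 * u0_2 := (one_mul (u0_1 * s 2)).symm
theorem e0_2_2 : u0_2 * s 2 = 1 * u0_1 := tree_up (s_sq 2)
theorem e0_2_3 : u0_2 * s 3 = 1 * u0_3 := (one_mul (u0_2 * s 3)).symm
theorem e0_3_3 : u0_3 * s 3 = 1 * u0_2 := tree_up (s_sq 3)
theorem e0_3_1 : u0_3 * s 1 = 1 * u0_4 := (one_mul (u0_3 * s 1)).symm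
theorem e0_4_1 : u0_4 * s 1 = 1 * u0_3 := tree_up (s_sq 1)
theorem e0_3_4 : u0_3 * s 4 = 1 * u0_5 := (one_mul (u0_3 * s 4)).symm
theorem e0_5_4 : u0_5 * s 4 = 1 * u0_3 := tree_up (s_sq 4)
theorem e0_4_4 : u0_4 * s 4 = 1 * u0_6 := (one_mul (u0_4 * s 4)).symm
theorem e0_6_4 : u0_6 * s 4 = 1 * u0_4 := tree_up (s_sq 4)
theorem e0_5_5 : u0_5 * s 5 = 1 * u0_7 := (one_mul (u0_5 * s 5)).symm
theorem e0_7_5 : u0_7 * s 5 = 1 * u0_5 := tree_up (s_sq 5)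
theorem e0_6_3 : u0_6 * s 3 = 1 * u0_8 := (one_mul (u0_6 * s 3)).symm
theorem e0_8_3 : u0_8 * s 3 = 1 * u0_6 := tree_up (s_sq 3)
theorem e0_6_5 : u0_6 * s 5 = 1 * u0_9 := (one_mul (u0_6 * s 5)).symm
theorem e0_9_5 : u0_9 * s 5 = 1 * u0_6 := tree_up (s_sq 5)
theorem e0_8_2 : u0_8 * s 2 = 1 * u0_10 := (one_mul (u0_8 * s 2)).symm
theorem e0_10_2 : u0_10 * s 2 = 1 * u0_8 := tree_up (s_sq 2)
theorem e0_8_5 : u0_8 * s 5 = 1 * u0_11 := (one_mul (u0_8 * s 5)).symm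
theorem e0_11_5 : u0_11 * s 5 = 1 * u0_8 := tree_up (s_sq 5)
theorem e0_10_0 : u0_10 * s 0 = 1 * u0_12 := (one_mul (u0_10 * s 0)).symm
theorem e0_12_0 : u0_12 * s 0 = 1 * u0_10 := tree_up (s_sq 0)
theorem e0_10_5 : u0_10 * s 5 = 1 * u0_13 := (one_mul (u0_10 * s 5)).symm
theorem e0_13_5 : u0_13 * s 5 = 1 * u0_10 := tree_up (s_sq 5)
theorem e0_11_4 : u0_11 * s 4 = 1 * u0_14 := (one_mul (u0_11 * s 4)).symm
theorem e0_14_4 : u0_14 * s 4 = 1 * u0_11 := tree_up (s_sq 4)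
theorem e0_12_5 : u0_12 * s 5 = 1 * u0_15 := (one_mul (u0_12 * s 5)).symm
theorem e0_15_5 : u0_15 * s 5 = 1 * u0_12 := tree_up (s_sq 5)
theorem e0_13_4 : u0_13 * s 4 = 1 * u0_16 := (one_mul (u0_13 * s 4)).symm
theorem e0_16_4 : u0_16 * s 4 = 1 * u0_13 := tree_up (s_sq 4)
theorem e0_15_4 : u0_15 * s 4 = 1 * u0_17 := (one_mul (u0_15 * s 4)).symm
theorem e0_17_4 : u0_17 * s 4 = 1 * u0_15 := tree_up (s_sq 4)
theorem e0_16_3 : u0_16 * s 3 = 1 * u0_18 := (one_mul (u0_16 * s 3)).symm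
theorem e0_18_3 : u0_18 * s 3 = 1 * u0_16 := tree_up (s_sq 3)
theorem e0_17_3 : u0_17 * s 3 = 1 * u0_19 := (one_mul (u0_17 * s 3)).symm
theorem e0_19_3 : u0_19 * s 3 = 1 * u0_17 := tree_up (s_sq 3)
theorem e0_18_1 : u0_18 * s 1 = 1 * u0_20 := (one_mul (u0_18 * s 1)).symm
theorem e0_20_1 : u0_20 * s 1 = 1 * u0_18 := tree_up (s_sq 1)
theorem e0_19_1 : u0_19 * s 1 = 1 * u0_21 := (one_mul (u0_19 * s 1)).symm
theorem e0_21_1 : u0_21 * s 1 = 1 * u0_19 := tree_up (s_sq 1)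
theorem e0_19_2 : u0_19 * s 2 = 1 * u0_22 := (one_mul (u0_19 * s 2)).symm
theorem e0_22_2 : u0_22 * s 2 = 1 * u0_19 := tree_up (s_sq 2)
theorem e0_21_2 : u0_21 * s 2 = 1 * u0_23 := (one_mul (u0_21 * s 2)).symm
theorem e0_23_2 : u0_23 * s 2 = 1 * u0_21 := tree_up (s_sq 2)
theorem e0_23_3 : u0_23 * s 3 = 1 * u0_24 := (one_mul (u0_23 * s 3)).symm
theorem e0_24_3 : u0_24 * s 3 = 1 * u0_23 := tree_up (s_sq 3)
theorem e0_24_4 : u0_24 * s 4 = 1 * u0_25 := (one_mul (u0_24 * s 4)).symm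
theorem e0_25_4 : u0_25 * s 4 = 1 * u0_24 := tree_up (s_sq 4)
theorem e0_25_5 : u0_25 * s 5 = 1 * u0_26 := (one_mul (u0_25 * s 5)).symm
theorem e0_26_5 : u0_26 * s 5 = 1 * u0_25 := tree_up (s_sq 5)
theorem e0_0_1 : u0_0 * s 1 = s 1 * u0_0 := (one_mul (s 1)).trans (mul_one (s 1)).symm
theorem e0_0_2 : u0_0 * s 2 = s 2 * u0_0 := (one_mul (s 2)).trans (mul_one (s 2)).symm
theorem e0_0_3 : u0_0 * s 3 = s 3 * u0_0 := (one_mul (s 3)).trans (mul_one (s 3)).symm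
theorem e0_0_4 : u0_0 * s 4 = s 4 * u0_0 := (one_mul (s 4)).trans (mul_one (s 4)).symm
theorem e0_0_5 : u0_0 * s 5 = s 5 * u0_0 := (one_mul (s 5)).trans (mul_one (s 5)).symm
theorem e0_1_1 : u0_1 * s 1 = s 1 * u0_1 := by
  simpa only [one_mul, mul_one] using ded2 r_1_0 e0_1_0 e0_0_1 e0_0_0
theorem e0_2_0 : u0_2 * s 0 = s 2 * u0_2 := by
  simpa only [one_mul, mul_one] using ded3 r_0_2 e0_2_2 e0_1_0 e0_0_2 e0_0_0 e0_1_2
theorem e0_1_3 : u0_1 * s 3 = s 3 * u0_1 := by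
  simpa only [one_mul, mul_one] using ded2 r_3_0 e0_1_0 e0_0_3 e0_0_0
theorem e0_1_4 : u0_1 * s 4 = s 4 * u0_1 := by
  simpa only [one_mul, mul_one] using ded2 r_4_0 e0_1_0 e0_0_4 e0_0_0
theorem e0_1_5 : u0_1 * s 5 = s 5 * u0_1 := by
  simpa only [one_mul, mul_one] using ded2 r_5_0 e0_1_0 e0_0_5 e0_0_0
theorem e0_2_1 : u0_2 * s 1 = s 1 * u0_2 := by
  simpa only [one_mul, mul_one] using ded2 r_1_2 e0_2_2 e0_1_1 e0_1_2
theorem e0_3_2 : u0_3 * s 2 = s 3 * u0_3 := by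
  simpa only [one_mul, mul_one] using ded3 r_2_3 e0_3_3 e0_2_2 e0_1_3 e0_1_2 e0_2_3
theorem e0_2_4 : u0_2 * s 4 = s 4 * u0_2 := by
  simpa only [one_mul, mul_one] using ded2 r_4_2 e0_2_2 e0_1_4 e0_1_2
theorem e0_2_5 : u0_2 * s 5 = s 5 * u0_2 := by
  simpa only [one_mul, mul_one] using ded2 r_5_2 e0_2_2 e0_1_5 e0_1_2
theorem e0_3_0 : u0_3 * s 0 = s 2 * u0_3 := by
  simpa only [one_mul, mul_one] using ded2 r_0_3 e0_3_3 e0_2_0 e0_2_3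
theorem e0_4_3 : u0_4 * s 3 = s 1 * u0_4 := by
  simpa only [one_mul, mul_one] using ded3 r_3_1 e0_4_1 e0_3_3 e0_2_1 e0_2_3 e0_3_1
theorem e0_5_3 : u0_5 * s 3 = s 4 * u0_5 := by
  simpa only [one_mul, mul_one] using ded3 r_3_4 e0_5_4 e0_3_3 e0_2_4 e0_2_3 e0_3_4
theorem e0_3_5 : u0_3 * s 5 = s 5 * u0_3 := by
  simpa only [one_mul, mul_one] using ded2 r_5_3 e0_3_3 e0_2_5 e0_2_3
theorem e0_4_0 : u0_4 * s 0 = s 2 * u0_4 := by
  simpa only [one_mul, mul_one] using ded2 r_0_1 e0_4_1 e0_3_0 e0_3_1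
theorem e0_5_0 : u0_5 * s 0 = s 2 * u0_5 := by
  simpa only [one_mul, mul_one] using ded2 r_0_4 e0_5_4 e0_3_0 e0_3_4
theorem e0_4_2 : u0_4 * s 2 = s 3 * u0_4 := by
  simpa only [one_mul, mul_one] using ded2 r_2_1 e0_4_1 e0_3_2 e0_3_1
theorem e0_6_1 : u0_6 * s 1 = 1 * u0_5 := by
  simpa only [one_mul, mul_one] using ded2 r_1_4 e0_6_4 e0_4_1 e0_3_4
theorem e0_5_1 : u0_5 * s 1 = 1 * u0_6 := rev_edge (s_sq 1) e0_6_1
theorem e0_4_5 : u0_4 * s 5 = s 5 * u0_4 := by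
  simpa only [one_mul, mul_one] using ded2 r_5_1 e0_4_1 e0_3_5 e0_3_1
theorem e0_5_2 : u0_5 * s 2 = s 3 * u0_5 := by
  simpa only [one_mul, mul_one] using ded2 r_2_4 e0_5_4 e0_3_2 e0_3_4
theorem e0_7_4 : u0_7 * s 4 = s 5 * u0_7 := by
  simpa only [one_mul, mul_one] using ded3 r_4_5 e0_7_5 e0_5_4 e0_3_5 e0_3_4 e0_5_5
theorem e0_6_0 : u0_6 * s 0 = s 2 * u0_6 := by
  simpa only [one_mul, mul_one] using ded2 r_0_4 e0_6_4 e0_4_0 e0_4_4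
theorem e0_6_2 : u0_6 * s 2 = s 3 * u0_6 := by
  simpa only [one_mul, mul_one] using ded2 r_2_4 e0_6_4 e0_4_2 e0_4_4
theorem e0_8_4 : u0_8 * s 4 = s 1 * u0_8 := by
  simpa only [one_mul, mul_one] using ded3 r_4_3 e0_8_3 e0_6_4 e0_4_3 e0_4_4 e0_6_3
theorem e0_9_4 : u0_9 * s 4 = s 5 * u0_9 := by
  simpa only [one_mul, mul_one] using ded3 r_4_5 e0_9_5 e0_6_4 e0_4_5 e0_4_4 e0_6_5
theorem e0_7_0 : u0_7 * s 0 = s 2 * u0_7 := by
  simpa only [one_mul, mul_one] using ded2 r_0_5 e0_7_5 e0_5_0 e0_5_5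
theorem e0_8_1 : u0_8 * s 1 = s 4 * u0_8 := by
  simpa only [one_mul, mul_one] using ded3 r_1_3 e0_8_3 e0_6_1 e0_5_3 e0_5_1 e0_6_3
theorem e0_9_1 : u0_9 * s 1 = 1 * u0_7 := by
  simpa only [one_mul, mul_one] using ded2 r_1_5 e0_9_5 e0_6_1 e0_5_5
theorem e0_7_1 : u0_7 * s 1 = 1 * u0_9 := rev_edge (s_sq 1) e0_9_1
theorem e0_7_2 : u0_7 * s 2 = s 3 * u0_7 := by
  simpa only [one_mul, mul_one] using ded2 r_2_5 e0_7_5 e0_5_2 e0_5_5
theorem e0_7_3 : u0_7 * s 3 = s 4 * u0_7 := by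
  simpa only [one_mul, mul_one] using ded2 r_3_5 e0_7_5 e0_5_3 e0_5_5
theorem e0_8_0 : u0_8 * s 0 = s 2 * u0_8 := by
  simpa only [one_mul, mul_one] using ded2 r_0_3 e0_8_3 e0_6_0 e0_6_3
theorem e0_9_0 : u0_9 * s 0 = s 2 * u0_9 := by
  simpa only [one_mul, mul_one] using ded2 r_0_5 e0_9_5 e0_6_0 e0_6_5
theorem e0_10_3 : u0_10 * s 3 = s 3 * u0_10 := by
  simpa only [one_mul, mul_one] using ded3 r_3_2 e0_10_2 e0_8_3 e0_6_2 e0_6_3 e0_8_2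
theorem e0_9_2 : u0_9 * s 2 = s 3 * u0_9 := by
  simpa only [one_mul, mul_one] using ded2 r_2_5 e0_9_5 e0_6_2 e0_6_5
theorem e0_11_3 : u0_11 * s 3 = 1 * u0_9 := by
  simpa only [one_mul, mul_one] using ded2 r_3_5 e0_11_5 e0_8_3 e0_6_5
theorem e0_9_3 : u0_9 * s 3 = 1 * u0_11 := rev_edge (s_sq 3) e0_11_3
theorem e0_11_1 : u0_11 * s 1 = s 4 * u0_11 := by
  simpa only [one_mul, mul_one] using ded3 r_1_3 e0_11_3 e0_9_1 e0_7_3 e0_7_1 e0_9_3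
theorem e0_12_2 : u0_12 * s 2 = s 2 * u0_12 := by
  simpa only [one_mul, mul_one] using ded3 r_2_0 e0_12_0 e0_10_2 e0_8_0 e0_8_2 e0_10_0
theorem e0_11_0 : u0_11 * s 0 = s 2 * u0_11 := by
  simpa only [one_mul, mul_one] using ded2 r_0_5 e0_11_5 e0_8_0 e0_8_5
theorem e0_10_1 : u0_10 * s 1 = s 4 * u0_10 := by
  simpa only [one_mul, mul_one] using ded2 r_1_2 e0_10_2 e0_8_1 e0_8_2
theorem e0_10_4 : u0_10 * s 4 = s 1 * u0_10 := by
  simpa only [one_mul, mul_one] using ded2 r_4_2 e0_10_2 e0_8_4 e0_8_2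
theorem e0_13_2 : u0_13 * s 2 = 1 * u0_11 := by
  simpa only [one_mul, mul_one] using ded2 r_2_5 e0_13_5 e0_10_2 e0_8_5
theorem e0_11_2 : u0_11 * s 2 = 1 * u0_13 := rev_edge (s_sq 2) e0_13_2
theorem e0_14_5 : u0_14 * s 5 = s 1 * u0_14 := by
  simpa only [one_mul, mul_one] using ded3 r_5_4 e0_14_4 e0_11_5 e0_8_4 e0_8_5 e0_11_4
theorem e0_13_3 : u0_13 * s 3 = s 3 * u0_13 := by
  simpa only [one_mul, mul_one] using ded3 r_3_2 e0_13_2 e0_11_3 e0_9_2 e0_9_3 e0_11_2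
theorem e0_14_3 : u0_14 * s 3 = s 5 * u0_14 := by
  simpa only [one_mul, mul_one] using ded3 r_3_4 e0_14_4 e0_11_3 e0_9_4 e0_9_3 e0_11_4
theorem e0_12_1 : u0_12 * s 1 = s 4 * u0_12 := by
  simpa only [one_mul, mul_one] using ded2 r_1_0 e0_12_0 e0_10_1 e0_10_0
theorem e0_12_3 : u0_12 * s 3 = s 3 * u0_12 := by
  simpa only [one_mul, mul_one] using ded2 r_3_0 e0_12_0 e0_10_3 e0_10_0
theorem e0_12_4 : u0_12 * s 4 = s 1 * u0_12 := by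
  simpa only [one_mul, mul_one] using ded2 r_4_0 e0_12_0 e0_10_4 e0_10_0
theorem e0_15_0 : u0_15 * s 0 = 1 * u0_13 := by
  simpa only [one_mul, mul_one] using ded2 r_0_5 e0_15_5 e0_12_0 e0_10_5
theorem e0_13_0 : u0_13 * s 0 = 1 * u0_15 := rev_edge (s_sq 0) e0_15_0
theorem e0_13_1 : u0_13 * s 1 = s 4 * u0_13 := by
  simpa only [one_mul, mul_one] using ded2 r_1_5 e0_13_5 e0_10_1 e0_10_5
theorem e0_16_5 : u0_16 * s 5 = s 1 * u0_16 := by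
  simpa only [one_mul, mul_one] using ded3 r_5_4 e0_16_4 e0_13_5 e0_10_4 e0_10_5 e0_13_4
theorem e0_15_2 : u0_15 * s 2 = s 2 * u0_15 := by
  simpa only [one_mul, mul_one] using ded3 r_2_0 e0_15_0 e0_13_2 e0_11_0 e0_11_2 e0_13_0
theorem e0_14_0 : u0_14 * s 0 = s 2 * u0_14 := by
  simpa only [one_mul, mul_one] using ded2 r_0_4 e0_14_4 e0_11_0 e0_11_4
theorem e0_14_1 : u0_14 * s 1 = s 4 * u0_14 := by
  simpa only [one_mul, mul_one] using ded2 r_1_4 e0_14_4 e0_11_1 e0_11_4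
theorem e0_16_2 : u0_16 * s 2 = 1 * u0_14 := by
  simpa only [one_mul, mul_one] using ded2 r_2_4 e0_16_4 e0_13_2 e0_11_4
theorem e0_14_2 : u0_14 * s 2 = 1 * u0_16 := rev_edge (s_sq 2) e0_16_2
theorem e0_15_1 : u0_15 * s 1 = s 4 * u0_15 := by
  simpa only [one_mul, mul_one] using ded2 r_1_5 e0_15_5 e0_12_1 e0_12_5
theorem e0_15_3 : u0_15 * s 3 = s 3 * u0_15 := by
  simpa only [one_mul, mul_one] using ded2 r_3_5 e0_15_5 e0_12_3 e0_12_5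
theorem e0_17_5 : u0_17 * s 5 = s 1 * u0_17 := by
  simpa only [one_mul, mul_one] using ded3 r_5_4 e0_17_4 e0_15_5 e0_12_4 e0_12_5 e0_15_4
theorem e0_17_0 : u0_17 * s 0 = 1 * u0_16 := by
  simpa only [one_mul, mul_one] using ded2 r_0_4 e0_17_4 e0_15_0 e0_13_4
theorem e0_16_0 : u0_16 * s 0 = 1 * u0_17 := rev_edge (s_sq 0) e0_17_0
theorem e0_16_1 : u0_16 * s 1 = s 4 * u0_16 := by
  simpa only [one_mul, mul_one] using ded2 r_1_4 e0_16_4 e0_13_1 e0_13_4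
theorem e0_18_4 : u0_18 * s 4 = s 3 * u0_18 := by
  simpa only [one_mul, mul_one] using ded3 r_4_3 e0_18_3 e0_16_4 e0_13_3 e0_13_4 e0_16_3
theorem e0_17_2 : u0_17 * s 2 = s 2 * u0_17 := by
  simpa only [one_mul, mul_one] using ded3 r_2_0 e0_17_0 e0_16_2 e0_14_0 e0_14_2 e0_16_0
theorem e0_18_2 : u0_18 * s 2 = s 5 * u0_18 := by
  simpa only [one_mul, mul_one] using ded3 r_2_3 e0_18_3 e0_16_2 e0_14_3 e0_14_2 e0_16_3
theorem e0_17_1 : u0_17 * s 1 = s 4 * u0_17 := by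
  simpa only [one_mul, mul_one] using ded2 r_1_4 e0_17_4 e0_15_1 e0_15_4
theorem e0_19_4 : u0_19 * s 4 = s 3 * u0_19 := by
  simpa only [one_mul, mul_one] using ded3 r_4_3 e0_19_3 e0_17_4 e0_15_3 e0_15_4 e0_17_3
theorem e0_19_0 : u0_19 * s 0 = 1 * u0_18 := by
  simpa only [one_mul, mul_one] using ded2 r_0_3 e0_19_3 e0_17_0 e0_16_3
theorem e0_18_0 : u0_18 * s 0 = 1 * u0_19 := rev_edge (s_sq 0) e0_19_0
theorem e0_20_3 : u0_20 * s 3 = s 4 * u0_20 := by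
  simpa only [one_mul, mul_one] using ded3 r_3_1 e0_20_1 e0_18_3 e0_16_1 e0_16_3 e0_18_1
theorem e0_18_5 : u0_18 * s 5 = s 1 * u0_18 := by
  simpa only [one_mul, mul_one] using ded2 r_5_3 e0_18_3 e0_16_5 e0_16_3
theorem e0_21_3 : u0_21 * s 3 = s 4 * u0_21 := by
  simpa only [one_mul, mul_one] using ded3 r_3_1 e0_21_1 e0_19_3 e0_17_1 e0_17_3 e0_19_1
theorem e0_22_3 : u0_22 * s 3 = s 2 * u0_22 := by
  simpa only [one_mul, mul_one] using ded3 r_3_2 e0_22_2 e0_19_3 e0_17_2 e0_17_3 e0_19_2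
theorem e0_19_5 : u0_19 * s 5 = s 1 * u0_19 := by
  simpa only [one_mul, mul_one] using ded2 r_5_3 e0_19_3 e0_17_5 e0_17_3
theorem e0_21_0 : u0_21 * s 0 = 1 * u0_20 := by
  simpa only [one_mul, mul_one] using ded2 r_0_1 e0_21_1 e0_19_0 e0_18_1
theorem e0_20_0 : u0_20 * s 0 = 1 * u0_21 := rev_edge (s_sq 0) e0_21_0
theorem e0_22_0 : u0_22 * s 0 = s 5 * u0_22 := by
  simpa only [one_mul, mul_one] using ded3 r_0_2 e0_22_2 e0_19_0 e0_18_2 e0_18_0 e0_19_2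
theorem e0_20_2 : u0_20 * s 2 = s 5 * u0_20 := by
  simpa only [one_mul, mul_one] using ded2 r_2_1 e0_20_1 e0_18_2 e0_18_1
theorem e0_20_4 : u0_20 * s 4 = s 3 * u0_20 := by
  simpa only [one_mul, mul_one] using ded2 r_4_1 e0_20_1 e0_18_4 e0_18_1
theorem e0_20_5 : u0_20 * s 5 = s 1 * u0_20 := by
  simpa only [one_mul, mul_one] using ded2 r_5_1 e0_20_1 e0_18_5 e0_18_1
theorem e0_23_1 : u0_23 * s 1 = 1 * u0_22 := by
  simpa only [one_mul, mul_one] using ded2 r_1_2 e0_23_2 e0_21_1 e0_19_2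
theorem e0_22_1 : u0_22 * s 1 = 1 * u0_23 := rev_edge (s_sq 1) e0_23_1
theorem e0_21_4 : u0_21 * s 4 = s 3 * u0_21 := by
  simpa only [one_mul, mul_one] using ded2 r_4_1 e0_21_1 e0_19_4 e0_19_1
theorem e0_21_5 : u0_21 * s 5 = s 1 * u0_21 := by
  simpa only [one_mul, mul_one] using ded2 r_5_1 e0_21_1 e0_19_5 e0_19_1
theorem e0_22_4 : u0_22 * s 4 = s 3 * u0_22 := by
  simpa only [one_mul, mul_one] using ded2 r_4_2 e0_22_2 e0_19_4 e0_19_2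
theorem e0_22_5 : u0_22 * s 5 = s 1 * u0_22 := by
  simpa only [one_mul, mul_one] using ded2 r_5_2 e0_22_2 e0_19_5 e0_19_2
theorem e0_23_0 : u0_23 * s 0 = s 5 * u0_23 := by
  simpa only [one_mul, mul_one] using ded3 r_0_2 e0_23_2 e0_21_0 e0_20_2 e0_20_0 e0_21_2
theorem e0_24_2 : u0_24 * s 2 = s 4 * u0_24 := by
  simpa only [one_mul, mul_one] using ded3 r_2_3 e0_24_3 e0_23_2 e0_21_3 e0_21_2 e0_23_3
theorem e0_23_4 : u0_23 * s 4 = s 3 * u0_23 := by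
  simpa only [one_mul, mul_one] using ded2 r_4_2 e0_23_2 e0_21_4 e0_21_2
theorem e0_23_5 : u0_23 * s 5 = s 1 * u0_23 := by
  simpa only [one_mul, mul_one] using ded2 r_5_2 e0_23_2 e0_21_5 e0_21_2
theorem e0_24_1 : u0_24 * s 1 = s 2 * u0_24 := by
  simpa only [one_mul, mul_one] using ded3 r_1_3 e0_24_3 e0_23_1 e0_22_3 e0_22_1 e0_23_3
theorem e0_24_0 : u0_24 * s 0 = s 5 * u0_24 := by
  simpa only [one_mul, mul_one] using ded2 r_0_3 e0_24_3 e0_23_0 e0_23_3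
theorem e0_25_3 : u0_25 * s 3 = s 3 * u0_25 := by
  simpa only [one_mul, mul_one] using ded3 r_3_4 e0_25_4 e0_24_3 e0_23_4 e0_23_3 e0_24_4
theorem e0_24_5 : u0_24 * s 5 = s 1 * u0_24 := by
  simpa only [one_mul, mul_one] using ded2 r_5_3 e0_24_3 e0_23_5 e0_23_3
theorem e0_25_0 : u0_25 * s 0 = s 5 * u0_25 := by
  simpa only [one_mul, mul_one] using ded2 r_0_4 e0_25_4 e0_24_0 e0_24_4
theorem e0_25_1 : u0_25 * s 1 = s 2 * u0_25 := by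
  simpa only [one_mul, mul_one] using ded2 r_1_4 e0_25_4 e0_24_1 e0_24_4
theorem e0_25_2 : u0_25 * s 2 = s 4 * u0_25 := by
  simpa only [one_mul, mul_one] using ded2 r_2_4 e0_25_4 e0_24_2 e0_24_4
theorem e0_26_4 : u0_26 * s 4 = s 1 * u0_26 := by
  simpa only [one_mul, mul_one] using ded3 r_4_5 e0_26_5 e0_25_4 e0_24_5 e0_24_4 e0_25_5
theorem e0_26_0 : u0_26 * s 0 = s 5 * u0_26 := by
  simpa only [one_mul, mul_one] using ded2 r_0_5 e0_26_5 e0_25_0 e0_25_5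
theorem e0_26_1 : u0_26 * s 1 = s 2 * u0_26 := by
  simpa only [one_mul, mul_one] using ded2 r_1_5 e0_26_5 e0_25_1 e0_25_5
theorem e0_26_2 : u0_26 * s 2 = s 4 * u0_26 := by
  simpa only [one_mul, mul_one] using ded2 r_2_5 e0_26_5 e0_25_2 e0_25_5
theorem e0_26_3 : u0_26 * s 3 = s 3 * u0_26 := by
  simpa only [one_mul, mul_one] using ded2 r_3_5 e0_26_5 e0_25_3 e0_25_5
def P0 (u : W) : Prop := u ∈ Subgroup.closure (gens M J0) ∧ ∀ x ∈ gens M J0, ∃ h ∈ Subgroup.closure (gens M J1), ∃ u' ∈ reps0, u * x = h * u'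
theorem mr0_0 : u0_0 ∈ reps0 := List.getElem_mem (l := reps0) (n := 0) (by decide)
theorem mr0_1 : u0_1 ∈ reps0 := List.getElem_mem (l := reps0) (n := 1) (by decide)
theorem mr0_2 : u0_2 ∈ reps0 := List.getElem_mem (l := reps0) (n := 2) (by decide)
theorem mr0_3 : u0_3 ∈ reps0 := List.getElem_mem (l := reps0) (n := 3) (by decide)
theorem mr0_4 : u0_4 ∈ reps0 := List.getElem_mem (l := reps0) (n := 4) (by decide)
theorem mr0_5 : u0_5 ∈ reps0 := List.getElem_mem (l := reps0) (n := 5) (by decide)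
theorem mr0_6 : u0_6 ∈ reps0 := List.getElem_mem (l := reps0) (n := 6) (by decide)
theorem mr0_7 : u0_7 ∈ reps0 := List.getElem_mem (l := reps0) (n := 7) (by decide)
theorem mr0_8 : u0_8 ∈ reps0 := List.getElem_mem (l := reps0) (n := 8) (by decide)
theorem mr0_9 : u0_9 ∈ reps0 := List.getElem_mem (l := reps0) (n := 9) (by decide)
theorem mr0_10 : u0_10 ∈ reps0 := List.getElem_mem (l := reps0) (n := 10) (by decide)
theorem mr0_11 : u0_11 ∈ reps0 := List.getElem_mem (l := reps0) (n := 11) (by decide)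
theorem mr0_12 : u0_12 ∈ reps0 := List.getElem_mem (l := reps0) (n := 12) (by decide)
theorem mr0_13 : u0_13 ∈ reps0 := List.getElem_mem (l := reps0) (n := 13) (by decide)
theorem mr0_14 : u0_14 ∈ reps0 := List.getElem_mem (l := reps0) (n := 14) (by decide)
theorem mr0_15 : u0_15 ∈ reps0 := List.getElem_mem (l := reps0) (n := 15) (by decide)
theorem mr0_16 : u0_16 ∈ reps0 := List.getElem_mem (l := reps0) (n := 16) (by decide)
theorem mr0_17 : u0_17 ∈ reps0 := List.getElem_mem (l := reps0) (n := 17) (by decide)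
theorem mr0_18 : u0_18 ∈ reps0 := List.getElem_mem (l := reps0) (n := 18) (by decide)
theorem mr0_19 : u0_19 ∈ reps0 := List.getElem_mem (l := reps0) (n := 19) (by decide)
theorem mr0_20 : u0_20 ∈ reps0 := List.getElem_mem (l := reps0) (n := 20) (by decide)
theorem mr0_21 : u0_21 ∈ reps0 := List.getElem_mem (l := reps0) (n := 21) (by decide)
theorem mr0_22 : u0_22 ∈ reps0 := List.getElem_mem (l := reps0) (n := 22) (by decide)
theorem mr0_23 : u0_23 ∈ reps0 := List.getElem_mem (l := reps0) (n := 23) (by decide)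
theorem mr0_24 : u0_24 ∈ reps0 := List.getElem_mem (l := reps0) (n := 24) (by decide)
theorem mr0_25 : u0_25 ∈ reps0 := List.getElem_mem (l := reps0) (n := 25) (by decide)
theorem mr0_26 : u0_26 ∈ reps0 := List.getElem_mem (l := reps0) (n := 26) (by decide)
theorem mm0_0 : u0_0 ∈ Subgroup.closure (gens M J0) := one_mem _
theorem mm0_1 : u0_1 ∈ Subgroup.closure (gens M J0) := mul_mem mm0_0 (Subgroup.subset_closure ⟨0, by decide, rfl⟩)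
theorem mm0_2 : u0_2 ∈ Subgroup.closure (gens M J0) := mul_mem mm0_1 (Subgroup.subset_closure ⟨2, by decide, rfl⟩)
theorem mm0_3 : u0_3 ∈ Subgroup.closure (gens M J0) := mul_mem mm0_2 (Subgroup.subset_closure ⟨3, by decide, rfl⟩)
theorem mm0_4 : u0_4 ∈ Subgroup.closure (gens M J0) := mul_mem mm0_3 (Subgroup.subset_closure ⟨1, by decide, rfl⟩)
theorem mm0_5 : u0_5 ∈ Subgroup.closure (gens M J0) := mul_mem mm0_3 (Subgroup.subset_closure ⟨4, by decide, rfl⟩)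
theorem mm0_6 : u0_6 ∈ Subgroup.closure (gens M J0) := mul_mem mm0_4 (Subgroup.subset_closure ⟨4, by decide, rfl⟩)
theorem mm0_7 : u0_7 ∈ Subgroup.closure (gens M J0) := mul_mem mm0_5 (Subgroup.subset_closure ⟨5, by decide, rfl⟩)
theorem mm0_8 : u0_8 ∈ Subgroup.closure (gens M J0) := mul_mem mm0_6 (Subgroup.subset_closure ⟨3, by decide, rfl⟩)
theorem mm0_9 : u0_9 ∈ Subgroup.closure (gens M J0) := mul_mem mm0_6 (Subgroup.subset_closure ⟨5, by decide, rfl⟩)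
theorem mm0_10 : u0_10 ∈ Subgroup.closure (gens M J0) := mul_mem mm0_8 (Subgroup.subset_closure ⟨2, by decide, rfl⟩)
theorem mm0_11 : u0_11 ∈ Subgroup.closure (gens M J0) := mul_mem mm0_8 (Subgroup.subset_closure ⟨5, by decide, rfl⟩)
theorem mm0_12 : u0_12 ∈ Subgroup.closure (gens M J0) := mul_mem mm0_10 (Subgroup.subset_closure ⟨0, by decide, rfl⟩)
theorem mm0_13 : u0_13 ∈ Subgroup.closure (gens M J0) := mul_mem mm0_10 (Subgroup.subset_closure ⟨5, by decide, rfl⟩)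
theorem mm0_14 : u0_14 ∈ Subgroup.closure (gens M J0) := mul_mem mm0_11 (Subgroup.subset_closure ⟨4, by decide, rfl⟩)
theorem mm0_15 : u0_15 ∈ Subgroup.closure (gens M J0) := mul_mem mm0_12 (Subgroup.subset_closure ⟨5, by decide, rfl⟩)
theorem mm0_16 : u0_16 ∈ Subgroup.closure (gens M J0) := mul_mem mm0_13 (Subgroup.subset_closure ⟨4, by decide, rfl⟩)
theorem mm0_17 : u0_17 ∈ Subgroup.closure (gens M J0) := mul_mem mm0_15 (Subgroup.subset_closure ⟨4, by decide, rfl⟩)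
theorem mm0_18 : u0_18 ∈ Subgroup.closure (gens M J0) := mul_mem mm0_16 (Subgroup.subset_closure ⟨3, by decide, rfl⟩)
theorem mm0_19 : u0_19 ∈ Subgroup.closure (gens M J0) := mul_mem mm0_17 (Subgroup.subset_closure ⟨3, by decide, rfl⟩)
theorem mm0_20 : u0_20 ∈ Subgroup.closure (gens M J0) := mul_mem mm0_18 (Subgroup.subset_closure ⟨1, by decide, rfl⟩)
theorem mm0_21 : u0_21 ∈ Subgroup.closure (gens M J0) := mul_mem mm0_19 (Subgroup.subset_closure ⟨1, by decide, rfl⟩)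
theorem mm0_22 : u0_22 ∈ Subgroup.closure (gens M J0) := mul_mem mm0_19 (Subgroup.subset_closure ⟨2, by decide, rfl⟩)
theorem mm0_23 : u0_23 ∈ Subgroup.closure (gens M J0) := mul_mem mm0_21 (Subgroup.subset_closure ⟨2, by decide, rfl⟩)
theorem mm0_24 : u0_24 ∈ Subgroup.closure (gens M J0) := mul_mem mm0_23 (Subgroup.subset_closure ⟨3, by decide, rfl⟩)
theorem mm0_25 : u0_25 ∈ Subgroup.closure (gens M J0) := mul_mem mm0_24 (Subgroup.subset_closure ⟨4, by decide, rfl⟩)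
theorem mm0_26 : u0_26 ∈ Subgroup.closure (gens M J0) := mul_mem mm0_25 (Subgroup.subset_closure ⟨5, by decide, rfl⟩)
theorem c0_0 : P0 u0_0 := by
  refine ⟨mm0_0, ?_⟩
  rintro x ⟨j, hj, rfl⟩
  simp only [J0, List.mem_cons, List.not_mem_nil, or_false] at hj
  rcases hj with rfl | rfl | rfl | rfl | rfl | rfl
  · exact ⟨1, one_mem _, u0_1, mr0_1, e0_0_0⟩
  · exact ⟨s 1, Subgroup.subset_closure ⟨1, by decide, rfl⟩, u0_0, mr0_0, e0_0_1⟩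
  · exact ⟨s 2, Subgroup.subset_closure ⟨2, by decide, rfl⟩, u0_0, mr0_0, e0_0_2⟩
  · exact ⟨s 3, Subgroup.subset_closure ⟨3, by decide, rfl⟩, u0_0, mr0_0, e0_0_3⟩
  · exact ⟨s 4, Subgroup.subset_closure ⟨4, by decide, rfl⟩, u0_0, mr0_0, e0_0_4⟩
  · exact ⟨s 5, Subgroup.subset_closure ⟨5, by decide, rfl⟩, u0_0, mr0_0, e0_0_5⟩
theorem c0_1 : P0 u0_1 := by
  refine ⟨mm0_1, ?_⟩
  rintro x ⟨j, hj, rfl⟩
  simp only [J0, List.mem_cons, List.not_mem_nil, or_false] at hj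
  rcases hj with rfl | rfl | rfl | rfl | rfl | rfl
  · exact ⟨1, one_mem _, u0_0, mr0_0, e0_1_0⟩
  · exact ⟨s 1, Subgroup.subset_closure ⟨1, by decide, rfl⟩, u0_1, mr0_1, e0_1_1⟩
  · exact ⟨1, one_mem _, u0_2, mr0_2, e0_1_2⟩
  · exact ⟨s 3, Subgroup.subset_closure ⟨3, by decide, rfl⟩, u0_1, mr0_1, e0_1_3⟩
  · exact ⟨s 4, Subgroup.subset_closure ⟨4, by decide, rfl⟩, u0_1, mr0_1, e0_1_4⟩
  · exact ⟨s 5, Subgroup.subset_closure ⟨5, by decide, rfl⟩, u0_1, mr0_1, e0_1_5⟩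
theorem c0_2 : P0 u0_2 := by
  refine ⟨mm0_2, ?_⟩
  rintro x ⟨j, hj, rfl⟩
  simp only [J0, List.mem_cons, List.not_mem_nil, or_false] at hj
  rcases hj with rfl | rfl | rfl | rfl | rfl | rfl
  · exact ⟨s 2, Subgroup.subset_closure ⟨2, by decide, rfl⟩, u0_2, mr0_2, e0_2_0⟩
  · exact ⟨s 1, Subgroup.subset_closure ⟨1, by decide, rfl⟩, u0_2, mr0_2, e0_2_1⟩
  · exact ⟨1, one_mem _, u0_1, mr0_1, e0_2_2⟩
  · exact ⟨1, one_mem _, u0_3, mr0_3, e0_2_3⟩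
  · exact ⟨s 4, Subgroup.subset_closure ⟨4, by decide, rfl⟩, u0_2, mr0_2, e0_2_4⟩
  · exact ⟨s 5, Subgroup.subset_closure ⟨5, by decide, rfl⟩, u0_2, mr0_2, e0_2_5⟩
theorem c0_3 : P0 u0_3 := by
  refine ⟨mm0_3, ?_⟩
  rintro x ⟨j, hj, rfl⟩
  simp only [J0, List.mem_cons, List.not_mem_nil, or_false] at hj
  rcases hj with rfl | rfl | rfl | rfl | rfl | rfl
  · exact ⟨s 2, Subgroup.subset_closure ⟨2, by decide, rfl⟩, u0_3, mr0_3, e0_3_0⟩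
  · exact ⟨1, one_mem _, u0_4, mr0_4, e0_3_1⟩
  · exact ⟨s 3, Subgroup.subset_closure ⟨3, by decide, rfl⟩, u0_3, mr0_3, e0_3_2⟩
  · exact ⟨1, one_mem _, u0_2, mr0_2, e0_3_3⟩
  · exact ⟨1, one_mem _, u0_5, mr0_5, e0_3_4⟩
  · exact ⟨s 5, Subgroup.subset_closure ⟨5, by decide, rfl⟩, u0_3, mr0_3, e0_3_5⟩
theorem c0_4 : P0 u0_4 := by
  refine ⟨mm0_4, ?_⟩
  rintro x ⟨j, hj, rfl⟩
  simp only [J0, List.mem_cons, List.not_mem_nil, or_false] at hj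
  rcases hj with rfl | rfl | rfl | rfl | rfl | rfl
  · exact ⟨s 2, Subgroup.subset_closure ⟨2, by decide, rfl⟩, u0_4, mr0_4, e0_4_0⟩
  · exact ⟨1, one_mem _, u0_3, mr0_3, e0_4_1⟩
  · exact ⟨s 3, Subgroup.subset_closure ⟨3, by decide, rfl⟩, u0_4, mr0_4, e0_4_2⟩
  · exact ⟨s 1, Subgroup.subset_closure ⟨1, by decide, rfl⟩, u0_4, mr0_4, e0_4_3⟩
  · exact ⟨1, one_mem _, u0_6, mr0_6, e0_4_4⟩
  · exact ⟨s 5, Subgroup.subset_closure ⟨5, by decide, rfl⟩, u0_4, mr0_4, e0_4_5⟩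
theorem c0_5 : P0 u0_5 := by
  refine ⟨mm0_5, ?_⟩
  rintro x ⟨j, hj, rfl⟩
  simp only [J0, List.mem_cons, List.not_mem_nil, or_false] at hj
  rcases hj with rfl | rfl | rfl | rfl | rfl | rfl
  · exact ⟨s 2, Subgroup.subset_closure ⟨2, by decide, rfl⟩, u0_5, mr0_5, e0_5_0⟩
  · exact ⟨1, one_mem _, u0_6, mr0_6, e0_5_1⟩
  · exact ⟨s 3, Subgroup.subset_closure ⟨3, by decide, rfl⟩, u0_5, mr0_5, e0_5_2⟩
  · exact ⟨s 4, Subgroup.subset_closure ⟨4, by decide, rfl⟩, u0_5, mr0_5, e0_5_3⟩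
  · exact ⟨1, one_mem _, u0_3, mr0_3, e0_5_4⟩
  · exact ⟨1, one_mem _, u0_7, mr0_7, e0_5_5⟩
theorem c0_6 : P0 u0_6 := by
  refine ⟨mm0_6, ?_⟩
  rintro x ⟨j, hj, rfl⟩
  simp only [J0, List.mem_cons, List.not_mem_nil, or_false] at hj
  rcases hj with rfl | rfl | rfl | rfl | rfl | rfl
  · exact ⟨s 2, Subgroup.subset_closure ⟨2, by decide, rfl⟩, u0_6, mr0_6, e0_6_0⟩
  · exact ⟨1, one_mem _, u0_5, mr0_5, e0_6_1⟩
  · exact ⟨s 3, Subgroup.subset_closure ⟨3, by decide, rfl⟩, u0_6, mr0_6, e0_6_2⟩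
  · exact ⟨1, one_mem _, u0_8, mr0_8, e0_6_3⟩
  · exact ⟨1, one_mem _, u0_4, mr0_4, e0_6_4⟩
  · exact ⟨1, one_mem _, u0_9, mr0_9, e0_6_5⟩
theorem c0_7 : P0 u0_7 := by
  refine ⟨mm0_7, ?_⟩
  rintro x ⟨j, hj, rfl⟩
  simp only [J0, List.mem_cons, List.not_mem_nil, or_false] at hj
  rcases hj with rfl | rfl | rfl | rfl | rfl | rfl
  · exact ⟨s 2, Subgroup.subset_closure ⟨2, by decide, rfl⟩, u0_7, mr0_7, e0_7_0⟩
  · exact ⟨1, one_mem _, u0_9, mr0_9, e0_7_1⟩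
  · exact ⟨s 3, Subgroup.subset_closure ⟨3, by decide, rfl⟩, u0_7, mr0_7, e0_7_2⟩
  · exact ⟨s 4, Subgroup.subset_closure ⟨4, by decide, rfl⟩, u0_7, mr0_7, e0_7_3⟩
  · exact ⟨s 5, Subgroup.subset_closure ⟨5, by decide, rfl⟩, u0_7, mr0_7, e0_7_4⟩
  · exact ⟨1, one_mem _, u0_5, mr0_5, e0_7_5⟩
theorem c0_8 : P0 u0_8 := by
  refine ⟨mm0_8, ?_⟩
  rintro x ⟨j, hj, rfl⟩
  simp only [J0, List.mem_cons, List.not_mem_nil, or_false] at hj
  rcases hj with rfl | rfl | rfl | rfl | rfl | rfl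
  · exact ⟨s 2, Subgroup.subset_closure ⟨2, by decide, rfl⟩, u0_8, mr0_8, e0_8_0⟩
  · exact ⟨s 4, Subgroup.subset_closure ⟨4, by decide, rfl⟩, u0_8, mr0_8, e0_8_1⟩
  · exact ⟨1, one_mem _, u0_10, mr0_10, e0_8_2⟩
  · exact ⟨1, one_mem _, u0_6, mr0_6, e0_8_3⟩
  · exact ⟨s 1, Subgroup.subset_closure ⟨1, by decide, rfl⟩, u0_8, mr0_8, e0_8_4⟩
  · exact ⟨1, one_mem _, u0_11, mr0_11, e0_8_5⟩
theorem c0_9 : P0 u0_9 := by
  refine ⟨mm0_9, ?_⟩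
  rintro x ⟨j, hj, rfl⟩
  simp only [J0, List.mem_cons, List.not_mem_nil, or_false] at hj
  rcases hj with rfl | rfl | rfl | rfl | rfl | rfl
  · exact ⟨s 2, Subgroup.subset_closure ⟨2, by decide, rfl⟩, u0_9, mr0_9, e0_9_0⟩
  · exact ⟨1, one_mem _, u0_7, mr0_7, e0_9_1⟩
  · exact ⟨s 3, Subgroup.subset_closure ⟨3, by decide, rfl⟩, u0_9, mr0_9, e0_9_2⟩
  · exact ⟨1, one_mem _, u0_11, mr0_11, e0_9_3⟩
  · exact ⟨s 5, Subgroup.subset_closure ⟨5, by decide, rfl⟩, u0_9, mr0_9, e0_9_4⟩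
  · exact ⟨1, one_mem _, u0_6, mr0_6, e0_9_5⟩
theorem c0_10 : P0 u0_10 := by
  refine ⟨mm0_10, ?_⟩
  rintro x ⟨j, hj, rfl⟩
  simp only [J0, List.mem_cons, List.not_mem_nil, or_false] at hj
  rcases hj with rfl | rfl | rfl | rfl | rfl | rfl
  · exact ⟨1, one_mem _, u0_12, mr0_12, e0_10_0⟩
  · exact ⟨s 4, Subgroup.subset_closure ⟨4, by decide, rfl⟩, u0_10, mr0_10, e0_10_1⟩
  · exact ⟨1, one_mem _, u0_8, mr0_8, e0_10_2⟩
  · exact ⟨s 3, Subgroup.subset_closure ⟨3, by decide, rfl⟩, u0_10, mr0_10, e0_10_3⟩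
  · exact ⟨s 1, Subgroup.subset_closure ⟨1, by decide, rfl⟩, u0_10, mr0_10, e0_10_4⟩
  · exact ⟨1, one_mem _, u0_13, mr0_13, e0_10_5⟩
theorem c0_11 : P0 u0_11 := by
  refine ⟨mm0_11, ?_⟩
  rintro x ⟨j, hj, rfl⟩
  simp only [J0, List.mem_cons, List.not_mem_nil, or_false] at hj
  rcases hj with rfl | rfl | rfl | rfl | rfl | rfl
  · exact ⟨s 2, Subgroup.subset_closure ⟨2, by decide, rfl⟩, u0_11, mr0_11, e0_11_0⟩
  · exact ⟨s 4, Subgroup.subset_closure ⟨4, by decide, rfl⟩, u0_11, mr0_11, e0_11_1⟩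
  · exact ⟨1, one_mem _, u0_13, mr0_13, e0_11_2⟩
  · exact ⟨1, one_mem _, u0_9, mr0_9, e0_11_3⟩
  · exact ⟨1, one_mem _, u0_14, mr0_14, e0_11_4⟩
  · exact ⟨1, one_mem _, u0_8, mr0_8, e0_11_5⟩
theorem c0_12 : P0 u0_12 := by
  refine ⟨mm0_12, ?_⟩
  rintro x ⟨j, hj, rfl⟩
  simp only [J0, List.mem_cons, List.not_mem_nil, or_false] at hj
  rcases hj with rfl | rfl | rfl | rfl | rfl | rfl
  · exact ⟨1, one_mem _, u0_10, mr0_10, e0_12_0⟩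
  · exact ⟨s 4, Subgroup.subset_closure ⟨4, by decide, rfl⟩, u0_12, mr0_12, e0_12_1⟩
  · exact ⟨s 2, Subgroup.subset_closure ⟨2, by decide, rfl⟩, u0_12, mr0_12, e0_12_2⟩
  · exact ⟨s 3, Subgroup.subset_closure ⟨3, by decide, rfl⟩, u0_12, mr0_12, e0_12_3⟩
  · exact ⟨s 1, Subgroup.subset_closure ⟨1, by decide, rfl⟩, u0_12, mr0_12, e0_12_4⟩
  · exact ⟨1, one_mem _, u0_15, mr0_15, e0_12_5⟩
theorem c0_13 : P0 u0_13 := by
  refine ⟨mm0_13, ?_⟩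
  rintro x ⟨j, hj, rfl⟩
  simp only [J0, List.mem_cons, List.not_mem_nil, or_false] at hj
  rcases hj with rfl | rfl | rfl | rfl | rfl | rfl
  · exact ⟨1, one_mem _, u0_15, mr0_15, e0_13_0⟩
  · exact ⟨s 4, Subgroup.subset_closure ⟨4, by decide, rfl⟩, u0_13, mr0_13, e0_13_1⟩
  · exact ⟨1, one_mem _, u0_11, mr0_11, e0_13_2⟩
  · exact ⟨s 3, Subgroup.subset_closure ⟨3, by decide, rfl⟩, u0_13, mr0_13, e0_13_3⟩
  · exact ⟨1, one_mem _, u0_16, mr0_16, e0_13_4⟩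
  · exact ⟨1, one_mem _, u0_10, mr0_10, e0_13_5⟩
theorem c0_14 : P0 u0_14 := by
  refine ⟨mm0_14, ?_⟩
  rintro x ⟨j, hj, rfl⟩
  simp only [J0, List.mem_cons, List.not_mem_nil, or_false] at hj
  rcases hj with rfl | rfl | rfl | rfl | rfl | rfl
  · exact ⟨s 2, Subgroup.subset_closure ⟨2, by decide, rfl⟩, u0_14, mr0_14, e0_14_0⟩
  · exact ⟨s 4, Subgroup.subset_closure ⟨4, by decide, rfl⟩, u0_14, mr0_14, e0_14_1⟩
  · exact ⟨1, one_mem _, u0_16, mr0_16, e0_14_2⟩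
  · exact ⟨s 5, Subgroup.subset_closure ⟨5, by decide, rfl⟩, u0_14, mr0_14, e0_14_3⟩
  · exact ⟨1, one_mem _, u0_11, mr0_11, e0_14_4⟩
  · exact ⟨s 1, Subgroup.subset_closure ⟨1, by decide, rfl⟩, u0_14, mr0_14, e0_14_5⟩
theorem c0_15 : P0 u0_15 := by
  refine ⟨mm0_15, ?_⟩
  rintro x ⟨j, hj, rfl⟩
  simp only [J0, List.mem_cons, List.not_mem_nil, or_false] at hj
  rcases hj with rfl | rfl | rfl | rfl | rfl | rfl
  · exact ⟨1, one_mem _, u0_13, mr0_13, e0_15_0⟩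
  · exact ⟨s 4, Subgroup.subset_closure ⟨4, by decide, rfl⟩, u0_15, mr0_15, e0_15_1⟩
  · exact ⟨s 2, Subgroup.subset_closure ⟨2, by decide, rfl⟩, u0_15, mr0_15, e0_15_2⟩
  · exact ⟨s 3, Subgroup.subset_closure ⟨3, by decide, rfl⟩, u0_15, mr0_15, e0_15_3⟩
  · exact ⟨1, one_mem _, u0_17, mr0_17, e0_15_4⟩
  · exact ⟨1, one_mem _, u0_12, mr0_12, e0_15_5⟩
theorem c0_16 : P0 u0_16 := by
  refine ⟨mm0_16, ?_⟩
  rintro x ⟨j, hj, rfl⟩
  simp only [J0, List.mem_cons, List.not_mem_nil, or_false] at hj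
  rcases hj with rfl | rfl | rfl | rfl | rfl | rfl
  · exact ⟨1, one_mem _, u0_17, mr0_17, e0_16_0⟩
  · exact ⟨s 4, Subgroup.subset_closure ⟨4, by decide, rfl⟩, u0_16, mr0_16, e0_16_1⟩
  · exact ⟨1, one_mem _, u0_14, mr0_14, e0_16_2⟩
  · exact ⟨1, one_mem _, u0_18, mr0_18, e0_16_3⟩
  · exact ⟨1, one_mem _, u0_13, mr0_13, e0_16_4⟩
  · exact ⟨s 1, Subgroup.subset_closure ⟨1, by decide, rfl⟩, u0_16, mr0_16, e0_16_5⟩
theorem c0_17 : P0 u0_17 := by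
  refine ⟨mm0_17, ?_⟩
  rintro x ⟨j, hj, rfl⟩
  simp only [J0, List.mem_cons, List.not_mem_nil, or_false] at hj
  rcases hj with rfl | rfl | rfl | rfl | rfl | rfl
  · exact ⟨1, one_mem _, u0_16, mr0_16, e0_17_0⟩
  · exact ⟨s 4, Subgroup.subset_closure ⟨4, by decide, rfl⟩, u0_17, mr0_17, e0_17_1⟩
  · exact ⟨s 2, Subgroup.subset_closure ⟨2, by decide, rfl⟩, u0_17, mr0_17, e0_17_2⟩
  · exact ⟨1, one_mem _, u0_19, mr0_19, e0_17_3⟩
  · exact ⟨1, one_mem _, u0_15, mr0_15, e0_17_4⟩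
  · exact ⟨s 1, Subgroup.subset_closure ⟨1, by decide, rfl⟩, u0_17, mr0_17, e0_17_5⟩
theorem c0_18 : P0 u0_18 := by
  refine ⟨mm0_18, ?_⟩
  rintro x ⟨j, hj, rfl⟩
  simp only [J0, List.mem_cons, List.not_mem_nil, or_false] at hj
  rcases hj with rfl | rfl | rfl | rfl | rfl | rfl
  · exact ⟨1, one_mem _, u0_19, mr0_19, e0_18_0⟩
  · exact ⟨1, one_mem _, u0_20, mr0_20, e0_18_1⟩
  · exact ⟨s 5, Subgroup.subset_closure ⟨5, by decide, rfl⟩, u0_18, mr0_18, e0_18_2⟩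
  · exact ⟨1, one_mem _, u0_16, mr0_16, e0_18_3⟩
  · exact ⟨s 3, Subgroup.subset_closure ⟨3, by decide, rfl⟩, u0_18, mr0_18, e0_18_4⟩
  · exact ⟨s 1, Subgroup.subset_closure ⟨1, by decide, rfl⟩, u0_18, mr0_18, e0_18_5⟩
theorem c0_19 : P0 u0_19 := by
  refine ⟨mm0_19, ?_⟩
  rintro x ⟨j, hj, rfl⟩
  simp only [J0, List.mem_cons, List.not_mem_nil, or_false] at hj
  rcases hj with rfl | rfl | rfl | rfl | rfl | rfl
  · exact ⟨1, one_mem _, u0_18, mr0_18, e0_19_0⟩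
  · exact ⟨1, one_mem _, u0_21, mr0_21, e0_19_1⟩
  · exact ⟨1, one_mem _, u0_22, mr0_22, e0_19_2⟩
  · exact ⟨1, one_mem _, u0_17, mr0_17, e0_19_3⟩
  · exact ⟨s 3, Subgroup.subset_closure ⟨3, by decide, rfl⟩, u0_19, mr0_19, e0_19_4⟩
  · exact ⟨s 1, Subgroup.subset_closure ⟨1, by decide, rfl⟩, u0_19, mr0_19, e0_19_5⟩
theorem c0_20 : P0 u0_20 := by
  refine ⟨mm0_20, ?_⟩
  rintro x ⟨j, hj, rfl⟩
  simp only [J0, List.mem_cons, List.not_mem_nil, or_false] at hj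
  rcases hj with rfl | rfl | rfl | rfl | rfl | rfl
  · exact ⟨1, one_mem _, u0_21, mr0_21, e0_20_0⟩
  · exact ⟨1, one_mem _, u0_18, mr0_18, e0_20_1⟩
  · exact ⟨s 5, Subgroup.subset_closure ⟨5, by decide, rfl⟩, u0_20, mr0_20, e0_20_2⟩
  · exact ⟨s 4, Subgroup.subset_closure ⟨4, by decide, rfl⟩, u0_20, mr0_20, e0_20_3⟩
  · exact ⟨s 3, Subgroup.subset_closure ⟨3, by decide, rfl⟩, u0_20, mr0_20, e0_20_4⟩
  · exact ⟨s 1, Subgroup.subset_closure ⟨1, by decide, rfl⟩, u0_20, mr0_20, e0_20_5⟩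
theorem c0_21 : P0 u0_21 := by
  refine ⟨mm0_21, ?_⟩
  rintro x ⟨j, hj, rfl⟩
  simp only [J0, List.mem_cons, List.not_mem_nil, or_false] at hj
  rcases hj with rfl | rfl | rfl | rfl | rfl | rfl
  · exact ⟨1, one_mem _, u0_20, mr0_20, e0_21_0⟩
  · exact ⟨1, one_mem _, u0_19, mr0_19, e0_21_1⟩
  · exact ⟨1, one_mem _, u0_23, mr0_23, e0_21_2⟩
  · exact ⟨s 4, Subgroup.subset_closure ⟨4, by decide, rfl⟩, u0_21, mr0_21, e0_21_3⟩
  · exact ⟨s 3, Subgroup.subset_closure ⟨3, by decide, rfl⟩, u0_21, mr0_21, e0_21_4⟩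
  · exact ⟨s 1, Subgroup.subset_closure ⟨1, by decide, rfl⟩, u0_21, mr0_21, e0_21_5⟩
theorem c0_22 : P0 u0_22 := by
  refine ⟨mm0_22, ?_⟩
  rintro x ⟨j, hj, rfl⟩
  simp only [J0, List.mem_cons, List.not_mem_nil, or_false] at hj
  rcases hj with rfl | rfl | rfl | rfl | rfl | rfl
  · exact ⟨s 5, Subgroup.subset_closure ⟨5, by decide, rfl⟩, u0_22, mr0_22, e0_22_0⟩
  · exact ⟨1, one_mem _, u0_23, mr0_23, e0_22_1⟩
  · exact ⟨1, one_mem _, u0_19, mr0_19, e0_22_2⟩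
  · exact ⟨s 2, Subgroup.subset_closure ⟨2, by decide, rfl⟩, u0_22, mr0_22, e0_22_3⟩
  · exact ⟨s 3, Subgroup.subset_closure ⟨3, by decide, rfl⟩, u0_22, mr0_22, e0_22_4⟩
  · exact ⟨s 1, Subgroup.subset_closure ⟨1, by decide, rfl⟩, u0_22, mr0_22, e0_22_5⟩
theorem c0_23 : P0 u0_23 := by
  refine ⟨mm0_23, ?_⟩
  rintro x ⟨j, hj, rfl⟩
  simp only [J0, List.mem_cons, List.not_mem_nil, or_false] at hj
  rcases hj with rfl | rfl | rfl | rfl | rfl | rfl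
  · exact ⟨s 5, Subgroup.subset_closure ⟨5, by decide, rfl⟩, u0_23, mr0_23, e0_23_0⟩
  · exact ⟨1, one_mem _, u0_22, mr0_22, e0_23_1⟩
  · exact ⟨1, one_mem _, u0_21, mr0_21, e0_23_2⟩
  · exact ⟨1, one_mem _, u0_24, mr0_24, e0_23_3⟩
  · exact ⟨s 3, Subgroup.subset_closure ⟨3, by decide, rfl⟩, u0_23, mr0_23, e0_23_4⟩
  · exact ⟨s 1, Subgroup.subset_closure ⟨1, by decide, rfl⟩, u0_23, mr0_23, e0_23_5⟩
theorem c0_24 : P0 u0_24 := by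
  refine ⟨mm0_24, ?_⟩
  rintro x ⟨j, hj, rfl⟩
  simp only [J0, List.mem_cons, List.not_mem_nil, or_false] at hj
  rcases hj with rfl | rfl | rfl | rfl | rfl | rfl
  · exact ⟨s 5, Subgroup.subset_closure ⟨5, by decide, rfl⟩, u0_24, mr0_24, e0_24_0⟩
  · exact ⟨s 2, Subgroup.subset_closure ⟨2, by decide, rfl⟩, u0_24, mr0_24, e0_24_1⟩
  · exact ⟨s 4, Subgroup.subset_closure ⟨4, by decide, rfl⟩, u0_24, mr0_24, e0_24_2⟩
  · exact ⟨1, one_mem _, u0_23, mr0_23, e0_24_3⟩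
  · exact ⟨1, one_mem _, u0_25, mr0_25, e0_24_4⟩
  · exact ⟨s 1, Subgroup.subset_closure ⟨1, by decide, rfl⟩, u0_24, mr0_24, e0_24_5⟩
theorem c0_25 : P0 u0_25 := by
  refine ⟨mm0_25, ?_⟩
  rintro x ⟨j, hj, rfl⟩
  simp only [J0, List.mem_cons, List.not_mem_nil, or_false] at hj
  rcases hj with rfl | rfl | rfl | rfl | rfl | rfl
  · exact ⟨s 5, Subgroup.subset_closure ⟨5, by decide, rfl⟩, u0_25, mr0_25, e0_25_0⟩
  · exact ⟨s 2, Subgroup.subset_closure ⟨2, by decide, rfl⟩, u0_25, mr0_25, e0_25_1⟩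
  · exact ⟨s 4, Subgroup.subset_closure ⟨4, by decide, rfl⟩, u0_25, mr0_25, e0_25_2⟩
  · exact ⟨s 3, Subgroup.subset_closure ⟨3, by decide, rfl⟩, u0_25, mr0_25, e0_25_3⟩
  · exact ⟨1, one_mem _, u0_24, mr0_24, e0_25_4⟩
  · exact ⟨1, one_mem _, u0_26, mr0_26, e0_25_5⟩
theorem c0_26 : P0 u0_26 := by
  refine ⟨mm0_26, ?_⟩
  rintro x ⟨j, hj, rfl⟩
  simp only [J0, List.mem_cons, List.not_mem_nil, or_false] at hj
  rcases hj with rfl | rfl | rfl | rfl | rfl | rfl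
  · exact ⟨s 5, Subgroup.subset_closure ⟨5, by decide, rfl⟩, u0_26, mr0_26, e0_26_0⟩
  · exact ⟨s 2, Subgroup.subset_closure ⟨2, by decide, rfl⟩, u0_26, mr0_26, e0_26_1⟩
  · exact ⟨s 4, Subgroup.subset_closure ⟨4, by decide, rfl⟩, u0_26, mr0_26, e0_26_2⟩
  · exact ⟨s 3, Subgroup.subset_closure ⟨3, by decide, rfl⟩, u0_26, mr0_26, e0_26_3⟩
  · exact ⟨s 1, Subgroup.subset_closure ⟨1, by decide, rfl⟩, u0_26, mr0_26, e0_26_4⟩
  · exact ⟨1, one_mem _, u0_25, mr0_25, e0_26_5⟩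
def preps0 : List {u : W // P0 u} := [⟨u0_0, c0_0⟩, ⟨u0_1, c0_1⟩, ⟨u0_2, c0_2⟩, ⟨u0_3, c0_3⟩, ⟨u0_4, c0_4⟩, ⟨u0_5, c0_5⟩, ⟨u0_6, c0_6⟩, ⟨u0_7, c0_7⟩, ⟨u0_8, c0_8⟩, ⟨u0_9, c0_9⟩, ⟨u0_10, c0_10⟩, ⟨u0_11, c0_11⟩, ⟨u0_12, c0_12⟩, ⟨u0_13, c0_13⟩, ⟨u0_14, c0_14⟩, ⟨u0_15, c0_15⟩, ⟨u0_16, c0_16⟩, ⟨u0_17, c0_17⟩, ⟨u0_18, c0_18⟩, ⟨u0_19, c0_19⟩, ⟨u0_20, c0_20⟩, ⟨u0_21, c0_21⟩, ⟨u0_22, c0_22⟩, ⟨u0_23, c0_23⟩, ⟨u0_24, c0_24⟩, ⟨u0_25, c0_25⟩, ⟨u0_26, c0_26⟩]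
theorem preps0_map : preps0.map Subtype.val = reps0 := rfl
theorem allP0 : ∀ u ∈ reps0, P0 u := by
  intro u hu
  rw [← preps0_map, List.mem_map] at hu
  obtain ⟨x, _, rfl⟩ := hu
  exact x.2
def vecs0 : List (Fin 6 → ℤ) := [![1, 0, 0, 0, 0, 0], ![-1, 0, 1, 0, 0, 0], ![0, 0, -1, 1, 0, 0], ![0, 1, 0, -1, 1, 0], ![0, -1, 0, 0, 1, 0], ![0, 1, 0, 0, -1, 1], ![0, -1, 0, 1, -1, 1], ![0, 1, 0, 0, 0, -1], ![0, 0, 1, -1, 0, 1], ![0, -1, 0, 1, 0, -1], ![1, 0, -1, 0, 0, 1], ![0, 0, 1, -1, 1, -1], ![-1, 0, 0, 0, 0, 1], ![1, 0, -1, 0, 1, -1], ![0, 0, 1, 0, -1, 0], ![-1, 0, 0, 0, 1, -1], ![1, 0, -1, 1, -1, 0], ![-1, 0, 0, 1, -1, 0], ![1, 1, 0, -1, 0, 0], ![-1, 1, 1, -1, 0, 0], ![1, -1, 0, 0, 0, 0], ![-1, -1, 1, 0, 0, 0], ![0, 1, -1, 0, 0, 0], ![0, -1, -1, 1, 0, 0], ![0, 0, 0, -1, 1, 0], ![0, 0, 0, 0, -1, 1], ![0, 0, 0, 0, 0, -1]]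
theorem map0 : reps0.map fv0 = vecs0 := by
  simp only [reps0, List.map_cons, List.map_nil, v0_0, v0_1, v0_2, v0_3, v0_4, v0_5, v0_6, v0_7, v0_8, v0_9, v0_10, v0_11, v0_12, v0_13, v0_14, v0_15, v0_16, v0_17, v0_18, v0_19, v0_20, v0_21, v0_22, v0_23, v0_24, v0_25, v0_26]
  rfl
theorem nd0 : (reps0.map fv0).Nodup := by rw [map0]; decide +kernel
theorem fix0 : ∀ h ∈ gens M J1, ∀ w, fv0 (h * w) = fv0 w := by
  rintro h ⟨j, hj, rfl⟩ w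
  simp only [J1, List.mem_cons, List.not_mem_nil, or_false] at hj
  rcases hj with rfl | rfl | rfl | rfl | rfl
  all_goals exact fvec_fix M A hA base0 _ (by decide +kernel) w
theorem sub0 : gens M J1 ⊆ gens M J0 := gens_mono M (by decide)
theorem card0 : Nat.card (Subgroup.closure (gens M J0)) = Nat.card (Subgroup.closure (gens M J1)) * 27 :=
  level_card (gens M J0) (gens M J1) sub0 (gens_inv M J0) reps0 mr0_0 (fun u hu => (allP0 u hu).1) (fun u hu => (allP0 u hu).2) fv0 fix0 nd0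
theorem ker0 : ∀ w ∈ Subgroup.closure (gens M J0), fv0 w = fv0 1 → w ∈ Subgroup.closure (gens M J1) :=
  level_ker (gens M J0) (gens M J1) (gens_inv M J0) reps0 mr0_0 (fun u hu => (allP0 u hu).2) fv0 fix0 nd0

-- level 1: index 10
def base1 : Fin 6 → ℤ := ![0, 0, 0, 0, 0, 1]
def fv1 : W → (Fin 6 → ℤ) := fvec M A hA base1
def u1_0 : W := 1
def u1_1 : W := u1_0 * s 5
def u1_2 : W := u1_1 * s 4
def u1_3 : W := u1_2 * s 3
def u1_4 : W := u1_3 * s 1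
def u1_5 : W := u1_3 * s 2
def u1_6 : W := u1_4 * s 2
def u1_7 : W := u1_6 * s 3
def u1_8 : W := u1_7 * s 4
def u1_9 : W := u1_8 * s 5
def reps1 : List W := [u1_0, u1_1, u1_2, u1_3, u1_4, u1_5, u1_6, u1_7, u1_8, u1_9]
theorem v1_0 : fv1 u1_0 = ![0, 0, 0, 0, 0, 1] := fvec_one M A hA base1
theorem v1_1 : fv1 u1_1 = ![0, 0, 0, 0, 1, -1] := by
  show fvec M A hA base1 (u1_0 * M.simple 5) = _
  rw [fvec_mul_simple]; show reflVec A 5 (fv1 u1_0) = _; rw [v1_0]; decide +kernel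
theorem v1_2 : fv1 u1_2 = ![0, 0, 0, 1, -1, 0] := by
  show fvec M A hA base1 (u1_1 * M.simple 4) = _
  rw [fvec_mul_simple]; show reflVec A 4 (fv1 u1_1) = _; rw [v1_1]; decide +kernel
theorem v1_3 : fv1 u1_3 = ![0, 1, 1, -1, 0, 0] := by
  show fvec M A hA base1 (u1_2 * M.simple 3) = _
  rw [fvec_mul_simple]; show reflVec A 3 (fv1 u1_2) = _; rw [v1_2]; decide +kernel
theorem v1_4 : fv1 u1_4 = ![0, -1, 1, 0, 0, 0] := by
  show fvec M A hA base1 (u1_3 * M.simple 1) = _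
  rw [fvec_mul_simple]; show reflVec A 1 (fv1 u1_3) = _; rw [v1_3]; decide +kernel
theorem v1_5 : fv1 u1_5 = ![1, 1, -1, 0, 0, 0] := by
  show fvec M A hA base1 (u1_3 * M.simple 2) = _
  rw [fvec_mul_simple]; show reflVec A 2 (fv1 u1_3) = _; rw [v1_3]; decide +kernel
theorem v1_6 : fv1 u1_6 = ![1, -1, -1, 1, 0, 0] := by
  show fvec M A hA base1 (u1_4 * M.simple 2) = _
  rw [fvec_mul_simple]; show reflVec A 2 (fv1 u1_4) = _; rw [v1_4]; decide +kernel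
theorem v1_7 : fv1 u1_7 = ![1, 0, 0, -1, 1, 0] := by
  show fvec M A hA base1 (u1_6 * M.simple 3) = _
  rw [fvec_mul_simple]; show reflVec A 3 (fv1 u1_6) = _; rw [v1_6]; decide +kernel
theorem v1_8 : fv1 u1_8 = ![1, 0, 0, 0, -1, 1] := by
  show fvec M A hA base1 (u1_7 * M.simple 4) = _
  rw [fvec_mul_simple]; show reflVec A 4 (fv1 u1_7) = _; rw [v1_7]; decide +kernel
theorem v1_9 : fv1 u1_9 = ![1, 0, 0, 0, 0, -1] := by
  show fvec M A hA base1 (u1_8 * M.simple 5) = _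
  rw [fvec_mul_simple]; show reflVec A 5 (fv1 u1_8) = _; rw [v1_8]; decide +kernel
theorem e1_0_5 : u1_0 * s 5 = 1 * u1_1 := (one_mul (u1_0 * s 5)).symm
theorem e1_1_5 : u1_1 * s 5 = 1 * u1_0 := tree_up (s_sq 5)
theorem e1_1_4 : u1_1 * s 4 = 1 * u1_2 := (one_mul (u1_1 * s 4)).symm
theorem e1_2_4 : u1_2 * s 4 = 1 * u1_1 := tree_up (s_sq 4)
theorem e1_2_3 : u1_2 * s 3 = 1 * u1_3 := (one_mul (u1_2 * s 3)).symm
theorem e1_3_3 : u1_3 * s 3 = 1 * u1_2 := tree_up (s_sq 3)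
theorem e1_3_1 : u1_3 * s 1 = 1 * u1_4 := (one_mul (u1_3 * s 1)).symm
theorem e1_4_1 : u1_4 * s 1 = 1 * u1_3 := tree_up (s_sq 1)
theorem e1_3_2 : u1_3 * s 2 = 1 * u1_5 := (one_mul (u1_3 * s 2)).symm
theorem e1_5_2 : u1_5 * s 2 = 1 * u1_3 := tree_up (s_sq 2)
theorem e1_4_2 : u1_4 * s 2 = 1 * u1_6 := (one_mul (u1_4 * s 2)).symm
theorem e1_6_2 : u1_6 * s 2 = 1 * u1_4 := tree_up (s_sq 2)
theorem e1_6_3 : u1_6 * s 3 = 1 * u1_7 := (one_mul (u1_6 * s 3)).symm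
theorem e1_7_3 : u1_7 * s 3 = 1 * u1_6 := tree_up (s_sq 3)
theorem e1_7_4 : u1_7 * s 4 = 1 * u1_8 := (one_mul (u1_7 * s 4)).symm
theorem e1_8_4 : u1_8 * s 4 = 1 * u1_7 := tree_up (s_sq 4)
theorem e1_8_5 : u1_8 * s 5 = 1 * u1_9 := (one_mul (u1_8 * s 5)).symm
theorem e1_9_5 : u1_9 * s 5 = 1 * u1_8 := tree_up (s_sq 5)
theorem e1_0_1 : u1_0 * s 1 = s 1 * u1_0 := (one_mul (s 1)).trans (mul_one (s 1)).symm
theorem e1_0_2 : u1_0 * s 2 = s 2 * u1_0 := (one_mul (s 2)).trans (mul_one (s 2)).symm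
theorem e1_0_3 : u1_0 * s 3 = s 3 * u1_0 := (one_mul (s 3)).trans (mul_one (s 3)).symm
theorem e1_0_4 : u1_0 * s 4 = s 4 * u1_0 := (one_mul (s 4)).trans (mul_one (s 4)).symm
theorem e1_1_1 : u1_1 * s 1 = s 1 * u1_1 := by
  simpa only [one_mul, mul_one] using ded2 r_1_5 e1_1_5 e1_0_1 e1_0_5
theorem e1_1_2 : u1_1 * s 2 = s 2 * u1_1 := by
  simpa only [one_mul, mul_one] using ded2 r_2_5 e1_1_5 e1_0_2 e1_0_5
theorem e1_1_3 : u1_1 * s 3 = s 3 * u1_1 := by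
  simpa only [one_mul, mul_one] using ded2 r_3_5 e1_1_5 e1_0_3 e1_0_5
theorem e1_2_5 : u1_2 * s 5 = s 4 * u1_2 := by
  simpa only [one_mul, mul_one] using ded3 r_5_4 e1_2_4 e1_1_5 e1_0_4 e1_0_5 e1_1_4
theorem e1_2_1 : u1_2 * s 1 = s 1 * u1_2 := by
  simpa only [one_mul, mul_one] using ded2 r_1_4 e1_2_4 e1_1_1 e1_1_4
theorem e1_2_2 : u1_2 * s 2 = s 2 * u1_2 := by
  simpa only [one_mul, mul_one] using ded2 r_2_4 e1_2_4 e1_1_2 e1_1_4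
theorem e1_3_4 : u1_3 * s 4 = s 3 * u1_3 := by
  simpa only [one_mul, mul_one] using ded3 r_4_3 e1_3_3 e1_2_4 e1_1_3 e1_1_4 e1_2_3
theorem e1_4_3 : u1_4 * s 3 = s 1 * u1_4 := by
  simpa only [one_mul, mul_one] using ded3 r_3_1 e1_4_1 e1_3_3 e1_2_1 e1_2_3 e1_3_1
theorem e1_5_3 : u1_5 * s 3 = s 2 * u1_5 := by
  simpa only [one_mul, mul_one] using ded3 r_3_2 e1_5_2 e1_3_3 e1_2_2 e1_2_3 e1_3_2
theorem e1_3_5 : u1_3 * s 5 = s 4 * u1_3 := by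
  simpa only [one_mul, mul_one] using ded2 r_5_3 e1_3_3 e1_2_5 e1_2_3
theorem e1_6_1 : u1_6 * s 1 = 1 * u1_5 := by
  simpa only [one_mul, mul_one] using ded2 r_1_2 e1_6_2 e1_4_1 e1_3_2
theorem e1_5_1 : u1_5 * s 1 = 1 * u1_6 := rev_edge (s_sq 1) e1_6_1
theorem e1_4_4 : u1_4 * s 4 = s 3 * u1_4 := by
  simpa only [one_mul, mul_one] using ded2 r_4_1 e1_4_1 e1_3_4 e1_3_1
theorem e1_4_5 : u1_4 * s 5 = s 4 * u1_4 := by
  simpa only [one_mul, mul_one] using ded2 r_5_1 e1_4_1 e1_3_5 e1_3_1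
theorem e1_5_4 : u1_5 * s 4 = s 3 * u1_5 := by
  simpa only [one_mul, mul_one] using ded2 r_4_2 e1_5_2 e1_3_4 e1_3_2
theorem e1_5_5 : u1_5 * s 5 = s 4 * u1_5 := by
  simpa only [one_mul, mul_one] using ded2 r_5_2 e1_5_2 e1_3_5 e1_3_2
theorem e1_7_2 : u1_7 * s 2 = s 1 * u1_7 := by
  simpa only [one_mul, mul_one] using ded3 r_2_3 e1_7_3 e1_6_2 e1_4_3 e1_4_2 e1_6_3
theorem e1_6_4 : u1_6 * s 4 = s 3 * u1_6 := by
  simpa only [one_mul, mul_one] using ded2 r_4_2 e1_6_2 e1_4_4 e1_4_2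
theorem e1_6_5 : u1_6 * s 5 = s 4 * u1_6 := by
  simpa only [one_mul, mul_one] using ded2 r_5_2 e1_6_2 e1_4_5 e1_4_2
theorem e1_7_1 : u1_7 * s 1 = s 2 * u1_7 := by
  simpa only [one_mul, mul_one] using ded3 r_1_3 e1_7_3 e1_6_1 e1_5_3 e1_5_1 e1_6_3
theorem e1_8_3 : u1_8 * s 3 = s 3 * u1_8 := by
  simpa only [one_mul, mul_one] using ded3 r_3_4 e1_8_4 e1_7_3 e1_6_4 e1_6_3 e1_7_4
theorem e1_7_5 : u1_7 * s 5 = s 4 * u1_7 := by
  simpa only [one_mul, mul_one] using ded2 r_5_3 e1_7_3 e1_6_5 e1_6_3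
theorem e1_8_1 : u1_8 * s 1 = s 2 * u1_8 := by
  simpa only [one_mul, mul_one] using ded2 r_1_4 e1_8_4 e1_7_1 e1_7_4
theorem e1_8_2 : u1_8 * s 2 = s 1 * u1_8 := by
  simpa only [one_mul, mul_one] using ded2 r_2_4 e1_8_4 e1_7_2 e1_7_4
theorem e1_9_4 : u1_9 * s 4 = s 4 * u1_9 := by
  simpa only [one_mul, mul_one] using ded3 r_4_5 e1_9_5 e1_8_4 e1_7_5 e1_7_4 e1_8_5
theorem e1_9_1 : u1_9 * s 1 = s 2 * u1_9 := by
  simpa only [one_mul, mul_one] using ded2 r_1_5 e1_9_5 e1_8_1 e1_8_5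
theorem e1_9_2 : u1_9 * s 2 = s 1 * u1_9 := by
  simpa only [one_mul, mul_one] using ded2 r_2_5 e1_9_5 e1_8_2 e1_8_5
theorem e1_9_3 : u1_9 * s 3 = s 3 * u1_9 := by
  simpa only [one_mul, mul_one] using ded2 r_3_5 e1_9_5 e1_8_3 e1_8_5
def P1 (u : W) : Prop := u ∈ Subgroup.closure (gens M J1) ∧ ∀ x ∈ gens M J1, ∃ h ∈ Subgroup.closure (gens M J2), ∃ u' ∈ reps1, u * x = h * u'
theorem mr1_0 : u1_0 ∈ reps1 := List.getElem_mem (l := reps1) (n := 0) (by decide)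
theorem mr1_1 : u1_1 ∈ reps1 := List.getElem_mem (l := reps1) (n := 1) (by decide)
theorem mr1_2 : u1_2 ∈ reps1 := List.getElem_mem (l := reps1) (n := 2) (by decide)
theorem mr1_3 : u1_3 ∈ reps1 := List.getElem_mem (l := reps1) (n := 3) (by decide)
theorem mr1_4 : u1_4 ∈ reps1 := List.getElem_mem (l := reps1) (n := 4) (by decide)
theorem mr1_5 : u1_5 ∈ reps1 := List.getElem_mem (l := reps1) (n := 5) (by decide)
theorem mr1_6 : u1_6 ∈ reps1 := List.getElem_mem (l := reps1) (n := 6) (by decide)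
theorem mr1_7 : u1_7 ∈ reps1 := List.getElem_mem (l := reps1) (n := 7) (by decide)
theorem mr1_8 : u1_8 ∈ reps1 := List.getElem_mem (l := reps1) (n := 8) (by decide)
theorem mr1_9 : u1_9 ∈ reps1 := List.getElem_mem (l := reps1) (n := 9) (by decide)
theorem mm1_0 : u1_0 ∈ Subgroup.closure (gens M J1) := one_mem _
theorem mm1_1 : u1_1 ∈ Subgroup.closure (gens M J1) := mul_mem mm1_0 (Subgroup.subset_closure ⟨5, by decide, rfl⟩)
theorem mm1_2 : u1_2 ∈ Subgroup.closure (gens M J1) := mul_mem mm1_1 (Subgroup.subset_closure ⟨4, by decide, rfl⟩)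
theorem mm1_3 : u1_3 ∈ Subgroup.closure (gens M J1) := mul_mem mm1_2 (Subgroup.subset_closure ⟨3, by decide, rfl⟩)
theorem mm1_4 : u1_4 ∈ Subgroup.closure (gens M J1) := mul_mem mm1_3 (Subgroup.subset_closure ⟨1, by decide, rfl⟩)
theorem mm1_5 : u1_5 ∈ Subgroup.closure (gens M J1) := mul_mem mm1_3 (Subgroup.subset_closure ⟨2, by decide, rfl⟩)
theorem mm1_6 : u1_6 ∈ Subgroup.closure (gens M J1) := mul_mem mm1_4 (Subgroup.subset_closure ⟨2, by decide, rfl⟩)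
theorem mm1_7 : u1_7 ∈ Subgroup.closure (gens M J1) := mul_mem mm1_6 (Subgroup.subset_closure ⟨3, by decide, rfl⟩)
theorem mm1_8 : u1_8 ∈ Subgroup.closure (gens M J1) := mul_mem mm1_7 (Subgroup.subset_closure ⟨4, by decide, rfl⟩)
theorem mm1_9 : u1_9 ∈ Subgroup.closure (gens M J1) := mul_mem mm1_8 (Subgroup.subset_closure ⟨5, by decide, rfl⟩)
theorem c1_0 : P1 u1_0 := by
  refine ⟨mm1_0, ?_⟩
  rintro x ⟨j, hj, rfl⟩
  simp only [J1, List.mem_cons, List.not_mem_nil, or_false] at hj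
  rcases hj with rfl | rfl | rfl | rfl | rfl
  · exact ⟨s 1, Subgroup.subset_closure ⟨1, by decide, rfl⟩, u1_0, mr1_0, e1_0_1⟩
  · exact ⟨s 2, Subgroup.subset_closure ⟨2, by decide, rfl⟩, u1_0, mr1_0, e1_0_2⟩
  · exact ⟨s 3, Subgroup.subset_closure ⟨3, by decide, rfl⟩, u1_0, mr1_0, e1_0_3⟩
  · exact ⟨s 4, Subgroup.subset_closure ⟨4, by decide, rfl⟩, u1_0, mr1_0, e1_0_4⟩
  · exact ⟨1, one_mem _, u1_1, mr1_1, e1_0_5⟩
theorem c1_1 : P1 u1_1 := by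
  refine ⟨mm1_1, ?_⟩
  rintro x ⟨j, hj, rfl⟩
  simp only [J1, List.mem_cons, List.not_mem_nil, or_false] at hj
  rcases hj with rfl | rfl | rfl | rfl | rfl
  · exact ⟨s 1, Subgroup.subset_closure ⟨1, by decide, rfl⟩, u1_1, mr1_1, e1_1_1⟩
  · exact ⟨s 2, Subgroup.subset_closure ⟨2, by decide, rfl⟩, u1_1, mr1_1, e1_1_2⟩
  · exact ⟨s 3, Subgroup.subset_closure ⟨3, by decide, rfl⟩, u1_1, mr1_1, e1_1_3⟩
  · exact ⟨1, one_mem _, u1_2, mr1_2, e1_1_4⟩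
  · exact ⟨1, one_mem _, u1_0, mr1_0, e1_1_5⟩
theorem c1_2 : P1 u1_2 := by
  refine ⟨mm1_2, ?_⟩
  rintro x ⟨j, hj, rfl⟩
  simp only [J1, List.mem_cons, List.not_mem_nil, or_false] at hj
  rcases hj with rfl | rfl | rfl | rfl | rfl
  · exact ⟨s 1, Subgroup.subset_closure ⟨1, by decide, rfl⟩, u1_2, mr1_2, e1_2_1⟩
  · exact ⟨s 2, Subgroup.subset_closure ⟨2, by decide, rfl⟩, u1_2, mr1_2, e1_2_2⟩
  · exact ⟨1, one_mem _, u1_3, mr1_3, e1_2_3⟩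
  · exact ⟨1, one_mem _, u1_1, mr1_1, e1_2_4⟩
  · exact ⟨s 4, Subgroup.subset_closure ⟨4, by decide, rfl⟩, u1_2, mr1_2, e1_2_5⟩
theorem c1_3 : P1 u1_3 := by
  refine ⟨mm1_3, ?_⟩
  rintro x ⟨j, hj, rfl⟩
  simp only [J1, List.mem_cons, List.not_mem_nil, or_false] at hj
  rcases hj with rfl | rfl | rfl | rfl | rfl
  · exact ⟨1, one_mem _, u1_4, mr1_4, e1_3_1⟩
  · exact ⟨1, one_mem _, u1_5, mr1_5, e1_3_2⟩
  · exact ⟨1, one_mem _, u1_2, mr1_2, e1_3_3⟩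
  · exact ⟨s 3, Subgroup.subset_closure ⟨3, by decide, rfl⟩, u1_3, mr1_3, e1_3_4⟩
  · exact ⟨s 4, Subgroup.subset_closure ⟨4, by decide, rfl⟩, u1_3, mr1_3, e1_3_5⟩
theorem c1_4 : P1 u1_4 := by
  refine ⟨mm1_4, ?_⟩
  rintro x ⟨j, hj, rfl⟩
  simp only [J1, List.mem_cons, List.not_mem_nil, or_false] at hj
  rcases hj with rfl | rfl | rfl | rfl | rfl
  · exact ⟨1, one_mem _, u1_3, mr1_3, e1_4_1⟩
  · exact ⟨1, one_mem _, u1_6, mr1_6, e1_4_2⟩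
  · exact ⟨s 1, Subgroup.subset_closure ⟨1, by decide, rfl⟩, u1_4, mr1_4, e1_4_3⟩
  · exact ⟨s 3, Subgroup.subset_closure ⟨3, by decide, rfl⟩, u1_4, mr1_4, e1_4_4⟩
  · exact ⟨s 4, Subgroup.subset_closure ⟨4, by decide, rfl⟩, u1_4, mr1_4, e1_4_5⟩
theorem c1_5 : P1 u1_5 := by
  refine ⟨mm1_5, ?_⟩
  rintro x ⟨j, hj, rfl⟩
  simp only [J1, List.mem_cons, List.not_mem_nil, or_false] at hj
  rcases hj with rfl | rfl | rfl | rfl | rfl
  · exact ⟨1, one_mem _, u1_6, mr1_6, e1_5_1⟩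
  · exact ⟨1, one_mem _, u1_3, mr1_3, e1_5_2⟩
  · exact ⟨s 2, Subgroup.subset_closure ⟨2, by decide, rfl⟩, u1_5, mr1_5, e1_5_3⟩
  · exact ⟨s 3, Subgroup.subset_closure ⟨3, by decide, rfl⟩, u1_5, mr1_5, e1_5_4⟩
  · exact ⟨s 4, Subgroup.subset_closure ⟨4, by decide, rfl⟩, u1_5, mr1_5, e1_5_5⟩
theorem c1_6 : P1 u1_6 := by
  refine ⟨mm1_6, ?_⟩
  rintro x ⟨j, hj, rfl⟩
  simp only [J1, List.mem_cons, List.not_mem_nil, or_false] at hj
  rcases hj with rfl | rfl | rfl | rfl | rfl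
  · exact ⟨1, one_mem _, u1_5, mr1_5, e1_6_1⟩
  · exact ⟨1, one_mem _, u1_4, mr1_4, e1_6_2⟩
  · exact ⟨1, one_mem _, u1_7, mr1_7, e1_6_3⟩
  · exact ⟨s 3, Subgroup.subset_closure ⟨3, by decide, rfl⟩, u1_6, mr1_6, e1_6_4⟩
  · exact ⟨s 4, Subgroup.subset_closure ⟨4, by decide, rfl⟩, u1_6, mr1_6, e1_6_5⟩
theorem c1_7 : P1 u1_7 := by
  refine ⟨mm1_7, ?_⟩
  rintro x ⟨j, hj, rfl⟩
  simp only [J1, List.mem_cons, List.not_mem_nil, or_false] at hj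
  rcases hj with rfl | rfl | rfl | rfl | rfl
  · exact ⟨s 2, Subgroup.subset_closure ⟨2, by decide, rfl⟩, u1_7, mr1_7, e1_7_1⟩
  · exact ⟨s 1, Subgroup.subset_closure ⟨1, by decide, rfl⟩, u1_7, mr1_7, e1_7_2⟩
  · exact ⟨1, one_mem _, u1_6, mr1_6, e1_7_3⟩
  · exact ⟨1, one_mem _, u1_8, mr1_8, e1_7_4⟩
  · exact ⟨s 4, Subgroup.subset_closure ⟨4, by decide, rfl⟩, u1_7, mr1_7, e1_7_5⟩
theorem c1_8 : P1 u1_8 := by
  refine ⟨mm1_8, ?_⟩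
  rintro x ⟨j, hj, rfl⟩
  simp only [J1, List.mem_cons, List.not_mem_nil, or_false] at hj
  rcases hj with rfl | rfl | rfl | rfl | rfl
  · exact ⟨s 2, Subgroup.subset_closure ⟨2, by decide, rfl⟩, u1_8, mr1_8, e1_8_1⟩
  · exact ⟨s 1, Subgroup.subset_closure ⟨1, by decide, rfl⟩, u1_8, mr1_8, e1_8_2⟩
  · exact ⟨s 3, Subgroup.subset_closure ⟨3, by decide, rfl⟩, u1_8, mr1_8, e1_8_3⟩
  · exact ⟨1, one_mem _, u1_7, mr1_7, e1_8_4⟩
  · exact ⟨1, one_mem _, u1_9, mr1_9, e1_8_5⟩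
theorem c1_9 : P1 u1_9 := by
  refine ⟨mm1_9, ?_⟩
  rintro x ⟨j, hj, rfl⟩
  simp only [J1, List.mem_cons, List.not_mem_nil, or_false] at hj
  rcases hj with rfl | rfl | rfl | rfl | rfl
  · exact ⟨s 2, Subgroup.subset_closure ⟨2, by decide, rfl⟩, u1_9, mr1_9, e1_9_1⟩
  · exact ⟨s 1, Subgroup.subset_closure ⟨1, by decide, rfl⟩, u1_9, mr1_9, e1_9_2⟩
  · exact ⟨s 3, Subgroup.subset_closure ⟨3, by decide, rfl⟩, u1_9, mr1_9, e1_9_3⟩
  · exact ⟨s 4, Subgroup.subset_closure ⟨4, by decide, rfl⟩, u1_9, mr1_9, e1_9_4⟩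
  · exact ⟨1, one_mem _, u1_8, mr1_8, e1_9_5⟩
def preps1 : List {u : W // P1 u} := [⟨u1_0, c1_0⟩, ⟨u1_1, c1_1⟩, ⟨u1_2, c1_2⟩, ⟨u1_3, c1_3⟩, ⟨u1_4, c1_4⟩, ⟨u1_5, c1_5⟩, ⟨u1_6, c1_6⟩, ⟨u1_7, c1_7⟩, ⟨u1_8, c1_8⟩, ⟨u1_9, c1_9⟩]
theorem preps1_map : preps1.map Subtype.val = reps1 := rfl
theorem allP1 : ∀ u ∈ reps1, P1 u := by
  intro u hu
  rw [← preps1_map, List.mem_map] at hu
  obtain ⟨x, _, rfl⟩ := hu
  exact x.2
def vecs1 : List (Fin 6 → ℤ) := [![0, 0, 0, 0, 0, 1], ![0, 0, 0, 0, 1, -1], ![0, 0, 0, 1, -1, 0], ![0, 1, 1, -1, 0, 0], ![0, -1, 1, 0, 0, 0], ![1, 1, -1, 0, 0, 0], ![1, -1, -1, 1, 0, 0], ![1, 0, 0, -1, 1, 0], ![1, 0, 0, 0, -1, 1], ![1, 0, 0, 0, 0, -1]]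
theorem map1 : reps1.map fv1 = vecs1 := by
  simp only [reps1, List.map_cons, List.map_nil, v1_0, v1_1, v1_2, v1_3, v1_4, v1_5, v1_6, v1_7, v1_8, v1_9]
  rfl
theorem nd1 : (reps1.map fv1).Nodup := by rw [map1]; decide +kernel
theorem fix1 : ∀ h ∈ gens M J2, ∀ w, fv1 (h * w) = fv1 w := by
  rintro h ⟨j, hj, rfl⟩ w
  simp only [J2, List.mem_cons, List.not_mem_nil, or_false] at hj
  rcases hj with rfl | rfl | rfl | rfl
  all_goals exact fvec_fix M A hA base1 _ (by decide +kernel) w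
theorem sub1 : gens M J2 ⊆ gens M J1 := gens_mono M (by decide)
theorem card1 : Nat.card (Subgroup.closure (gens M J1)) = Nat.card (Subgroup.closure (gens M J2)) * 10 :=
  level_card (gens M J1) (gens M J2) sub1 (gens_inv M J1) reps1 mr1_0 (fun u hu => (allP1 u hu).1) (fun u hu => (allP1 u hu).2) fv1 fix1 nd1
theorem ker1 : ∀ w ∈ Subgroup.closure (gens M J1), fv1 w = fv1 1 → w ∈ Subgroup.closure (gens M J2) :=
  level_ker (gens M J1) (gens M J2) (gens_inv M J1) reps1 mr1_0 (fun u hu => (allP1 u hu).2) fv1 fix1 nd1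

-- level 2: index 8
def base2 : Fin 6 → ℤ := ![0, 0, 0, 0, 1, 0]
def fv2 : W → (Fin 6 → ℤ) := fvec M A hA base2
def u2_0 : W := 1
def u2_1 : W := u2_0 * s 4
def u2_2 : W := u2_1 * s 3
def u2_3 : W := u2_2 * s 1
def u2_4 : W := u2_2 * s 2
def u2_5 : W := u2_3 * s 2
def u2_6 : W := u2_5 * s 3
def u2_7 : W := u2_6 * s 4
def reps2 : List W := [u2_0, u2_1, u2_2, u2_3, u2_4, u2_5, u2_6, u2_7]
theorem v2_0 : fv2 u2_0 = ![0, 0, 0, 0, 1, 0] := fvec_one M A hA base2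
theorem v2_1 : fv2 u2_1 = ![0, 0, 0, 1, -1, 1] := by
  show fvec M A hA base2 (u2_0 * M.simple 4) = _
  rw [fvec_mul_simple]; show reflVec A 4 (fv2 u2_0) = _; rw [v2_0]; decide +kernel
theorem v2_2 : fv2 u2_2 = ![0, 1, 1, -1, 0, 1] := by
  show fvec M A hA base2 (u2_1 * M.simple 3) = _
  rw [fvec_mul_simple]; show reflVec A 3 (fv2 u2_1) = _; rw [v2_1]; decide +kernel
theorem v2_3 : fv2 u2_3 = ![0, -1, 1, 0, 0, 1] := by
  show fvec M A hA base2 (u2_2 * M.simple 1) = _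
  rw [fvec_mul_simple]; show reflVec A 1 (fv2 u2_2) = _; rw [v2_2]; decide +kernel
theorem v2_4 : fv2 u2_4 = ![1, 1, -1, 0, 0, 1] := by
  show fvec M A hA base2 (u2_2 * M.simple 2) = _
  rw [fvec_mul_simple]; show reflVec A 2 (fv2 u2_2) = _; rw [v2_2]; decide +kernel
theorem v2_5 : fv2 u2_5 = ![1, -1, -1, 1, 0, 1] := by
  show fvec M A hA base2 (u2_3 * M.simple 2) = _
  rw [fvec_mul_simple]; show reflVec A 2 (fv2 u2_3) = _; rw [v2_3]; decide +kernel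
theorem v2_6 : fv2 u2_6 = ![1, 0, 0, -1, 1, 1] := by
  show fvec M A hA base2 (u2_5 * M.simple 3) = _
  rw [fvec_mul_simple]; show reflVec A 3 (fv2 u2_5) = _; rw [v2_5]; decide +kernel
theorem v2_7 : fv2 u2_7 = ![1, 0, 0, 0, -1, 2] := by
  show fvec M A hA base2 (u2_6 * M.simple 4) = _
  rw [fvec_mul_simple]; show reflVec A 4 (fv2 u2_6) = _; rw [v2_6]; decide +kernel
theorem e2_0_4 : u2_0 * s 4 = 1 * u2_1 := (one_mul (u2_0 * s 4)).symm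
theorem e2_1_4 : u2_1 * s 4 = 1 * u2_0 := tree_up (s_sq 4)
theorem e2_1_3 : u2_1 * s 3 = 1 * u2_2 := (one_mul (u2_1 * s 3)).symm
theorem e2_2_3 : u2_2 * s 3 = 1 * u2_1 := tree_up (s_sq 3)
theorem e2_2_1 : u2_2 * s 1 = 1 * u2_3 := (one_mul (u2_2 * s 1)).symm
theorem e2_3_1 : u2_3 * s 1 = 1 * u2_2 := tree_up (s_sq 1)
theorem e2_2_2 : u2_2 * s 2 = 1 * u2_4 := (one_mul (u2_2 * s 2)).symm
theorem e2_4_2 : u2_4 * s 2 = 1 * u2_2 := tree_up (s_sq 2)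
theorem e2_3_2 : u2_3 * s 2 = 1 * u2_5 := (one_mul (u2_3 * s 2)).symm
theorem e2_5_2 : u2_5 * s 2 = 1 * u2_3 := tree_up (s_sq 2)
theorem e2_5_3 : u2_5 * s 3 = 1 * u2_6 := (one_mul (u2_5 * s 3)).symm
theorem e2_6_3 : u2_6 * s 3 = 1 * u2_5 := tree_up (s_sq 3)
theorem e2_6_4 : u2_6 * s 4 = 1 * u2_7 := (one_mul (u2_6 * s 4)).symm
theorem e2_7_4 : u2_7 * s 4 = 1 * u2_6 := tree_up (s_sq 4)
theorem e2_0_1 : u2_0 * s 1 = s 1 * u2_0 := (one_mul (s 1)).trans (mul_one (s 1)).symm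
theorem e2_0_2 : u2_0 * s 2 = s 2 * u2_0 := (one_mul (s 2)).trans (mul_one (s 2)).symm
theorem e2_0_3 : u2_0 * s 3 = s 3 * u2_0 := (one_mul (s 3)).trans (mul_one (s 3)).symm
theorem e2_1_1 : u2_1 * s 1 = s 1 * u2_1 := by
  simpa only [one_mul, mul_one] using ded2 r_1_4 e2_1_4 e2_0_1 e2_0_4
theorem e2_1_2 : u2_1 * s 2 = s 2 * u2_1 := by
  simpa only [one_mul, mul_one] using ded2 r_2_4 e2_1_4 e2_0_2 e2_0_4
theorem e2_2_4 : u2_2 * s 4 = s 3 * u2_2 := by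
  simpa only [one_mul, mul_one] using ded3 r_4_3 e2_2_3 e2_1_4 e2_0_3 e2_0_4 e2_1_3
theorem e2_3_3 : u2_3 * s 3 = s 1 * u2_3 := by
  simpa only [one_mul, mul_one] using ded3 r_3_1 e2_3_1 e2_2_3 e2_1_1 e2_1_3 e2_2_1
theorem e2_4_3 : u2_4 * s 3 = s 2 * u2_4 := by
  simpa only [one_mul, mul_one] using ded3 r_3_2 e2_4_2 e2_2_3 e2_1_2 e2_1_3 e2_2_2
theorem e2_5_1 : u2_5 * s 1 = 1 * u2_4 := by
  simpa only [one_mul, mul_one] using ded2 r_1_2 e2_5_2 e2_3_1 e2_2_2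
theorem e2_4_1 : u2_4 * s 1 = 1 * u2_5 := rev_edge (s_sq 1) e2_5_1
theorem e2_3_4 : u2_3 * s 4 = s 3 * u2_3 := by
  simpa only [one_mul, mul_one] using ded2 r_4_1 e2_3_1 e2_2_4 e2_2_1
theorem e2_4_4 : u2_4 * s 4 = s 3 * u2_4 := by
  simpa only [one_mul, mul_one] using ded2 r_4_2 e2_4_2 e2_2_4 e2_2_2
theorem e2_6_2 : u2_6 * s 2 = s 1 * u2_6 := by
  simpa only [one_mul, mul_one] using ded3 r_2_3 e2_6_3 e2_5_2 e2_3_3 e2_3_2 e2_5_3
theorem e2_5_4 : u2_5 * s 4 = s 3 * u2_5 := by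
  simpa only [one_mul, mul_one] using ded2 r_4_2 e2_5_2 e2_3_4 e2_3_2
theorem e2_6_1 : u2_6 * s 1 = s 2 * u2_6 := by
  simpa only [one_mul, mul_one] using ded3 r_1_3 e2_6_3 e2_5_1 e2_4_3 e2_4_1 e2_5_3
theorem e2_7_3 : u2_7 * s 3 = s 3 * u2_7 := by
  simpa only [one_mul, mul_one] using ded3 r_3_4 e2_7_4 e2_6_3 e2_5_4 e2_5_3 e2_6_4
theorem e2_7_1 : u2_7 * s 1 = s 2 * u2_7 := by
  simpa only [one_mul, mul_one] using ded2 r_1_4 e2_7_4 e2_6_1 e2_6_4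
theorem e2_7_2 : u2_7 * s 2 = s 1 * u2_7 := by
  simpa only [one_mul, mul_one] using ded2 r_2_4 e2_7_4 e2_6_2 e2_6_4
def P2 (u : W) : Prop := u ∈ Subgroup.closure (gens M J2) ∧ ∀ x ∈ gens M J2, ∃ h ∈ Subgroup.closure (gens M J3), ∃ u' ∈ reps2, u * x = h * u'
theorem mr2_0 : u2_0 ∈ reps2 := List.getElem_mem (l := reps2) (n := 0) (by decide)
theorem mr2_1 : u2_1 ∈ reps2 := List.getElem_mem (l := reps2) (n := 1) (by decide)
theorem mr2_2 : u2_2 ∈ reps2 := List.getElem_mem (l := reps2) (n := 2) (by decide)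
theorem mr2_3 : u2_3 ∈ reps2 := List.getElem_mem (l := reps2) (n := 3) (by decide)
theorem mr2_4 : u2_4 ∈ reps2 := List.getElem_mem (l := reps2) (n := 4) (by decide)
theorem mr2_5 : u2_5 ∈ reps2 := List.getElem_mem (l := reps2) (n := 5) (by decide)
theorem mr2_6 : u2_6 ∈ reps2 := List.getElem_mem (l := reps2) (n := 6) (by decide)
theorem mr2_7 : u2_7 ∈ reps2 := List.getElem_mem (l := reps2) (n := 7) (by decide)
theorem mm2_0 : u2_0 ∈ Subgroup.closure (gens M J2) := one_mem _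
theorem mm2_1 : u2_1 ∈ Subgroup.closure (gens M J2) := mul_mem mm2_0 (Subgroup.subset_closure ⟨4, by decide, rfl⟩)
theorem mm2_2 : u2_2 ∈ Subgroup.closure (gens M J2) := mul_mem mm2_1 (Subgroup.subset_closure ⟨3, by decide, rfl⟩)
theorem mm2_3 : u2_3 ∈ Subgroup.closure (gens M J2) := mul_mem mm2_2 (Subgroup.subset_closure ⟨1, by decide, rfl⟩)
theorem mm2_4 : u2_4 ∈ Subgroup.closure (gens M J2) := mul_mem mm2_2 (Subgroup.subset_closure ⟨2, by decide, rfl⟩)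
theorem mm2_5 : u2_5 ∈ Subgroup.closure (gens M J2) := mul_mem mm2_3 (Subgroup.subset_closure ⟨2, by decide, rfl⟩)
theorem mm2_6 : u2_6 ∈ Subgroup.closure (gens M J2) := mul_mem mm2_5 (Subgroup.subset_closure ⟨3, by decide, rfl⟩)
theorem mm2_7 : u2_7 ∈ Subgroup.closure (gens M J2) := mul_mem mm2_6 (Subgroup.subset_closure ⟨4, by decide, rfl⟩)
theorem c2_0 : P2 u2_0 := by
  refine ⟨mm2_0, ?_⟩
  rintro x ⟨j, hj, rfl⟩
  simp only [J2, List.mem_cons, List.not_mem_nil, or_false] at hj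
  rcases hj with rfl | rfl | rfl | rfl
  · exact ⟨s 1, Subgroup.subset_closure ⟨1, by decide, rfl⟩, u2_0, mr2_0, e2_0_1⟩
  · exact ⟨s 2, Subgroup.subset_closure ⟨2, by decide, rfl⟩, u2_0, mr2_0, e2_0_2⟩
  · exact ⟨s 3, Subgroup.subset_closure ⟨3, by decide, rfl⟩, u2_0, mr2_0, e2_0_3⟩
  · exact ⟨1, one_mem _, u2_1, mr2_1, e2_0_4⟩
theorem c2_1 : P2 u2_1 := by
  refine ⟨mm2_1, ?_⟩
  rintro x ⟨j, hj, rfl⟩
  simp only [J2, List.mem_cons, List.not_mem_nil, or_false] at hj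
  rcases hj with rfl | rfl | rfl | rfl
  · exact ⟨s 1, Subgroup.subset_closure ⟨1, by decide, rfl⟩, u2_1, mr2_1, e2_1_1⟩
  · exact ⟨s 2, Subgroup.subset_closure ⟨2, by decide, rfl⟩, u2_1, mr2_1, e2_1_2⟩
  · exact ⟨1, one_mem _, u2_2, mr2_2, e2_1_3⟩
  · exact ⟨1, one_mem _, u2_0, mr2_0, e2_1_4⟩
theorem c2_2 : P2 u2_2 := by
  refine ⟨mm2_2, ?_⟩
  rintro x ⟨j, hj, rfl⟩
  simp only [J2, List.mem_cons, List.not_mem_nil, or_false] at hj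
  rcases hj with rfl | rfl | rfl | rfl
  · exact ⟨1, one_mem _, u2_3, mr2_3, e2_2_1⟩
  · exact ⟨1, one_mem _, u2_4, mr2_4, e2_2_2⟩
  · exact ⟨1, one_mem _, u2_1, mr2_1, e2_2_3⟩
  · exact ⟨s 3, Subgroup.subset_closure ⟨3, by decide, rfl⟩, u2_2, mr2_2, e2_2_4⟩
theorem c2_3 : P2 u2_3 := by
  refine ⟨mm2_3, ?_⟩
  rintro x ⟨j, hj, rfl⟩
  simp only [J2, List.mem_cons, List.not_mem_nil, or_false] at hj
  rcases hj with rfl | rfl | rfl | rfl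
  · exact ⟨1, one_mem _, u2_2, mr2_2, e2_3_1⟩
  · exact ⟨1, one_mem _, u2_5, mr2_5, e2_3_2⟩
  · exact ⟨s 1, Subgroup.subset_closure ⟨1, by decide, rfl⟩, u2_3, mr2_3, e2_3_3⟩
  · exact ⟨s 3, Subgroup.subset_closure ⟨3, by decide, rfl⟩, u2_3, mr2_3, e2_3_4⟩
theorem c2_4 : P2 u2_4 := by
  refine ⟨mm2_4, ?_⟩
  rintro x ⟨j, hj, rfl⟩
  simp only [J2, List.mem_cons, List.not_mem_nil, or_false] at hj
  rcases hj with rfl | rfl | rfl | rfl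
  · exact ⟨1, one_mem _, u2_5, mr2_5, e2_4_1⟩
  · exact ⟨1, one_mem _, u2_2, mr2_2, e2_4_2⟩
  · exact ⟨s 2, Subgroup.subset_closure ⟨2, by decide, rfl⟩, u2_4, mr2_4, e2_4_3⟩
  · exact ⟨s 3, Subgroup.subset_closure ⟨3, by decide, rfl⟩, u2_4, mr2_4, e2_4_4⟩
theorem c2_5 : P2 u2_5 := by
  refine ⟨mm2_5, ?_⟩
  rintro x ⟨j, hj, rfl⟩
  simp only [J2, List.mem_cons, List.not_mem_nil, or_false] at hj
  rcases hj with rfl | rfl | rfl | rfl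
  · exact ⟨1, one_mem _, u2_4, mr2_4, e2_5_1⟩
  · exact ⟨1, one_mem _, u2_3, mr2_3, e2_5_2⟩
  · exact ⟨1, one_mem _, u2_6, mr2_6, e2_5_3⟩
  · exact ⟨s 3, Subgroup.subset_closure ⟨3, by decide, rfl⟩, u2_5, mr2_5, e2_5_4⟩
theorem c2_6 : P2 u2_6 := by
  refine ⟨mm2_6, ?_⟩
  rintro x ⟨j, hj, rfl⟩
  simp only [J2, List.mem_cons, List.not_mem_nil, or_false] at hj
  rcases hj with rfl | rfl | rfl | rfl
  · exact ⟨s 2, Subgroup.subset_closure ⟨2, by decide, rfl⟩, u2_6, mr2_6, e2_6_1⟩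
  · exact ⟨s 1, Subgroup.subset_closure ⟨1, by decide, rfl⟩, u2_6, mr2_6, e2_6_2⟩
  · exact ⟨1, one_mem _, u2_5, mr2_5, e2_6_3⟩
  · exact ⟨1, one_mem _, u2_7, mr2_7, e2_6_4⟩
theorem c2_7 : P2 u2_7 := by
  refine ⟨mm2_7, ?_⟩
  rintro x ⟨j, hj, rfl⟩
  simp only [J2, List.mem_cons, List.not_mem_nil, or_false] at hj
  rcases hj with rfl | rfl | rfl | rfl
  · exact ⟨s 2, Subgroup.subset_closure ⟨2, by decide, rfl⟩, u2_7, mr2_7, e2_7_1⟩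
  · exact ⟨s 1, Subgroup.subset_closure ⟨1, by decide, rfl⟩, u2_7, mr2_7, e2_7_2⟩
  · exact ⟨s 3, Subgroup.subset_closure ⟨3, by decide, rfl⟩, u2_7, mr2_7, e2_7_3⟩
  · exact ⟨1, one_mem _, u2_6, mr2_6, e2_7_4⟩
def preps2 : List {u : W // P2 u} := [⟨u2_0, c2_0⟩, ⟨u2_1, c2_1⟩, ⟨u2_2, c2_2⟩, ⟨u2_3, c2_3⟩, ⟨u2_4, c2_4⟩, ⟨u2_5, c2_5⟩, ⟨u2_6, c2_6⟩, ⟨u2_7, c2_7⟩]
theorem preps2_map : preps2.map Subtype.val = reps2 := rfl
theorem allP2 : ∀ u ∈ reps2, P2 u := by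
  intro u hu
  rw [← preps2_map, List.mem_map] at hu
  obtain ⟨x, _, rfl⟩ := hu
  exact x.2
def vecs2 : List (Fin 6 → ℤ) := [![0, 0, 0, 0, 1, 0], ![0, 0, 0, 1, -1, 1], ![0, 1, 1, -1, 0, 1], ![0, -1, 1, 0, 0, 1], ![1, 1, -1, 0, 0, 1], ![1, -1, -1, 1, 0, 1], ![1, 0, 0, -1, 1, 1], ![1, 0, 0, 0, -1, 2]]
theorem map2 : reps2.map fv2 = vecs2 := by
  simp only [reps2, List.map_cons, List.map_nil, v2_0, v2_1, v2_2, v2_3, v2_4, v2_5, v2_6, v2_7]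
  rfl
theorem nd2 : (reps2.map fv2).Nodup := by rw [map2]; decide +kernel
theorem fix2 : ∀ h ∈ gens M J3, ∀ w, fv2 (h * w) = fv2 w := by
  rintro h ⟨j, hj, rfl⟩ w
  simp only [J3, List.mem_cons, List.not_mem_nil, or_false] at hj
  rcases hj with rfl | rfl | rfl
  all_goals exact fvec_fix M A hA base2 _ (by decide +kernel) w
theorem sub2 : gens M J3 ⊆ gens M J2 := gens_mono M (by decide)
theorem card2 : Nat.card (Subgroup.closure (gens M J2)) = Nat.card (Subgroup.closure (gens M J3)) * 8 :=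
  level_card (gens M J2) (gens M J3) sub2 (gens_inv M J2) reps2 mr2_0 (fun u hu => (allP2 u hu).1) (fun u hu => (allP2 u hu).2) fv2 fix2 nd2
theorem ker2 : ∀ w ∈ Subgroup.closure (gens M J2), fv2 w = fv2 1 → w ∈ Subgroup.closure (gens M J3) :=
  level_ker (gens M J2) (gens M J3) (gens_inv M J2) reps2 mr2_0 (fun u hu => (allP2 u hu).2) fv2 fix2 nd2

-- level 3: index 6
def base3 : Fin 6 → ℤ := ![0, 0, 0, 1, 0, 0]
def fv3 : W → (Fin 6 → ℤ) := fvec M A hA base3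
def u3_0 : W := 1
def u3_1 : W := u3_0 * s 3
def u3_2 : W := u3_1 * s 1
def u3_3 : W := u3_1 * s 2
def u3_4 : W := u3_2 * s 2
def u3_5 : W := u3_4 * s 3
def reps3 : List W := [u3_0, u3_1, u3_2, u3_3, u3_4, u3_5]
theorem v3_0 : fv3 u3_0 = ![0, 0, 0, 1, 0, 0] := fvec_one M A hA base3
theorem v3_1 : fv3 u3_1 = ![0, 1, 1, -1, 1, 0] := by
  show fvec M A hA base3 (u3_0 * M.simple 3) = _
  rw [fvec_mul_simple]; show reflVec A 3 (fv3 u3_0) = _; rw [v3_0]; decide +kernel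
theorem v3_2 : fv3 u3_2 = ![0, -1, 1, 0, 1, 0] := by
  show fvec M A hA base3 (u3_1 * M.simple 1) = _
  rw [fvec_mul_simple]; show reflVec A 1 (fv3 u3_1) = _; rw [v3_1]; decide +kernel
theorem v3_3 : fv3 u3_3 = ![1, 1, -1, 0, 1, 0] := by
  show fvec M A hA base3 (u3_1 * M.simple 2) = _
  rw [fvec_mul_simple]; show reflVec A 2 (fv3 u3_1) = _; rw [v3_1]; decide +kernel
theorem v3_4 : fv3 u3_4 = ![1, -1, -1, 1, 1, 0] := by
  show fvec M A hA base3 (u3_2 * M.simple 2) = _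
  rw [fvec_mul_simple]; show reflVec A 2 (fv3 u3_2) = _; rw [v3_2]; decide +kernel
theorem v3_5 : fv3 u3_5 = ![1, 0, 0, -1, 2, 0] := by
  show fvec M A hA base3 (u3_4 * M.simple 3) = _
  rw [fvec_mul_simple]; show reflVec A 3 (fv3 u3_4) = _; rw [v3_4]; decide +kernel
theorem e3_0_3 : u3_0 * s 3 = 1 * u3_1 := (one_mul (u3_0 * s 3)).symm
theorem e3_1_3 : u3_1 * s 3 = 1 * u3_0 := tree_up (s_sq 3)
theorem e3_1_1 : u3_1 * s 1 = 1 * u3_2 := (one_mul (u3_1 * s 1)).symm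
theorem e3_2_1 : u3_2 * s 1 = 1 * u3_1 := tree_up (s_sq 1)
theorem e3_1_2 : u3_1 * s 2 = 1 * u3_3 := (one_mul (u3_1 * s 2)).symm
theorem e3_3_2 : u3_3 * s 2 = 1 * u3_1 := tree_up (s_sq 2)
theorem e3_2_2 : u3_2 * s 2 = 1 * u3_4 := (one_mul (u3_2 * s 2)).symm
theorem e3_4_2 : u3_4 * s 2 = 1 * u3_2 := tree_up (s_sq 2)
theorem e3_4_3 : u3_4 * s 3 = 1 * u3_5 := (one_mul (u3_4 * s 3)).symm
theorem e3_5_3 : u3_5 * s 3 = 1 * u3_4 := tree_up (s_sq 3)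
theorem e3_0_1 : u3_0 * s 1 = s 1 * u3_0 := (one_mul (s 1)).trans (mul_one (s 1)).symm
theorem e3_0_2 : u3_0 * s 2 = s 2 * u3_0 := (one_mul (s 2)).trans (mul_one (s 2)).symm
theorem e3_2_3 : u3_2 * s 3 = s 1 * u3_2 := by
  simpa only [one_mul, mul_one] using ded3 r_3_1 e3_2_1 e3_1_3 e3_0_1 e3_0_3 e3_1_1
theorem e3_3_3 : u3_3 * s 3 = s 2 * u3_3 := by
  simpa only [one_mul, mul_one] using ded3 r_3_2 e3_3_2 e3_1_3 e3_0_2 e3_0_3 e3_1_2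
theorem e3_4_1 : u3_4 * s 1 = 1 * u3_3 := by
  simpa only [one_mul, mul_one] using ded2 r_1_2 e3_4_2 e3_2_1 e3_1_2
theorem e3_3_1 : u3_3 * s 1 = 1 * u3_4 := rev_edge (s_sq 1) e3_4_1
theorem e3_5_2 : u3_5 * s 2 = s 1 * u3_5 := by
  simpa only [one_mul, mul_one] using ded3 r_2_3 e3_5_3 e3_4_2 e3_2_3 e3_2_2 e3_4_3
theorem e3_5_1 : u3_5 * s 1 = s 2 * u3_5 := by
  simpa only [one_mul, mul_one] using ded3 r_1_3 e3_5_3 e3_4_1 e3_3_3 e3_3_1 e3_4_3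
def P3 (u : W) : Prop := u ∈ Subgroup.closure (gens M J3) ∧ ∀ x ∈ gens M J3, ∃ h ∈ Subgroup.closure (gens M J4), ∃ u' ∈ reps3, u * x = h * u'
theorem mr3_0 : u3_0 ∈ reps3 := List.getElem_mem (l := reps3) (n := 0) (by decide)
theorem mr3_1 : u3_1 ∈ reps3 := List.getElem_mem (l := reps3) (n := 1) (by decide)
theorem mr3_2 : u3_2 ∈ reps3 := List.getElem_mem (l := reps3) (n := 2) (by decide)
theorem mr3_3 : u3_3 ∈ reps3 := List.getElem_mem (l := reps3) (n := 3) (by decide)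
theorem mr3_4 : u3_4 ∈ reps3 := List.getElem_mem (l := reps3) (n := 4) (by decide)
theorem mr3_5 : u3_5 ∈ reps3 := List.getElem_mem (l := reps3) (n := 5) (by decide)
theorem mm3_0 : u3_0 ∈ Subgroup.closure (gens M J3) := one_mem _
theorem mm3_1 : u3_1 ∈ Subgroup.closure (gens M J3) := mul_mem mm3_0 (Subgroup.subset_closure ⟨3, by decide, rfl⟩)
theorem mm3_2 : u3_2 ∈ Subgroup.closure (gens M J3) := mul_mem mm3_1 (Subgroup.subset_closure ⟨1, by decide, rfl⟩)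
theorem mm3_3 : u3_3 ∈ Subgroup.closure (gens M J3) := mul_mem mm3_1 (Subgroup.subset_closure ⟨2, by decide, rfl⟩)
theorem mm3_4 : u3_4 ∈ Subgroup.closure (gens M J3) := mul_mem mm3_2 (Subgroup.subset_closure ⟨2, by decide, rfl⟩)
theorem mm3_5 : u3_5 ∈ Subgroup.closure (gens M J3) := mul_mem mm3_4 (Subgroup.subset_closure ⟨3, by decide, rfl⟩)
theorem c3_0 : P3 u3_0 := by
  refine ⟨mm3_0, ?_⟩
  rintro x ⟨j, hj, rfl⟩
  simp only [J3, List.mem_cons, List.not_mem_nil, or_false] at hj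
  rcases hj with rfl | rfl | rfl
  · exact ⟨s 1, Subgroup.subset_closure ⟨1, by decide, rfl⟩, u3_0, mr3_0, e3_0_1⟩
  · exact ⟨s 2, Subgroup.subset_closure ⟨2, by decide, rfl⟩, u3_0, mr3_0, e3_0_2⟩
  · exact ⟨1, one_mem _, u3_1, mr3_1, e3_0_3⟩
theorem c3_1 : P3 u3_1 := by
  refine ⟨mm3_1, ?_⟩
  rintro x ⟨j, hj, rfl⟩
  simp only [J3, List.mem_cons, List.not_mem_nil, or_false] at hj
  rcases hj with rfl | rfl | rfl
  · exact ⟨1, one_mem _, u3_2, mr3_2, e3_1_1⟩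
  · exact ⟨1, one_mem _, u3_3, mr3_3, e3_1_2⟩
  · exact ⟨1, one_mem _, u3_0, mr3_0, e3_1_3⟩
theorem c3_2 : P3 u3_2 := by
  refine ⟨mm3_2, ?_⟩
  rintro x ⟨j, hj, rfl⟩
  simp only [J3, List.mem_cons, List.not_mem_nil, or_false] at hj
  rcases hj with rfl | rfl | rfl
  · exact ⟨1, one_mem _, u3_1, mr3_1, e3_2_1⟩
  · exact ⟨1, one_mem _, u3_4, mr3_4, e3_2_2⟩
  · exact ⟨s 1, Subgroup.subset_closure ⟨1, by decide, rfl⟩, u3_2, mr3_2, e3_2_3⟩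
theorem c3_3 : P3 u3_3 := by
  refine ⟨mm3_3, ?_⟩
  rintro x ⟨j, hj, rfl⟩
  simp only [J3, List.mem_cons, List.not_mem_nil, or_false] at hj
  rcases hj with rfl | rfl | rfl
  · exact ⟨1, one_mem _, u3_4, mr3_4, e3_3_1⟩
  · exact ⟨1, one_mem _, u3_1, mr3_1, e3_3_2⟩
  · exact ⟨s 2, Subgroup.subset_closure ⟨2, by decide, rfl⟩, u3_3, mr3_3, e3_3_3⟩
theorem c3_4 : P3 u3_4 := by
  refine ⟨mm3_4, ?_⟩
  rintro x ⟨j, hj, rfl⟩
  simp only [J3, List.mem_cons, List.not_mem_nil, or_false] at hj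
  rcases hj with rfl | rfl | rfl
  · exact ⟨1, one_mem _, u3_3, mr3_3, e3_4_1⟩
  · exact ⟨1, one_mem _, u3_2, mr3_2, e3_4_2⟩
  · exact ⟨1, one_mem _, u3_5, mr3_5, e3_4_3⟩
theorem c3_5 : P3 u3_5 := by
  refine ⟨mm3_5, ?_⟩
  rintro x ⟨j, hj, rfl⟩
  simp only [J3, List.mem_cons, List.not_mem_nil, or_false] at hj
  rcases hj with rfl | rfl | rfl
  · exact ⟨s 2, Subgroup.subset_closure ⟨2, by decide, rfl⟩, u3_5, mr3_5, e3_5_1⟩
  · exact ⟨s 1, Subgroup.subset_closure ⟨1, by decide, rfl⟩, u3_5, mr3_5, e3_5_2⟩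
  · exact ⟨1, one_mem _, u3_4, mr3_4, e3_5_3⟩
def preps3 : List {u : W // P3 u} := [⟨u3_0, c3_0⟩, ⟨u3_1, c3_1⟩, ⟨u3_2, c3_2⟩, ⟨u3_3, c3_3⟩, ⟨u3_4, c3_4⟩, ⟨u3_5, c3_5⟩]
theorem preps3_map : preps3.map Subtype.val = reps3 := rfl
theorem allP3 : ∀ u ∈ reps3, P3 u := by
  intro u hu
  rw [← preps3_map, List.mem_map] at hu
  obtain ⟨x, _, rfl⟩ := hu
  exact x.2
def vecs3 : List (Fin 6 → ℤ) := [![0, 0, 0, 1, 0, 0], ![0, 1, 1, -1, 1, 0], ![0, -1, 1, 0, 1, 0], ![1, 1, -1, 0, 1, 0], ![1, -1, -1, 1, 1, 0], ![1, 0, 0, -1, 2, 0]]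
theorem map3 : reps3.map fv3 = vecs3 := by
  simp only [reps3, List.map_cons, List.map_nil, v3_0, v3_1, v3_2, v3_3, v3_4, v3_5]
  rfl
theorem nd3 : (reps3.map fv3).Nodup := by rw [map3]; decide +kernel
theorem fix3 : ∀ h ∈ gens M J4, ∀ w, fv3 (h * w) = fv3 w := by
  rintro h ⟨j, hj, rfl⟩ w
  simp only [J4, List.mem_cons, List.not_mem_nil, or_false] at hj
  rcases hj with rfl | rfl
  all_goals exact fvec_fix M A hA base3 _ (by decide +kernel) w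
theorem sub3 : gens M J4 ⊆ gens M J3 := gens_mono M (by decide)
theorem card3 : Nat.card (Subgroup.closure (gens M J3)) = Nat.card (Subgroup.closure (gens M J4)) * 6 :=
  level_card (gens M J3) (gens M J4) sub3 (gens_inv M J3) reps3 mr3_0 (fun u hu => (allP3 u hu).1) (fun u hu => (allP3 u hu).2) fv3 fix3 nd3
theorem ker3 : ∀ w ∈ Subgroup.closure (gens M J3), fv3 w = fv3 1 → w ∈ Subgroup.closure (gens M J4) :=
  level_ker (gens M J3) (gens M J4) (gens_inv M J3) reps3 mr3_0 (fun u hu => (allP3 u hu).2) fv3 fix3 nd3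

-- level 4: index 2
def base4 : Fin 6 → ℤ := ![0, 0, 1, 0, 0, 0]
def fv4 : W → (Fin 6 → ℤ) := fvec M A hA base4
def u4_0 : W := 1
def u4_1 : W := u4_0 * s 2
def reps4 : List W := [u4_0, u4_1]
theorem v4_0 : fv4 u4_0 = ![0, 0, 1, 0, 0, 0] := fvec_one M A hA base4
theorem v4_1 : fv4 u4_1 = ![1, 0, -1, 1, 0, 0] := by
  show fvec M A hA base4 (u4_0 * M.simple 2) = _
  rw [fvec_mul_simple]; show reflVec A 2 (fv4 u4_0) = _; rw [v4_0]; decide +kernel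
theorem e4_0_2 : u4_0 * s 2 = 1 * u4_1 := (one_mul (u4_0 * s 2)).symm
theorem e4_1_2 : u4_1 * s 2 = 1 * u4_0 := tree_up (s_sq 2)
theorem e4_0_1 : u4_0 * s 1 = s 1 * u4_0 := (one_mul (s 1)).trans (mul_one (s 1)).symm
theorem e4_1_1 : u4_1 * s 1 = s 1 * u4_1 := by
  simpa only [one_mul, mul_one] using ded2 r_1_2 e4_1_2 e4_0_1 e4_0_2
def P4 (u : W) : Prop := u ∈ Subgroup.closure (gens M J4) ∧ ∀ x ∈ gens M J4, ∃ h ∈ Subgroup.closure (gens M J5), ∃ u' ∈ reps4, u * x = h * u'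
theorem mr4_0 : u4_0 ∈ reps4 := List.getElem_mem (l := reps4) (n := 0) (by decide)
theorem mr4_1 : u4_1 ∈ reps4 := List.getElem_mem (l := reps4) (n := 1) (by decide)
theorem mm4_0 : u4_0 ∈ Subgroup.closure (gens M J4) := one_mem _
theorem mm4_1 : u4_1 ∈ Subgroup.closure (gens M J4) := mul_mem mm4_0 (Subgroup.subset_closure ⟨2, by decide, rfl⟩)
theorem c4_0 : P4 u4_0 := by
  refine ⟨mm4_0, ?_⟩
  rintro x ⟨j, hj, rfl⟩
  simp only [J4, List.mem_cons, List.not_mem_nil, or_false] at hj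
  rcases hj with rfl | rfl
  · exact ⟨s 1, Subgroup.subset_closure ⟨1, by decide, rfl⟩, u4_0, mr4_0, e4_0_1⟩
  · exact ⟨1, one_mem _, u4_1, mr4_1, e4_0_2⟩
theorem c4_1 : P4 u4_1 := by
  refine ⟨mm4_1, ?_⟩
  rintro x ⟨j, hj, rfl⟩
  simp only [J4, List.mem_cons, List.not_mem_nil, or_false] at hj
  rcases hj with rfl | rfl
  · exact ⟨s 1, Subgroup.subset_closure ⟨1, by decide, rfl⟩, u4_1, mr4_1, e4_1_1⟩
  · exact ⟨1, one_mem _, u4_0, mr4_0, e4_1_2⟩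
def preps4 : List {u : W // P4 u} := [⟨u4_0, c4_0⟩, ⟨u4_1, c4_1⟩]
theorem preps4_map : preps4.map Subtype.val = reps4 := rfl
theorem allP4 : ∀ u ∈ reps4, P4 u := by
  intro u hu
  rw [← preps4_map, List.mem_map] at hu
  obtain ⟨x, _, rfl⟩ := hu
  exact x.2
def vecs4 : List (Fin 6 → ℤ) := [![0, 0, 1, 0, 0, 0], ![1, 0, -1, 1, 0, 0]]
theorem map4 : reps4.map fv4 = vecs4 := by
  simp only [reps4, List.map_cons, List.map_nil, v4_0, v4_1]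
  rfl
theorem nd4 : (reps4.map fv4).Nodup := by rw [map4]; decide +kernel
theorem fix4 : ∀ h ∈ gens M J5, ∀ w, fv4 (h * w) = fv4 w := by
  rintro h ⟨j, hj, rfl⟩ w
  simp only [J5, List.mem_cons, List.not_mem_nil, or_false] at hj
  subst hj
  all_goals exact fvec_fix M A hA base4 _ (by decide +kernel) w
theorem sub4 : gens M J5 ⊆ gens M J4 := gens_mono M (by decide)
theorem card4 : Nat.card (Subgroup.closure (gens M J4)) = Nat.card (Subgroup.closure (gens M J5)) * 2 :=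
  level_card (gens M J4) (gens M J5) sub4 (gens_inv M J4) reps4 mr4_0 (fun u hu => (allP4 u hu).1) (fun u hu => (allP4 u hu).2) fv4 fix4 nd4
theorem ker4 : ∀ w ∈ Subgroup.closure (gens M J4), fv4 w = fv4 1 → w ∈ Subgroup.closure (gens M J5) :=
  level_ker (gens M J4) (gens M J5) (gens_inv M J4) reps4 mr4_0 (fun u hu => (allP4 u hu).2) fv4 fix4 nd4

-- level 5: index 2
def base5 : Fin 6 → ℤ := ![0, 1, 0, 0, 0, 0]
def fv5 : W → (Fin 6 → ℤ) := fvec M A hA base5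
def u5_0 : W := 1
def u5_1 : W := u5_0 * s 1
def reps5 : List W := [u5_0, u5_1]
theorem v5_0 : fv5 u5_0 = ![0, 1, 0, 0, 0, 0] := fvec_one M A hA base5
theorem v5_1 : fv5 u5_1 = ![0, -1, 0, 1, 0, 0] := by
  show fvec M A hA base5 (u5_0 * M.simple 1) = _
  rw [fvec_mul_simple]; show reflVec A 1 (fv5 u5_0) = _; rw [v5_0]; decide +kernel
theorem e5_0_1 : u5_0 * s 1 = 1 * u5_1 := (one_mul (u5_0 * s 1)).symm
theorem e5_1_1 : u5_1 * s 1 = 1 * u5_0 := tree_up (s_sq 1)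
def P5 (u : W) : Prop := u ∈ Subgroup.closure (gens M J5) ∧ ∀ x ∈ gens M J5, ∃ h ∈ Subgroup.closure (gens M J6), ∃ u' ∈ reps5, u * x = h * u'
theorem mr5_0 : u5_0 ∈ reps5 := List.getElem_mem (l := reps5) (n := 0) (by decide)
theorem mr5_1 : u5_1 ∈ reps5 := List.getElem_mem (l := reps5) (n := 1) (by decide)
theorem mm5_0 : u5_0 ∈ Subgroup.closure (gens M J5) := one_mem _
theorem mm5_1 : u5_1 ∈ Subgroup.closure (gens M J5) := mul_mem mm5_0 (Subgroup.subset_closure ⟨1, by decide, rfl⟩)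
theorem c5_0 : P5 u5_0 := by
  refine ⟨mm5_0, ?_⟩
  rintro x ⟨j, hj, rfl⟩
  simp only [J5, List.mem_cons, List.not_mem_nil, or_false] at hj
  subst hj
  · exact ⟨1, one_mem _, u5_1, mr5_1, e5_0_1⟩
theorem c5_1 : P5 u5_1 := by
  refine ⟨mm5_1, ?_⟩
  rintro x ⟨j, hj, rfl⟩
  simp only [J5, List.mem_cons, List.not_mem_nil, or_false] at hj
  subst hj
  · exact ⟨1, one_mem _, u5_0, mr5_0, e5_1_1⟩
def preps5 : List {u : W // P5 u} := [⟨u5_0, c5_0⟩, ⟨u5_1, c5_1⟩]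
theorem preps5_map : preps5.map Subtype.val = reps5 := rfl
theorem allP5 : ∀ u ∈ reps5, P5 u := by
  intro u hu
  rw [← preps5_map, List.mem_map] at hu
  obtain ⟨x, _, rfl⟩ := hu
  exact x.2
def vecs5 : List (Fin 6 → ℤ) := [![0, 1, 0, 0, 0, 0], ![0, -1, 0, 1, 0, 0]]
theorem map5 : reps5.map fv5 = vecs5 := by
  simp only [reps5, List.map_cons, List.map_nil, v5_0, v5_1]
  rfl
theorem nd5 : (reps5.map fv5).Nodup := by rw [map5]; decide +kernel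
theorem fix5 : ∀ h ∈ gens M J6, ∀ w, fv5 (h * w) = fv5 w := by
  rintro h ⟨j, hj, rfl⟩ w
  simp [J6] at hj
theorem sub5 : gens M J6 ⊆ gens M J5 := gens_mono M (by decide)
theorem card5 : Nat.card (Subgroup.closure (gens M J5)) = Nat.card (Subgroup.closure (gens M J6)) * 2 :=
  level_card (gens M J5) (gens M J6) sub5 (gens_inv M J5) reps5 mr5_0 (fun u hu => (allP5 u hu).1) (fun u hu => (allP5 u hu).2) fv5 fix5 nd5
theorem ker5 : ∀ w ∈ Subgroup.closure (gens M J5), fv5 w = fv5 1 → w ∈ Subgroup.closure (gens M J6) :=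
  level_ker (gens M J5) (gens M J6) (gens_inv M J5) reps5 mr5_0 (fun u hu => (allP5 u hu).2) fv5 fix5 nd5

theorem card_eq : Nat.card W = 51840 := by
  have htop : Subgroup.closure (gens M J0) = ⊤ := closure_gens_all M J0 (by decide)
  have hbot : Nat.card (Subgroup.closure (gens M J6)) = 1 := by
    show Nat.card (Subgroup.closure (gens M ([] : List (Fin 6)))) = 1
    rw [closure_gens_nil]; exact Subgroup.card_bot
  rw [← Subgroup.card_top (G := W), ← htop, card0, card1, card2, card3, card4, card5, hbot]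
theorem rho_ker (w : W) (h : rho M A hA w = 1) : w = 1 := by
  have h0 : w ∈ Subgroup.closure (gens M J0) := by rw [closure_gens_all M J0 (by decide)]; trivial
  have h1 := ker0 w h0 (fvec_of_rho_eq_one M A hA base0 w h)
  have h2 := ker1 w h1 (fvec_of_rho_eq_one M A hA base1 w h)
  have h3 := ker2 w h2 (fvec_of_rho_eq_one M A hA base2 w h)
  have h4 := ker3 w h3 (fvec_of_rho_eq_one M A hA base3 w h)
  have h5 := ker4 w h4 (fvec_of_rho_eq_one M A hA base4 w h)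
  have h6 := ker5 w h5 (fvec_of_rho_eq_one M A hA base5 w h)
  have hb : Subgroup.closure (gens M J6) = ⊥ := closure_gens_nil M
  rw [hb] at h6
  exact Subgroup.mem_bot.mp h6

def cox : W := ((List.finRange 6).map M.simple).prod
def Cm0 : Matrix (Fin 6) (Fin 6) ℤ := 1
def Cm1 : Matrix (Fin 6) (Fin 6) ℤ := !![-1, 0, 0, 0, 0, 0; 0, 1, 0, 0, 0, 0; 1, 0, 1, 0, 0, 0; 0, 0, 0, 1, 0, 0; 0, 0, 0, 0, 1, 0; 0, 0, 0, 0, 0, 1]
theorem hCm1 : Cm0 * reflMat A 0 = Cm1 := by decide +kernel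
def Cm2 : Matrix (Fin 6) (Fin 6) ℤ := !![-1, 0, 0, 0, 0, 0; 0, -1, 0, 0, 0, 0; 1, 0, 1, 0, 0, 0; 0, 1, 0, 1, 0, 0; 0, 0, 0, 0, 1, 0; 0, 0, 0, 0, 0, 1]
theorem hCm2 : Cm1 * reflMat A 1 = Cm2 := by decide +kernel
def Cm3 : Matrix (Fin 6) (Fin 6) ℤ := !![-1, 0, -1, 0, 0, 0; 0, -1, 0, 0, 0, 0; 1, 0, 0, 0, 0, 0; 0, 1, 1, 1, 0, 0; 0, 0, 0, 0, 1, 0; 0, 0, 0, 0, 0, 1]
theorem hCm3 : Cm2 * reflMat A 2 = Cm3 := by decide +kernel
def Cm4 : Matrix (Fin 6) (Fin 6) ℤ := !![-1, 0, -1, -1, 0, 0; 0, -1, 0, -1, 0, 0; 1, 0, 0, 0, 0, 0; 0, 1, 1, 1, 0, 0; 0, 0, 0, 1, 1, 0; 0, 0, 0, 0, 0, 1]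
theorem hCm4 : Cm3 * reflMat A 3 = Cm4 := by decide +kernel
def Cm5 : Matrix (Fin 6) (Fin 6) ℤ := !![-1, 0, -1, -1, -1, 0; 0, -1, 0, -1, -1, 0; 1, 0, 0, 0, 0, 0; 0, 1, 1, 1, 1, 0; 0, 0, 0, 1, 0, 0; 0, 0, 0, 0, 1, 1]
theorem hCm5 : Cm4 * reflMat A 4 = Cm5 := by decide +kernel
def Cm6 : Matrix (Fin 6) (Fin 6) ℤ := !![-1, 0, -1, -1, -1, -1; 0, -1, 0, -1, -1, -1; 1, 0, 0, 0, 0, 0; 0, 1, 1, 1, 1, 1; 0, 0, 0, 1, 0, 0; 0, 0, 0, 0, 1, 0]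
theorem hCm6 : Cm5 * reflMat A 5 = Cm6 := by decide +kernel
theorem rho_cox : rho M A hA cox = Cm6 := by
  have : cox = M.simple 0 * M.simple 1 * M.simple 2 * M.simple 3 * M.simple 4 * M.simple 5 := by
    simp [cox, List.finRange_succ, mul_assoc]
  rw [this]
  simp only [map_mul, rho_simple]
  rw [← one_mul (reflMat A 0), ← Cm0, hCm1, hCm2, hCm3, hCm4, hCm5, hCm6]
def Pw1 : Matrix (Fin 6) (Fin 6) ℤ := Cm6
def Pw2 : Matrix (Fin 6) (Fin 6) ℤ := !![0, -1, 0, -1, -1, 0; 0, 0, -1, -1, -1, 0; -1, 0, -1, -1, -1, -1; 1, 0, 1, 1, 1, 0; 0, 1, 1, 1, 1, 1; 0, 0, 0, 1, 0, 0]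
theorem hPw2 : Pw1 * Cm6 = Pw2 := by decide +kernel
def Pw3 : Matrix (Fin 6) (Fin 6) ℤ := !![0, 0, -1, -1, 0, 0; -1, -1, -1, -2, -1, -1; 0, -1, 0, -1, -1, 0; 0, 1, 0, 1, 0, 0; 1, 0, 1, 1, 1, 0; 0, 1, 1, 1, 1, 1]
theorem hPw3 : Pw2 * Cm6 = Pw3 := by decide +kernel
def Pw4 : Matrix (Fin 6) (Fin 6) ℤ := !![-1, -1, -1, -1, -1, -1; 0, -1, -1, -1, -1, 0; 0, 0, -1, -1, 0, 0; 0, 0, 1, 0, 0, 0; 0, 1, 0, 1, 0, 0; 1, 0, 1, 1, 1, 0]
theorem hPw4 : Pw3 * Cm6 = Pw4 := by decide +kernel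
def Pw5 : Matrix (Fin 6) (Fin 6) ℤ := !![0, 0, 0, 0, 0, 1; -1, 0, -1, -1, 0, 0; -1, -1, -1, -1, -1, -1; 1, 0, 0, 0, 0, 0; 0, 0, 1, 0, 0, 0; 0, 1, 0, 1, 0, 0]
theorem hPw5 : Pw4 * Cm6 = Pw5 := by decide +kernel
def Pw6 : Matrix (Fin 6) (Fin 6) ℤ := !![0, 0, 0, 0, 1, 0; 0, -1, 0, 0, 0, 0; 0, 0, 0, 0, 0, 1; -1, 0, -1, -1, -1, -1; 1, 0, 0, 0, 0, 0; 0, 0, 1, 0, 0, 0]
theorem hPw6 : Pw5 * Cm6 = Pw6 := by decide +kernel
def Pw7 : Matrix (Fin 6) (Fin 6) ℤ := !![0, 0, 0, 1, 0, 0; 0, 1, 0, 1, 1, 1; 0, 0, 0, 0, 1, 0; 0, -1, 0, -1, -1, 0; -1, 0, -1, -1, -1, -1; 1, 0, 0, 0, 0, 0]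
theorem hPw7 : Pw6 * Cm6 = Pw7 := by decide +kernel
def Pw8 : Matrix (Fin 6) (Fin 6) ℤ := !![0, 1, 1, 1, 1, 1; 0, 0, 1, 1, 1, 0; 0, 0, 0, 1, 0, 0; 0, 0, -1, -1, 0, 0; 0, -1, 0, -1, -1, 0; -1, 0, -1, -1, -1, -1]
theorem hPw8 : Pw7 * Cm6 = Pw8 := by decide +kernel
def Pw9 : Matrix (Fin 6) (Fin 6) ℤ := !![1, 0, 1, 1, 1, 0; 1, 1, 1, 2, 1, 1; 0, 1, 1, 1, 1, 1; -1, -1, -1, -1, -1, -1; 0, 0, -1, -1, 0, 0; 0, -1, 0, -1, -1, 0]
theorem hPw9 : Pw8 * Cm6 = Pw9 := by decide +kernel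
def Pw10 : Matrix (Fin 6) (Fin 6) ℤ := !![0, 1, 0, 1, 0, 0; 0, 1, 1, 1, 1, 0; 1, 0, 1, 1, 1, 0; 0, 0, 0, 0, 0, 1; -1, -1, -1, -1, -1, -1; 0, 0, -1, -1, 0, 0]
theorem hPw10 : Pw9 * Cm6 = Pw10 := by decide +kernel
def Pw11 : Matrix (Fin 6) (Fin 6) ℤ := !![0, 0, 1, 0, 0, 0; 1, 0, 1, 1, 0, 0; 0, 1, 0, 1, 0, 0; 0, 0, 0, 0, 1, 0; 0, 0, 0, 0, 0, 1; -1, -1, -1, -1, -1, -1]
theorem hPw11 : Pw10 * Cm6 = Pw11 := by decide +kernel
def Pw12 : Matrix (Fin 6) (Fin 6) ℤ := !![1, 0, 0, 0, 0, 0; 0, 1, 0, 0, 0, 0; 0, 0, 1, 0, 0, 0; 0, 0, 0, 1, 0, 0; 0, 0, 0, 0, 1, 0; 0, 0, 0, 0, 0, 1]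
theorem hPw12 : Pw11 * Cm6 = Pw12 := by decide +kernel
theorem rho_cox_pow1 : rho M A hA (cox ^ 1) = Pw1 := by rw [pow_one, rho_cox]; rfl
theorem rho_cox_pow2 : rho M A hA (cox ^ 2) = Pw2 := by rw [pow_succ, map_mul, rho_cox_pow1, rho_cox, hPw2]
theorem rho_cox_pow3 : rho M A hA (cox ^ 3) = Pw3 := by rw [pow_succ, map_mul, rho_cox_pow2, rho_cox, hPw3]
theorem rho_cox_pow4 : rho M A hA (cox ^ 4) = Pw4 := by rw [pow_succ, map_mul, rho_cox_pow3, rho_cox, hPw4]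
theorem rho_cox_pow5 : rho M A hA (cox ^ 5) = Pw5 := by rw [pow_succ, map_mul, rho_cox_pow4, rho_cox, hPw5]
theorem rho_cox_pow6 : rho M A hA (cox ^ 6) = Pw6 := by rw [pow_succ, map_mul, rho_cox_pow5, rho_cox, hPw6]
theorem rho_cox_pow7 : rho M A hA (cox ^ 7) = Pw7 := by rw [pow_succ, map_mul, rho_cox_pow6, rho_cox, hPw7]
theorem rho_cox_pow8 : rho M A hA (cox ^ 8) = Pw8 := by rw [pow_succ, map_mul, rho_cox_pow7, rho_cox, hPw8]
theorem rho_cox_pow9 : rho M A hA (cox ^ 9) = Pw9 := by rw [pow_succ, map_mul, rho_cox_pow8, rho_cox, hPw9]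
theorem rho_cox_pow10 : rho M A hA (cox ^ 10) = Pw10 := by rw [pow_succ, map_mul, rho_cox_pow9, rho_cox, hPw10]
theorem rho_cox_pow11 : rho M A hA (cox ^ 11) = Pw11 := by rw [pow_succ, map_mul, rho_cox_pow10, rho_cox, hPw11]
theorem rho_cox_pow12 : rho M A hA (cox ^ 12) = Pw12 := by rw [pow_succ, map_mul, rho_cox_pow11, rho_cox, hPw12]
theorem cox_order : orderOf cox = 12 := by
  rw [orderOf_eq_iff (by norm_num)]
  refine ⟨rho_ker _ (by rw [rho_cox_pow12]; decide +kernel), ?_⟩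
  intro m hm hm0 hc
  have hr : rho M A hA (cox ^ m) = 1 := by rw [hc, map_one]
  interval_cases m
  · rw [rho_cox_pow1] at hr; revert hr; decide +kernel
  · rw [rho_cox_pow2] at hr; revert hr; decide +kernel
  · rw [rho_cox_pow3] at hr; revert hr; decide +kernel
  · rw [rho_cox_pow4] at hr; revert hr; decide +kernel
  · rw [rho_cox_pow5] at hr; revert hr; decide +kernel
  · rw [rho_cox_pow6] at hr; revert hr; decide +kernel
  · rw [rho_cox_pow7] at hr; revert hr; decide +kernel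
  · rw [rho_cox_pow8] at hr; revert hr; decide +kernel
  · rw [rho_cox_pow9] at hr; revert hr; decide +kernel
  · rw [rho_cox_pow10] at hr; revert hr; decide +kernel
  · rw [rho_cox_pow11] at hr; revert hr; decide +kernel

end

end Cfsg.Agent.Lib.Helper18.CoxE6
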