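import Cfsg.Agent.Lib.Helper18.CoxRep

set_option autoImplicit false
set_option linter.unusedVariables false
set_option maxRecDepth 100000

namespace Cfsg.Agent.Lib.Helper18.CoxE7

open Cfsg.Agent.Lib.Helper18

noncomputable section

abbrev M : CoxeterMatrix (Fin 7) := CoxeterMatrix.E₇
abbrev W : Type := M.Group
def A : Matrix (Fin 7) (Fin 7) ℤ := !![2, 0, -1, 0, 0, 0, 0; 0, 2, 0, -1, 0, 0, 0; -1, 0, 2, -1, 0, 0, 0; 0, -1, -1, 2, -1, 0, 0; 0, 0, 0, -1, 2, -1, 0; 0, 0, 0, 0, -1, 2, -1; 0, 0, 0, 0, 0, -1, 2]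

theorem hA_0_0 : (reflMat A 0 * reflMat A 0) ^ 1 = 1 := by
  apply Matrix.ext_of_mulVec_single; intro k
  simp only [pow_succ, pow_zero, one_mul, ← Matrix.mulVec_mulVec, reflMat_mulVec, Matrix.one_mulVec]
  revert k; decide +kernel
theorem hA_0_1 : (reflMat A 0 * reflMat A 1) ^ 2 = 1 := by
  apply Matrix.ext_of_mulVec_single; intro k
  simp only [pow_succ, pow_zero, one_mul, ← Matrix.mulVec_mulVec, reflMat_mulVec, Matrix.one_mulVec]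
  revert k; decide +kernel
theorem hA_0_2 : (reflMat A 0 * reflMat A 2) ^ 3 = 1 := by
  apply Matrix.ext_of_mulVec_single; intro k
  simp only [pow_succ, pow_zero, one_mul, ← Matrix.mulVec_mulVec, reflMat_mulVec, Matrix.one_mulVec]
  revert k; decide +kernel
theorem hA_0_3 : (reflMat A 0 * reflMat A 3) ^ 2 = 1 := by
  apply Matrix.ext_of_mulVec_single; intro k
  simp only [pow_succ, pow_zero, one_mul, ← Matrix.mulVec_mulVec, reflMat_mulVec, Matrix.one_mulVec]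
  revert k; decide +kernel
theorem hA_0_4 : (reflMat A 0 * reflMat A 4) ^ 2 = 1 := by
  apply Matrix.ext_of_mulVec_single; intro k
  simp only [pow_succ, pow_zero, one_mul, ← Matrix.mulVec_mulVec, reflMat_mulVec, Matrix.one_mulVec]
  revert k; decide +kernel
theorem hA_0_5 : (reflMat A 0 * reflMat A 5) ^ 2 = 1 := by
  apply Matrix.ext_of_mulVec_single; intro k
  simp only [pow_succ, pow_zero, one_mul, ← Matrix.mulVec_mulVec, reflMat_mulVec, Matrix.one_mulVec]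
  revert k; decide +kernel
theorem hA_0_6 : (reflMat A 0 * reflMat A 6) ^ 2 = 1 := by
  apply Matrix.ext_of_mulVec_single; intro k
  simp only [pow_succ, pow_zero, one_mul, ← Matrix.mulVec_mulVec, reflMat_mulVec, Matrix.one_mulVec]
  revert k; decide +kernel
theorem hA_1_0 : (reflMat A 1 * reflMat A 0) ^ 2 = 1 := by
  apply Matrix.ext_of_mulVec_single; intro k
  simp only [pow_succ, pow_zero, one_mul, ← Matrix.mulVec_mulVec, reflMat_mulVec, Matrix.one_mulVec]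
  revert k; decide +kernel
theorem hA_1_1 : (reflMat A 1 * reflMat A 1) ^ 1 = 1 := by
  apply Matrix.ext_of_mulVec_single; intro k
  simp only [pow_succ, pow_zero, one_mul, ← Matrix.mulVec_mulVec, reflMat_mulVec, Matrix.one_mulVec]
  revert k; decide +kernel
theorem hA_1_2 : (reflMat A 1 * reflMat A 2) ^ 2 = 1 := by
  apply Matrix.ext_of_mulVec_single; intro k
  simp only [pow_succ, pow_zero, one_mul, ← Matrix.mulVec_mulVec, reflMat_mulVec, Matrix.one_mulVec]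
  revert k; decide +kernel
theorem hA_1_3 : (reflMat A 1 * reflMat A 3) ^ 3 = 1 := by
  apply Matrix.ext_of_mulVec_single; intro k
  simp only [pow_succ, pow_zero, one_mul, ← Matrix.mulVec_mulVec, reflMat_mulVec, Matrix.one_mulVec]
  revert k; decide +kernel
theorem hA_1_4 : (reflMat A 1 * reflMat A 4) ^ 2 = 1 := by
  apply Matrix.ext_of_mulVec_single; intro k
  simp only [pow_succ, pow_zero, one_mul, ← Matrix.mulVec_mulVec, reflMat_mulVec, Matrix.one_mulVec]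
  revert k; decide +kernel
theorem hA_1_5 : (reflMat A 1 * reflMat A 5) ^ 2 = 1 := by
  apply Matrix.ext_of_mulVec_single; intro k
  simp only [pow_succ, pow_zero, one_mul, ← Matrix.mulVec_mulVec, reflMat_mulVec, Matrix.one_mulVec]
  revert k; decide +kernel
theorem hA_1_6 : (reflMat A 1 * reflMat A 6) ^ 2 = 1 := by
  apply Matrix.ext_of_mulVec_single; intro k
  simp only [pow_succ, pow_zero, one_mul, ← Matrix.mulVec_mulVec, reflMat_mulVec, Matrix.one_mulVec]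
  revert k; decide +kernel
theorem hA_2_0 : (reflMat A 2 * reflMat A 0) ^ 3 = 1 := by
  apply Matrix.ext_of_mulVec_single; intro k
  simp only [pow_succ, pow_zero, one_mul, ← Matrix.mulVec_mulVec, reflMat_mulVec, Matrix.one_mulVec]
  revert k; decide +kernel
theorem hA_2_1 : (reflMat A 2 * reflMat A 1) ^ 2 = 1 := by
  apply Matrix.ext_of_mulVec_single; intro k
  simp only [pow_succ, pow_zero, one_mul, ← Matrix.mulVec_mulVec, reflMat_mulVec, Matrix.one_mulVec]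
  revert k; decide +kernel
theorem hA_2_2 : (reflMat A 2 * reflMat A 2) ^ 1 = 1 := by
  apply Matrix.ext_of_mulVec_single; intro k
  simp only [pow_succ, pow_zero, one_mul, ← Matrix.mulVec_mulVec, reflMat_mulVec, Matrix.one_mulVec]
  revert k; decide +kernel
theorem hA_2_3 : (reflMat A 2 * reflMat A 3) ^ 3 = 1 := by
  apply Matrix.ext_of_mulVec_single; intro k
  simp only [pow_succ, pow_zero, one_mul, ← Matrix.mulVec_mulVec, reflMat_mulVec, Matrix.one_mulVec]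
  revert k; decide +kernel
theorem hA_2_4 : (reflMat A 2 * reflMat A 4) ^ 2 = 1 := by
  apply Matrix.ext_of_mulVec_single; intro k
  simp only [pow_succ, pow_zero, one_mul, ← Matrix.mulVec_mulVec, reflMat_mulVec, Matrix.one_mulVec]
  revert k; decide +kernel
theorem hA_2_5 : (reflMat A 2 * reflMat A 5) ^ 2 = 1 := by
  apply Matrix.ext_of_mulVec_single; intro k
  simp only [pow_succ, pow_zero, one_mul, ← Matrix.mulVec_mulVec, reflMat_mulVec, Matrix.one_mulVec]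
  revert k; decide +kernel
theorem hA_2_6 : (reflMat A 2 * reflMat A 6) ^ 2 = 1 := by
  apply Matrix.ext_of_mulVec_single; intro k
  simp only [pow_succ, pow_zero, one_mul, ← Matrix.mulVec_mulVec, reflMat_mulVec, Matrix.one_mulVec]
  revert k; decide +kernel
theorem hA_3_0 : (reflMat A 3 * reflMat A 0) ^ 2 = 1 := by
  apply Matrix.ext_of_mulVec_single; intro k
  simp only [pow_succ, pow_zero, one_mul, ← Matrix.mulVec_mulVec, reflMat_mulVec, Matrix.one_mulVec]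
  revert k; decide +kernel
theorem hA_3_1 : (reflMat A 3 * reflMat A 1) ^ 3 = 1 := by
  apply Matrix.ext_of_mulVec_single; intro k
  simp only [pow_succ, pow_zero, one_mul, ← Matrix.mulVec_mulVec, reflMat_mulVec, Matrix.one_mulVec]
  revert k; decide +kernel
theorem hA_3_2 : (reflMat A 3 * reflMat A 2) ^ 3 = 1 := by
  apply Matrix.ext_of_mulVec_single; intro k
  simp only [pow_succ, pow_zero, one_mul, ← Matrix.mulVec_mulVec, reflMat_mulVec, Matrix.one_mulVec]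
  revert k; decide +kernel
theorem hA_3_3 : (reflMat A 3 * reflMat A 3) ^ 1 = 1 := by
  apply Matrix.ext_of_mulVec_single; intro k
  simp only [pow_succ, pow_zero, one_mul, ← Matrix.mulVec_mulVec, reflMat_mulVec, Matrix.one_mulVec]
  revert k; decide +kernel
theorem hA_3_4 : (reflMat A 3 * reflMat A 4) ^ 3 = 1 := by
  apply Matrix.ext_of_mulVec_single; intro k
  simp only [pow_succ, pow_zero, one_mul, ← Matrix.mulVec_mulVec, reflMat_mulVec, Matrix.one_mulVec]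
  revert k; decide +kernel
theorem hA_3_5 : (reflMat A 3 * reflMat A 5) ^ 2 = 1 := by
  apply Matrix.ext_of_mulVec_single; intro k
  simp only [pow_succ, pow_zero, one_mul, ← Matrix.mulVec_mulVec, reflMat_mulVec, Matrix.one_mulVec]
  revert k; decide +kernel
theorem hA_3_6 : (reflMat A 3 * reflMat A 6) ^ 2 = 1 := by
  apply Matrix.ext_of_mulVec_single; intro k
  simp only [pow_succ, pow_zero, one_mul, ← Matrix.mulVec_mulVec, reflMat_mulVec, Matrix.one_mulVec]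
  revert k; decide +kernel
theorem hA_4_0 : (reflMat A 4 * reflMat A 0) ^ 2 = 1 := by
  apply Matrix.ext_of_mulVec_single; intro k
  simp only [pow_succ, pow_zero, one_mul, ← Matrix.mulVec_mulVec, reflMat_mulVec, Matrix.one_mulVec]
  revert k; decide +kernel
theorem hA_4_1 : (reflMat A 4 * reflMat A 1) ^ 2 = 1 := by
  apply Matrix.ext_of_mulVec_single; intro k
  simp only [pow_succ, pow_zero, one_mul, ← Matrix.mulVec_mulVec, reflMat_mulVec, Matrix.one_mulVec]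
  revert k; decide +kernel
theorem hA_4_2 : (reflMat A 4 * reflMat A 2) ^ 2 = 1 := by
  apply Matrix.ext_of_mulVec_single; intro k
  simp only [pow_succ, pow_zero, one_mul, ← Matrix.mulVec_mulVec, reflMat_mulVec, Matrix.one_mulVec]
  revert k; decide +kernel
theorem hA_4_3 : (reflMat A 4 * reflMat A 3) ^ 3 = 1 := by
  apply Matrix.ext_of_mulVec_single; intro k
  simp only [pow_succ, pow_zero, one_mul, ← Matrix.mulVec_mulVec, reflMat_mulVec, Matrix.one_mulVec]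
  revert k; decide +kernel
theorem hA_4_4 : (reflMat A 4 * reflMat A 4) ^ 1 = 1 := by
  apply Matrix.ext_of_mulVec_single; intro k
  simp only [pow_succ, pow_zero, one_mul, ← Matrix.mulVec_mulVec, reflMat_mulVec, Matrix.one_mulVec]
  revert k; decide +kernel
theorem hA_4_5 : (reflMat A 4 * reflMat A 5) ^ 3 = 1 := by
  apply Matrix.ext_of_mulVec_single; intro k
  simp only [pow_succ, pow_zero, one_mul, ← Matrix.mulVec_mulVec, reflMat_mulVec, Matrix.one_mulVec]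
  revert k; decide +kernel
theorem hA_4_6 : (reflMat A 4 * reflMat A 6) ^ 2 = 1 := by
  apply Matrix.ext_of_mulVec_single; intro k
  simp only [pow_succ, pow_zero, one_mul, ← Matrix.mulVec_mulVec, reflMat_mulVec, Matrix.one_mulVec]
  revert k; decide +kernel
theorem hA_5_0 : (reflMat A 5 * reflMat A 0) ^ 2 = 1 := by
  apply Matrix.ext_of_mulVec_single; intro k
  simp only [pow_succ, pow_zero, one_mul, ← Matrix.mulVec_mulVec, reflMat_mulVec, Matrix.one_mulVec]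
  revert k; decide +kernel
theorem hA_5_1 : (reflMat A 5 * reflMat A 1) ^ 2 = 1 := by
  apply Matrix.ext_of_mulVec_single; intro k
  simp only [pow_succ, pow_zero, one_mul, ← Matrix.mulVec_mulVec, reflMat_mulVec, Matrix.one_mulVec]
  revert k; decide +kernel
theorem hA_5_2 : (reflMat A 5 * reflMat A 2) ^ 2 = 1 := by
  apply Matrix.ext_of_mulVec_single; intro k
  simp only [pow_succ, pow_zero, one_mul, ← Matrix.mulVec_mulVec, reflMat_mulVec, Matrix.one_mulVec]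
  revert k; decide +kernel
theorem hA_5_3 : (reflMat A 5 * reflMat A 3) ^ 2 = 1 := by
  apply Matrix.ext_of_mulVec_single; intro k
  simp only [pow_succ, pow_zero, one_mul, ← Matrix.mulVec_mulVec, reflMat_mulVec, Matrix.one_mulVec]
  revert k; decide +kernel
theorem hA_5_4 : (reflMat A 5 * reflMat A 4) ^ 3 = 1 := by
  apply Matrix.ext_of_mulVec_single; intro k
  simp only [pow_succ, pow_zero, one_mul, ← Matrix.mulVec_mulVec, reflMat_mulVec, Matrix.one_mulVec]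
  revert k; decide +kernel
theorem hA_5_5 : (reflMat A 5 * reflMat A 5) ^ 1 = 1 := by
  apply Matrix.ext_of_mulVec_single; intro k
  simp only [pow_succ, pow_zero, one_mul, ← Matrix.mulVec_mulVec, reflMat_mulVec, Matrix.one_mulVec]
  revert k; decide +kernel
theorem hA_5_6 : (reflMat A 5 * reflMat A 6) ^ 3 = 1 := by
  apply Matrix.ext_of_mulVec_single; intro k
  simp only [pow_succ, pow_zero, one_mul, ← Matrix.mulVec_mulVec, reflMat_mulVec, Matrix.one_mulVec]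
  revert k; decide +kernel
theorem hA_6_0 : (reflMat A 6 * reflMat A 0) ^ 2 = 1 := by
  apply Matrix.ext_of_mulVec_single; intro k
  simp only [pow_succ, pow_zero, one_mul, ← Matrix.mulVec_mulVec, reflMat_mulVec, Matrix.one_mulVec]
  revert k; decide +kernel
theorem hA_6_1 : (reflMat A 6 * reflMat A 1) ^ 2 = 1 := by
  apply Matrix.ext_of_mulVec_single; intro k
  simp only [pow_succ, pow_zero, one_mul, ← Matrix.mulVec_mulVec, reflMat_mulVec, Matrix.one_mulVec]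
  revert k; decide +kernel
theorem hA_6_2 : (reflMat A 6 * reflMat A 2) ^ 2 = 1 := by
  apply Matrix.ext_of_mulVec_single; intro k
  simp only [pow_succ, pow_zero, one_mul, ← Matrix.mulVec_mulVec, reflMat_mulVec, Matrix.one_mulVec]
  revert k; decide +kernel
theorem hA_6_3 : (reflMat A 6 * reflMat A 3) ^ 2 = 1 := by
  apply Matrix.ext_of_mulVec_single; intro k
  simp only [pow_succ, pow_zero, one_mul, ← Matrix.mulVec_mulVec, reflMat_mulVec, Matrix.one_mulVec]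
  revert k; decide +kernel
theorem hA_6_4 : (reflMat A 6 * reflMat A 4) ^ 2 = 1 := by
  apply Matrix.ext_of_mulVec_single; intro k
  simp only [pow_succ, pow_zero, one_mul, ← Matrix.mulVec_mulVec, reflMat_mulVec, Matrix.one_mulVec]
  revert k; decide +kernel
theorem hA_6_5 : (reflMat A 6 * reflMat A 5) ^ 3 = 1 := by
  apply Matrix.ext_of_mulVec_single; intro k
  simp only [pow_succ, pow_zero, one_mul, ← Matrix.mulVec_mulVec, reflMat_mulVec, Matrix.one_mulVec]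
  revert k; decide +kernel
theorem hA_6_6 : (reflMat A 6 * reflMat A 6) ^ 1 = 1 := by
  apply Matrix.ext_of_mulVec_single; intro k
  simp only [pow_succ, pow_zero, one_mul, ← Matrix.mulVec_mulVec, reflMat_mulVec, Matrix.one_mulVec]
  revert k; decide +kernel
theorem hA : M.IsLiftable (reflMat A) := fun i i' =>
  match i, i' with
  | 0, 0 => hA_0_0
  | 0, 1 => hA_0_1
  | 0, 2 => hA_0_2
  | 0, 3 => hA_0_3
  | 0, 4 => hA_0_4
  | 0, 5 => hA_0_5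
  | 0, 6 => hA_0_6
  | 1, 0 => hA_1_0
  | 1, 1 => hA_1_1
  | 1, 2 => hA_1_2
  | 1, 3 => hA_1_3
  | 1, 4 => hA_1_4
  | 1, 5 => hA_1_5
  | 1, 6 => hA_1_6
  | 2, 0 => hA_2_0
  | 2, 1 => hA_2_1
  | 2, 2 => hA_2_2
  | 2, 3 => hA_2_3
  | 2, 4 => hA_2_4
  | 2, 5 => hA_2_5
  | 2, 6 => hA_2_6
  | 3, 0 => hA_3_0
  | 3, 1 => hA_3_1
  | 3, 2 => hA_3_2
  | 3, 3 => hA_3_3
  | 3, 4 => hA_3_4
  | 3, 5 => hA_3_5
  | 3, 6 => hA_3_6
  | 4, 0 => hA_4_0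
  | 4, 1 => hA_4_1
  | 4, 2 => hA_4_2
  | 4, 3 => hA_4_3
  | 4, 4 => hA_4_4
  | 4, 5 => hA_4_5
  | 4, 6 => hA_4_6
  | 5, 0 => hA_5_0
  | 5, 1 => hA_5_1
  | 5, 2 => hA_5_2
  | 5, 3 => hA_5_3
  | 5, 4 => hA_5_4
  | 5, 5 => hA_5_5
  | 5, 6 => hA_5_6
  | 6, 0 => hA_6_0
  | 6, 1 => hA_6_1
  | 6, 2 => hA_6_2
  | 6, 3 => hA_6_3
  | 6, 4 => hA_6_4
  | 6, 5 => hA_6_5
  | 6, 6 => hA_6_6

abbrev s (i : Fin 7) : W := M.simple i
theorem s_sq (i : Fin 7) : s i * s i = 1 := simple_sq M i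
theorem r_0_1 : s 0 = s 1 * s 0 * s 1 :=
  rel2 (s_sq 0) (s_sq 1) (M.toCoxeterSystem.simple_mul_simple_pow 0 1)
theorem r_0_2 : s 0 = s 2 * s 0 * s 2 * s 0 * s 2 :=
  rel3 (s_sq 0) (s_sq 2) (M.toCoxeterSystem.simple_mul_simple_pow 0 2)
theorem r_0_3 : s 0 = s 3 * s 0 * s 3 :=
  rel2 (s_sq 0) (s_sq 3) (M.toCoxeterSystem.simple_mul_simple_pow 0 3)
theorem r_0_4 : s 0 = s 4 * s 0 * s 4 :=
  rel2 (s_sq 0) (s_sq 4) (M.toCoxeterSystem.simple_mul_simple_pow 0 4)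
theorem r_0_5 : s 0 = s 5 * s 0 * s 5 :=
  rel2 (s_sq 0) (s_sq 5) (M.toCoxeterSystem.simple_mul_simple_pow 0 5)
theorem r_0_6 : s 0 = s 6 * s 0 * s 6 :=
  rel2 (s_sq 0) (s_sq 6) (M.toCoxeterSystem.simple_mul_simple_pow 0 6)
theorem r_1_0 : s 1 = s 0 * s 1 * s 0 :=
  rel2 (s_sq 1) (s_sq 0) (M.toCoxeterSystem.simple_mul_simple_pow 1 0)
theorem r_1_2 : s 1 = s 2 * s 1 * s 2 :=
  rel2 (s_sq 1) (s_sq 2) (M.toCoxeterSystem.simple_mul_simple_pow 1 2)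
theorem r_1_3 : s 1 = s 3 * s 1 * s 3 * s 1 * s 3 :=
  rel3 (s_sq 1) (s_sq 3) (M.toCoxeterSystem.simple_mul_simple_pow 1 3)
theorem r_1_4 : s 1 = s 4 * s 1 * s 4 :=
  rel2 (s_sq 1) (s_sq 4) (M.toCoxeterSystem.simple_mul_simple_pow 1 4)
theorem r_1_5 : s 1 = s 5 * s 1 * s 5 :=
  rel2 (s_sq 1) (s_sq 5) (M.toCoxeterSystem.simple_mul_simple_pow 1 5)
theorem r_1_6 : s 1 = s 6 * s 1 * s 6 :=
  rel2 (s_sq 1) (s_sq 6) (M.toCoxeterSystem.simple_mul_simple_pow 1 6)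
theorem r_2_0 : s 2 = s 0 * s 2 * s 0 * s 2 * s 0 :=
  rel3 (s_sq 2) (s_sq 0) (M.toCoxeterSystem.simple_mul_simple_pow 2 0)
theorem r_2_1 : s 2 = s 1 * s 2 * s 1 :=
  rel2 (s_sq 2) (s_sq 1) (M.toCoxeterSystem.simple_mul_simple_pow 2 1)
theorem r_2_3 : s 2 = s 3 * s 2 * s 3 * s 2 * s 3 :=
  rel3 (s_sq 2) (s_sq 3) (M.toCoxeterSystem.simple_mul_simple_pow 2 3)
theorem r_2_4 : s 2 = s 4 * s 2 * s 4 :=
  rel2 (s_sq 2) (s_sq 4) (M.toCoxeterSystem.simple_mul_simple_pow 2 4)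
theorem r_2_5 : s 2 = s 5 * s 2 * s 5 :=
  rel2 (s_sq 2) (s_sq 5) (M.toCoxeterSystem.simple_mul_simple_pow 2 5)
theorem r_2_6 : s 2 = s 6 * s 2 * s 6 :=
  rel2 (s_sq 2) (s_sq 6) (M.toCoxeterSystem.simple_mul_simple_pow 2 6)
theorem r_3_0 : s 3 = s 0 * s 3 * s 0 :=
  rel2 (s_sq 3) (s_sq 0) (M.toCoxeterSystem.simple_mul_simple_pow 3 0)
theorem r_3_1 : s 3 = s 1 * s 3 * s 1 * s 3 * s 1 :=
  rel3 (s_sq 3) (s_sq 1) (M.toCoxeterSystem.simple_mul_simple_pow 3 1)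
theorem r_3_2 : s 3 = s 2 * s 3 * s 2 * s 3 * s 2 :=
  rel3 (s_sq 3) (s_sq 2) (M.toCoxeterSystem.simple_mul_simple_pow 3 2)
theorem r_3_4 : s 3 = s 4 * s 3 * s 4 * s 3 * s 4 :=
  rel3 (s_sq 3) (s_sq 4) (M.toCoxeterSystem.simple_mul_simple_pow 3 4)
theorem r_3_5 : s 3 = s 5 * s 3 * s 5 :=
  rel2 (s_sq 3) (s_sq 5) (M.toCoxeterSystem.simple_mul_simple_pow 3 5)
theorem r_3_6 : s 3 = s 6 * s 3 * s 6 :=
  rel2 (s_sq 3) (s_sq 6) (M.toCoxeterSystem.simple_mul_simple_pow 3 6)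
theorem r_4_0 : s 4 = s 0 * s 4 * s 0 :=
  rel2 (s_sq 4) (s_sq 0) (M.toCoxeterSystem.simple_mul_simple_pow 4 0)
theorem r_4_1 : s 4 = s 1 * s 4 * s 1 :=
  rel2 (s_sq 4) (s_sq 1) (M.toCoxeterSystem.simple_mul_simple_pow 4 1)
theorem r_4_2 : s 4 = s 2 * s 4 * s 2 :=
  rel2 (s_sq 4) (s_sq 2) (M.toCoxeterSystem.simple_mul_simple_pow 4 2)
theorem r_4_3 : s 4 = s 3 * s 4 * s 3 * s 4 * s 3 :=
  rel3 (s_sq 4) (s_sq 3) (M.toCoxeterSystem.simple_mul_simple_pow 4 3)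
theorem r_4_5 : s 4 = s 5 * s 4 * s 5 * s 4 * s 5 :=
  rel3 (s_sq 4) (s_sq 5) (M.toCoxeterSystem.simple_mul_simple_pow 4 5)
theorem r_4_6 : s 4 = s 6 * s 4 * s 6 :=
  rel2 (s_sq 4) (s_sq 6) (M.toCoxeterSystem.simple_mul_simple_pow 4 6)
theorem r_5_0 : s 5 = s 0 * s 5 * s 0 :=
  rel2 (s_sq 5) (s_sq 0) (M.toCoxeterSystem.simple_mul_simple_pow 5 0)
theorem r_5_1 : s 5 = s 1 * s 5 * s 1 :=
  rel2 (s_sq 5) (s_sq 1) (M.toCoxeterSystem.simple_mul_simple_pow 5 1)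
theorem r_5_2 : s 5 = s 2 * s 5 * s 2 :=
  rel2 (s_sq 5) (s_sq 2) (M.toCoxeterSystem.simple_mul_simple_pow 5 2)
theorem r_5_3 : s 5 = s 3 * s 5 * s 3 :=
  rel2 (s_sq 5) (s_sq 3) (M.toCoxeterSystem.simple_mul_simple_pow 5 3)
theorem r_5_4 : s 5 = s 4 * s 5 * s 4 * s 5 * s 4 :=
  rel3 (s_sq 5) (s_sq 4) (M.toCoxeterSystem.simple_mul_simple_pow 5 4)
theorem r_5_6 : s 5 = s 6 * s 5 * s 6 * s 5 * s 6 :=
  rel3 (s_sq 5) (s_sq 6) (M.toCoxeterSystem.simple_mul_simple_pow 5 6)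
theorem r_6_0 : s 6 = s 0 * s 6 * s 0 :=
  rel2 (s_sq 6) (s_sq 0) (M.toCoxeterSystem.simple_mul_simple_pow 6 0)
theorem r_6_1 : s 6 = s 1 * s 6 * s 1 :=
  rel2 (s_sq 6) (s_sq 1) (M.toCoxeterSystem.simple_mul_simple_pow 6 1)
theorem r_6_2 : s 6 = s 2 * s 6 * s 2 :=
  rel2 (s_sq 6) (s_sq 2) (M.toCoxeterSystem.simple_mul_simple_pow 6 2)
theorem r_6_3 : s 6 = s 3 * s 6 * s 3 :=
  rel2 (s_sq 6) (s_sq 3) (M.toCoxeterSystem.simple_mul_simple_pow 6 3)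
theorem r_6_4 : s 6 = s 4 * s 6 * s 4 :=
  rel2 (s_sq 6) (s_sq 4) (M.toCoxeterSystem.simple_mul_simple_pow 6 4)
theorem r_6_5 : s 6 = s 5 * s 6 * s 5 * s 6 * s 5 :=
  rel3 (s_sq 6) (s_sq 5) (M.toCoxeterSystem.simple_mul_simple_pow 6 5)

def J0 : List (Fin 7) := [0, 1, 2, 3, 4, 5, 6]
def J1 : List (Fin 7) := [0, 1, 2, 3, 4, 5]
def J2 : List (Fin 7) := [1, 2, 3, 4, 5]
def J3 : List (Fin 7) := [1, 2, 3, 4]
def J4 : List (Fin 7) := [1, 2, 3]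
def J5 : List (Fin 7) := [1, 2]
def J6 : List (Fin 7) := [1]
def J7 : List (Fin 7) := []

-- level 0: index 56
def base0 : Fin 7 → ℤ := ![0, 0, 0, 0, 0, 0, 1]
def fv0 : W → (Fin 7 → ℤ) := fvec M A hA base0
def u0_0 : W := 1
def u0_1 : W := u0_0 * s 6
def u0_2 : W := u0_1 * s 5
def u0_3 : W := u0_2 * s 4
def u0_4 : W := u0_3 * s 3
def u0_5 : W := u0_4 * s 1
def u0_6 : W := u0_4 * s 2
def u0_7 : W := u0_5 * s 2
def u0_8 : W := u0_6 * s 0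
def u0_9 : W := u0_7 * s 0
def u0_10 : W := u0_7 * s 3
def u0_11 : W := u0_9 * s 3
def u0_12 : W := u0_10 * s 4
def u0_13 : W := u0_11 * s 2
def u0_14 : W := u0_11 * s 4
def u0_15 : W := u0_12 * s 5
def u0_16 : W := u0_13 * s 4
def u0_17 : W := u0_14 * s 5
def u0_18 : W := u0_15 * s 6
def u0_19 : W := u0_16 * s 3
def u0_20 : W := u0_16 * s 5
def u0_21 : W := u0_17 * s 6
def u0_22 : W := u0_19 * s 1
def u0_23 : W := u0_19 * s 5
def u0_24 : W := u0_20 * s 6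
def u0_25 : W := u0_22 * s 5
def u0_26 : W := u0_23 * s 4
def u0_27 : W := u0_23 * s 6
def u0_28 : W := u0_25 * s 4
def u0_29 : W := u0_25 * s 6
def u0_30 : W := u0_26 * s 6
def u0_31 : W := u0_28 * s 3
def u0_32 : W := u0_28 * s 6
def u0_33 : W := u0_30 * s 5
def u0_34 : W := u0_31 * s 2
def u0_35 : W := u0_31 * s 6
def u0_36 : W := u0_32 * s 5
def u0_37 : W := u0_34 * s 0
def u0_38 : W := u0_34 * s 6
def u0_39 : W := u0_35 * s 5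
def u0_40 : W := u0_37 * s 6
def u0_41 : W := u0_38 * s 5
def u0_42 : W := u0_39 * s 4
def u0_43 : W := u0_40 * s 5
def u0_44 : W := u0_41 * s 4
def u0_45 : W := u0_43 * s 4
def u0_46 : W := u0_44 * s 3
def u0_47 : W := u0_45 * s 3
def u0_48 : W := u0_46 * s 1
def u0_49 : W := u0_47 * s 1
def u0_50 : W := u0_47 * s 2
def u0_51 : W := u0_49 * s 2
def u0_52 : W := u0_51 * s 3
def u0_53 : W := u0_52 * s 4
def u0_54 : W := u0_53 * s 5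
def u0_55 : W := u0_54 * s 6
def reps0 : List W := [u0_0, u0_1, u0_2, u0_3, u0_4, u0_5, u0_6, u0_7, u0_8, u0_9, u0_10, u0_11, u0_12, u0_13, u0_14, u0_15, u0_16, u0_17, u0_18, u0_19, u0_20, u0_21, u0_22, u0_23, u0_24, u0_25, u0_26, u0_27, u0_28, u0_29, u0_30, u0_31, u0_32, u0_33, u0_34, u0_35, u0_36, u0_37, u0_38, u0_39, u0_40, u0_41, u0_42, u0_43, u0_44, u0_45, u0_46, u0_47, u0_48, u0_49, u0_50, u0_51, u0_52, u0_53, u0_54, u0_55]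
theorem v0_0 : fv0 u0_0 = ![0, 0, 0, 0, 0, 0, 1] := fvec_one M A hA base0
theorem v0_1 : fv0 u0_1 = ![0, 0, 0, 0, 0, 1, -1] := by
  show fvec M A hA base0 (u0_0 * M.simple 6) = _
  rw [fvec_mul_simple]; show reflVec A 6 (fv0 u0_0) = _; rw [v0_0]; decide +kernel
theorem v0_2 : fv0 u0_2 = ![0, 0, 0, 0, 1, -1, 0] := by
  show fvec M A hA base0 (u0_1 * M.simple 5) = _
  rw [fvec_mul_simple]; show reflVec A 5 (fv0 u0_1) = _; rw [v0_1]; decide +kernel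
theorem v0_3 : fv0 u0_3 = ![0, 0, 0, 1, -1, 0, 0] := by
  show fvec M A hA base0 (u0_2 * M.simple 4) = _
  rw [fvec_mul_simple]; show reflVec A 4 (fv0 u0_2) = _; rw [v0_2]; decide +kernel
theorem v0_4 : fv0 u0_4 = ![0, 1, 1, -1, 0, 0, 0] := by
  show fvec M A hA base0 (u0_3 * M.simple 3) = _
  rw [fvec_mul_simple]; show reflVec A 3 (fv0 u0_3) = _; rw [v0_3]; decide +kernel
theorem v0_5 : fv0 u0_5 = ![0, -1, 1, 0, 0, 0, 0] := by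
  show fvec M A hA base0 (u0_4 * M.simple 1) = _
  rw [fvec_mul_simple]; show reflVec A 1 (fv0 u0_4) = _; rw [v0_4]; decide +kernel
theorem v0_6 : fv0 u0_6 = ![1, 1, -1, 0, 0, 0, 0] := by
  show fvec M A hA base0 (u0_4 * M.simple 2) = _
  rw [fvec_mul_simple]; show reflVec A 2 (fv0 u0_4) = _; rw [v0_4]; decide +kernel
theorem v0_7 : fv0 u0_7 = ![1, -1, -1, 1, 0, 0, 0] := by
  show fvec M A hA base0 (u0_5 * M.simple 2) = _
  rw [fvec_mul_simple]; show reflVec A 2 (fv0 u0_5) = _; rw [v0_5]; decide +kernel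
theorem v0_8 : fv0 u0_8 = ![-1, 1, 0, 0, 0, 0, 0] := by
  show fvec M A hA base0 (u0_6 * M.simple 0) = _
  rw [fvec_mul_simple]; show reflVec A 0 (fv0 u0_6) = _; rw [v0_6]; decide +kernel
theorem v0_9 : fv0 u0_9 = ![-1, -1, 0, 1, 0, 0, 0] := by
  show fvec M A hA base0 (u0_7 * M.simple 0) = _
  rw [fvec_mul_simple]; show reflVec A 0 (fv0 u0_7) = _; rw [v0_7]; decide +kernel
theorem v0_10 : fv0 u0_10 = ![1, 0, 0, -1, 1, 0, 0] := by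
  show fvec M A hA base0 (u0_7 * M.simple 3) = _
  rw [fvec_mul_simple]; show reflVec A 3 (fv0 u0_7) = _; rw [v0_7]; decide +kernel
theorem v0_11 : fv0 u0_11 = ![-1, 0, 1, -1, 1, 0, 0] := by
  show fvec M A hA base0 (u0_9 * M.simple 3) = _
  rw [fvec_mul_simple]; show reflVec A 3 (fv0 u0_9) = _; rw [v0_9]; decide +kernel
theorem v0_12 : fv0 u0_12 = ![1, 0, 0, 0, -1, 1, 0] := by
  show fvec M A hA base0 (u0_10 * M.simple 4) = _
  rw [fvec_mul_simple]; show reflVec A 4 (fv0 u0_10) = _; rw [v0_10]; decide +kernel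
theorem v0_13 : fv0 u0_13 = ![0, 0, -1, 0, 1, 0, 0] := by
  show fvec M A hA base0 (u0_11 * M.simple 2) = _
  rw [fvec_mul_simple]; show reflVec A 2 (fv0 u0_11) = _; rw [v0_11]; decide +kernel
theorem v0_14 : fv0 u0_14 = ![-1, 0, 1, 0, -1, 1, 0] := by
  show fvec M A hA base0 (u0_11 * M.simple 4) = _
  rw [fvec_mul_simple]; show reflVec A 4 (fv0 u0_11) = _; rw [v0_11]; decide +kernel
theorem v0_15 : fv0 u0_15 = ![1, 0, 0, 0, 0, -1, 1] := by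
  show fvec M A hA base0 (u0_12 * M.simple 5) = _
  rw [fvec_mul_simple]; show reflVec A 5 (fv0 u0_12) = _; rw [v0_12]; decide +kernel
theorem v0_16 : fv0 u0_16 = ![0, 0, -1, 1, -1, 1, 0] := by
  show fvec M A hA base0 (u0_13 * M.simple 4) = _
  rw [fvec_mul_simple]; show reflVec A 4 (fv0 u0_13) = _; rw [v0_13]; decide +kernel
theorem v0_17 : fv0 u0_17 = ![-1, 0, 1, 0, 0, -1, 1] := by
  show fvec M A hA base0 (u0_14 * M.simple 5) = _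
  rw [fvec_mul_simple]; show reflVec A 5 (fv0 u0_14) = _; rw [v0_14]; decide +kernel
theorem v0_18 : fv0 u0_18 = ![1, 0, 0, 0, 0, 0, -1] := by
  show fvec M A hA base0 (u0_15 * M.simple 6) = _
  rw [fvec_mul_simple]; show reflVec A 6 (fv0 u0_15) = _; rw [v0_15]; decide +kernel
theorem v0_19 : fv0 u0_19 = ![0, 1, 0, -1, 0, 1, 0] := by
  show fvec M A hA base0 (u0_16 * M.simple 3) = _
  rw [fvec_mul_simple]; show reflVec A 3 (fv0 u0_16) = _; rw [v0_16]; decide +kernel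
theorem v0_20 : fv0 u0_20 = ![0, 0, -1, 1, 0, -1, 1] := by
  show fvec M A hA base0 (u0_16 * M.simple 5) = _
  rw [fvec_mul_simple]; show reflVec A 5 (fv0 u0_16) = _; rw [v0_16]; decide +kernel
theorem v0_21 : fv0 u0_21 = ![-1, 0, 1, 0, 0, 0, -1] := by
  show fvec M A hA base0 (u0_17 * M.simple 6) = _
  rw [fvec_mul_simple]; show reflVec A 6 (fv0 u0_17) = _; rw [v0_17]; decide +kernel
theorem v0_22 : fv0 u0_22 = ![0, -1, 0, 0, 0, 1, 0] := by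
  show fvec M A hA base0 (u0_19 * M.simple 1) = _
  rw [fvec_mul_simple]; show reflVec A 1 (fv0 u0_19) = _; rw [v0_19]; decide +kernel
theorem v0_23 : fv0 u0_23 = ![0, 1, 0, -1, 1, -1, 1] := by
  show fvec M A hA base0 (u0_19 * M.simple 5) = _
  rw [fvec_mul_simple]; show reflVec A 5 (fv0 u0_19) = _; rw [v0_19]; decide +kernel
theorem v0_24 : fv0 u0_24 = ![0, 0, -1, 1, 0, 0, -1] := by
  show fvec M A hA base0 (u0_20 * M.simple 6) = _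
  rw [fvec_mul_simple]; show reflVec A 6 (fv0 u0_20) = _; rw [v0_20]; decide +kernel
theorem v0_25 : fv0 u0_25 = ![0, -1, 0, 0, 1, -1, 1] := by
  show fvec M A hA base0 (u0_22 * M.simple 5) = _
  rw [fvec_mul_simple]; show reflVec A 5 (fv0 u0_22) = _; rw [v0_22]; decide +kernel
theorem v0_26 : fv0 u0_26 = ![0, 1, 0, 0, -1, 0, 1] := by
  show fvec M A hA base0 (u0_23 * M.simple 4) = _
  rw [fvec_mul_simple]; show reflVec A 4 (fv0 u0_23) = _; rw [v0_23]; decide +kernel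
theorem v0_27 : fv0 u0_27 = ![0, 1, 0, -1, 1, 0, -1] := by
  show fvec M A hA base0 (u0_23 * M.simple 6) = _
  rw [fvec_mul_simple]; show reflVec A 6 (fv0 u0_23) = _; rw [v0_23]; decide +kernel
theorem v0_28 : fv0 u0_28 = ![0, -1, 0, 1, -1, 0, 1] := by
  show fvec M A hA base0 (u0_25 * M.simple 4) = _
  rw [fvec_mul_simple]; show reflVec A 4 (fv0 u0_25) = _; rw [v0_25]; decide +kernel
theorem v0_29 : fv0 u0_29 = ![0, -1, 0, 0, 1, 0, -1] := by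
  show fvec M A hA base0 (u0_25 * M.simple 6) = _
  rw [fvec_mul_simple]; show reflVec A 6 (fv0 u0_25) = _; rw [v0_25]; decide +kernel
theorem v0_30 : fv0 u0_30 = ![0, 1, 0, 0, -1, 1, -1] := by
  show fvec M A hA base0 (u0_26 * M.simple 6) = _
  rw [fvec_mul_simple]; show reflVec A 6 (fv0 u0_26) = _; rw [v0_26]; decide +kernel
theorem v0_31 : fv0 u0_31 = ![0, 0, 1, -1, 0, 0, 1] := by
  show fvec M A hA base0 (u0_28 * M.simple 3) = _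
  rw [fvec_mul_simple]; show reflVec A 3 (fv0 u0_28) = _; rw [v0_28]; decide +kernel
theorem v0_32 : fv0 u0_32 = ![0, -1, 0, 1, -1, 1, -1] := by
  show fvec M A hA base0 (u0_28 * M.simple 6) = _
  rw [fvec_mul_simple]; show reflVec A 6 (fv0 u0_28) = _; rw [v0_28]; decide +kernel
theorem v0_33 : fv0 u0_33 = ![0, 1, 0, 0, 0, -1, 0] := by
  show fvec M A hA base0 (u0_30 * M.simple 5) = _
  rw [fvec_mul_simple]; show reflVec A 5 (fv0 u0_30) = _; rw [v0_30]; decide +kernel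
theorem v0_34 : fv0 u0_34 = ![1, 0, -1, 0, 0, 0, 1] := by
  show fvec M A hA base0 (u0_31 * M.simple 2) = _
  rw [fvec_mul_simple]; show reflVec A 2 (fv0 u0_31) = _; rw [v0_31]; decide +kernel
theorem v0_35 : fv0 u0_35 = ![0, 0, 1, -1, 0, 1, -1] := by
  show fvec M A hA base0 (u0_31 * M.simple 6) = _
  rw [fvec_mul_simple]; show reflVec A 6 (fv0 u0_31) = _; rw [v0_31]; decide +kernel
theorem v0_36 : fv0 u0_36 = ![0, -1, 0, 1, 0, -1, 0] := by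
  show fvec M A hA base0 (u0_32 * M.simple 5) = _
  rw [fvec_mul_simple]; show reflVec A 5 (fv0 u0_32) = _; rw [v0_32]; decide +kernel
theorem v0_37 : fv0 u0_37 = ![-1, 0, 0, 0, 0, 0, 1] := by
  show fvec M A hA base0 (u0_34 * M.simple 0) = _
  rw [fvec_mul_simple]; show reflVec A 0 (fv0 u0_34) = _; rw [v0_34]; decide +kernel
theorem v0_38 : fv0 u0_38 = ![1, 0, -1, 0, 0, 1, -1] := by
  show fvec M A hA base0 (u0_34 * M.simple 6) = _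
  rw [fvec_mul_simple]; show reflVec A 6 (fv0 u0_34) = _; rw [v0_34]; decide +kernel
theorem v0_39 : fv0 u0_39 = ![0, 0, 1, -1, 1, -1, 0] := by
  show fvec M A hA base0 (u0_35 * M.simple 5) = _
  rw [fvec_mul_simple]; show reflVec A 5 (fv0 u0_35) = _; rw [v0_35]; decide +kernel
theorem v0_40 : fv0 u0_40 = ![-1, 0, 0, 0, 0, 1, -1] := by
  show fvec M A hA base0 (u0_37 * M.simple 6) = _
  rw [fvec_mul_simple]; show reflVec A 6 (fv0 u0_37) = _; rw [v0_37]; decide +kernel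
theorem v0_41 : fv0 u0_41 = ![1, 0, -1, 0, 1, -1, 0] := by
  show fvec M A hA base0 (u0_38 * M.simple 5) = _
  rw [fvec_mul_simple]; show reflVec A 5 (fv0 u0_38) = _; rw [v0_38]; decide +kernel
theorem v0_42 : fv0 u0_42 = ![0, 0, 1, 0, -1, 0, 0] := by
  show fvec M A hA base0 (u0_39 * M.simple 4) = _
  rw [fvec_mul_simple]; show reflVec A 4 (fv0 u0_39) = _; rw [v0_39]; decide +kernel
theorem v0_43 : fv0 u0_43 = ![-1, 0, 0, 0, 1, -1, 0] := by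
  show fvec M A hA base0 (u0_40 * M.simple 5) = _
  rw [fvec_mul_simple]; show reflVec A 5 (fv0 u0_40) = _; rw [v0_40]; decide +kernel
theorem v0_44 : fv0 u0_44 = ![1, 0, -1, 1, -1, 0, 0] := by
  show fvec M A hA base0 (u0_41 * M.simple 4) = _
  rw [fvec_mul_simple]; show reflVec A 4 (fv0 u0_41) = _; rw [v0_41]; decide +kernel
theorem v0_45 : fv0 u0_45 = ![-1, 0, 0, 1, -1, 0, 0] := by
  show fvec M A hA base0 (u0_43 * M.simple 4) = _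
  rw [fvec_mul_simple]; show reflVec A 4 (fv0 u0_43) = _; rw [v0_43]; decide +kernel
theorem v0_46 : fv0 u0_46 = ![1, 1, 0, -1, 0, 0, 0] := by
  show fvec M A hA base0 (u0_44 * M.simple 3) = _
  rw [fvec_mul_simple]; show reflVec A 3 (fv0 u0_44) = _; rw [v0_44]; decide +kernel
theorem v0_47 : fv0 u0_47 = ![-1, 1, 1, -1, 0, 0, 0] := by
  show fvec M A hA base0 (u0_45 * M.simple 3) = _
  rw [fvec_mul_simple]; show reflVec A 3 (fv0 u0_45) = _; rw [v0_45]; decide +kernel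
theorem v0_48 : fv0 u0_48 = ![1, -1, 0, 0, 0, 0, 0] := by
  show fvec M A hA base0 (u0_46 * M.simple 1) = _
  rw [fvec_mul_simple]; show reflVec A 1 (fv0 u0_46) = _; rw [v0_46]; decide +kernel
theorem v0_49 : fv0 u0_49 = ![-1, -1, 1, 0, 0, 0, 0] := by
  show fvec M A hA base0 (u0_47 * M.simple 1) = _
  rw [fvec_mul_simple]; show reflVec A 1 (fv0 u0_47) = _; rw [v0_47]; decide +kernel
theorem v0_50 : fv0 u0_50 = ![0, 1, -1, 0, 0, 0, 0] := by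
  show fvec M A hA base0 (u0_47 * M.simple 2) = _
  rw [fvec_mul_simple]; show reflVec A 2 (fv0 u0_47) = _; rw [v0_47]; decide +kernel
theorem v0_51 : fv0 u0_51 = ![0, -1, -1, 1, 0, 0, 0] := by
  show fvec M A hA base0 (u0_49 * M.simple 2) = _
  rw [fvec_mul_simple]; show reflVec A 2 (fv0 u0_49) = _; rw [v0_49]; decide +kernel
theorem v0_52 : fv0 u0_52 = ![0, 0, 0, -1, 1, 0, 0] := by
  show fvec M A hA base0 (u0_51 * M.simple 3) = _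
  rw [fvec_mul_simple]; show reflVec A 3 (fv0 u0_51) = _; rw [v0_51]; decide +kernel
theorem v0_53 : fv0 u0_53 = ![0, 0, 0, 0, -1, 1, 0] := by
  show fvec M A hA base0 (u0_52 * M.simple 4) = _
  rw [fvec_mul_simple]; show reflVec A 4 (fv0 u0_52) = _; rw [v0_52]; decide +kernel
theorem v0_54 : fv0 u0_54 = ![0, 0, 0, 0, 0, -1, 1] := by
  show fvec M A hA base0 (u0_53 * M.simple 5) = _
  rw [fvec_mul_simple]; show reflVec A 5 (fv0 u0_53) = _; rw [v0_53]; decide +kernel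
theorem v0_55 : fv0 u0_55 = ![0, 0, 0, 0, 0, 0, -1] := by
  show fvec M A hA base0 (u0_54 * M.simple 6) = _
  rw [fvec_mul_simple]; show reflVec A 6 (fv0 u0_54) = _; rw [v0_54]; decide +kernel
theorem e0_0_6 : u0_0 * s 6 = 1 * u0_1 := (one_mul (u0_0 * s 6)).symm
theorem e0_1_6 : u0_1 * s 6 = 1 * u0_0 := tree_up (s_sq 6)
theorem e0_1_5 : u0_1 * s 5 = 1 * u0_2 := (one_mul (u0_1 * s 5)).symm
theorem e0_2_5 : u0_2 * s 5 = 1 * u0_1 := tree_up (s_sq 5)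
theorem e0_2_4 : u0_2 * s 4 = 1 * u0_3 := (one_mul (u0_2 * s 4)).symm
theorem e0_3_4 : u0_3 * s 4 = 1 * u0_2 := tree_up (s_sq 4)
theorem e0_3_3 : u0_3 * s 3 = 1 * u0_4 := (one_mul (u0_3 * s 3)).symm
theorem e0_4_3 : u0_4 * s 3 = 1 * u0_3 := tree_up (s_sq 3)
theorem e0_4_1 : u0_4 * s 1 = 1 * u0_5 := (one_mul (u0_4 * s 1)).symm
theorem e0_5_1 : u0_5 * s 1 = 1 * u0_4 := tree_up (s_sq 1)
theorem e0_4_2 : u0_4 * s 2 = 1 * u0_6 := (one_mul (u0_4 * s 2)).symm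
theorem e0_6_2 : u0_6 * s 2 = 1 * u0_4 := tree_up (s_sq 2)
theorem e0_5_2 : u0_5 * s 2 = 1 * u0_7 := (one_mul (u0_5 * s 2)).symm
theorem e0_7_2 : u0_7 * s 2 = 1 * u0_5 := tree_up (s_sq 2)
theorem e0_6_0 : u0_6 * s 0 = 1 * u0_8 := (one_mul (u0_6 * s 0)).symm
theorem e0_8_0 : u0_8 * s 0 = 1 * u0_6 := tree_up (s_sq 0)
theorem e0_7_0 : u0_7 * s 0 = 1 * u0_9 := (one_mul (u0_7 * s 0)).symm
theorem e0_9_0 : u0_9 * s 0 = 1 * u0_7 := tree_up (s_sq 0)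
theorem e0_7_3 : u0_7 * s 3 = 1 * u0_10 := (one_mul (u0_7 * s 3)).symm
theorem e0_10_3 : u0_10 * s 3 = 1 * u0_7 := tree_up (s_sq 3)
theorem e0_9_3 : u0_9 * s 3 = 1 * u0_11 := (one_mul (u0_9 * s 3)).symm
theorem e0_11_3 : u0_11 * s 3 = 1 * u0_9 := tree_up (s_sq 3)
theorem e0_10_4 : u0_10 * s 4 = 1 * u0_12 := (one_mul (u0_10 * s 4)).symm
theorem e0_12_4 : u0_12 * s 4 = 1 * u0_10 := tree_up (s_sq 4)
theorem e0_11_2 : u0_11 * s 2 = 1 * u0_13 := (one_mul (u0_11 * s 2)).symm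
theorem e0_13_2 : u0_13 * s 2 = 1 * u0_11 := tree_up (s_sq 2)
theorem e0_11_4 : u0_11 * s 4 = 1 * u0_14 := (one_mul (u0_11 * s 4)).symm
theorem e0_14_4 : u0_14 * s 4 = 1 * u0_11 := tree_up (s_sq 4)
theorem e0_12_5 : u0_12 * s 5 = 1 * u0_15 := (one_mul (u0_12 * s 5)).symm
theorem e0_15_5 : u0_15 * s 5 = 1 * u0_12 := tree_up (s_sq 5)
theorem e0_13_4 : u0_13 * s 4 = 1 * u0_16 := (one_mul (u0_13 * s 4)).symm
theorem e0_16_4 : u0_16 * s 4 = 1 * u0_13 := tree_up (s_sq 4)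
theorem e0_14_5 : u0_14 * s 5 = 1 * u0_17 := (one_mul (u0_14 * s 5)).symm
theorem e0_17_5 : u0_17 * s 5 = 1 * u0_14 := tree_up (s_sq 5)
theorem e0_15_6 : u0_15 * s 6 = 1 * u0_18 := (one_mul (u0_15 * s 6)).symm
theorem e0_18_6 : u0_18 * s 6 = 1 * u0_15 := tree_up (s_sq 6)
theorem e0_16_3 : u0_16 * s 3 = 1 * u0_19 := (one_mul (u0_16 * s 3)).symm
theorem e0_19_3 : u0_19 * s 3 = 1 * u0_16 := tree_up (s_sq 3)
theorem e0_16_5 : u0_16 * s 5 = 1 * u0_20 := (one_mul (u0_16 * s 5)).symm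
theorem e0_20_5 : u0_20 * s 5 = 1 * u0_16 := tree_up (s_sq 5)
theorem e0_17_6 : u0_17 * s 6 = 1 * u0_21 := (one_mul (u0_17 * s 6)).symm
theorem e0_21_6 : u0_21 * s 6 = 1 * u0_17 := tree_up (s_sq 6)
theorem e0_19_1 : u0_19 * s 1 = 1 * u0_22 := (one_mul (u0_19 * s 1)).symm
theorem e0_22_1 : u0_22 * s 1 = 1 * u0_19 := tree_up (s_sq 1)
theorem e0_19_5 : u0_19 * s 5 = 1 * u0_23 := (one_mul (u0_19 * s 5)).symm
theorem e0_23_5 : u0_23 * s 5 = 1 * u0_19 := tree_up (s_sq 5)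
theorem e0_20_6 : u0_20 * s 6 = 1 * u0_24 := (one_mul (u0_20 * s 6)).symm
theorem e0_24_6 : u0_24 * s 6 = 1 * u0_20 := tree_up (s_sq 6)
theorem e0_22_5 : u0_22 * s 5 = 1 * u0_25 := (one_mul (u0_22 * s 5)).symm
theorem e0_25_5 : u0_25 * s 5 = 1 * u0_22 := tree_up (s_sq 5)
theorem e0_23_4 : u0_23 * s 4 = 1 * u0_26 := (one_mul (u0_23 * s 4)).symm
theorem e0_26_4 : u0_26 * s 4 = 1 * u0_23 := tree_up (s_sq 4)
theorem e0_23_6 : u0_23 * s 6 = 1 * u0_27 := (one_mul (u0_23 * s 6)).symm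
theorem e0_27_6 : u0_27 * s 6 = 1 * u0_23 := tree_up (s_sq 6)
theorem e0_25_4 : u0_25 * s 4 = 1 * u0_28 := (one_mul (u0_25 * s 4)).symm
theorem e0_28_4 : u0_28 * s 4 = 1 * u0_25 := tree_up (s_sq 4)
theorem e0_25_6 : u0_25 * s 6 = 1 * u0_29 := (one_mul (u0_25 * s 6)).symm
theorem e0_29_6 : u0_29 * s 6 = 1 * u0_25 := tree_up (s_sq 6)
theorem e0_26_6 : u0_26 * s 6 = 1 * u0_30 := (one_mul (u0_26 * s 6)).symm
theorem e0_30_6 : u0_30 * s 6 = 1 * u0_26 := tree_up (s_sq 6)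
theorem e0_28_3 : u0_28 * s 3 = 1 * u0_31 := (one_mul (u0_28 * s 3)).symm
theorem e0_31_3 : u0_31 * s 3 = 1 * u0_28 := tree_up (s_sq 3)
theorem e0_28_6 : u0_28 * s 6 = 1 * u0_32 := (one_mul (u0_28 * s 6)).symm
theorem e0_32_6 : u0_32 * s 6 = 1 * u0_28 := tree_up (s_sq 6)
theorem e0_30_5 : u0_30 * s 5 = 1 * u0_33 := (one_mul (u0_30 * s 5)).symm
theorem e0_33_5 : u0_33 * s 5 = 1 * u0_30 := tree_up (s_sq 5)
theorem e0_31_2 : u0_31 * s 2 = 1 * u0_34 := (one_mul (u0_31 * s 2)).symm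
theorem e0_34_2 : u0_34 * s 2 = 1 * u0_31 := tree_up (s_sq 2)
theorem e0_31_6 : u0_31 * s 6 = 1 * u0_35 := (one_mul (u0_31 * s 6)).symm
theorem e0_35_6 : u0_35 * s 6 = 1 * u0_31 := tree_up (s_sq 6)
theorem e0_32_5 : u0_32 * s 5 = 1 * u0_36 := (one_mul (u0_32 * s 5)).symm
theorem e0_36_5 : u0_36 * s 5 = 1 * u0_32 := tree_up (s_sq 5)
theorem e0_34_0 : u0_34 * s 0 = 1 * u0_37 := (one_mul (u0_34 * s 0)).symm
theorem e0_37_0 : u0_37 * s 0 = 1 * u0_34 := tree_up (s_sq 0)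
theorem e0_34_6 : u0_34 * s 6 = 1 * u0_38 := (one_mul (u0_34 * s 6)).symm
theorem e0_38_6 : u0_38 * s 6 = 1 * u0_34 := tree_up (s_sq 6)
theorem e0_35_5 : u0_35 * s 5 = 1 * u0_39 := (one_mul (u0_35 * s 5)).symm
theorem e0_39_5 : u0_39 * s 5 = 1 * u0_35 := tree_up (s_sq 5)
theorem e0_37_6 : u0_37 * s 6 = 1 * u0_40 := (one_mul (u0_37 * s 6)).symm
theorem e0_40_6 : u0_40 * s 6 = 1 * u0_37 := tree_up (s_sq 6)
theorem e0_38_5 : u0_38 * s 5 = 1 * u0_41 := (one_mul (u0_38 * s 5)).symm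
theorem e0_41_5 : u0_41 * s 5 = 1 * u0_38 := tree_up (s_sq 5)
theorem e0_39_4 : u0_39 * s 4 = 1 * u0_42 := (one_mul (u0_39 * s 4)).symm
theorem e0_42_4 : u0_42 * s 4 = 1 * u0_39 := tree_up (s_sq 4)
theorem e0_40_5 : u0_40 * s 5 = 1 * u0_43 := (one_mul (u0_40 * s 5)).symm
theorem e0_43_5 : u0_43 * s 5 = 1 * u0_40 := tree_up (s_sq 5)
theorem e0_41_4 : u0_41 * s 4 = 1 * u0_44 := (one_mul (u0_41 * s 4)).symm
theorem e0_44_4 : u0_44 * s 4 = 1 * u0_41 := tree_up (s_sq 4)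
theorem e0_43_4 : u0_43 * s 4 = 1 * u0_45 := (one_mul (u0_43 * s 4)).symm
theorem e0_45_4 : u0_45 * s 4 = 1 * u0_43 := tree_up (s_sq 4)
theorem e0_44_3 : u0_44 * s 3 = 1 * u0_46 := (one_mul (u0_44 * s 3)).symm
theorem e0_46_3 : u0_46 * s 3 = 1 * u0_44 := tree_up (s_sq 3)
theorem e0_45_3 : u0_45 * s 3 = 1 * u0_47 := (one_mul (u0_45 * s 3)).symm
theorem e0_47_3 : u0_47 * s 3 = 1 * u0_45 := tree_up (s_sq 3)
theorem e0_46_1 : u0_46 * s 1 = 1 * u0_48 := (one_mul (u0_46 * s 1)).symm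
theorem e0_48_1 : u0_48 * s 1 = 1 * u0_46 := tree_up (s_sq 1)
theorem e0_47_1 : u0_47 * s 1 = 1 * u0_49 := (one_mul (u0_47 * s 1)).symm
theorem e0_49_1 : u0_49 * s 1 = 1 * u0_47 := tree_up (s_sq 1)
theorem e0_47_2 : u0_47 * s 2 = 1 * u0_50 := (one_mul (u0_47 * s 2)).symm
theorem e0_50_2 : u0_50 * s 2 = 1 * u0_47 := tree_up (s_sq 2)
theorem e0_49_2 : u0_49 * s 2 = 1 * u0_51 := (one_mul (u0_49 * s 2)).symm
theorem e0_51_2 : u0_51 * s 2 = 1 * u0_49 := tree_up (s_sq 2)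
theorem e0_51_3 : u0_51 * s 3 = 1 * u0_52 := (one_mul (u0_51 * s 3)).symm
theorem e0_52_3 : u0_52 * s 3 = 1 * u0_51 := tree_up (s_sq 3)
theorem e0_52_4 : u0_52 * s 4 = 1 * u0_53 := (one_mul (u0_52 * s 4)).symm
theorem e0_53_4 : u0_53 * s 4 = 1 * u0_52 := tree_up (s_sq 4)
theorem e0_53_5 : u0_53 * s 5 = 1 * u0_54 := (one_mul (u0_53 * s 5)).symm
theorem e0_54_5 : u0_54 * s 5 = 1 * u0_53 := tree_up (s_sq 5)
theorem e0_54_6 : u0_54 * s 6 = 1 * u0_55 := (one_mul (u0_54 * s 6)).symm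
theorem e0_55_6 : u0_55 * s 6 = 1 * u0_54 := tree_up (s_sq 6)
theorem e0_0_0 : u0_0 * s 0 = s 0 * u0_0 := (one_mul (s 0)).trans (mul_one (s 0)).symm
theorem e0_0_1 : u0_0 * s 1 = s 1 * u0_0 := (one_mul (s 1)).trans (mul_one (s 1)).symm
theorem e0_0_2 : u0_0 * s 2 = s 2 * u0_0 := (one_mul (s 2)).trans (mul_one (s 2)).symm
theorem e0_0_3 : u0_0 * s 3 = s 3 * u0_0 := (one_mul (s 3)).trans (mul_one (s 3)).symm
theorem e0_0_4 : u0_0 * s 4 = s 4 * u0_0 := (one_mul (s 4)).trans (mul_one (s 4)).symm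
theorem e0_0_5 : u0_0 * s 5 = s 5 * u0_0 := (one_mul (s 5)).trans (mul_one (s 5)).symm
theorem e0_1_0 : u0_1 * s 0 = s 0 * u0_1 := by
  simpa only [one_mul, mul_one] using ded2 r_0_6 e0_1_6 e0_0_0 e0_0_6
theorem e0_1_1 : u0_1 * s 1 = s 1 * u0_1 := by
  simpa only [one_mul, mul_one] using ded2 r_1_6 e0_1_6 e0_0_1 e0_0_6
theorem e0_1_2 : u0_1 * s 2 = s 2 * u0_1 := by
  simpa only [one_mul, mul_one] using ded2 r_2_6 e0_1_6 e0_0_2 e0_0_6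
theorem e0_1_3 : u0_1 * s 3 = s 3 * u0_1 := by
  simpa only [one_mul, mul_one] using ded2 r_3_6 e0_1_6 e0_0_3 e0_0_6
theorem e0_1_4 : u0_1 * s 4 = s 4 * u0_1 := by
  simpa only [one_mul, mul_one] using ded2 r_4_6 e0_1_6 e0_0_4 e0_0_6
theorem e0_2_6 : u0_2 * s 6 = s 5 * u0_2 := by
  simpa only [one_mul, mul_one] using ded3 r_6_5 e0_2_5 e0_1_6 e0_0_5 e0_0_6 e0_1_5
theorem e0_2_0 : u0_2 * s 0 = s 0 * u0_2 := by
  simpa only [one_mul, mul_one] using ded2 r_0_5 e0_2_5 e0_1_0 e0_1_5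
theorem e0_2_1 : u0_2 * s 1 = s 1 * u0_2 := by
  simpa only [one_mul, mul_one] using ded2 r_1_5 e0_2_5 e0_1_1 e0_1_5
theorem e0_2_2 : u0_2 * s 2 = s 2 * u0_2 := by
  simpa only [one_mul, mul_one] using ded2 r_2_5 e0_2_5 e0_1_2 e0_1_5
theorem e0_2_3 : u0_2 * s 3 = s 3 * u0_2 := by
  simpa only [one_mul, mul_one] using ded2 r_3_5 e0_2_5 e0_1_3 e0_1_5
theorem e0_3_5 : u0_3 * s 5 = s 4 * u0_3 := by
  simpa only [one_mul, mul_one] using ded3 r_5_4 e0_3_4 e0_2_5 e0_1_4 e0_1_5 e0_2_4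
theorem e0_3_0 : u0_3 * s 0 = s 0 * u0_3 := by
  simpa only [one_mul, mul_one] using ded2 r_0_4 e0_3_4 e0_2_0 e0_2_4
theorem e0_3_1 : u0_3 * s 1 = s 1 * u0_3 := by
  simpa only [one_mul, mul_one] using ded2 r_1_4 e0_3_4 e0_2_1 e0_2_4
theorem e0_3_2 : u0_3 * s 2 = s 2 * u0_3 := by
  simpa only [one_mul, mul_one] using ded2 r_2_4 e0_3_4 e0_2_2 e0_2_4
theorem e0_4_4 : u0_4 * s 4 = s 3 * u0_4 := by
  simpa only [one_mul, mul_one] using ded3 r_4_3 e0_4_3 e0_3_4 e0_2_3 e0_2_4 e0_3_3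
theorem e0_3_6 : u0_3 * s 6 = s 5 * u0_3 := by
  simpa only [one_mul, mul_one] using ded2 r_6_4 e0_3_4 e0_2_6 e0_2_4
theorem e0_4_0 : u0_4 * s 0 = s 0 * u0_4 := by
  simpa only [one_mul, mul_one] using ded2 r_0_3 e0_4_3 e0_3_0 e0_3_3
theorem e0_5_3 : u0_5 * s 3 = s 1 * u0_5 := by
  simpa only [one_mul, mul_one] using ded3 r_3_1 e0_5_1 e0_4_3 e0_3_1 e0_3_3 e0_4_1
theorem e0_6_3 : u0_6 * s 3 = s 2 * u0_6 := by
  simpa only [one_mul, mul_one] using ded3 r_3_2 e0_6_2 e0_4_3 e0_3_2 e0_3_3 e0_4_2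
theorem e0_4_5 : u0_4 * s 5 = s 4 * u0_4 := by
  simpa only [one_mul, mul_one] using ded2 r_5_3 e0_4_3 e0_3_5 e0_3_3
theorem e0_4_6 : u0_4 * s 6 = s 5 * u0_4 := by
  simpa only [one_mul, mul_one] using ded2 r_6_3 e0_4_3 e0_3_6 e0_3_3
theorem e0_5_0 : u0_5 * s 0 = s 0 * u0_5 := by
  simpa only [one_mul, mul_one] using ded2 r_0_1 e0_5_1 e0_4_0 e0_4_1
theorem e0_8_2 : u0_8 * s 2 = s 0 * u0_8 := by
  simpa only [one_mul, mul_one] using ded3 r_2_0 e0_8_0 e0_6_2 e0_4_0 e0_4_2 e0_6_0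
theorem e0_7_1 : u0_7 * s 1 = 1 * u0_6 := by
  simpa only [one_mul, mul_one] using ded2 r_1_2 e0_7_2 e0_5_1 e0_4_2
theorem e0_6_1 : u0_6 * s 1 = 1 * u0_7 := rev_edge (s_sq 1) e0_7_1
theorem e0_5_4 : u0_5 * s 4 = s 3 * u0_5 := by
  simpa only [one_mul, mul_one] using ded2 r_4_1 e0_5_1 e0_4_4 e0_4_1
theorem e0_5_5 : u0_5 * s 5 = s 4 * u0_5 := by
  simpa only [one_mul, mul_one] using ded2 r_5_1 e0_5_1 e0_4_5 e0_4_1
theorem e0_5_6 : u0_5 * s 6 = s 5 * u0_5 := by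
  simpa only [one_mul, mul_one] using ded2 r_6_1 e0_5_1 e0_4_6 e0_4_1
theorem e0_6_4 : u0_6 * s 4 = s 3 * u0_6 := by
  simpa only [one_mul, mul_one] using ded2 r_4_2 e0_6_2 e0_4_4 e0_4_2
theorem e0_6_5 : u0_6 * s 5 = s 4 * u0_6 := by
  simpa only [one_mul, mul_one] using ded2 r_5_2 e0_6_2 e0_4_5 e0_4_2
theorem e0_6_6 : u0_6 * s 6 = s 5 * u0_6 := by
  simpa only [one_mul, mul_one] using ded2 r_6_2 e0_6_2 e0_4_6 e0_4_2
theorem e0_9_2 : u0_9 * s 2 = s 0 * u0_9 := by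
  simpa only [one_mul, mul_one] using ded3 r_2_0 e0_9_0 e0_7_2 e0_5_0 e0_5_2 e0_7_0
theorem e0_10_2 : u0_10 * s 2 = s 1 * u0_10 := by
  simpa only [one_mul, mul_one] using ded3 r_2_3 e0_10_3 e0_7_2 e0_5_3 e0_5_2 e0_7_3
theorem e0_7_4 : u0_7 * s 4 = s 3 * u0_7 := by
  simpa only [one_mul, mul_one] using ded2 r_4_2 e0_7_2 e0_5_4 e0_5_2
theorem e0_7_5 : u0_7 * s 5 = s 4 * u0_7 := by
  simpa only [one_mul, mul_one] using ded2 r_5_2 e0_7_2 e0_5_5 e0_5_2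
theorem e0_7_6 : u0_7 * s 6 = s 5 * u0_7 := by
  simpa only [one_mul, mul_one] using ded2 r_6_2 e0_7_2 e0_5_6 e0_5_2
theorem e0_8_1 : u0_8 * s 1 = 1 * u0_9 := by
  simpa only [one_mul, mul_one] using ded2 r_1_0 e0_8_0 e0_6_1 e0_7_0
theorem e0_9_1 : u0_9 * s 1 = 1 * u0_8 := rev_edge (s_sq 1) e0_8_1
theorem e0_8_3 : u0_8 * s 3 = s 2 * u0_8 := by
  simpa only [one_mul, mul_one] using ded2 r_3_0 e0_8_0 e0_6_3 e0_6_0
theorem e0_8_4 : u0_8 * s 4 = s 3 * u0_8 := by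
  simpa only [one_mul, mul_one] using ded2 r_4_0 e0_8_0 e0_6_4 e0_6_0
theorem e0_8_5 : u0_8 * s 5 = s 4 * u0_8 := by
  simpa only [one_mul, mul_one] using ded2 r_5_0 e0_8_0 e0_6_5 e0_6_0
theorem e0_8_6 : u0_8 * s 6 = s 5 * u0_8 := by
  simpa only [one_mul, mul_one] using ded2 r_6_0 e0_8_0 e0_6_6 e0_6_0
theorem e0_10_1 : u0_10 * s 1 = s 2 * u0_10 := by
  simpa only [one_mul, mul_one] using ded3 r_1_3 e0_10_3 e0_7_1 e0_6_3 e0_6_1 e0_7_3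
theorem e0_11_0 : u0_11 * s 0 = 1 * u0_10 := by
  simpa only [one_mul, mul_one] using ded2 r_0_3 e0_11_3 e0_9_0 e0_7_3
theorem e0_10_0 : u0_10 * s 0 = 1 * u0_11 := rev_edge (s_sq 0) e0_11_0
theorem e0_9_4 : u0_9 * s 4 = s 3 * u0_9 := by
  simpa only [one_mul, mul_one] using ded2 r_4_0 e0_9_0 e0_7_4 e0_7_0
theorem e0_9_5 : u0_9 * s 5 = s 4 * u0_9 := by
  simpa only [one_mul, mul_one] using ded2 r_5_0 e0_9_0 e0_7_5 e0_7_0
theorem e0_9_6 : u0_9 * s 6 = s 5 * u0_9 := by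
  simpa only [one_mul, mul_one] using ded2 r_6_0 e0_9_0 e0_7_6 e0_7_0
theorem e0_12_3 : u0_12 * s 3 = s 3 * u0_12 := by
  simpa only [one_mul, mul_one] using ded3 r_3_4 e0_12_4 e0_10_3 e0_7_4 e0_7_3 e0_10_4
theorem e0_10_5 : u0_10 * s 5 = s 4 * u0_10 := by
  simpa only [one_mul, mul_one] using ded2 r_5_3 e0_10_3 e0_7_5 e0_7_3
theorem e0_10_6 : u0_10 * s 6 = s 5 * u0_10 := by
  simpa only [one_mul, mul_one] using ded2 r_6_3 e0_10_3 e0_7_6 e0_7_3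
theorem e0_11_1 : u0_11 * s 1 = s 2 * u0_11 := by
  simpa only [one_mul, mul_one] using ded3 r_1_3 e0_11_3 e0_9_1 e0_8_3 e0_8_1 e0_9_3
theorem e0_13_3 : u0_13 * s 3 = s 0 * u0_13 := by
  simpa only [one_mul, mul_one] using ded3 r_3_2 e0_13_2 e0_11_3 e0_9_2 e0_9_3 e0_11_2
theorem e0_14_3 : u0_14 * s 3 = s 3 * u0_14 := by
  simpa only [one_mul, mul_one] using ded3 r_3_4 e0_14_4 e0_11_3 e0_9_4 e0_9_3 e0_11_4
theorem e0_11_5 : u0_11 * s 5 = s 4 * u0_11 := by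
  simpa only [one_mul, mul_one] using ded2 r_5_3 e0_11_3 e0_9_5 e0_9_3
theorem e0_11_6 : u0_11 * s 6 = s 5 * u0_11 := by
  simpa only [one_mul, mul_one] using ded2 r_6_3 e0_11_3 e0_9_6 e0_9_3
theorem e0_13_0 : u0_13 * s 0 = s 1 * u0_13 := by
  simpa only [one_mul, mul_one] using ded3 r_0_2 e0_13_2 e0_11_0 e0_10_2 e0_10_0 e0_11_2
theorem e0_14_0 : u0_14 * s 0 = 1 * u0_12 := by
  simpa only [one_mul, mul_one] using ded2 r_0_4 e0_14_4 e0_11_0 e0_10_4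
theorem e0_12_0 : u0_12 * s 0 = 1 * u0_14 := rev_edge (s_sq 0) e0_14_0
theorem e0_12_1 : u0_12 * s 1 = s 2 * u0_12 := by
  simpa only [one_mul, mul_one] using ded2 r_1_4 e0_12_4 e0_10_1 e0_10_4
theorem e0_12_2 : u0_12 * s 2 = s 1 * u0_12 := by
  simpa only [one_mul, mul_one] using ded2 r_2_4 e0_12_4 e0_10_2 e0_10_4
theorem e0_15_4 : u0_15 * s 4 = s 4 * u0_15 := by
  simpa only [one_mul, mul_one] using ded3 r_4_5 e0_15_5 e0_12_4 e0_10_5 e0_10_4 e0_12_5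
theorem e0_12_6 : u0_12 * s 6 = s 5 * u0_12 := by
  simpa only [one_mul, mul_one] using ded2 r_6_4 e0_12_4 e0_10_6 e0_10_4
theorem e0_13_1 : u0_13 * s 1 = s 2 * u0_13 := by
  simpa only [one_mul, mul_one] using ded2 r_1_2 e0_13_2 e0_11_1 e0_11_2
theorem e0_14_1 : u0_14 * s 1 = s 2 * u0_14 := by
  simpa only [one_mul, mul_one] using ded2 r_1_4 e0_14_4 e0_11_1 e0_11_4
theorem e0_16_2 : u0_16 * s 2 = 1 * u0_14 := by
  simpa only [one_mul, mul_one] using ded2 r_2_4 e0_16_4 e0_13_2 e0_11_4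
theorem e0_14_2 : u0_14 * s 2 = 1 * u0_16 := rev_edge (s_sq 2) e0_16_2
theorem e0_13_5 : u0_13 * s 5 = s 4 * u0_13 := by
  simpa only [one_mul, mul_one] using ded2 r_5_2 e0_13_2 e0_11_5 e0_11_2
theorem e0_13_6 : u0_13 * s 6 = s 5 * u0_13 := by
  simpa only [one_mul, mul_one] using ded2 r_6_2 e0_13_2 e0_11_6 e0_11_2
theorem e0_17_4 : u0_17 * s 4 = s 4 * u0_17 := by
  simpa only [one_mul, mul_one] using ded3 r_4_5 e0_17_5 e0_14_4 e0_11_5 e0_11_4 e0_14_5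
theorem e0_14_6 : u0_14 * s 6 = s 5 * u0_14 := by
  simpa only [one_mul, mul_one] using ded2 r_6_4 e0_14_4 e0_11_6 e0_11_4
theorem e0_16_0 : u0_16 * s 0 = s 1 * u0_16 := by
  simpa only [one_mul, mul_one] using ded3 r_0_2 e0_16_2 e0_14_0 e0_12_2 e0_12_0 e0_14_2
theorem e0_17_0 : u0_17 * s 0 = 1 * u0_15 := by
  simpa only [one_mul, mul_one] using ded2 r_0_5 e0_17_5 e0_14_0 e0_12_5
theorem e0_15_0 : u0_15 * s 0 = 1 * u0_17 := rev_edge (s_sq 0) e0_17_0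
theorem e0_15_1 : u0_15 * s 1 = s 2 * u0_15 := by
  simpa only [one_mul, mul_one] using ded2 r_1_5 e0_15_5 e0_12_1 e0_12_5
theorem e0_15_2 : u0_15 * s 2 = s 1 * u0_15 := by
  simpa only [one_mul, mul_one] using ded2 r_2_5 e0_15_5 e0_12_2 e0_12_5
theorem e0_15_3 : u0_15 * s 3 = s 3 * u0_15 := by
  simpa only [one_mul, mul_one] using ded2 r_3_5 e0_15_5 e0_12_3 e0_12_5
theorem e0_18_5 : u0_18 * s 5 = s 5 * u0_18 := by
  simpa only [one_mul, mul_one] using ded3 r_5_6 e0_18_6 e0_15_5 e0_12_6 e0_12_5 e0_15_6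
theorem e0_16_1 : u0_16 * s 1 = s 2 * u0_16 := by
  simpa only [one_mul, mul_one] using ded2 r_1_4 e0_16_4 e0_13_1 e0_13_4
theorem e0_19_4 : u0_19 * s 4 = s 0 * u0_19 := by
  simpa only [one_mul, mul_one] using ded3 r_4_3 e0_19_3 e0_16_4 e0_13_3 e0_13_4 e0_16_3
theorem e0_20_4 : u0_20 * s 4 = s 4 * u0_20 := by
  simpa only [one_mul, mul_one] using ded3 r_4_5 e0_20_5 e0_16_4 e0_13_5 e0_13_4 e0_16_5
theorem e0_16_6 : u0_16 * s 6 = s 5 * u0_16 := by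
  simpa only [one_mul, mul_one] using ded2 r_6_4 e0_16_4 e0_13_6 e0_13_4
theorem e0_17_1 : u0_17 * s 1 = s 2 * u0_17 := by
  simpa only [one_mul, mul_one] using ded2 r_1_5 e0_17_5 e0_14_1 e0_14_5
theorem e0_19_2 : u0_19 * s 2 = s 3 * u0_19 := by
  simpa only [one_mul, mul_one] using ded3 r_2_3 e0_19_3 e0_16_2 e0_14_3 e0_14_2 e0_16_3
theorem e0_20_2 : u0_20 * s 2 = 1 * u0_17 := by
  simpa only [one_mul, mul_one] using ded2 r_2_5 e0_20_5 e0_16_2 e0_14_5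
theorem e0_17_2 : u0_17 * s 2 = 1 * u0_20 := rev_edge (s_sq 2) e0_20_2
theorem e0_17_3 : u0_17 * s 3 = s 3 * u0_17 := by
  simpa only [one_mul, mul_one] using ded2 r_3_5 e0_17_5 e0_14_3 e0_14_5
theorem e0_21_5 : u0_21 * s 5 = s 5 * u0_21 := by
  simpa only [one_mul, mul_one] using ded3 r_5_6 e0_21_6 e0_17_5 e0_14_6 e0_14_5 e0_17_6
theorem e0_20_0 : u0_20 * s 0 = s 1 * u0_20 := by
  simpa only [one_mul, mul_one] using ded3 r_0_2 e0_20_2 e0_17_0 e0_15_2 e0_15_0 e0_17_2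
theorem e0_21_0 : u0_21 * s 0 = 1 * u0_18 := by
  simpa only [one_mul, mul_one] using ded2 r_0_6 e0_21_6 e0_17_0 e0_15_6
theorem e0_18_0 : u0_18 * s 0 = 1 * u0_21 := rev_edge (s_sq 0) e0_21_0
theorem e0_18_1 : u0_18 * s 1 = s 2 * u0_18 := by
  simpa only [one_mul, mul_one] using ded2 r_1_6 e0_18_6 e0_15_1 e0_15_6
theorem e0_18_2 : u0_18 * s 2 = s 1 * u0_18 := by
  simpa only [one_mul, mul_one] using ded2 r_2_6 e0_18_6 e0_15_2 e0_15_6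
theorem e0_18_3 : u0_18 * s 3 = s 3 * u0_18 := by
  simpa only [one_mul, mul_one] using ded2 r_3_6 e0_18_6 e0_15_3 e0_15_6
theorem e0_18_4 : u0_18 * s 4 = s 4 * u0_18 := by
  simpa only [one_mul, mul_one] using ded2 r_4_6 e0_18_6 e0_15_4 e0_15_6
theorem e0_19_0 : u0_19 * s 0 = s 1 * u0_19 := by
  simpa only [one_mul, mul_one] using ded2 r_0_3 e0_19_3 e0_16_0 e0_16_3
theorem e0_22_3 : u0_22 * s 3 = s 2 * u0_22 := by
  simpa only [one_mul, mul_one] using ded3 r_3_1 e0_22_1 e0_19_3 e0_16_1 e0_16_3 e0_19_1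
theorem e0_20_1 : u0_20 * s 1 = s 2 * u0_20 := by
  simpa only [one_mul, mul_one] using ded2 r_1_5 e0_20_5 e0_16_1 e0_16_5
theorem e0_23_3 : u0_23 * s 3 = 1 * u0_20 := by
  simpa only [one_mul, mul_one] using ded2 r_3_5 e0_23_5 e0_19_3 e0_16_5
theorem e0_20_3 : u0_20 * s 3 = 1 * u0_23 := rev_edge (s_sq 3) e0_23_3
theorem e0_19_6 : u0_19 * s 6 = s 5 * u0_19 := by
  simpa only [one_mul, mul_one] using ded2 r_6_3 e0_19_3 e0_16_6 e0_16_3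
theorem e0_24_5 : u0_24 * s 5 = s 5 * u0_24 := by
  simpa only [one_mul, mul_one] using ded3 r_5_6 e0_24_6 e0_20_5 e0_16_6 e0_16_5 e0_20_6
theorem e0_21_1 : u0_21 * s 1 = s 2 * u0_21 := by
  simpa only [one_mul, mul_one] using ded2 r_1_6 e0_21_6 e0_17_1 e0_17_6
theorem e0_23_2 : u0_23 * s 2 = s 3 * u0_23 := by
  simpa only [one_mul, mul_one] using ded3 r_2_3 e0_23_3 e0_20_2 e0_17_3 e0_17_2 e0_20_3
theorem e0_24_2 : u0_24 * s 2 = 1 * u0_21 := by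
  simpa only [one_mul, mul_one] using ded2 r_2_6 e0_24_6 e0_20_2 e0_17_6
theorem e0_21_2 : u0_21 * s 2 = 1 * u0_24 := rev_edge (s_sq 2) e0_24_2
theorem e0_21_3 : u0_21 * s 3 = s 3 * u0_21 := by
  simpa only [one_mul, mul_one] using ded2 r_3_6 e0_21_6 e0_17_3 e0_17_6
theorem e0_21_4 : u0_21 * s 4 = s 4 * u0_21 := by
  simpa only [one_mul, mul_one] using ded2 r_4_6 e0_21_6 e0_17_4 e0_17_6
theorem e0_24_0 : u0_24 * s 0 = s 1 * u0_24 := by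
  simpa only [one_mul, mul_one] using ded3 r_0_2 e0_24_2 e0_21_0 e0_18_2 e0_18_0 e0_21_2
theorem e0_22_0 : u0_22 * s 0 = s 1 * u0_22 := by
  simpa only [one_mul, mul_one] using ded2 r_0_1 e0_22_1 e0_19_0 e0_19_1
theorem e0_23_0 : u0_23 * s 0 = s 1 * u0_23 := by
  simpa only [one_mul, mul_one] using ded2 r_0_5 e0_23_5 e0_19_0 e0_19_5
theorem e0_22_2 : u0_22 * s 2 = s 3 * u0_22 := by
  simpa only [one_mul, mul_one] using ded2 r_2_1 e0_22_1 e0_19_2 e0_19_1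
theorem e0_22_4 : u0_22 * s 4 = s 0 * u0_22 := by
  simpa only [one_mul, mul_one] using ded2 r_4_1 e0_22_1 e0_19_4 e0_19_1
theorem e0_25_1 : u0_25 * s 1 = 1 * u0_23 := by
  simpa only [one_mul, mul_one] using ded2 r_1_5 e0_25_5 e0_22_1 e0_19_5
theorem e0_23_1 : u0_23 * s 1 = 1 * u0_25 := rev_edge (s_sq 1) e0_25_1
theorem e0_22_6 : u0_22 * s 6 = s 5 * u0_22 := by
  simpa only [one_mul, mul_one] using ded2 r_6_1 e0_22_1 e0_19_6 e0_19_1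
theorem e0_26_5 : u0_26 * s 5 = s 0 * u0_26 := by
  simpa only [one_mul, mul_one] using ded3 r_5_4 e0_26_4 e0_23_5 e0_19_4 e0_19_5 e0_23_4
theorem e0_27_5 : u0_27 * s 5 = s 5 * u0_27 := by
  simpa only [one_mul, mul_one] using ded3 r_5_6 e0_27_6 e0_23_5 e0_19_6 e0_19_5 e0_23_6
theorem e0_25_3 : u0_25 * s 3 = s 2 * u0_25 := by
  simpa only [one_mul, mul_one] using ded3 r_3_1 e0_25_1 e0_23_3 e0_20_1 e0_20_3 e0_23_1
theorem e0_24_1 : u0_24 * s 1 = s 2 * u0_24 := by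
  simpa only [one_mul, mul_one] using ded2 r_1_6 e0_24_6 e0_20_1 e0_20_6
theorem e0_26_3 : u0_26 * s 3 = s 4 * u0_26 := by
  simpa only [one_mul, mul_one] using ded3 r_3_4 e0_26_4 e0_23_3 e0_20_4 e0_20_3 e0_23_4
theorem e0_27_3 : u0_27 * s 3 = 1 * u0_24 := by
  simpa only [one_mul, mul_one] using ded2 r_3_6 e0_27_6 e0_23_3 e0_20_6
theorem e0_24_3 : u0_24 * s 3 = 1 * u0_27 := rev_edge (s_sq 3) e0_27_3
theorem e0_24_4 : u0_24 * s 4 = s 4 * u0_24 := by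
  simpa only [one_mul, mul_one] using ded2 r_4_6 e0_24_6 e0_20_4 e0_20_6
theorem e0_27_2 : u0_27 * s 2 = s 3 * u0_27 := by
  simpa only [one_mul, mul_one] using ded3 r_2_3 e0_27_3 e0_24_2 e0_21_3 e0_21_2 e0_24_3
theorem e0_25_0 : u0_25 * s 0 = s 1 * u0_25 := by
  simpa only [one_mul, mul_one] using ded2 r_0_5 e0_25_5 e0_22_0 e0_22_5
theorem e0_25_2 : u0_25 * s 2 = s 3 * u0_25 := by
  simpa only [one_mul, mul_one] using ded2 r_2_5 e0_25_5 e0_22_2 e0_22_5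
theorem e0_28_5 : u0_28 * s 5 = s 0 * u0_28 := by
  simpa only [one_mul, mul_one] using ded3 r_5_4 e0_28_4 e0_25_5 e0_22_4 e0_22_5 e0_25_4
theorem e0_29_5 : u0_29 * s 5 = s 5 * u0_29 := by
  simpa only [one_mul, mul_one] using ded3 r_5_6 e0_29_6 e0_25_5 e0_22_6 e0_22_5 e0_25_6
theorem e0_26_0 : u0_26 * s 0 = s 1 * u0_26 := by
  simpa only [one_mul, mul_one] using ded2 r_0_4 e0_26_4 e0_23_0 e0_23_4
theorem e0_27_0 : u0_27 * s 0 = s 1 * u0_27 := by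
  simpa only [one_mul, mul_one] using ded2 r_0_6 e0_27_6 e0_23_0 e0_23_6
theorem e0_28_1 : u0_28 * s 1 = 1 * u0_26 := by
  simpa only [one_mul, mul_one] using ded2 r_1_4 e0_28_4 e0_25_1 e0_23_4
theorem e0_26_1 : u0_26 * s 1 = 1 * u0_28 := rev_edge (s_sq 1) e0_28_1
theorem e0_29_1 : u0_29 * s 1 = 1 * u0_27 := by
  simpa only [one_mul, mul_one] using ded2 r_1_6 e0_29_6 e0_25_1 e0_23_6
theorem e0_27_1 : u0_27 * s 1 = 1 * u0_29 := rev_edge (s_sq 1) e0_29_1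
theorem e0_26_2 : u0_26 * s 2 = s 3 * u0_26 := by
  simpa only [one_mul, mul_one] using ded2 r_2_4 e0_26_4 e0_23_2 e0_23_4
theorem e0_30_4 : u0_30 * s 4 = 1 * u0_27 := by
  simpa only [one_mul, mul_one] using ded2 r_4_6 e0_30_6 e0_26_4 e0_23_6
theorem e0_27_4 : u0_27 * s 4 = 1 * u0_30 := rev_edge (s_sq 4) e0_30_4
theorem e0_29_3 : u0_29 * s 3 = s 2 * u0_29 := by
  simpa only [one_mul, mul_one] using ded3 r_3_1 e0_29_1 e0_27_3 e0_24_1 e0_24_3 e0_27_1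
theorem e0_30_3 : u0_30 * s 3 = s 4 * u0_30 := by
  simpa only [one_mul, mul_one] using ded3 r_3_4 e0_30_4 e0_27_3 e0_24_4 e0_24_3 e0_27_4
theorem e0_28_0 : u0_28 * s 0 = s 1 * u0_28 := by
  simpa only [one_mul, mul_one] using ded2 r_0_4 e0_28_4 e0_25_0 e0_25_4
theorem e0_29_0 : u0_29 * s 0 = s 1 * u0_29 := by
  simpa only [one_mul, mul_one] using ded2 r_0_6 e0_29_6 e0_25_0 e0_25_6
theorem e0_28_2 : u0_28 * s 2 = s 3 * u0_28 := by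
  simpa only [one_mul, mul_one] using ded2 r_2_4 e0_28_4 e0_25_2 e0_25_4
theorem e0_29_2 : u0_29 * s 2 = s 3 * u0_29 := by
  simpa only [one_mul, mul_one] using ded2 r_2_6 e0_29_6 e0_25_2 e0_25_6
theorem e0_31_4 : u0_31 * s 4 = s 2 * u0_31 := by
  simpa only [one_mul, mul_one] using ded3 r_4_3 e0_31_3 e0_28_4 e0_25_3 e0_25_4 e0_28_3
theorem e0_32_4 : u0_32 * s 4 = 1 * u0_29 := by
  simpa only [one_mul, mul_one] using ded2 r_4_6 e0_32_6 e0_28_4 e0_25_6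
theorem e0_29_4 : u0_29 * s 4 = 1 * u0_32 := rev_edge (s_sq 4) e0_32_4
theorem e0_30_0 : u0_30 * s 0 = s 1 * u0_30 := by
  simpa only [one_mul, mul_one] using ded2 r_0_6 e0_30_6 e0_26_0 e0_26_6
theorem e0_31_1 : u0_31 * s 1 = s 4 * u0_31 := by
  simpa only [one_mul, mul_one] using ded3 r_1_3 e0_31_3 e0_28_1 e0_26_3 e0_26_1 e0_28_3
theorem e0_32_1 : u0_32 * s 1 = 1 * u0_30 := by
  simpa only [one_mul, mul_one] using ded2 r_1_6 e0_32_6 e0_28_1 e0_26_6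
theorem e0_30_1 : u0_30 * s 1 = 1 * u0_32 := rev_edge (s_sq 1) e0_32_1
theorem e0_30_2 : u0_30 * s 2 = s 3 * u0_30 := by
  simpa only [one_mul, mul_one] using ded2 r_2_6 e0_30_6 e0_26_2 e0_26_6
theorem e0_33_6 : u0_33 * s 6 = s 0 * u0_33 := by
  simpa only [one_mul, mul_one] using ded3 r_6_5 e0_33_5 e0_30_6 e0_26_5 e0_26_6 e0_30_5
theorem e0_33_4 : u0_33 * s 4 = s 5 * u0_33 := by
  simpa only [one_mul, mul_one] using ded3 r_4_5 e0_33_5 e0_30_4 e0_27_5 e0_27_4 e0_30_5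
theorem e0_31_0 : u0_31 * s 0 = s 1 * u0_31 := by
  simpa only [one_mul, mul_one] using ded2 r_0_3 e0_31_3 e0_28_0 e0_28_3
theorem e0_32_0 : u0_32 * s 0 = s 1 * u0_32 := by
  simpa only [one_mul, mul_one] using ded2 r_0_6 e0_32_6 e0_28_0 e0_28_6
theorem e0_34_3 : u0_34 * s 3 = s 3 * u0_34 := by
  simpa only [one_mul, mul_one] using ded3 r_3_2 e0_34_2 e0_31_3 e0_28_2 e0_28_3 e0_31_2
theorem e0_32_2 : u0_32 * s 2 = s 3 * u0_32 := by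
  simpa only [one_mul, mul_one] using ded2 r_2_6 e0_32_6 e0_28_2 e0_28_6
theorem e0_31_5 : u0_31 * s 5 = s 0 * u0_31 := by
  simpa only [one_mul, mul_one] using ded2 r_5_3 e0_31_3 e0_28_5 e0_28_3
theorem e0_35_3 : u0_35 * s 3 = 1 * u0_32 := by
  simpa only [one_mul, mul_one] using ded2 r_3_6 e0_35_6 e0_31_3 e0_28_6
theorem e0_32_3 : u0_32 * s 3 = 1 * u0_35 := rev_edge (s_sq 3) e0_35_3
theorem e0_36_6 : u0_36 * s 6 = s 0 * u0_36 := by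
  simpa only [one_mul, mul_one] using ded3 r_6_5 e0_36_5 e0_32_6 e0_28_5 e0_28_6 e0_32_5
theorem e0_35_4 : u0_35 * s 4 = s 2 * u0_35 := by
  simpa only [one_mul, mul_one] using ded3 r_4_3 e0_35_3 e0_32_4 e0_29_3 e0_29_4 e0_32_3
theorem e0_36_4 : u0_36 * s 4 = s 5 * u0_36 := by
  simpa only [one_mul, mul_one] using ded3 r_4_5 e0_36_5 e0_32_4 e0_29_5 e0_29_4 e0_32_5
theorem e0_33_0 : u0_33 * s 0 = s 1 * u0_33 := by
  simpa only [one_mul, mul_one] using ded2 r_0_5 e0_33_5 e0_30_0 e0_30_5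
theorem e0_35_1 : u0_35 * s 1 = s 4 * u0_35 := by
  simpa only [one_mul, mul_one] using ded3 r_1_3 e0_35_3 e0_32_1 e0_30_3 e0_30_1 e0_32_3
theorem e0_36_1 : u0_36 * s 1 = 1 * u0_33 := by
  simpa only [one_mul, mul_one] using ded2 r_1_5 e0_36_5 e0_32_1 e0_30_5
theorem e0_33_1 : u0_33 * s 1 = 1 * u0_36 := rev_edge (s_sq 1) e0_36_1
theorem e0_33_2 : u0_33 * s 2 = s 3 * u0_33 := by
  simpa only [one_mul, mul_one] using ded2 r_2_5 e0_33_5 e0_30_2 e0_30_5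
theorem e0_33_3 : u0_33 * s 3 = s 4 * u0_33 := by
  simpa only [one_mul, mul_one] using ded2 r_3_5 e0_33_5 e0_30_3 e0_30_5
theorem e0_37_2 : u0_37 * s 2 = s 1 * u0_37 := by
  simpa only [one_mul, mul_one] using ded3 r_2_0 e0_37_0 e0_34_2 e0_31_0 e0_31_2 e0_34_0
theorem e0_35_0 : u0_35 * s 0 = s 1 * u0_35 := by
  simpa only [one_mul, mul_one] using ded2 r_0_6 e0_35_6 e0_31_0 e0_31_6
theorem e0_34_1 : u0_34 * s 1 = s 4 * u0_34 := by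
  simpa only [one_mul, mul_one] using ded2 r_1_2 e0_34_2 e0_31_1 e0_31_2
theorem e0_34_4 : u0_34 * s 4 = s 2 * u0_34 := by
  simpa only [one_mul, mul_one] using ded2 r_4_2 e0_34_2 e0_31_4 e0_31_2
theorem e0_34_5 : u0_34 * s 5 = s 0 * u0_34 := by
  simpa only [one_mul, mul_one] using ded2 r_5_2 e0_34_2 e0_31_5 e0_31_2
theorem e0_38_2 : u0_38 * s 2 = 1 * u0_35 := by
  simpa only [one_mul, mul_one] using ded2 r_2_6 e0_38_6 e0_34_2 e0_31_6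
theorem e0_35_2 : u0_35 * s 2 = 1 * u0_38 := rev_edge (s_sq 2) e0_38_2
theorem e0_39_6 : u0_39 * s 6 = s 0 * u0_39 := by
  simpa only [one_mul, mul_one] using ded3 r_6_5 e0_39_5 e0_35_6 e0_31_5 e0_31_6 e0_35_5
theorem e0_36_0 : u0_36 * s 0 = s 1 * u0_36 := by
  simpa only [one_mul, mul_one] using ded2 r_0_5 e0_36_5 e0_32_0 e0_32_5
theorem e0_38_3 : u0_38 * s 3 = s 3 * u0_38 := by
  simpa only [one_mul, mul_one] using ded3 r_3_2 e0_38_2 e0_35_3 e0_32_2 e0_32_3 e0_35_2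
theorem e0_36_2 : u0_36 * s 2 = s 3 * u0_36 := by
  simpa only [one_mul, mul_one] using ded2 r_2_5 e0_36_5 e0_32_2 e0_32_5
theorem e0_39_3 : u0_39 * s 3 = 1 * u0_36 := by
  simpa only [one_mul, mul_one] using ded2 r_3_5 e0_39_5 e0_35_3 e0_32_5
theorem e0_36_3 : u0_36 * s 3 = 1 * u0_39 := rev_edge (s_sq 3) e0_39_3
theorem e0_39_1 : u0_39 * s 1 = s 4 * u0_39 := by
  simpa only [one_mul, mul_one] using ded3 r_1_3 e0_39_3 e0_36_1 e0_33_3 e0_33_1 e0_36_3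
theorem e0_37_1 : u0_37 * s 1 = s 4 * u0_37 := by
  simpa only [one_mul, mul_one] using ded2 r_1_0 e0_37_0 e0_34_1 e0_34_0
theorem e0_37_3 : u0_37 * s 3 = s 3 * u0_37 := by
  simpa only [one_mul, mul_one] using ded2 r_3_0 e0_37_0 e0_34_3 e0_34_0
theorem e0_37_4 : u0_37 * s 4 = s 2 * u0_37 := by
  simpa only [one_mul, mul_one] using ded2 r_4_0 e0_37_0 e0_34_4 e0_34_0
theorem e0_37_5 : u0_37 * s 5 = s 0 * u0_37 := by
  simpa only [one_mul, mul_one] using ded2 r_5_0 e0_37_0 e0_34_5 e0_34_0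
theorem e0_40_0 : u0_40 * s 0 = 1 * u0_38 := by
  simpa only [one_mul, mul_one] using ded2 r_0_6 e0_40_6 e0_37_0 e0_34_6
theorem e0_38_0 : u0_38 * s 0 = 1 * u0_40 := rev_edge (s_sq 0) e0_40_0
theorem e0_38_1 : u0_38 * s 1 = s 4 * u0_38 := by
  simpa only [one_mul, mul_one] using ded2 r_1_6 e0_38_6 e0_34_1 e0_34_6
theorem e0_38_4 : u0_38 * s 4 = s 2 * u0_38 := by
  simpa only [one_mul, mul_one] using ded2 r_4_6 e0_38_6 e0_34_4 e0_34_6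
theorem e0_41_6 : u0_41 * s 6 = s 0 * u0_41 := by
  simpa only [one_mul, mul_one] using ded3 r_6_5 e0_41_5 e0_38_6 e0_34_5 e0_34_6 e0_38_5
theorem e0_40_2 : u0_40 * s 2 = s 1 * u0_40 := by
  simpa only [one_mul, mul_one] using ded3 r_2_0 e0_40_0 e0_38_2 e0_35_0 e0_35_2 e0_38_0
theorem e0_39_0 : u0_39 * s 0 = s 1 * u0_39 := by
  simpa only [one_mul, mul_one] using ded2 r_0_5 e0_39_5 e0_35_0 e0_35_5
theorem e0_41_2 : u0_41 * s 2 = 1 * u0_39 := by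
  simpa only [one_mul, mul_one] using ded2 r_2_5 e0_41_5 e0_38_2 e0_35_5
theorem e0_39_2 : u0_39 * s 2 = 1 * u0_41 := rev_edge (s_sq 2) e0_41_2
theorem e0_42_5 : u0_42 * s 5 = s 2 * u0_42 := by
  simpa only [one_mul, mul_one] using ded3 r_5_4 e0_42_4 e0_39_5 e0_35_4 e0_35_5 e0_39_4
theorem e0_41_3 : u0_41 * s 3 = s 3 * u0_41 := by
  simpa only [one_mul, mul_one] using ded3 r_3_2 e0_41_2 e0_39_3 e0_36_2 e0_36_3 e0_39_2
theorem e0_42_3 : u0_42 * s 3 = s 5 * u0_42 := by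
  simpa only [one_mul, mul_one] using ded3 r_3_4 e0_42_4 e0_39_3 e0_36_4 e0_36_3 e0_39_4
theorem e0_40_1 : u0_40 * s 1 = s 4 * u0_40 := by
  simpa only [one_mul, mul_one] using ded2 r_1_6 e0_40_6 e0_37_1 e0_37_6
theorem e0_40_3 : u0_40 * s 3 = s 3 * u0_40 := by
  simpa only [one_mul, mul_one] using ded2 r_3_6 e0_40_6 e0_37_3 e0_37_6
theorem e0_40_4 : u0_40 * s 4 = s 2 * u0_40 := by
  simpa only [one_mul, mul_one] using ded2 r_4_6 e0_40_6 e0_37_4 e0_37_6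
theorem e0_43_6 : u0_43 * s 6 = s 0 * u0_43 := by
  simpa only [one_mul, mul_one] using ded3 r_6_5 e0_43_5 e0_40_6 e0_37_5 e0_37_6 e0_40_5
theorem e0_43_0 : u0_43 * s 0 = 1 * u0_41 := by
  simpa only [one_mul, mul_one] using ded2 r_0_5 e0_43_5 e0_40_0 e0_38_5
theorem e0_41_0 : u0_41 * s 0 = 1 * u0_43 := rev_edge (s_sq 0) e0_43_0
theorem e0_41_1 : u0_41 * s 1 = s 4 * u0_41 := by
  simpa only [one_mul, mul_one] using ded2 r_1_5 e0_41_5 e0_38_1 e0_38_5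
theorem e0_44_5 : u0_44 * s 5 = s 2 * u0_44 := by
  simpa only [one_mul, mul_one] using ded3 r_5_4 e0_44_4 e0_41_5 e0_38_4 e0_38_5 e0_41_4
theorem e0_43_2 : u0_43 * s 2 = s 1 * u0_43 := by
  simpa only [one_mul, mul_one] using ded3 r_2_0 e0_43_0 e0_41_2 e0_39_0 e0_39_2 e0_41_0
theorem e0_42_0 : u0_42 * s 0 = s 1 * u0_42 := by
  simpa only [one_mul, mul_one] using ded2 r_0_4 e0_42_4 e0_39_0 e0_39_4
theorem e0_42_1 : u0_42 * s 1 = s 4 * u0_42 := by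
  simpa only [one_mul, mul_one] using ded2 r_1_4 e0_42_4 e0_39_1 e0_39_4
theorem e0_44_2 : u0_44 * s 2 = 1 * u0_42 := by
  simpa only [one_mul, mul_one] using ded2 r_2_4 e0_44_4 e0_41_2 e0_39_4
theorem e0_42_2 : u0_42 * s 2 = 1 * u0_44 := rev_edge (s_sq 2) e0_44_2
theorem e0_42_6 : u0_42 * s 6 = s 0 * u0_42 := by
  simpa only [one_mul, mul_one] using ded2 r_6_4 e0_42_4 e0_39_6 e0_39_4
theorem e0_43_1 : u0_43 * s 1 = s 4 * u0_43 := by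
  simpa only [one_mul, mul_one] using ded2 r_1_5 e0_43_5 e0_40_1 e0_40_5
theorem e0_43_3 : u0_43 * s 3 = s 3 * u0_43 := by
  simpa only [one_mul, mul_one] using ded2 r_3_5 e0_43_5 e0_40_3 e0_40_5
theorem e0_45_5 : u0_45 * s 5 = s 2 * u0_45 := by
  simpa only [one_mul, mul_one] using ded3 r_5_4 e0_45_4 e0_43_5 e0_40_4 e0_40_5 e0_43_4
theorem e0_45_0 : u0_45 * s 0 = 1 * u0_44 := by
  simpa only [one_mul, mul_one] using ded2 r_0_4 e0_45_4 e0_43_0 e0_41_4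
theorem e0_44_0 : u0_44 * s 0 = 1 * u0_45 := rev_edge (s_sq 0) e0_45_0
theorem e0_44_1 : u0_44 * s 1 = s 4 * u0_44 := by
  simpa only [one_mul, mul_one] using ded2 r_1_4 e0_44_4 e0_41_1 e0_41_4
theorem e0_46_4 : u0_46 * s 4 = s 3 * u0_46 := by
  simpa only [one_mul, mul_one] using ded3 r_4_3 e0_46_3 e0_44_4 e0_41_3 e0_41_4 e0_44_3
theorem e0_44_6 : u0_44 * s 6 = s 0 * u0_44 := by
  simpa only [one_mul, mul_one] using ded2 r_6_4 e0_44_4 e0_41_6 e0_41_4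
theorem e0_45_2 : u0_45 * s 2 = s 1 * u0_45 := by
  simpa only [one_mul, mul_one] using ded3 r_2_0 e0_45_0 e0_44_2 e0_42_0 e0_42_2 e0_44_0
theorem e0_46_2 : u0_46 * s 2 = s 5 * u0_46 := by
  simpa only [one_mul, mul_one] using ded3 r_2_3 e0_46_3 e0_44_2 e0_42_3 e0_42_2 e0_44_3
theorem e0_45_1 : u0_45 * s 1 = s 4 * u0_45 := by
  simpa only [one_mul, mul_one] using ded2 r_1_4 e0_45_4 e0_43_1 e0_43_4
theorem e0_47_4 : u0_47 * s 4 = s 3 * u0_47 := by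
  simpa only [one_mul, mul_one] using ded3 r_4_3 e0_47_3 e0_45_4 e0_43_3 e0_43_4 e0_45_3
theorem e0_45_6 : u0_45 * s 6 = s 0 * u0_45 := by
  simpa only [one_mul, mul_one] using ded2 r_6_4 e0_45_4 e0_43_6 e0_43_4
theorem e0_47_0 : u0_47 * s 0 = 1 * u0_46 := by
  simpa only [one_mul, mul_one] using ded2 r_0_3 e0_47_3 e0_45_0 e0_44_3
theorem e0_46_0 : u0_46 * s 0 = 1 * u0_47 := rev_edge (s_sq 0) e0_47_0
theorem e0_48_3 : u0_48 * s 3 = s 4 * u0_48 := by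
  simpa only [one_mul, mul_one] using ded3 r_3_1 e0_48_1 e0_46_3 e0_44_1 e0_44_3 e0_46_1
theorem e0_46_5 : u0_46 * s 5 = s 2 * u0_46 := by
  simpa only [one_mul, mul_one] using ded2 r_5_3 e0_46_3 e0_44_5 e0_44_3
theorem e0_46_6 : u0_46 * s 6 = s 0 * u0_46 := by
  simpa only [one_mul, mul_one] using ded2 r_6_3 e0_46_3 e0_44_6 e0_44_3
theorem e0_49_3 : u0_49 * s 3 = s 4 * u0_49 := by
  simpa only [one_mul, mul_one] using ded3 r_3_1 e0_49_1 e0_47_3 e0_45_1 e0_45_3 e0_47_1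
theorem e0_50_3 : u0_50 * s 3 = s 1 * u0_50 := by
  simpa only [one_mul, mul_one] using ded3 r_3_2 e0_50_2 e0_47_3 e0_45_2 e0_45_3 e0_47_2
theorem e0_47_5 : u0_47 * s 5 = s 2 * u0_47 := by
  simpa only [one_mul, mul_one] using ded2 r_5_3 e0_47_3 e0_45_5 e0_45_3
theorem e0_47_6 : u0_47 * s 6 = s 0 * u0_47 := by
  simpa only [one_mul, mul_one] using ded2 r_6_3 e0_47_3 e0_45_6 e0_45_3
theorem e0_49_0 : u0_49 * s 0 = 1 * u0_48 := by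
  simpa only [one_mul, mul_one] using ded2 r_0_1 e0_49_1 e0_47_0 e0_46_1
theorem e0_48_0 : u0_48 * s 0 = 1 * u0_49 := rev_edge (s_sq 0) e0_49_0
theorem e0_50_0 : u0_50 * s 0 = s 5 * u0_50 := by
  simpa only [one_mul, mul_one] using ded3 r_0_2 e0_50_2 e0_47_0 e0_46_2 e0_46_0 e0_47_2
theorem e0_48_2 : u0_48 * s 2 = s 5 * u0_48 := by
  simpa only [one_mul, mul_one] using ded2 r_2_1 e0_48_1 e0_46_2 e0_46_1
theorem e0_48_4 : u0_48 * s 4 = s 3 * u0_48 := by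
  simpa only [one_mul, mul_one] using ded2 r_4_1 e0_48_1 e0_46_4 e0_46_1
theorem e0_48_5 : u0_48 * s 5 = s 2 * u0_48 := by
  simpa only [one_mul, mul_one] using ded2 r_5_1 e0_48_1 e0_46_5 e0_46_1
theorem e0_48_6 : u0_48 * s 6 = s 0 * u0_48 := by
  simpa only [one_mul, mul_one] using ded2 r_6_1 e0_48_1 e0_46_6 e0_46_1
theorem e0_51_1 : u0_51 * s 1 = 1 * u0_50 := by
  simpa only [one_mul, mul_one] using ded2 r_1_2 e0_51_2 e0_49_1 e0_47_2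
theorem e0_50_1 : u0_50 * s 1 = 1 * u0_51 := rev_edge (s_sq 1) e0_51_1
theorem e0_49_4 : u0_49 * s 4 = s 3 * u0_49 := by
  simpa only [one_mul, mul_one] using ded2 r_4_1 e0_49_1 e0_47_4 e0_47_1
theorem e0_49_5 : u0_49 * s 5 = s 2 * u0_49 := by
  simpa only [one_mul, mul_one] using ded2 r_5_1 e0_49_1 e0_47_5 e0_47_1
theorem e0_49_6 : u0_49 * s 6 = s 0 * u0_49 := by
  simpa only [one_mul, mul_one] using ded2 r_6_1 e0_49_1 e0_47_6 e0_47_1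
theorem e0_50_4 : u0_50 * s 4 = s 3 * u0_50 := by
  simpa only [one_mul, mul_one] using ded2 r_4_2 e0_50_2 e0_47_4 e0_47_2
theorem e0_50_5 : u0_50 * s 5 = s 2 * u0_50 := by
  simpa only [one_mul, mul_one] using ded2 r_5_2 e0_50_2 e0_47_5 e0_47_2
theorem e0_50_6 : u0_50 * s 6 = s 0 * u0_50 := by
  simpa only [one_mul, mul_one] using ded2 r_6_2 e0_50_2 e0_47_6 e0_47_2
theorem e0_51_0 : u0_51 * s 0 = s 5 * u0_51 := by
  simpa only [one_mul, mul_one] using ded3 r_0_2 e0_51_2 e0_49_0 e0_48_2 e0_48_0 e0_49_2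
theorem e0_52_2 : u0_52 * s 2 = s 4 * u0_52 := by
  simpa only [one_mul, mul_one] using ded3 r_2_3 e0_52_3 e0_51_2 e0_49_3 e0_49_2 e0_51_3
theorem e0_51_4 : u0_51 * s 4 = s 3 * u0_51 := by
  simpa only [one_mul, mul_one] using ded2 r_4_2 e0_51_2 e0_49_4 e0_49_2
theorem e0_51_5 : u0_51 * s 5 = s 2 * u0_51 := by
  simpa only [one_mul, mul_one] using ded2 r_5_2 e0_51_2 e0_49_5 e0_49_2
theorem e0_51_6 : u0_51 * s 6 = s 0 * u0_51 := by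
  simpa only [one_mul, mul_one] using ded2 r_6_2 e0_51_2 e0_49_6 e0_49_2
theorem e0_52_1 : u0_52 * s 1 = s 1 * u0_52 := by
  simpa only [one_mul, mul_one] using ded3 r_1_3 e0_52_3 e0_51_1 e0_50_3 e0_50_1 e0_51_3
theorem e0_52_0 : u0_52 * s 0 = s 5 * u0_52 := by
  simpa only [one_mul, mul_one] using ded2 r_0_3 e0_52_3 e0_51_0 e0_51_3
theorem e0_53_3 : u0_53 * s 3 = s 3 * u0_53 := by
  simpa only [one_mul, mul_one] using ded3 r_3_4 e0_53_4 e0_52_3 e0_51_4 e0_51_3 e0_52_4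
theorem e0_52_5 : u0_52 * s 5 = s 2 * u0_52 := by
  simpa only [one_mul, mul_one] using ded2 r_5_3 e0_52_3 e0_51_5 e0_51_3
theorem e0_52_6 : u0_52 * s 6 = s 0 * u0_52 := by
  simpa only [one_mul, mul_one] using ded2 r_6_3 e0_52_3 e0_51_6 e0_51_3
theorem e0_53_0 : u0_53 * s 0 = s 5 * u0_53 := by
  simpa only [one_mul, mul_one] using ded2 r_0_4 e0_53_4 e0_52_0 e0_52_4
theorem e0_53_1 : u0_53 * s 1 = s 1 * u0_53 := by
  simpa only [one_mul, mul_one] using ded2 r_1_4 e0_53_4 e0_52_1 e0_52_4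
theorem e0_53_2 : u0_53 * s 2 = s 4 * u0_53 := by
  simpa only [one_mul, mul_one] using ded2 r_2_4 e0_53_4 e0_52_2 e0_52_4
theorem e0_54_4 : u0_54 * s 4 = s 2 * u0_54 := by
  simpa only [one_mul, mul_one] using ded3 r_4_5 e0_54_5 e0_53_4 e0_52_5 e0_52_4 e0_53_5
theorem e0_53_6 : u0_53 * s 6 = s 0 * u0_53 := by
  simpa only [one_mul, mul_one] using ded2 r_6_4 e0_53_4 e0_52_6 e0_52_4
theorem e0_54_0 : u0_54 * s 0 = s 5 * u0_54 := by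
  simpa only [one_mul, mul_one] using ded2 r_0_5 e0_54_5 e0_53_0 e0_53_5
theorem e0_54_1 : u0_54 * s 1 = s 1 * u0_54 := by
  simpa only [one_mul, mul_one] using ded2 r_1_5 e0_54_5 e0_53_1 e0_53_5
theorem e0_54_2 : u0_54 * s 2 = s 4 * u0_54 := by
  simpa only [one_mul, mul_one] using ded2 r_2_5 e0_54_5 e0_53_2 e0_53_5
theorem e0_54_3 : u0_54 * s 3 = s 3 * u0_54 := by
  simpa only [one_mul, mul_one] using ded2 r_3_5 e0_54_5 e0_53_3 e0_53_5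
theorem e0_55_5 : u0_55 * s 5 = s 0 * u0_55 := by
  simpa only [one_mul, mul_one] using ded3 r_5_6 e0_55_6 e0_54_5 e0_53_6 e0_53_5 e0_54_6
theorem e0_55_0 : u0_55 * s 0 = s 5 * u0_55 := by
  simpa only [one_mul, mul_one] using ded2 r_0_6 e0_55_6 e0_54_0 e0_54_6
theorem e0_55_1 : u0_55 * s 1 = s 1 * u0_55 := by
  simpa only [one_mul, mul_one] using ded2 r_1_6 e0_55_6 e0_54_1 e0_54_6
theorem e0_55_2 : u0_55 * s 2 = s 4 * u0_55 := by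
  simpa only [one_mul, mul_one] using ded2 r_2_6 e0_55_6 e0_54_2 e0_54_6
theorem e0_55_3 : u0_55 * s 3 = s 3 * u0_55 := by
  simpa only [one_mul, mul_one] using ded2 r_3_6 e0_55_6 e0_54_3 e0_54_6
theorem e0_55_4 : u0_55 * s 4 = s 2 * u0_55 := by
  simpa only [one_mul, mul_one] using ded2 r_4_6 e0_55_6 e0_54_4 e0_54_6
def P0 (u : W) : Prop := u ∈ Subgroup.closure (gens M J0) ∧ ∀ x ∈ gens M J0, ∃ h ∈ Subgroup.closure (gens M J1), ∃ u' ∈ reps0, u * x = h * u'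
theorem mr0_0 : u0_0 ∈ reps0 := List.getElem_mem (l := reps0) (n := 0) (by decide)
theorem mr0_1 : u0_1 ∈ reps0 := List.getElem_mem (l := reps0) (n := 1) (by decide)
theorem mr0_2 : u0_2 ∈ reps0 := List.getElem_mem (l := reps0) (n := 2) (by decide)
theorem mr0_3 : u0_3 ∈ reps0 := List.getElem_mem (l := reps0) (n := 3) (by decide)
theorem mr0_4 : u0_4 ∈ reps0 := List.getElem_mem (l := reps0) (n := 4) (by decide)
theorem mr0_5 : u0_5 ∈ reps0 := List.getElem_mem (l := reps0) (n := 5) (by decide)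
theorem mr0_6 : u0_6 ∈ reps0 := List.getElem_mem (l := reps0) (n := 6) (by decide)
theorem mr0_7 : u0_7 ∈ reps0 := List.getElem_mem (l := reps0) (n := 7) (by decide)
theorem mr0_8 : u0_8 ∈ reps0 := List.getElem_mem (l := reps0) (n := 8) (by decide)
theorem mr0_9 : u0_9 ∈ reps0 := List.getElem_mem (l := reps0) (n := 9) (by decide)
theorem mr0_10 : u0_10 ∈ reps0 := List.getElem_mem (l := reps0) (n := 10) (by decide)
theorem mr0_11 : u0_11 ∈ reps0 := List.getElem_mem (l := reps0) (n := 11) (by decide)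
theorem mr0_12 : u0_12 ∈ reps0 := List.getElem_mem (l := reps0) (n := 12) (by decide)
theorem mr0_13 : u0_13 ∈ reps0 := List.getElem_mem (l := reps0) (n := 13) (by decide)
theorem mr0_14 : u0_14 ∈ reps0 := List.getElem_mem (l := reps0) (n := 14) (by decide)
theorem mr0_15 : u0_15 ∈ reps0 := List.getElem_mem (l := reps0) (n := 15) (by decide)
theorem mr0_16 : u0_16 ∈ reps0 := List.getElem_mem (l := reps0) (n := 16) (by decide)
theorem mr0_17 : u0_17 ∈ reps0 := List.getElem_mem (l := reps0) (n := 17) (by decide)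
theorem mr0_18 : u0_18 ∈ reps0 := List.getElem_mem (l := reps0) (n := 18) (by decide)
theorem mr0_19 : u0_19 ∈ reps0 := List.getElem_mem (l := reps0) (n := 19) (by decide)
theorem mr0_20 : u0_20 ∈ reps0 := List.getElem_mem (l := reps0) (n := 20) (by decide)
theorem mr0_21 : u0_21 ∈ reps0 := List.getElem_mem (l := reps0) (n := 21) (by decide)
theorem mr0_22 : u0_22 ∈ reps0 := List.getElem_mem (l := reps0) (n := 22) (by decide)
theorem mr0_23 : u0_23 ∈ reps0 := List.getElem_mem (l := reps0) (n := 23) (by decide)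
theorem mr0_24 : u0_24 ∈ reps0 := List.getElem_mem (l := reps0) (n := 24) (by decide)
theorem mr0_25 : u0_25 ∈ reps0 := List.getElem_mem (l := reps0) (n := 25) (by decide)
theorem mr0_26 : u0_26 ∈ reps0 := List.getElem_mem (l := reps0) (n := 26) (by decide)
theorem mr0_27 : u0_27 ∈ reps0 := List.getElem_mem (l := reps0) (n := 27) (by decide)
theorem mr0_28 : u0_28 ∈ reps0 := List.getElem_mem (l := reps0) (n := 28) (by decide)
theorem mr0_29 : u0_29 ∈ reps0 := List.getElem_mem (l := reps0) (n := 29) (by decide)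
theorem mr0_30 : u0_30 ∈ reps0 := List.getElem_mem (l := reps0) (n := 30) (by decide)
theorem mr0_31 : u0_31 ∈ reps0 := List.getElem_mem (l := reps0) (n := 31) (by decide)
theorem mr0_32 : u0_32 ∈ reps0 := List.getElem_mem (l := reps0) (n := 32) (by decide)
theorem mr0_33 : u0_33 ∈ reps0 := List.getElem_mem (l := reps0) (n := 33) (by decide)
theorem mr0_34 : u0_34 ∈ reps0 := List.getElem_mem (l := reps0) (n := 34) (by decide)
theorem mr0_35 : u0_35 ∈ reps0 := List.getElem_mem (l := reps0) (n := 35) (by decide)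
theorem mr0_36 : u0_36 ∈ reps0 := List.getElem_mem (l := reps0) (n := 36) (by decide)
theorem mr0_37 : u0_37 ∈ reps0 := List.getElem_mem (l := reps0) (n := 37) (by decide)
theorem mr0_38 : u0_38 ∈ reps0 := List.getElem_mem (l := reps0) (n := 38) (by decide)
theorem mr0_39 : u0_39 ∈ reps0 := List.getElem_mem (l := reps0) (n := 39) (by decide)
theorem mr0_40 : u0_40 ∈ reps0 := List.getElem_mem (l := reps0) (n := 40) (by decide)
theorem mr0_41 : u0_41 ∈ reps0 := List.getElem_mem (l := reps0) (n := 41) (by decide)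
theorem mr0_42 : u0_42 ∈ reps0 := List.getElem_mem (l := reps0) (n := 42) (by decide)
theorem mr0_43 : u0_43 ∈ reps0 := List.getElem_mem (l := reps0) (n := 43) (by decide)
theorem mr0_44 : u0_44 ∈ reps0 := List.getElem_mem (l := reps0) (n := 44) (by decide)
theorem mr0_45 : u0_45 ∈ reps0 := List.getElem_mem (l := reps0) (n := 45) (by decide)
theorem mr0_46 : u0_46 ∈ reps0 := List.getElem_mem (l := reps0) (n := 46) (by decide)
theorem mr0_47 : u0_47 ∈ reps0 := List.getElem_mem (l := reps0) (n := 47) (by decide)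
theorem mr0_48 : u0_48 ∈ reps0 := List.getElem_mem (l := reps0) (n := 48) (by decide)
theorem mr0_49 : u0_49 ∈ reps0 := List.getElem_mem (l := reps0) (n := 49) (by decide)
theorem mr0_50 : u0_50 ∈ reps0 := List.getElem_mem (l := reps0) (n := 50) (by decide)
theorem mr0_51 : u0_51 ∈ reps0 := List.getElem_mem (l := reps0) (n := 51) (by decide)
theorem mr0_52 : u0_52 ∈ reps0 := List.getElem_mem (l := reps0) (n := 52) (by decide)
theorem mr0_53 : u0_53 ∈ reps0 := List.getElem_mem (l := reps0) (n := 53) (by decide)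
theorem mr0_54 : u0_54 ∈ reps0 := List.getElem_mem (l := reps0) (n := 54) (by decide)
theorem mr0_55 : u0_55 ∈ reps0 := List.getElem_mem (l := reps0) (n := 55) (by decide)
theorem mm0_0 : u0_0 ∈ Subgroup.closure (gens M J0) := one_mem _
theorem mm0_1 : u0_1 ∈ Subgroup.closure (gens M J0) := mul_mem mm0_0 (Subgroup.subset_closure ⟨6, by decide, rfl⟩)
theorem mm0_2 : u0_2 ∈ Subgroup.closure (gens M J0) := mul_mem mm0_1 (Subgroup.subset_closure ⟨5, by decide, rfl⟩)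
theorem mm0_3 : u0_3 ∈ Subgroup.closure (gens M J0) := mul_mem mm0_2 (Subgroup.subset_closure ⟨4, by decide, rfl⟩)
theorem mm0_4 : u0_4 ∈ Subgroup.closure (gens M J0) := mul_mem mm0_3 (Subgroup.subset_closure ⟨3, by decide, rfl⟩)
theorem mm0_5 : u0_5 ∈ Subgroup.closure (gens M J0) := mul_mem mm0_4 (Subgroup.subset_closure ⟨1, by decide, rfl⟩)
theorem mm0_6 : u0_6 ∈ Subgroup.closure (gens M J0) := mul_mem mm0_4 (Subgroup.subset_closure ⟨2, by decide, rfl⟩)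
theorem mm0_7 : u0_7 ∈ Subgroup.closure (gens M J0) := mul_mem mm0_5 (Subgroup.subset_closure ⟨2, by decide, rfl⟩)
theorem mm0_8 : u0_8 ∈ Subgroup.closure (gens M J0) := mul_mem mm0_6 (Subgroup.subset_closure ⟨0, by decide, rfl⟩)
theorem mm0_9 : u0_9 ∈ Subgroup.closure (gens M J0) := mul_mem mm0_7 (Subgroup.subset_closure ⟨0, by decide, rfl⟩)
theorem mm0_10 : u0_10 ∈ Subgroup.closure (gens M J0) := mul_mem mm0_7 (Subgroup.subset_closure ⟨3, by decide, rfl⟩)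
theorem mm0_11 : u0_11 ∈ Subgroup.closure (gens M J0) := mul_mem mm0_9 (Subgroup.subset_closure ⟨3, by decide, rfl⟩)
theorem mm0_12 : u0_12 ∈ Subgroup.closure (gens M J0) := mul_mem mm0_10 (Subgroup.subset_closure ⟨4, by decide, rfl⟩)
theorem mm0_13 : u0_13 ∈ Subgroup.closure (gens M J0) := mul_mem mm0_11 (Subgroup.subset_closure ⟨2, by decide, rfl⟩)
theorem mm0_14 : u0_14 ∈ Subgroup.closure (gens M J0) := mul_mem mm0_11 (Subgroup.subset_closure ⟨4, by decide, rfl⟩)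
theorem mm0_15 : u0_15 ∈ Subgroup.closure (gens M J0) := mul_mem mm0_12 (Subgroup.subset_closure ⟨5, by decide, rfl⟩)
theorem mm0_16 : u0_16 ∈ Subgroup.closure (gens M J0) := mul_mem mm0_13 (Subgroup.subset_closure ⟨4, by decide, rfl⟩)
theorem mm0_17 : u0_17 ∈ Subgroup.closure (gens M J0) := mul_mem mm0_14 (Subgroup.subset_closure ⟨5, by decide, rfl⟩)
theorem mm0_18 : u0_18 ∈ Subgroup.closure (gens M J0) := mul_mem mm0_15 (Subgroup.subset_closure ⟨6, by decide, rfl⟩)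
theorem mm0_19 : u0_19 ∈ Subgroup.closure (gens M J0) := mul_mem mm0_16 (Subgroup.subset_closure ⟨3, by decide, rfl⟩)
theorem mm0_20 : u0_20 ∈ Subgroup.closure (gens M J0) := mul_mem mm0_16 (Subgroup.subset_closure ⟨5, by decide, rfl⟩)
theorem mm0_21 : u0_21 ∈ Subgroup.closure (gens M J0) := mul_mem mm0_17 (Subgroup.subset_closure ⟨6, by decide, rfl⟩)
theorem mm0_22 : u0_22 ∈ Subgroup.closure (gens M J0) := mul_mem mm0_19 (Subgroup.subset_closure ⟨1, by decide, rfl⟩)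
theorem mm0_23 : u0_23 ∈ Subgroup.closure (gens M J0) := mul_mem mm0_19 (Subgroup.subset_closure ⟨5, by decide, rfl⟩)
theorem mm0_24 : u0_24 ∈ Subgroup.closure (gens M J0) := mul_mem mm0_20 (Subgroup.subset_closure ⟨6, by decide, rfl⟩)
theorem mm0_25 : u0_25 ∈ Subgroup.closure (gens M J0) := mul_mem mm0_22 (Subgroup.subset_closure ⟨5, by decide, rfl⟩)
theorem mm0_26 : u0_26 ∈ Subgroup.closure (gens M J0) := mul_mem mm0_23 (Subgroup.subset_closure ⟨4, by decide, rfl⟩)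
theorem mm0_27 : u0_27 ∈ Subgroup.closure (gens M J0) := mul_mem mm0_23 (Subgroup.subset_closure ⟨6, by decide, rfl⟩)
theorem mm0_28 : u0_28 ∈ Subgroup.closure (gens M J0) := mul_mem mm0_25 (Subgroup.subset_closure ⟨4, by decide, rfl⟩)
theorem mm0_29 : u0_29 ∈ Subgroup.closure (gens M J0) := mul_mem mm0_25 (Subgroup.subset_closure ⟨6, by decide, rfl⟩)
theorem mm0_30 : u0_30 ∈ Subgroup.closure (gens M J0) := mul_mem mm0_26 (Subgroup.subset_closure ⟨6, by decide, rfl⟩)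
theorem mm0_31 : u0_31 ∈ Subgroup.closure (gens M J0) := mul_mem mm0_28 (Subgroup.subset_closure ⟨3, by decide, rfl⟩)
theorem mm0_32 : u0_32 ∈ Subgroup.closure (gens M J0) := mul_mem mm0_28 (Subgroup.subset_closure ⟨6, by decide, rfl⟩)
theorem mm0_33 : u0_33 ∈ Subgroup.closure (gens M J0) := mul_mem mm0_30 (Subgroup.subset_closure ⟨5, by decide, rfl⟩)
theorem mm0_34 : u0_34 ∈ Subgroup.closure (gens M J0) := mul_mem mm0_31 (Subgroup.subset_closure ⟨2, by decide, rfl⟩)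
theorem mm0_35 : u0_35 ∈ Subgroup.closure (gens M J0) := mul_mem mm0_31 (Subgroup.subset_closure ⟨6, by decide, rfl⟩)
theorem mm0_36 : u0_36 ∈ Subgroup.closure (gens M J0) := mul_mem mm0_32 (Subgroup.subset_closure ⟨5, by decide, rfl⟩)
theorem mm0_37 : u0_37 ∈ Subgroup.closure (gens M J0) := mul_mem mm0_34 (Subgroup.subset_closure ⟨0, by decide, rfl⟩)
theorem mm0_38 : u0_38 ∈ Subgroup.closure (gens M J0) := mul_mem mm0_34 (Subgroup.subset_closure ⟨6, by decide, rfl⟩)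
theorem mm0_39 : u0_39 ∈ Subgroup.closure (gens M J0) := mul_mem mm0_35 (Subgroup.subset_closure ⟨5, by decide, rfl⟩)
theorem mm0_40 : u0_40 ∈ Subgroup.closure (gens M J0) := mul_mem mm0_37 (Subgroup.subset_closure ⟨6, by decide, rfl⟩)
theorem mm0_41 : u0_41 ∈ Subgroup.closure (gens M J0) := mul_mem mm0_38 (Subgroup.subset_closure ⟨5, by decide, rfl⟩)
theorem mm0_42 : u0_42 ∈ Subgroup.closure (gens M J0) := mul_mem mm0_39 (Subgroup.subset_closure ⟨4, by decide, rfl⟩)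
theorem mm0_43 : u0_43 ∈ Subgroup.closure (gens M J0) := mul_mem mm0_40 (Subgroup.subset_closure ⟨5, by decide, rfl⟩)
theorem mm0_44 : u0_44 ∈ Subgroup.closure (gens M J0) := mul_mem mm0_41 (Subgroup.subset_closure ⟨4, by decide, rfl⟩)
theorem mm0_45 : u0_45 ∈ Subgroup.closure (gens M J0) := mul_mem mm0_43 (Subgroup.subset_closure ⟨4, by decide, rfl⟩)
theorem mm0_46 : u0_46 ∈ Subgroup.closure (gens M J0) := mul_mem mm0_44 (Subgroup.subset_closure ⟨3, by decide, rfl⟩)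
theorem mm0_47 : u0_47 ∈ Subgroup.closure (gens M J0) := mul_mem mm0_45 (Subgroup.subset_closure ⟨3, by decide, rfl⟩)
theorem mm0_48 : u0_48 ∈ Subgroup.closure (gens M J0) := mul_mem mm0_46 (Subgroup.subset_closure ⟨1, by decide, rfl⟩)
theorem mm0_49 : u0_49 ∈ Subgroup.closure (gens M J0) := mul_mem mm0_47 (Subgroup.subset_closure ⟨1, by decide, rfl⟩)
theorem mm0_50 : u0_50 ∈ Subgroup.closure (gens M J0) := mul_mem mm0_47 (Subgroup.subset_closure ⟨2, by decide, rfl⟩)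
theorem mm0_51 : u0_51 ∈ Subgroup.closure (gens M J0) := mul_mem mm0_49 (Subgroup.subset_closure ⟨2, by decide, rfl⟩)
theorem mm0_52 : u0_52 ∈ Subgroup.closure (gens M J0) := mul_mem mm0_51 (Subgroup.subset_closure ⟨3, by decide, rfl⟩)
theorem mm0_53 : u0_53 ∈ Subgroup.closure (gens M J0) := mul_mem mm0_52 (Subgroup.subset_closure ⟨4, by decide, rfl⟩)
theorem mm0_54 : u0_54 ∈ Subgroup.closure (gens M J0) := mul_mem mm0_53 (Subgroup.subset_closure ⟨5, by decide, rfl⟩)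
theorem mm0_55 : u0_55 ∈ Subgroup.closure (gens M J0) := mul_mem mm0_54 (Subgroup.subset_closure ⟨6, by decide, rfl⟩)
theorem c0_0 : P0 u0_0 := by
  refine ⟨mm0_0, ?_⟩
  rintro x ⟨j, hj, rfl⟩
  simp only [J0, List.mem_cons, List.not_mem_nil, or_false] at hj
  rcases hj with rfl | rfl | rfl | rfl | rfl | rfl | rfl
  · exact ⟨s 0, Subgroup.subset_closure ⟨0, by decide, rfl⟩, u0_0, mr0_0, e0_0_0⟩
  · exact ⟨s 1, Subgroup.subset_closure ⟨1, by decide, rfl⟩, u0_0, mr0_0, e0_0_1⟩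
  · exact ⟨s 2, Subgroup.subset_closure ⟨2, by decide, rfl⟩, u0_0, mr0_0, e0_0_2⟩
  · exact ⟨s 3, Subgroup.subset_closure ⟨3, by decide, rfl⟩, u0_0, mr0_0, e0_0_3⟩
  · exact ⟨s 4, Subgroup.subset_closure ⟨4, by decide, rfl⟩, u0_0, mr0_0, e0_0_4⟩
  · exact ⟨s 5, Subgroup.subset_closure ⟨5, by decide, rfl⟩, u0_0, mr0_0, e0_0_5⟩
  · exact ⟨1, one_mem _, u0_1, mr0_1, e0_0_6⟩
theorem c0_1 : P0 u0_1 := by
  refine ⟨mm0_1, ?_⟩
  rintro x ⟨j, hj, rfl⟩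
  simp only [J0, List.mem_cons, List.not_mem_nil, or_false] at hj
  rcases hj with rfl | rfl | rfl | rfl | rfl | rfl | rfl
  · exact ⟨s 0, Subgroup.subset_closure ⟨0, by decide, rfl⟩, u0_1, mr0_1, e0_1_0⟩
  · exact ⟨s 1, Subgroup.subset_closure ⟨1, by decide, rfl⟩, u0_1, mr0_1, e0_1_1⟩
  · exact ⟨s 2, Subgroup.subset_closure ⟨2, by decide, rfl⟩, u0_1, mr0_1, e0_1_2⟩
  · exact ⟨s 3, Subgroup.subset_closure ⟨3, by decide, rfl⟩, u0_1, mr0_1, e0_1_3⟩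
  · exact ⟨s 4, Subgroup.subset_closure ⟨4, by decide, rfl⟩, u0_1, mr0_1, e0_1_4⟩
  · exact ⟨1, one_mem _, u0_2, mr0_2, e0_1_5⟩
  · exact ⟨1, one_mem _, u0_0, mr0_0, e0_1_6⟩
theorem c0_2 : P0 u0_2 := by
  refine ⟨mm0_2, ?_⟩
  rintro x ⟨j, hj, rfl⟩
  simp only [J0, List.mem_cons, List.not_mem_nil, or_false] at hj
  rcases hj with rfl | rfl | rfl | rfl | rfl | rfl | rfl
  · exact ⟨s 0, Subgroup.subset_closure ⟨0, by decide, rfl⟩, u0_2, mr0_2, e0_2_0⟩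
  · exact ⟨s 1, Subgroup.subset_closure ⟨1, by decide, rfl⟩, u0_2, mr0_2, e0_2_1⟩
  · exact ⟨s 2, Subgroup.subset_closure ⟨2, by decide, rfl⟩, u0_2, mr0_2, e0_2_2⟩
  · exact ⟨s 3, Subgroup.subset_closure ⟨3, by decide, rfl⟩, u0_2, mr0_2, e0_2_3⟩
  · exact ⟨1, one_mem _, u0_3, mr0_3, e0_2_4⟩
  · exact ⟨1, one_mem _, u0_1, mr0_1, e0_2_5⟩
  · exact ⟨s 5, Subgroup.subset_closure ⟨5, by decide, rfl⟩, u0_2, mr0_2, e0_2_6⟩
theorem c0_3 : P0 u0_3 := by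
  refine ⟨mm0_3, ?_⟩
  rintro x ⟨j, hj, rfl⟩
  simp only [J0, List.mem_cons, List.not_mem_nil, or_false] at hj
  rcases hj with rfl | rfl | rfl | rfl | rfl | rfl | rfl
  · exact ⟨s 0, Subgroup.subset_closure ⟨0, by decide, rfl⟩, u0_3, mr0_3, e0_3_0⟩
  · exact ⟨s 1, Subgroup.subset_closure ⟨1, by decide, rfl⟩, u0_3, mr0_3, e0_3_1⟩
  · exact ⟨s 2, Subgroup.subset_closure ⟨2, by decide, rfl⟩, u0_3, mr0_3, e0_3_2⟩
  · exact ⟨1, one_mem _, u0_4, mr0_4, e0_3_3⟩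
  · exact ⟨1, one_mem _, u0_2, mr0_2, e0_3_4⟩
  · exact ⟨s 4, Subgroup.subset_closure ⟨4, by decide, rfl⟩, u0_3, mr0_3, e0_3_5⟩
  · exact ⟨s 5, Subgroup.subset_closure ⟨5, by decide, rfl⟩, u0_3, mr0_3, e0_3_6⟩
theorem c0_4 : P0 u0_4 := by
  refine ⟨mm0_4, ?_⟩
  rintro x ⟨j, hj, rfl⟩
  simp only [J0, List.mem_cons, List.not_mem_nil, or_false] at hj
  rcases hj with rfl | rfl | rfl | rfl | rfl | rfl | rfl
  · exact ⟨s 0, Subgroup.subset_closure ⟨0, by decide, rfl⟩, u0_4, mr0_4, e0_4_0⟩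
  · exact ⟨1, one_mem _, u0_5, mr0_5, e0_4_1⟩
  · exact ⟨1, one_mem _, u0_6, mr0_6, e0_4_2⟩
  · exact ⟨1, one_mem _, u0_3, mr0_3, e0_4_3⟩
  · exact ⟨s 3, Subgroup.subset_closure ⟨3, by decide, rfl⟩, u0_4, mr0_4, e0_4_4⟩
  · exact ⟨s 4, Subgroup.subset_closure ⟨4, by decide, rfl⟩, u0_4, mr0_4, e0_4_5⟩
  · exact ⟨s 5, Subgroup.subset_closure ⟨5, by decide, rfl⟩, u0_4, mr0_4, e0_4_6⟩
theorem c0_5 : P0 u0_5 := by
  refine ⟨mm0_5, ?_⟩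
  rintro x ⟨j, hj, rfl⟩
  simp only [J0, List.mem_cons, List.not_mem_nil, or_false] at hj
  rcases hj with rfl | rfl | rfl | rfl | rfl | rfl | rfl
  · exact ⟨s 0, Subgroup.subset_closure ⟨0, by decide, rfl⟩, u0_5, mr0_5, e0_5_0⟩
  · exact ⟨1, one_mem _, u0_4, mr0_4, e0_5_1⟩
  · exact ⟨1, one_mem _, u0_7, mr0_7, e0_5_2⟩
  · exact ⟨s 1, Subgroup.subset_closure ⟨1, by decide, rfl⟩, u0_5, mr0_5, e0_5_3⟩
  · exact ⟨s 3, Subgroup.subset_closure ⟨3, by decide, rfl⟩, u0_5, mr0_5, e0_5_4⟩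
  · exact ⟨s 4, Subgroup.subset_closure ⟨4, by decide, rfl⟩, u0_5, mr0_5, e0_5_5⟩
  · exact ⟨s 5, Subgroup.subset_closure ⟨5, by decide, rfl⟩, u0_5, mr0_5, e0_5_6⟩
theorem c0_6 : P0 u0_6 := by
  refine ⟨mm0_6, ?_⟩
  rintro x ⟨j, hj, rfl⟩
  simp only [J0, List.mem_cons, List.not_mem_nil, or_false] at hj
  rcases hj with rfl | rfl | rfl | rfl | rfl | rfl | rfl
  · exact ⟨1, one_mem _, u0_8, mr0_8, e0_6_0⟩
  · exact ⟨1, one_mem _, u0_7, mr0_7, e0_6_1⟩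
  · exact ⟨1, one_mem _, u0_4, mr0_4, e0_6_2⟩
  · exact ⟨s 2, Subgroup.subset_closure ⟨2, by decide, rfl⟩, u0_6, mr0_6, e0_6_3⟩
  · exact ⟨s 3, Subgroup.subset_closure ⟨3, by decide, rfl⟩, u0_6, mr0_6, e0_6_4⟩
  · exact ⟨s 4, Subgroup.subset_closure ⟨4, by decide, rfl⟩, u0_6, mr0_6, e0_6_5⟩
  · exact ⟨s 5, Subgroup.subset_closure ⟨5, by decide, rfl⟩, u0_6, mr0_6, e0_6_6⟩
theorem c0_7 : P0 u0_7 := by
  refine ⟨mm0_7, ?_⟩
  rintro x ⟨j, hj, rfl⟩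
  simp only [J0, List.mem_cons, List.not_mem_nil, or_false] at hj
  rcases hj with rfl | rfl | rfl | rfl | rfl | rfl | rfl
  · exact ⟨1, one_mem _, u0_9, mr0_9, e0_7_0⟩
  · exact ⟨1, one_mem _, u0_6, mr0_6, e0_7_1⟩
  · exact ⟨1, one_mem _, u0_5, mr0_5, e0_7_2⟩
  · exact ⟨1, one_mem _, u0_10, mr0_10, e0_7_3⟩
  · exact ⟨s 3, Subgroup.subset_closure ⟨3, by decide, rfl⟩, u0_7, mr0_7, e0_7_4⟩
  · exact ⟨s 4, Subgroup.subset_closure ⟨4, by decide, rfl⟩, u0_7, mr0_7, e0_7_5⟩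
  · exact ⟨s 5, Subgroup.subset_closure ⟨5, by decide, rfl⟩, u0_7, mr0_7, e0_7_6⟩
theorem c0_8 : P0 u0_8 := by
  refine ⟨mm0_8, ?_⟩
  rintro x ⟨j, hj, rfl⟩
  simp only [J0, List.mem_cons, List.not_mem_nil, or_false] at hj
  rcases hj with rfl | rfl | rfl | rfl | rfl | rfl | rfl
  · exact ⟨1, one_mem _, u0_6, mr0_6, e0_8_0⟩
  · exact ⟨1, one_mem _, u0_9, mr0_9, e0_8_1⟩
  · exact ⟨s 0, Subgroup.subset_closure ⟨0, by decide, rfl⟩, u0_8, mr0_8, e0_8_2⟩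
  · exact ⟨s 2, Subgroup.subset_closure ⟨2, by decide, rfl⟩, u0_8, mr0_8, e0_8_3⟩
  · exact ⟨s 3, Subgroup.subset_closure ⟨3, by decide, rfl⟩, u0_8, mr0_8, e0_8_4⟩
  · exact ⟨s 4, Subgroup.subset_closure ⟨4, by decide, rfl⟩, u0_8, mr0_8, e0_8_5⟩
  · exact ⟨s 5, Subgroup.subset_closure ⟨5, by decide, rfl⟩, u0_8, mr0_8, e0_8_6⟩
theorem c0_9 : P0 u0_9 := by
  refine ⟨mm0_9, ?_⟩
  rintro x ⟨j, hj, rfl⟩
  simp only [J0, List.mem_cons, List.not_mem_nil, or_false] at hj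
  rcases hj with rfl | rfl | rfl | rfl | rfl | rfl | rfl
  · exact ⟨1, one_mem _, u0_7, mr0_7, e0_9_0⟩
  · exact ⟨1, one_mem _, u0_8, mr0_8, e0_9_1⟩
  · exact ⟨s 0, Subgroup.subset_closure ⟨0, by decide, rfl⟩, u0_9, mr0_9, e0_9_2⟩
  · exact ⟨1, one_mem _, u0_11, mr0_11, e0_9_3⟩
  · exact ⟨s 3, Subgroup.subset_closure ⟨3, by decide, rfl⟩, u0_9, mr0_9, e0_9_4⟩
  · exact ⟨s 4, Subgroup.subset_closure ⟨4, by decide, rfl⟩, u0_9, mr0_9, e0_9_5⟩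
  · exact ⟨s 5, Subgroup.subset_closure ⟨5, by decide, rfl⟩, u0_9, mr0_9, e0_9_6⟩
theorem c0_10 : P0 u0_10 := by
  refine ⟨mm0_10, ?_⟩
  rintro x ⟨j, hj, rfl⟩
  simp only [J0, List.mem_cons, List.not_mem_nil, or_false] at hj
  rcases hj with rfl | rfl | rfl | rfl | rfl | rfl | rfl
  · exact ⟨1, one_mem _, u0_11, mr0_11, e0_10_0⟩
  · exact ⟨s 2, Subgroup.subset_closure ⟨2, by decide, rfl⟩, u0_10, mr0_10, e0_10_1⟩
  · exact ⟨s 1, Subgroup.subset_closure ⟨1, by decide, rfl⟩, u0_10, mr0_10, e0_10_2⟩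
  · exact ⟨1, one_mem _, u0_7, mr0_7, e0_10_3⟩
  · exact ⟨1, one_mem _, u0_12, mr0_12, e0_10_4⟩
  · exact ⟨s 4, Subgroup.subset_closure ⟨4, by decide, rfl⟩, u0_10, mr0_10, e0_10_5⟩
  · exact ⟨s 5, Subgroup.subset_closure ⟨5, by decide, rfl⟩, u0_10, mr0_10, e0_10_6⟩
theorem c0_11 : P0 u0_11 := by
  refine ⟨mm0_11, ?_⟩
  rintro x ⟨j, hj, rfl⟩
  simp only [J0, List.mem_cons, List.not_mem_nil, or_false] at hj
  rcases hj with rfl | rfl | rfl | rfl | rfl | rfl | rfl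
  · exact ⟨1, one_mem _, u0_10, mr0_10, e0_11_0⟩
  · exact ⟨s 2, Subgroup.subset_closure ⟨2, by decide, rfl⟩, u0_11, mr0_11, e0_11_1⟩
  · exact ⟨1, one_mem _, u0_13, mr0_13, e0_11_2⟩
  · exact ⟨1, one_mem _, u0_9, mr0_9, e0_11_3⟩
  · exact ⟨1, one_mem _, u0_14, mr0_14, e0_11_4⟩
  · exact ⟨s 4, Subgroup.subset_closure ⟨4, by decide, rfl⟩, u0_11, mr0_11, e0_11_5⟩
  · exact ⟨s 5, Subgroup.subset_closure ⟨5, by decide, rfl⟩, u0_11, mr0_11, e0_11_6⟩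
theorem c0_12 : P0 u0_12 := by
  refine ⟨mm0_12, ?_⟩
  rintro x ⟨j, hj, rfl⟩
  simp only [J0, List.mem_cons, List.not_mem_nil, or_false] at hj
  rcases hj with rfl | rfl | rfl | rfl | rfl | rfl | rfl
  · exact ⟨1, one_mem _, u0_14, mr0_14, e0_12_0⟩
  · exact ⟨s 2, Subgroup.subset_closure ⟨2, by decide, rfl⟩, u0_12, mr0_12, e0_12_1⟩
  · exact ⟨s 1, Subgroup.subset_closure ⟨1, by decide, rfl⟩, u0_12, mr0_12, e0_12_2⟩
  · exact ⟨s 3, Subgroup.subset_closure ⟨3, by decide, rfl⟩, u0_12, mr0_12, e0_12_3⟩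
  · exact ⟨1, one_mem _, u0_10, mr0_10, e0_12_4⟩
  · exact ⟨1, one_mem _, u0_15, mr0_15, e0_12_5⟩
  · exact ⟨s 5, Subgroup.subset_closure ⟨5, by decide, rfl⟩, u0_12, mr0_12, e0_12_6⟩
theorem c0_13 : P0 u0_13 := by
  refine ⟨mm0_13, ?_⟩
  rintro x ⟨j, hj, rfl⟩
  simp only [J0, List.mem_cons, List.not_mem_nil, or_false] at hj
  rcases hj with rfl | rfl | rfl | rfl | rfl | rfl | rfl
  · exact ⟨s 1, Subgroup.subset_closure ⟨1, by decide, rfl⟩, u0_13, mr0_13, e0_13_0⟩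
  · exact ⟨s 2, Subgroup.subset_closure ⟨2, by decide, rfl⟩, u0_13, mr0_13, e0_13_1⟩
  · exact ⟨1, one_mem _, u0_11, mr0_11, e0_13_2⟩
  · exact ⟨s 0, Subgroup.subset_closure ⟨0, by decide, rfl⟩, u0_13, mr0_13, e0_13_3⟩
  · exact ⟨1, one_mem _, u0_16, mr0_16, e0_13_4⟩
  · exact ⟨s 4, Subgroup.subset_closure ⟨4, by decide, rfl⟩, u0_13, mr0_13, e0_13_5⟩
  · exact ⟨s 5, Subgroup.subset_closure ⟨5, by decide, rfl⟩, u0_13, mr0_13, e0_13_6⟩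
theorem c0_14 : P0 u0_14 := by
  refine ⟨mm0_14, ?_⟩
  rintro x ⟨j, hj, rfl⟩
  simp only [J0, List.mem_cons, List.not_mem_nil, or_false] at hj
  rcases hj with rfl | rfl | rfl | rfl | rfl | rfl | rfl
  · exact ⟨1, one_mem _, u0_12, mr0_12, e0_14_0⟩
  · exact ⟨s 2, Subgroup.subset_closure ⟨2, by decide, rfl⟩, u0_14, mr0_14, e0_14_1⟩
  · exact ⟨1, one_mem _, u0_16, mr0_16, e0_14_2⟩
  · exact ⟨s 3, Subgroup.subset_closure ⟨3, by decide, rfl⟩, u0_14, mr0_14, e0_14_3⟩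
  · exact ⟨1, one_mem _, u0_11, mr0_11, e0_14_4⟩
  · exact ⟨1, one_mem _, u0_17, mr0_17, e0_14_5⟩
  · exact ⟨s 5, Subgroup.subset_closure ⟨5, by decide, rfl⟩, u0_14, mr0_14, e0_14_6⟩
theorem c0_15 : P0 u0_15 := by
  refine ⟨mm0_15, ?_⟩
  rintro x ⟨j, hj, rfl⟩
  simp only [J0, List.mem_cons, List.not_mem_nil, or_false] at hj
  rcases hj with rfl | rfl | rfl | rfl | rfl | rfl | rfl
  · exact ⟨1, one_mem _, u0_17, mr0_17, e0_15_0⟩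
  · exact ⟨s 2, Subgroup.subset_closure ⟨2, by decide, rfl⟩, u0_15, mr0_15, e0_15_1⟩
  · exact ⟨s 1, Subgroup.subset_closure ⟨1, by decide, rfl⟩, u0_15, mr0_15, e0_15_2⟩
  · exact ⟨s 3, Subgroup.subset_closure ⟨3, by decide, rfl⟩, u0_15, mr0_15, e0_15_3⟩
  · exact ⟨s 4, Subgroup.subset_closure ⟨4, by decide, rfl⟩, u0_15, mr0_15, e0_15_4⟩
  · exact ⟨1, one_mem _, u0_12, mr0_12, e0_15_5⟩
  · exact ⟨1, one_mem _, u0_18, mr0_18, e0_15_6⟩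
theorem c0_16 : P0 u0_16 := by
  refine ⟨mm0_16, ?_⟩
  rintro x ⟨j, hj, rfl⟩
  simp only [J0, List.mem_cons, List.not_mem_nil, or_false] at hj
  rcases hj with rfl | rfl | rfl | rfl | rfl | rfl | rfl
  · exact ⟨s 1, Subgroup.subset_closure ⟨1, by decide, rfl⟩, u0_16, mr0_16, e0_16_0⟩
  · exact ⟨s 2, Subgroup.subset_closure ⟨2, by decide, rfl⟩, u0_16, mr0_16, e0_16_1⟩
  · exact ⟨1, one_mem _, u0_14, mr0_14, e0_16_2⟩
  · exact ⟨1, one_mem _, u0_19, mr0_19, e0_16_3⟩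
  · exact ⟨1, one_mem _, u0_13, mr0_13, e0_16_4⟩
  · exact ⟨1, one_mem _, u0_20, mr0_20, e0_16_5⟩
  · exact ⟨s 5, Subgroup.subset_closure ⟨5, by decide, rfl⟩, u0_16, mr0_16, e0_16_6⟩
theorem c0_17 : P0 u0_17 := by
  refine ⟨mm0_17, ?_⟩
  rintro x ⟨j, hj, rfl⟩
  simp only [J0, List.mem_cons, List.not_mem_nil, or_false] at hj
  rcases hj with rfl | rfl | rfl | rfl | rfl | rfl | rfl
  · exact ⟨1, one_mem _, u0_15, mr0_15, e0_17_0⟩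
  · exact ⟨s 2, Subgroup.subset_closure ⟨2, by decide, rfl⟩, u0_17, mr0_17, e0_17_1⟩
  · exact ⟨1, one_mem _, u0_20, mr0_20, e0_17_2⟩
  · exact ⟨s 3, Subgroup.subset_closure ⟨3, by decide, rfl⟩, u0_17, mr0_17, e0_17_3⟩
  · exact ⟨s 4, Subgroup.subset_closure ⟨4, by decide, rfl⟩, u0_17, mr0_17, e0_17_4⟩
  · exact ⟨1, one_mem _, u0_14, mr0_14, e0_17_5⟩
  · exact ⟨1, one_mem _, u0_21, mr0_21, e0_17_6⟩
theorem c0_18 : P0 u0_18 := by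
  refine ⟨mm0_18, ?_⟩
  rintro x ⟨j, hj, rfl⟩
  simp only [J0, List.mem_cons, List.not_mem_nil, or_false] at hj
  rcases hj with rfl | rfl | rfl | rfl | rfl | rfl | rfl
  · exact ⟨1, one_mem _, u0_21, mr0_21, e0_18_0⟩
  · exact ⟨s 2, Subgroup.subset_closure ⟨2, by decide, rfl⟩, u0_18, mr0_18, e0_18_1⟩
  · exact ⟨s 1, Subgroup.subset_closure ⟨1, by decide, rfl⟩, u0_18, mr0_18, e0_18_2⟩
  · exact ⟨s 3, Subgroup.subset_closure ⟨3, by decide, rfl⟩, u0_18, mr0_18, e0_18_3⟩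
  · exact ⟨s 4, Subgroup.subset_closure ⟨4, by decide, rfl⟩, u0_18, mr0_18, e0_18_4⟩
  · exact ⟨s 5, Subgroup.subset_closure ⟨5, by decide, rfl⟩, u0_18, mr0_18, e0_18_5⟩
  · exact ⟨1, one_mem _, u0_15, mr0_15, e0_18_6⟩
theorem c0_19 : P0 u0_19 := by
  refine ⟨mm0_19, ?_⟩
  rintro x ⟨j, hj, rfl⟩
  simp only [J0, List.mem_cons, List.not_mem_nil, or_false] at hj
  rcases hj with rfl | rfl | rfl | rfl | rfl | rfl | rfl
  · exact ⟨s 1, Subgroup.subset_closure ⟨1, by decide, rfl⟩, u0_19, mr0_19, e0_19_0⟩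
  · exact ⟨1, one_mem _, u0_22, mr0_22, e0_19_1⟩
  · exact ⟨s 3, Subgroup.subset_closure ⟨3, by decide, rfl⟩, u0_19, mr0_19, e0_19_2⟩
  · exact ⟨1, one_mem _, u0_16, mr0_16, e0_19_3⟩
  · exact ⟨s 0, Subgroup.subset_closure ⟨0, by decide, rfl⟩, u0_19, mr0_19, e0_19_4⟩
  · exact ⟨1, one_mem _, u0_23, mr0_23, e0_19_5⟩
  · exact ⟨s 5, Subgroup.subset_closure ⟨5, by decide, rfl⟩, u0_19, mr0_19, e0_19_6⟩
theorem c0_20 : P0 u0_20 := by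
  refine ⟨mm0_20, ?_⟩
  rintro x ⟨j, hj, rfl⟩
  simp only [J0, List.mem_cons, List.not_mem_nil, or_false] at hj
  rcases hj with rfl | rfl | rfl | rfl | rfl | rfl | rfl
  · exact ⟨s 1, Subgroup.subset_closure ⟨1, by decide, rfl⟩, u0_20, mr0_20, e0_20_0⟩
  · exact ⟨s 2, Subgroup.subset_closure ⟨2, by decide, rfl⟩, u0_20, mr0_20, e0_20_1⟩
  · exact ⟨1, one_mem _, u0_17, mr0_17, e0_20_2⟩
  · exact ⟨1, one_mem _, u0_23, mr0_23, e0_20_3⟩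
  · exact ⟨s 4, Subgroup.subset_closure ⟨4, by decide, rfl⟩, u0_20, mr0_20, e0_20_4⟩
  · exact ⟨1, one_mem _, u0_16, mr0_16, e0_20_5⟩
  · exact ⟨1, one_mem _, u0_24, mr0_24, e0_20_6⟩
theorem c0_21 : P0 u0_21 := by
  refine ⟨mm0_21, ?_⟩
  rintro x ⟨j, hj, rfl⟩
  simp only [J0, List.mem_cons, List.not_mem_nil, or_false] at hj
  rcases hj with rfl | rfl | rfl | rfl | rfl | rfl | rfl
  · exact ⟨1, one_mem _, u0_18, mr0_18, e0_21_0⟩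
  · exact ⟨s 2, Subgroup.subset_closure ⟨2, by decide, rfl⟩, u0_21, mr0_21, e0_21_1⟩
  · exact ⟨1, one_mem _, u0_24, mr0_24, e0_21_2⟩
  · exact ⟨s 3, Subgroup.subset_closure ⟨3, by decide, rfl⟩, u0_21, mr0_21, e0_21_3⟩
  · exact ⟨s 4, Subgroup.subset_closure ⟨4, by decide, rfl⟩, u0_21, mr0_21, e0_21_4⟩
  · exact ⟨s 5, Subgroup.subset_closure ⟨5, by decide, rfl⟩, u0_21, mr0_21, e0_21_5⟩
  · exact ⟨1, one_mem _, u0_17, mr0_17, e0_21_6⟩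
theorem c0_22 : P0 u0_22 := by
  refine ⟨mm0_22, ?_⟩
  rintro x ⟨j, hj, rfl⟩
  simp only [J0, List.mem_cons, List.not_mem_nil, or_false] at hj
  rcases hj with rfl | rfl | rfl | rfl | rfl | rfl | rfl
  · exact ⟨s 1, Subgroup.subset_closure ⟨1, by decide, rfl⟩, u0_22, mr0_22, e0_22_0⟩
  · exact ⟨1, one_mem _, u0_19, mr0_19, e0_22_1⟩
  · exact ⟨s 3, Subgroup.subset_closure ⟨3, by decide, rfl⟩, u0_22, mr0_22, e0_22_2⟩
  · exact ⟨s 2, Subgroup.subset_closure ⟨2, by decide, rfl⟩, u0_22, mr0_22, e0_22_3⟩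
  · exact ⟨s 0, Subgroup.subset_closure ⟨0, by decide, rfl⟩, u0_22, mr0_22, e0_22_4⟩
  · exact ⟨1, one_mem _, u0_25, mr0_25, e0_22_5⟩
  · exact ⟨s 5, Subgroup.subset_closure ⟨5, by decide, rfl⟩, u0_22, mr0_22, e0_22_6⟩
theorem c0_23 : P0 u0_23 := by
  refine ⟨mm0_23, ?_⟩
  rintro x ⟨j, hj, rfl⟩
  simp only [J0, List.mem_cons, List.not_mem_nil, or_false] at hj
  rcases hj with rfl | rfl | rfl | rfl | rfl | rfl | rfl
  · exact ⟨s 1, Subgroup.subset_closure ⟨1, by decide, rfl⟩, u0_23, mr0_23, e0_23_0⟩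
  · exact ⟨1, one_mem _, u0_25, mr0_25, e0_23_1⟩
  · exact ⟨s 3, Subgroup.subset_closure ⟨3, by decide, rfl⟩, u0_23, mr0_23, e0_23_2⟩
  · exact ⟨1, one_mem _, u0_20, mr0_20, e0_23_3⟩
  · exact ⟨1, one_mem _, u0_26, mr0_26, e0_23_4⟩
  · exact ⟨1, one_mem _, u0_19, mr0_19, e0_23_5⟩
  · exact ⟨1, one_mem _, u0_27, mr0_27, e0_23_6⟩
theorem c0_24 : P0 u0_24 := by
  refine ⟨mm0_24, ?_⟩
  rintro x ⟨j, hj, rfl⟩
  simp only [J0, List.mem_cons, List.not_mem_nil, or_false] at hj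
  rcases hj with rfl | rfl | rfl | rfl | rfl | rfl | rfl
  · exact ⟨s 1, Subgroup.subset_closure ⟨1, by decide, rfl⟩, u0_24, mr0_24, e0_24_0⟩
  · exact ⟨s 2, Subgroup.subset_closure ⟨2, by decide, rfl⟩, u0_24, mr0_24, e0_24_1⟩
  · exact ⟨1, one_mem _, u0_21, mr0_21, e0_24_2⟩
  · exact ⟨1, one_mem _, u0_27, mr0_27, e0_24_3⟩
  · exact ⟨s 4, Subgroup.subset_closure ⟨4, by decide, rfl⟩, u0_24, mr0_24, e0_24_4⟩
  · exact ⟨s 5, Subgroup.subset_closure ⟨5, by decide, rfl⟩, u0_24, mr0_24, e0_24_5⟩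
  · exact ⟨1, one_mem _, u0_20, mr0_20, e0_24_6⟩
theorem c0_25 : P0 u0_25 := by
  refine ⟨mm0_25, ?_⟩
  rintro x ⟨j, hj, rfl⟩
  simp only [J0, List.mem_cons, List.not_mem_nil, or_false] at hj
  rcases hj with rfl | rfl | rfl | rfl | rfl | rfl | rfl
  · exact ⟨s 1, Subgroup.subset_closure ⟨1, by decide, rfl⟩, u0_25, mr0_25, e0_25_0⟩
  · exact ⟨1, one_mem _, u0_23, mr0_23, e0_25_1⟩
  · exact ⟨s 3, Subgroup.subset_closure ⟨3, by decide, rfl⟩, u0_25, mr0_25, e0_25_2⟩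
  · exact ⟨s 2, Subgroup.subset_closure ⟨2, by decide, rfl⟩, u0_25, mr0_25, e0_25_3⟩
  · exact ⟨1, one_mem _, u0_28, mr0_28, e0_25_4⟩
  · exact ⟨1, one_mem _, u0_22, mr0_22, e0_25_5⟩
  · exact ⟨1, one_mem _, u0_29, mr0_29, e0_25_6⟩
theorem c0_26 : P0 u0_26 := by
  refine ⟨mm0_26, ?_⟩
  rintro x ⟨j, hj, rfl⟩
  simp only [J0, List.mem_cons, List.not_mem_nil, or_false] at hj
  rcases hj with rfl | rfl | rfl | rfl | rfl | rfl | rfl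
  · exact ⟨s 1, Subgroup.subset_closure ⟨1, by decide, rfl⟩, u0_26, mr0_26, e0_26_0⟩
  · exact ⟨1, one_mem _, u0_28, mr0_28, e0_26_1⟩
  · exact ⟨s 3, Subgroup.subset_closure ⟨3, by decide, rfl⟩, u0_26, mr0_26, e0_26_2⟩
  · exact ⟨s 4, Subgroup.subset_closure ⟨4, by decide, rfl⟩, u0_26, mr0_26, e0_26_3⟩
  · exact ⟨1, one_mem _, u0_23, mr0_23, e0_26_4⟩
  · exact ⟨s 0, Subgroup.subset_closure ⟨0, by decide, rfl⟩, u0_26, mr0_26, e0_26_5⟩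
  · exact ⟨1, one_mem _, u0_30, mr0_30, e0_26_6⟩
theorem c0_27 : P0 u0_27 := by
  refine ⟨mm0_27, ?_⟩
  rintro x ⟨j, hj, rfl⟩
  simp only [J0, List.mem_cons, List.not_mem_nil, or_false] at hj
  rcases hj with rfl | rfl | rfl | rfl | rfl | rfl | rfl
  · exact ⟨s 1, Subgroup.subset_closure ⟨1, by decide, rfl⟩, u0_27, mr0_27, e0_27_0⟩
  · exact ⟨1, one_mem _, u0_29, mr0_29, e0_27_1⟩
  · exact ⟨s 3, Subgroup.subset_closure ⟨3, by decide, rfl⟩, u0_27, mr0_27, e0_27_2⟩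
  · exact ⟨1, one_mem _, u0_24, mr0_24, e0_27_3⟩
  · exact ⟨1, one_mem _, u0_30, mr0_30, e0_27_4⟩
  · exact ⟨s 5, Subgroup.subset_closure ⟨5, by decide, rfl⟩, u0_27, mr0_27, e0_27_5⟩
  · exact ⟨1, one_mem _, u0_23, mr0_23, e0_27_6⟩
theorem c0_28 : P0 u0_28 := by
  refine ⟨mm0_28, ?_⟩
  rintro x ⟨j, hj, rfl⟩
  simp only [J0, List.mem_cons, List.not_mem_nil, or_false] at hj
  rcases hj with rfl | rfl | rfl | rfl | rfl | rfl | rfl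
  · exact ⟨s 1, Subgroup.subset_closure ⟨1, by decide, rfl⟩, u0_28, mr0_28, e0_28_0⟩
  · exact ⟨1, one_mem _, u0_26, mr0_26, e0_28_1⟩
  · exact ⟨s 3, Subgroup.subset_closure ⟨3, by decide, rfl⟩, u0_28, mr0_28, e0_28_2⟩
  · exact ⟨1, one_mem _, u0_31, mr0_31, e0_28_3⟩
  · exact ⟨1, one_mem _, u0_25, mr0_25, e0_28_4⟩
  · exact ⟨s 0, Subgroup.subset_closure ⟨0, by decide, rfl⟩, u0_28, mr0_28, e0_28_5⟩
  · exact ⟨1, one_mem _, u0_32, mr0_32, e0_28_6⟩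
theorem c0_29 : P0 u0_29 := by
  refine ⟨mm0_29, ?_⟩
  rintro x ⟨j, hj, rfl⟩
  simp only [J0, List.mem_cons, List.not_mem_nil, or_false] at hj
  rcases hj with rfl | rfl | rfl | rfl | rfl | rfl | rfl
  · exact ⟨s 1, Subgroup.subset_closure ⟨1, by decide, rfl⟩, u0_29, mr0_29, e0_29_0⟩
  · exact ⟨1, one_mem _, u0_27, mr0_27, e0_29_1⟩
  · exact ⟨s 3, Subgroup.subset_closure ⟨3, by decide, rfl⟩, u0_29, mr0_29, e0_29_2⟩
  · exact ⟨s 2, Subgroup.subset_closure ⟨2, by decide, rfl⟩, u0_29, mr0_29, e0_29_3⟩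
  · exact ⟨1, one_mem _, u0_32, mr0_32, e0_29_4⟩
  · exact ⟨s 5, Subgroup.subset_closure ⟨5, by decide, rfl⟩, u0_29, mr0_29, e0_29_5⟩
  · exact ⟨1, one_mem _, u0_25, mr0_25, e0_29_6⟩
theorem c0_30 : P0 u0_30 := by
  refine ⟨mm0_30, ?_⟩
  rintro x ⟨j, hj, rfl⟩
  simp only [J0, List.mem_cons, List.not_mem_nil, or_false] at hj
  rcases hj with rfl | rfl | rfl | rfl | rfl | rfl | rfl
  · exact ⟨s 1, Subgroup.subset_closure ⟨1, by decide, rfl⟩, u0_30, mr0_30, e0_30_0⟩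
  · exact ⟨1, one_mem _, u0_32, mr0_32, e0_30_1⟩
  · exact ⟨s 3, Subgroup.subset_closure ⟨3, by decide, rfl⟩, u0_30, mr0_30, e0_30_2⟩
  · exact ⟨s 4, Subgroup.subset_closure ⟨4, by decide, rfl⟩, u0_30, mr0_30, e0_30_3⟩
  · exact ⟨1, one_mem _, u0_27, mr0_27, e0_30_4⟩
  · exact ⟨1, one_mem _, u0_33, mr0_33, e0_30_5⟩
  · exact ⟨1, one_mem _, u0_26, mr0_26, e0_30_6⟩
theorem c0_31 : P0 u0_31 := by
  refine ⟨mm0_31, ?_⟩
  rintro x ⟨j, hj, rfl⟩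
  simp only [J0, List.mem_cons, List.not_mem_nil, or_false] at hj
  rcases hj with rfl | rfl | rfl | rfl | rfl | rfl | rfl
  · exact ⟨s 1, Subgroup.subset_closure ⟨1, by decide, rfl⟩, u0_31, mr0_31, e0_31_0⟩
  · exact ⟨s 4, Subgroup.subset_closure ⟨4, by decide, rfl⟩, u0_31, mr0_31, e0_31_1⟩
  · exact ⟨1, one_mem _, u0_34, mr0_34, e0_31_2⟩
  · exact ⟨1, one_mem _, u0_28, mr0_28, e0_31_3⟩
  · exact ⟨s 2, Subgroup.subset_closure ⟨2, by decide, rfl⟩, u0_31, mr0_31, e0_31_4⟩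
  · exact ⟨s 0, Subgroup.subset_closure ⟨0, by decide, rfl⟩, u0_31, mr0_31, e0_31_5⟩
  · exact ⟨1, one_mem _, u0_35, mr0_35, e0_31_6⟩
theorem c0_32 : P0 u0_32 := by
  refine ⟨mm0_32, ?_⟩
  rintro x ⟨j, hj, rfl⟩
  simp only [J0, List.mem_cons, List.not_mem_nil, or_false] at hj
  rcases hj with rfl | rfl | rfl | rfl | rfl | rfl | rfl
  · exact ⟨s 1, Subgroup.subset_closure ⟨1, by decide, rfl⟩, u0_32, mr0_32, e0_32_0⟩
  · exact ⟨1, one_mem _, u0_30, mr0_30, e0_32_1⟩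
  · exact ⟨s 3, Subgroup.subset_closure ⟨3, by decide, rfl⟩, u0_32, mr0_32, e0_32_2⟩
  · exact ⟨1, one_mem _, u0_35, mr0_35, e0_32_3⟩
  · exact ⟨1, one_mem _, u0_29, mr0_29, e0_32_4⟩
  · exact ⟨1, one_mem _, u0_36, mr0_36, e0_32_5⟩
  · exact ⟨1, one_mem _, u0_28, mr0_28, e0_32_6⟩
theorem c0_33 : P0 u0_33 := by
  refine ⟨mm0_33, ?_⟩
  rintro x ⟨j, hj, rfl⟩
  simp only [J0, List.mem_cons, List.not_mem_nil, or_false] at hj
  rcases hj with rfl | rfl | rfl | rfl | rfl | rfl | rfl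
  · exact ⟨s 1, Subgroup.subset_closure ⟨1, by decide, rfl⟩, u0_33, mr0_33, e0_33_0⟩
  · exact ⟨1, one_mem _, u0_36, mr0_36, e0_33_1⟩
  · exact ⟨s 3, Subgroup.subset_closure ⟨3, by decide, rfl⟩, u0_33, mr0_33, e0_33_2⟩
  · exact ⟨s 4, Subgroup.subset_closure ⟨4, by decide, rfl⟩, u0_33, mr0_33, e0_33_3⟩
  · exact ⟨s 5, Subgroup.subset_closure ⟨5, by decide, rfl⟩, u0_33, mr0_33, e0_33_4⟩
  · exact ⟨1, one_mem _, u0_30, mr0_30, e0_33_5⟩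
  · exact ⟨s 0, Subgroup.subset_closure ⟨0, by decide, rfl⟩, u0_33, mr0_33, e0_33_6⟩
theorem c0_34 : P0 u0_34 := by
  refine ⟨mm0_34, ?_⟩
  rintro x ⟨j, hj, rfl⟩
  simp only [J0, List.mem_cons, List.not_mem_nil, or_false] at hj
  rcases hj with rfl | rfl | rfl | rfl | rfl | rfl | rfl
  · exact ⟨1, one_mem _, u0_37, mr0_37, e0_34_0⟩
  · exact ⟨s 4, Subgroup.subset_closure ⟨4, by decide, rfl⟩, u0_34, mr0_34, e0_34_1⟩
  · exact ⟨1, one_mem _, u0_31, mr0_31, e0_34_2⟩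
  · exact ⟨s 3, Subgroup.subset_closure ⟨3, by decide, rfl⟩, u0_34, mr0_34, e0_34_3⟩
  · exact ⟨s 2, Subgroup.subset_closure ⟨2, by decide, rfl⟩, u0_34, mr0_34, e0_34_4⟩
  · exact ⟨s 0, Subgroup.subset_closure ⟨0, by decide, rfl⟩, u0_34, mr0_34, e0_34_5⟩
  · exact ⟨1, one_mem _, u0_38, mr0_38, e0_34_6⟩
theorem c0_35 : P0 u0_35 := by
  refine ⟨mm0_35, ?_⟩
  rintro x ⟨j, hj, rfl⟩
  simp only [J0, List.mem_cons, List.not_mem_nil, or_false] at hj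
  rcases hj with rfl | rfl | rfl | rfl | rfl | rfl | rfl
  · exact ⟨s 1, Subgroup.subset_closure ⟨1, by decide, rfl⟩, u0_35, mr0_35, e0_35_0⟩
  · exact ⟨s 4, Subgroup.subset_closure ⟨4, by decide, rfl⟩, u0_35, mr0_35, e0_35_1⟩
  · exact ⟨1, one_mem _, u0_38, mr0_38, e0_35_2⟩
  · exact ⟨1, one_mem _, u0_32, mr0_32, e0_35_3⟩
  · exact ⟨s 2, Subgroup.subset_closure ⟨2, by decide, rfl⟩, u0_35, mr0_35, e0_35_4⟩
  · exact ⟨1, one_mem _, u0_39, mr0_39, e0_35_5⟩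
  · exact ⟨1, one_mem _, u0_31, mr0_31, e0_35_6⟩
theorem c0_36 : P0 u0_36 := by
  refine ⟨mm0_36, ?_⟩
  rintro x ⟨j, hj, rfl⟩
  simp only [J0, List.mem_cons, List.not_mem_nil, or_false] at hj
  rcases hj with rfl | rfl | rfl | rfl | rfl | rfl | rfl
  · exact ⟨s 1, Subgroup.subset_closure ⟨1, by decide, rfl⟩, u0_36, mr0_36, e0_36_0⟩
  · exact ⟨1, one_mem _, u0_33, mr0_33, e0_36_1⟩
  · exact ⟨s 3, Subgroup.subset_closure ⟨3, by decide, rfl⟩, u0_36, mr0_36, e0_36_2⟩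
  · exact ⟨1, one_mem _, u0_39, mr0_39, e0_36_3⟩
  · exact ⟨s 5, Subgroup.subset_closure ⟨5, by decide, rfl⟩, u0_36, mr0_36, e0_36_4⟩
  · exact ⟨1, one_mem _, u0_32, mr0_32, e0_36_5⟩
  · exact ⟨s 0, Subgroup.subset_closure ⟨0, by decide, rfl⟩, u0_36, mr0_36, e0_36_6⟩
theorem c0_37 : P0 u0_37 := by
  refine ⟨mm0_37, ?_⟩
  rintro x ⟨j, hj, rfl⟩
  simp only [J0, List.mem_cons, List.not_mem_nil, or_false] at hj
  rcases hj with rfl | rfl | rfl | rfl | rfl | rfl | rfl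
  · exact ⟨1, one_mem _, u0_34, mr0_34, e0_37_0⟩
  · exact ⟨s 4, Subgroup.subset_closure ⟨4, by decide, rfl⟩, u0_37, mr0_37, e0_37_1⟩
  · exact ⟨s 1, Subgroup.subset_closure ⟨1, by decide, rfl⟩, u0_37, mr0_37, e0_37_2⟩
  · exact ⟨s 3, Subgroup.subset_closure ⟨3, by decide, rfl⟩, u0_37, mr0_37, e0_37_3⟩
  · exact ⟨s 2, Subgroup.subset_closure ⟨2, by decide, rfl⟩, u0_37, mr0_37, e0_37_4⟩
  · exact ⟨s 0, Subgroup.subset_closure ⟨0, by decide, rfl⟩, u0_37, mr0_37, e0_37_5⟩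
  · exact ⟨1, one_mem _, u0_40, mr0_40, e0_37_6⟩
theorem c0_38 : P0 u0_38 := by
  refine ⟨mm0_38, ?_⟩
  rintro x ⟨j, hj, rfl⟩
  simp only [J0, List.mem_cons, List.not_mem_nil, or_false] at hj
  rcases hj with rfl | rfl | rfl | rfl | rfl | rfl | rfl
  · exact ⟨1, one_mem _, u0_40, mr0_40, e0_38_0⟩
  · exact ⟨s 4, Subgroup.subset_closure ⟨4, by decide, rfl⟩, u0_38, mr0_38, e0_38_1⟩
  · exact ⟨1, one_mem _, u0_35, mr0_35, e0_38_2⟩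
  · exact ⟨s 3, Subgroup.subset_closure ⟨3, by decide, rfl⟩, u0_38, mr0_38, e0_38_3⟩
  · exact ⟨s 2, Subgroup.subset_closure ⟨2, by decide, rfl⟩, u0_38, mr0_38, e0_38_4⟩
  · exact ⟨1, one_mem _, u0_41, mr0_41, e0_38_5⟩
  · exact ⟨1, one_mem _, u0_34, mr0_34, e0_38_6⟩
theorem c0_39 : P0 u0_39 := by
  refine ⟨mm0_39, ?_⟩
  rintro x ⟨j, hj, rfl⟩
  simp only [J0, List.mem_cons, List.not_mem_nil, or_false] at hj
  rcases hj with rfl | rfl | rfl | rfl | rfl | rfl | rfl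
  · exact ⟨s 1, Subgroup.subset_closure ⟨1, by decide, rfl⟩, u0_39, mr0_39, e0_39_0⟩
  · exact ⟨s 4, Subgroup.subset_closure ⟨4, by decide, rfl⟩, u0_39, mr0_39, e0_39_1⟩
  · exact ⟨1, one_mem _, u0_41, mr0_41, e0_39_2⟩
  · exact ⟨1, one_mem _, u0_36, mr0_36, e0_39_3⟩
  · exact ⟨1, one_mem _, u0_42, mr0_42, e0_39_4⟩
  · exact ⟨1, one_mem _, u0_35, mr0_35, e0_39_5⟩
  · exact ⟨s 0, Subgroup.subset_closure ⟨0, by decide, rfl⟩, u0_39, mr0_39, e0_39_6⟩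
theorem c0_40 : P0 u0_40 := by
  refine ⟨mm0_40, ?_⟩
  rintro x ⟨j, hj, rfl⟩
  simp only [J0, List.mem_cons, List.not_mem_nil, or_false] at hj
  rcases hj with rfl | rfl | rfl | rfl | rfl | rfl | rfl
  · exact ⟨1, one_mem _, u0_38, mr0_38, e0_40_0⟩
  · exact ⟨s 4, Subgroup.subset_closure ⟨4, by decide, rfl⟩, u0_40, mr0_40, e0_40_1⟩
  · exact ⟨s 1, Subgroup.subset_closure ⟨1, by decide, rfl⟩, u0_40, mr0_40, e0_40_2⟩
  · exact ⟨s 3, Subgroup.subset_closure ⟨3, by decide, rfl⟩, u0_40, mr0_40, e0_40_3⟩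
  · exact ⟨s 2, Subgroup.subset_closure ⟨2, by decide, rfl⟩, u0_40, mr0_40, e0_40_4⟩
  · exact ⟨1, one_mem _, u0_43, mr0_43, e0_40_5⟩
  · exact ⟨1, one_mem _, u0_37, mr0_37, e0_40_6⟩
theorem c0_41 : P0 u0_41 := by
  refine ⟨mm0_41, ?_⟩
  rintro x ⟨j, hj, rfl⟩
  simp only [J0, List.mem_cons, List.not_mem_nil, or_false] at hj
  rcases hj with rfl | rfl | rfl | rfl | rfl | rfl | rfl
  · exact ⟨1, one_mem _, u0_43, mr0_43, e0_41_0⟩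
  · exact ⟨s 4, Subgroup.subset_closure ⟨4, by decide, rfl⟩, u0_41, mr0_41, e0_41_1⟩
  · exact ⟨1, one_mem _, u0_39, mr0_39, e0_41_2⟩
  · exact ⟨s 3, Subgroup.subset_closure ⟨3, by decide, rfl⟩, u0_41, mr0_41, e0_41_3⟩
  · exact ⟨1, one_mem _, u0_44, mr0_44, e0_41_4⟩
  · exact ⟨1, one_mem _, u0_38, mr0_38, e0_41_5⟩
  · exact ⟨s 0, Subgroup.subset_closure ⟨0, by decide, rfl⟩, u0_41, mr0_41, e0_41_6⟩
theorem c0_42 : P0 u0_42 := by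
  refine ⟨mm0_42, ?_⟩
  rintro x ⟨j, hj, rfl⟩
  simp only [J0, List.mem_cons, List.not_mem_nil, or_false] at hj
  rcases hj with rfl | rfl | rfl | rfl | rfl | rfl | rfl
  · exact ⟨s 1, Subgroup.subset_closure ⟨1, by decide, rfl⟩, u0_42, mr0_42, e0_42_0⟩
  · exact ⟨s 4, Subgroup.subset_closure ⟨4, by decide, rfl⟩, u0_42, mr0_42, e0_42_1⟩
  · exact ⟨1, one_mem _, u0_44, mr0_44, e0_42_2⟩
  · exact ⟨s 5, Subgroup.subset_closure ⟨5, by decide, rfl⟩, u0_42, mr0_42, e0_42_3⟩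
  · exact ⟨1, one_mem _, u0_39, mr0_39, e0_42_4⟩
  · exact ⟨s 2, Subgroup.subset_closure ⟨2, by decide, rfl⟩, u0_42, mr0_42, e0_42_5⟩
  · exact ⟨s 0, Subgroup.subset_closure ⟨0, by decide, rfl⟩, u0_42, mr0_42, e0_42_6⟩
theorem c0_43 : P0 u0_43 := by
  refine ⟨mm0_43, ?_⟩
  rintro x ⟨j, hj, rfl⟩
  simp only [J0, List.mem_cons, List.not_mem_nil, or_false] at hj
  rcases hj with rfl | rfl | rfl | rfl | rfl | rfl | rfl
  · exact ⟨1, one_mem _, u0_41, mr0_41, e0_43_0⟩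
  · exact ⟨s 4, Subgroup.subset_closure ⟨4, by decide, rfl⟩, u0_43, mr0_43, e0_43_1⟩
  · exact ⟨s 1, Subgroup.subset_closure ⟨1, by decide, rfl⟩, u0_43, mr0_43, e0_43_2⟩
  · exact ⟨s 3, Subgroup.subset_closure ⟨3, by decide, rfl⟩, u0_43, mr0_43, e0_43_3⟩
  · exact ⟨1, one_mem _, u0_45, mr0_45, e0_43_4⟩
  · exact ⟨1, one_mem _, u0_40, mr0_40, e0_43_5⟩
  · exact ⟨s 0, Subgroup.subset_closure ⟨0, by decide, rfl⟩, u0_43, mr0_43, e0_43_6⟩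
theorem c0_44 : P0 u0_44 := by
  refine ⟨mm0_44, ?_⟩
  rintro x ⟨j, hj, rfl⟩
  simp only [J0, List.mem_cons, List.not_mem_nil, or_false] at hj
  rcases hj with rfl | rfl | rfl | rfl | rfl | rfl | rfl
  · exact ⟨1, one_mem _, u0_45, mr0_45, e0_44_0⟩
  · exact ⟨s 4, Subgroup.subset_closure ⟨4, by decide, rfl⟩, u0_44, mr0_44, e0_44_1⟩
  · exact ⟨1, one_mem _, u0_42, mr0_42, e0_44_2⟩
  · exact ⟨1, one_mem _, u0_46, mr0_46, e0_44_3⟩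
  · exact ⟨1, one_mem _, u0_41, mr0_41, e0_44_4⟩
  · exact ⟨s 2, Subgroup.subset_closure ⟨2, by decide, rfl⟩, u0_44, mr0_44, e0_44_5⟩
  · exact ⟨s 0, Subgroup.subset_closure ⟨0, by decide, rfl⟩, u0_44, mr0_44, e0_44_6⟩
theorem c0_45 : P0 u0_45 := by
  refine ⟨mm0_45, ?_⟩
  rintro x ⟨j, hj, rfl⟩
  simp only [J0, List.mem_cons, List.not_mem_nil, or_false] at hj
  rcases hj with rfl | rfl | rfl | rfl | rfl | rfl | rfl
  · exact ⟨1, one_mem _, u0_44, mr0_44, e0_45_0⟩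
  · exact ⟨s 4, Subgroup.subset_closure ⟨4, by decide, rfl⟩, u0_45, mr0_45, e0_45_1⟩
  · exact ⟨s 1, Subgroup.subset_closure ⟨1, by decide, rfl⟩, u0_45, mr0_45, e0_45_2⟩
  · exact ⟨1, one_mem _, u0_47, mr0_47, e0_45_3⟩
  · exact ⟨1, one_mem _, u0_43, mr0_43, e0_45_4⟩
  · exact ⟨s 2, Subgroup.subset_closure ⟨2, by decide, rfl⟩, u0_45, mr0_45, e0_45_5⟩
  · exact ⟨s 0, Subgroup.subset_closure ⟨0, by decide, rfl⟩, u0_45, mr0_45, e0_45_6⟩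
theorem c0_46 : P0 u0_46 := by
  refine ⟨mm0_46, ?_⟩
  rintro x ⟨j, hj, rfl⟩
  simp only [J0, List.mem_cons, List.not_mem_nil, or_false] at hj
  rcases hj with rfl | rfl | rfl | rfl | rfl | rfl | rfl
  · exact ⟨1, one_mem _, u0_47, mr0_47, e0_46_0⟩
  · exact ⟨1, one_mem _, u0_48, mr0_48, e0_46_1⟩
  · exact ⟨s 5, Subgroup.subset_closure ⟨5, by decide, rfl⟩, u0_46, mr0_46, e0_46_2⟩
  · exact ⟨1, one_mem _, u0_44, mr0_44, e0_46_3⟩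
  · exact ⟨s 3, Subgroup.subset_closure ⟨3, by decide, rfl⟩, u0_46, mr0_46, e0_46_4⟩
  · exact ⟨s 2, Subgroup.subset_closure ⟨2, by decide, rfl⟩, u0_46, mr0_46, e0_46_5⟩
  · exact ⟨s 0, Subgroup.subset_closure ⟨0, by decide, rfl⟩, u0_46, mr0_46, e0_46_6⟩
theorem c0_47 : P0 u0_47 := by
  refine ⟨mm0_47, ?_⟩
  rintro x ⟨j, hj, rfl⟩
  simp only [J0, List.mem_cons, List.not_mem_nil, or_false] at hj
  rcases hj with rfl | rfl | rfl | rfl | rfl | rfl | rfl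
  · exact ⟨1, one_mem _, u0_46, mr0_46, e0_47_0⟩
  · exact ⟨1, one_mem _, u0_49, mr0_49, e0_47_1⟩
  · exact ⟨1, one_mem _, u0_50, mr0_50, e0_47_2⟩
  · exact ⟨1, one_mem _, u0_45, mr0_45, e0_47_3⟩
  · exact ⟨s 3, Subgroup.subset_closure ⟨3, by decide, rfl⟩, u0_47, mr0_47, e0_47_4⟩
  · exact ⟨s 2, Subgroup.subset_closure ⟨2, by decide, rfl⟩, u0_47, mr0_47, e0_47_5⟩
  · exact ⟨s 0, Subgroup.subset_closure ⟨0, by decide, rfl⟩, u0_47, mr0_47, e0_47_6⟩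
theorem c0_48 : P0 u0_48 := by
  refine ⟨mm0_48, ?_⟩
  rintro x ⟨j, hj, rfl⟩
  simp only [J0, List.mem_cons, List.not_mem_nil, or_false] at hj
  rcases hj with rfl | rfl | rfl | rfl | rfl | rfl | rfl
  · exact ⟨1, one_mem _, u0_49, mr0_49, e0_48_0⟩
  · exact ⟨1, one_mem _, u0_46, mr0_46, e0_48_1⟩
  · exact ⟨s 5, Subgroup.subset_closure ⟨5, by decide, rfl⟩, u0_48, mr0_48, e0_48_2⟩
  · exact ⟨s 4, Subgroup.subset_closure ⟨4, by decide, rfl⟩, u0_48, mr0_48, e0_48_3⟩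
  · exact ⟨s 3, Subgroup.subset_closure ⟨3, by decide, rfl⟩, u0_48, mr0_48, e0_48_4⟩
  · exact ⟨s 2, Subgroup.subset_closure ⟨2, by decide, rfl⟩, u0_48, mr0_48, e0_48_5⟩
  · exact ⟨s 0, Subgroup.subset_closure ⟨0, by decide, rfl⟩, u0_48, mr0_48, e0_48_6⟩
theorem c0_49 : P0 u0_49 := by
  refine ⟨mm0_49, ?_⟩
  rintro x ⟨j, hj, rfl⟩
  simp only [J0, List.mem_cons, List.not_mem_nil, or_false] at hj
  rcases hj with rfl | rfl | rfl | rfl | rfl | rfl | rfl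
  · exact ⟨1, one_mem _, u0_48, mr0_48, e0_49_0⟩
  · exact ⟨1, one_mem _, u0_47, mr0_47, e0_49_1⟩
  · exact ⟨1, one_mem _, u0_51, mr0_51, e0_49_2⟩
  · exact ⟨s 4, Subgroup.subset_closure ⟨4, by decide, rfl⟩, u0_49, mr0_49, e0_49_3⟩
  · exact ⟨s 3, Subgroup.subset_closure ⟨3, by decide, rfl⟩, u0_49, mr0_49, e0_49_4⟩
  · exact ⟨s 2, Subgroup.subset_closure ⟨2, by decide, rfl⟩, u0_49, mr0_49, e0_49_5⟩
  · exact ⟨s 0, Subgroup.subset_closure ⟨0, by decide, rfl⟩, u0_49, mr0_49, e0_49_6⟩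
theorem c0_50 : P0 u0_50 := by
  refine ⟨mm0_50, ?_⟩
  rintro x ⟨j, hj, rfl⟩
  simp only [J0, List.mem_cons, List.not_mem_nil, or_false] at hj
  rcases hj with rfl | rfl | rfl | rfl | rfl | rfl | rfl
  · exact ⟨s 5, Subgroup.subset_closure ⟨5, by decide, rfl⟩, u0_50, mr0_50, e0_50_0⟩
  · exact ⟨1, one_mem _, u0_51, mr0_51, e0_50_1⟩
  · exact ⟨1, one_mem _, u0_47, mr0_47, e0_50_2⟩
  · exact ⟨s 1, Subgroup.subset_closure ⟨1, by decide, rfl⟩, u0_50, mr0_50, e0_50_3⟩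
  · exact ⟨s 3, Subgroup.subset_closure ⟨3, by decide, rfl⟩, u0_50, mr0_50, e0_50_4⟩
  · exact ⟨s 2, Subgroup.subset_closure ⟨2, by decide, rfl⟩, u0_50, mr0_50, e0_50_5⟩
  · exact ⟨s 0, Subgroup.subset_closure ⟨0, by decide, rfl⟩, u0_50, mr0_50, e0_50_6⟩
theorem c0_51 : P0 u0_51 := by
  refine ⟨mm0_51, ?_⟩
  rintro x ⟨j, hj, rfl⟩
  simp only [J0, List.mem_cons, List.not_mem_nil, or_false] at hj
  rcases hj with rfl | rfl | rfl | rfl | rfl | rfl | rfl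
  · exact ⟨s 5, Subgroup.subset_closure ⟨5, by decide, rfl⟩, u0_51, mr0_51, e0_51_0⟩
  · exact ⟨1, one_mem _, u0_50, mr0_50, e0_51_1⟩
  · exact ⟨1, one_mem _, u0_49, mr0_49, e0_51_2⟩
  · exact ⟨1, one_mem _, u0_52, mr0_52, e0_51_3⟩
  · exact ⟨s 3, Subgroup.subset_closure ⟨3, by decide, rfl⟩, u0_51, mr0_51, e0_51_4⟩
  · exact ⟨s 2, Subgroup.subset_closure ⟨2, by decide, rfl⟩, u0_51, mr0_51, e0_51_5⟩
  · exact ⟨s 0, Subgroup.subset_closure ⟨0, by decide, rfl⟩, u0_51, mr0_51, e0_51_6⟩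
theorem c0_52 : P0 u0_52 := by
  refine ⟨mm0_52, ?_⟩
  rintro x ⟨j, hj, rfl⟩
  simp only [J0, List.mem_cons, List.not_mem_nil, or_false] at hj
  rcases hj with rfl | rfl | rfl | rfl | rfl | rfl | rfl
  · exact ⟨s 5, Subgroup.subset_closure ⟨5, by decide, rfl⟩, u0_52, mr0_52, e0_52_0⟩
  · exact ⟨s 1, Subgroup.subset_closure ⟨1, by decide, rfl⟩, u0_52, mr0_52, e0_52_1⟩
  · exact ⟨s 4, Subgroup.subset_closure ⟨4, by decide, rfl⟩, u0_52, mr0_52, e0_52_2⟩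
  · exact ⟨1, one_mem _, u0_51, mr0_51, e0_52_3⟩
  · exact ⟨1, one_mem _, u0_53, mr0_53, e0_52_4⟩
  · exact ⟨s 2, Subgroup.subset_closure ⟨2, by decide, rfl⟩, u0_52, mr0_52, e0_52_5⟩
  · exact ⟨s 0, Subgroup.subset_closure ⟨0, by decide, rfl⟩, u0_52, mr0_52, e0_52_6⟩
theorem c0_53 : P0 u0_53 := by
  refine ⟨mm0_53, ?_⟩
  rintro x ⟨j, hj, rfl⟩
  simp only [J0, List.mem_cons, List.not_mem_nil, or_false] at hj
  rcases hj with rfl | rfl | rfl | rfl | rfl | rfl | rfl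
  · exact ⟨s 5, Subgroup.subset_closure ⟨5, by decide, rfl⟩, u0_53, mr0_53, e0_53_0⟩
  · exact ⟨s 1, Subgroup.subset_closure ⟨1, by decide, rfl⟩, u0_53, mr0_53, e0_53_1⟩
  · exact ⟨s 4, Subgroup.subset_closure ⟨4, by decide, rfl⟩, u0_53, mr0_53, e0_53_2⟩
  · exact ⟨s 3, Subgroup.subset_closure ⟨3, by decide, rfl⟩, u0_53, mr0_53, e0_53_3⟩
  · exact ⟨1, one_mem _, u0_52, mr0_52, e0_53_4⟩
  · exact ⟨1, one_mem _, u0_54, mr0_54, e0_53_5⟩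
  · exact ⟨s 0, Subgroup.subset_closure ⟨0, by decide, rfl⟩, u0_53, mr0_53, e0_53_6⟩
theorem c0_54 : P0 u0_54 := by
  refine ⟨mm0_54, ?_⟩
  rintro x ⟨j, hj, rfl⟩
  simp only [J0, List.mem_cons, List.not_mem_nil, or_false] at hj
  rcases hj with rfl | rfl | rfl | rfl | rfl | rfl | rfl
  · exact ⟨s 5, Subgroup.subset_closure ⟨5, by decide, rfl⟩, u0_54, mr0_54, e0_54_0⟩
  · exact ⟨s 1, Subgroup.subset_closure ⟨1, by decide, rfl⟩, u0_54, mr0_54, e0_54_1⟩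
  · exact ⟨s 4, Subgroup.subset_closure ⟨4, by decide, rfl⟩, u0_54, mr0_54, e0_54_2⟩
  · exact ⟨s 3, Subgroup.subset_closure ⟨3, by decide, rfl⟩, u0_54, mr0_54, e0_54_3⟩
  · exact ⟨s 2, Subgroup.subset_closure ⟨2, by decide, rfl⟩, u0_54, mr0_54, e0_54_4⟩
  · exact ⟨1, one_mem _, u0_53, mr0_53, e0_54_5⟩
  · exact ⟨1, one_mem _, u0_55, mr0_55, e0_54_6⟩
theorem c0_55 : P0 u0_55 := by
  refine ⟨mm0_55, ?_⟩
  rintro x ⟨j, hj, rfl⟩
  simp only [J0, List.mem_cons, List.not_mem_nil, or_false] at hj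
  rcases hj with rfl | rfl | rfl | rfl | rfl | rfl | rfl
  · exact ⟨s 5, Subgroup.subset_closure ⟨5, by decide, rfl⟩, u0_55, mr0_55, e0_55_0⟩
  · exact ⟨s 1, Subgroup.subset_closure ⟨1, by decide, rfl⟩, u0_55, mr0_55, e0_55_1⟩
  · exact ⟨s 4, Subgroup.subset_closure ⟨4, by decide, rfl⟩, u0_55, mr0_55, e0_55_2⟩
  · exact ⟨s 3, Subgroup.subset_closure ⟨3, by decide, rfl⟩, u0_55, mr0_55, e0_55_3⟩
  · exact ⟨s 2, Subgroup.subset_closure ⟨2, by decide, rfl⟩, u0_55, mr0_55, e0_55_4⟩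
  · exact ⟨s 0, Subgroup.subset_closure ⟨0, by decide, rfl⟩, u0_55, mr0_55, e0_55_5⟩
  · exact ⟨1, one_mem _, u0_54, mr0_54, e0_55_6⟩
def preps0 : List {u : W // P0 u} := [⟨u0_0, c0_0⟩, ⟨u0_1, c0_1⟩, ⟨u0_2, c0_2⟩, ⟨u0_3, c0_3⟩, ⟨u0_4, c0_4⟩, ⟨u0_5, c0_5⟩, ⟨u0_6, c0_6⟩, ⟨u0_7, c0_7⟩, ⟨u0_8, c0_8⟩, ⟨u0_9, c0_9⟩, ⟨u0_10, c0_10⟩, ⟨u0_11, c0_11⟩, ⟨u0_12, c0_12⟩, ⟨u0_13, c0_13⟩, ⟨u0_14, c0_14⟩, ⟨u0_15, c0_15⟩, ⟨u0_16, c0_16⟩, ⟨u0_17, c0_17⟩, ⟨u0_18, c0_18⟩, ⟨u0_19, c0_19⟩, ⟨u0_20, c0_20⟩, ⟨u0_21, c0_21⟩, ⟨u0_22, c0_22⟩, ⟨u0_23, c0_23⟩, ⟨u0_24, c0_24⟩, ⟨u0_25, c0_25⟩, ⟨u0_26, c0_26⟩, ⟨u0_27, c0_27⟩, ⟨u0_28, c0_28⟩, ⟨u0_29, c0_29⟩, ⟨u0_30, c0_30⟩, ⟨u0_31, c0_31⟩, ⟨u0_32, c0_32⟩, ⟨u0_33, c0_33⟩, ⟨u0_34, c0_34⟩, ⟨u0_35, c0_35⟩, ⟨u0_36, c0_36⟩, ⟨u0_37, c0_37⟩, ⟨u0_38, c0_38⟩, ⟨u0_39, c0_39⟩, ⟨u0_40, c0_40⟩, ⟨u0_41, c0_41⟩, ⟨u0_42, c0_42⟩, ⟨u0_43, c0_43⟩, ⟨u0_44,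 c0_44⟩, ⟨u0_45, c0_45⟩, ⟨u0_46, c0_46⟩, ⟨u0_47, c0_47⟩, ⟨u0_48, c0_48⟩, ⟨u0_49, c0_49⟩, ⟨u0_50, c0_50⟩, ⟨u0_51, c0_51⟩, ⟨u0_52, c0_52⟩, ⟨u0_53, c0_53⟩, ⟨u0_54, c0_54⟩, ⟨u0_55, c0_55⟩]
theorem preps0_map : preps0.map Subtype.val = reps0 := rfl
theorem allP0 : ∀ u ∈ reps0, P0 u := by
  intro u hu
  rw [← preps0_map, List.mem_map] at hu
  obtain ⟨x, _, rfl⟩ := hu
  exact x.2
def vecs0 : List (Fin 7 → ℤ) := [![0, 0, 0, 0, 0, 0, 1], ![0, 0, 0, 0, 0, 1, -1], ![0, 0, 0, 0, 1, -1, 0], ![0, 0, 0, 1, -1, 0, 0], ![0, 1, 1, -1, 0, 0, 0], ![0, -1, 1, 0, 0, 0, 0], ![1, 1, -1, 0, 0, 0, 0], ![1, -1, -1, 1, 0, 0, 0], ![-1, 1, 0, 0, 0, 0, 0], ![-1, -1, 0, 1, 0, 0, 0], ![1, 0, 0, -1, 1, 0, 0], ![-1, 0, 1, -1, 1, 0, 0], ![1, 0, 0, 0, -1, 1, 0], ![0, 0, -1, 0, 1, 0, 0], ![-1, 0, 1, 0, -1, 1, 0], ![1, 0, 0, 0, 0, -1, 1], ![0, 0, -1, 1, -1, 1, 0], ![-1, 0, 1, 0, 0, -1, 1], ![1,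 0, 0, 0, 0, 0, -1], ![0, 1, 0, -1, 0, 1, 0], ![0, 0, -1, 1, 0, -1, 1], ![-1, 0, 1, 0, 0, 0, -1], ![0, -1, 0, 0, 0, 1, 0], ![0, 1, 0, -1, 1, -1, 1], ![0, 0, -1, 1, 0, 0, -1], ![0, -1, 0, 0, 1, -1, 1], ![0, 1, 0, 0, -1, 0, 1], ![0, 1, 0, -1, 1, 0, -1], ![0, -1, 0, 1, -1, 0, 1], ![0, -1, 0, 0, 1, 0, -1], ![0, 1, 0, 0, -1, 1, -1], ![0, 0, 1, -1, 0, 0, 1], ![0, -1, 0, 1, -1, 1, -1], ![0, 1, 0, 0, 0, -1, 0], ![1, 0, -1, 0, 0, 0, 1], ![0, 0, 1, -1, 0, 1, -1], ![0, -1, 0, 1, 0, -1, 0], ![-1, 0, 0, 0, 0, 0, 1], ![1, 0, -1, 0, 0, 1, -1], ![0, 0, 1, -1, 1, -1, 0], ![-1, 0, 0, 0, 0, 1, -1], ![1, 0, -1, 0, 1, -1, 0], ![0, 0, 1, 0, -1, 0, 0], ![-1, 0, 0, 0, 1, -1, 0], ![1, 0, -1, 1, -1, 0, 0], ![-1, 0, 0, 1, -1, 0, 0], ![1, 1, 0, -1, 0, 0, 0], ![-1, 1, 1, -1, 0, 0, 0], ![1, -1, 0, 0, 0, 0, 0], ![-1, -1, 1, 0, 0, 0, 0], ![0, 1, -1, 0, 0, 0, 0], ![0, -1, -1, 1, 0, 0,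 0], ![0, 0, 0, -1, 1, 0, 0], ![0, 0, 0, 0, -1, 1, 0], ![0, 0, 0, 0, 0, -1, 1], ![0, 0, 0, 0, 0, 0, -1]]
theorem map0 : reps0.map fv0 = vecs0 := by
  simp only [reps0, List.map_cons, List.map_nil, v0_0, v0_1, v0_2, v0_3, v0_4, v0_5, v0_6, v0_7, v0_8, v0_9, v0_10, v0_11, v0_12, v0_13, v0_14, v0_15, v0_16, v0_17, v0_18, v0_19, v0_20, v0_21, v0_22, v0_23, v0_24, v0_25, v0_26, v0_27, v0_28, v0_29, v0_30, v0_31, v0_32, v0_33, v0_34, v0_35, v0_36, v0_37, v0_38, v0_39, v0_40, v0_41, v0_42, v0_43, v0_44, v0_45, v0_46, v0_47, v0_48, v0_49, v0_50, v0_51, v0_52, v0_53, v0_54, v0_55]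
  rfl
theorem nd0 : (reps0.map fv0).Nodup := by rw [map0]; decide +kernel
theorem fix0 : ∀ h ∈ gens M J1, ∀ w, fv0 (h * w) = fv0 w := by
  rintro h ⟨j, hj, rfl⟩ w
  simp only [J1, List.mem_cons, List.not_mem_nil, or_false] at hj
  rcases hj with rfl | rfl | rfl | rfl | rfl | rfl
  all_goals exact fvec_fix M A hA base0 _ (by decide +kernel) w
theorem sub0 : gens M J1 ⊆ gens M J0 := gens_mono M (by decide)
theorem card0 : Nat.card (Subgroup.closure (gens M J0)) = Nat.card (Subgroup.closure (gens M J1)) * 56 :=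
  level_card (gens M J0) (gens M J1) sub0 (gens_inv M J0) reps0 mr0_0 (fun u hu => (allP0 u hu).1) (fun u hu => (allP0 u hu).2) fv0 fix0 nd0
theorem ker0 : ∀ w ∈ Subgroup.closure (gens M J0), fv0 w = fv0 1 → w ∈ Subgroup.closure (gens M J1) :=
  level_ker (gens M J0) (gens M J1) (gens_inv M J0) reps0 mr0_0 (fun u hu => (allP0 u hu).2) fv0 fix0 nd0

-- level 1: index 27
def base1 : Fin 7 → ℤ := ![1, 0, 0, 0, 0, 0, 0]
def fv1 : W → (Fin 7 → ℤ) := fvec M A hA base1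
def u1_0 : W := 1
def u1_1 : W := u1_0 * s 0
def u1_2 : W := u1_1 * s 2
def u1_3 : W := u1_2 * s 3
def u1_4 : W := u1_3 * s 1
def u1_5 : W := u1_3 * s 4
def u1_6 : W := u1_4 * s 4
def u1_7 : W := u1_5 * s 5
def u1_8 : W := u1_6 * s 3
def u1_9 : W := u1_6 * s 5
def u1_10 : W := u1_8 * s 2
def u1_11 : W := u1_8 * s 5
def u1_12 : W := u1_10 * s 0
def u1_13 : W := u1_10 * s 5
def u1_14 : W := u1_11 * s 4
def u1_15 : W := u1_12 * s 5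
def u1_16 : W := u1_13 * s 4
def u1_17 : W := u1_15 * s 4
def u1_18 : W := u1_16 * s 3
def u1_19 : W := u1_17 * s 3
def u1_20 : W := u1_18 * s 1
def u1_21 : W := u1_19 * s 1
def u1_22 : W := u1_19 * s 2
def u1_23 : W := u1_21 * s 2
def u1_24 : W := u1_23 * s 3
def u1_25 : W := u1_24 * s 4
def u1_26 : W := u1_25 * s 5
def reps1 : List W := [u1_0, u1_1, u1_2, u1_3, u1_4, u1_5, u1_6, u1_7, u1_8, u1_9, u1_10, u1_11, u1_12, u1_13, u1_14, u1_15, u1_16, u1_17, u1_18, u1_19, u1_20, u1_21, u1_22, u1_23, u1_24, u1_25, u1_26]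
theorem v1_0 : fv1 u1_0 = ![1, 0, 0, 0, 0, 0, 0] := fvec_one M A hA base1
theorem v1_1 : fv1 u1_1 = ![-1, 0, 1, 0, 0, 0, 0] := by
  show fvec M A hA base1 (u1_0 * M.simple 0) = _
  rw [fvec_mul_simple]; show reflVec A 0 (fv1 u1_0) = _; rw [v1_0]; decide +kernel
theorem v1_2 : fv1 u1_2 = ![0, 0, -1, 1, 0, 0, 0] := by
  show fvec M A hA base1 (u1_1 * M.simple 2) = _
  rw [fvec_mul_simple]; show reflVec A 2 (fv1 u1_1) = _; rw [v1_1]; decide +kernel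
theorem v1_3 : fv1 u1_3 = ![0, 1, 0, -1, 1, 0, 0] := by
  show fvec M A hA base1 (u1_2 * M.simple 3) = _
  rw [fvec_mul_simple]; show reflVec A 3 (fv1 u1_2) = _; rw [v1_2]; decide +kernel
theorem v1_4 : fv1 u1_4 = ![0, -1, 0, 0, 1, 0, 0] := by
  show fvec M A hA base1 (u1_3 * M.simple 1) = _
  rw [fvec_mul_simple]; show reflVec A 1 (fv1 u1_3) = _; rw [v1_3]; decide +kernel
theorem v1_5 : fv1 u1_5 = ![0, 1, 0, 0, -1, 1, 0] := by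
  show fvec M A hA base1 (u1_3 * M.simple 4) = _
  rw [fvec_mul_simple]; show reflVec A 4 (fv1 u1_3) = _; rw [v1_3]; decide +kernel
theorem v1_6 : fv1 u1_6 = ![0, -1, 0, 1, -1, 1, 0] := by
  show fvec M A hA base1 (u1_4 * M.simple 4) = _
  rw [fvec_mul_simple]; show reflVec A 4 (fv1 u1_4) = _; rw [v1_4]; decide +kernel
theorem v1_7 : fv1 u1_7 = ![0, 1, 0, 0, 0, -1, 1] := by
  show fvec M A hA base1 (u1_5 * M.simple 5) = _
  rw [fvec_mul_simple]; show reflVec A 5 (fv1 u1_5) = _; rw [v1_5]; decide +kernel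
theorem v1_8 : fv1 u1_8 = ![0, 0, 1, -1, 0, 1, 0] := by
  show fvec M A hA base1 (u1_6 * M.simple 3) = _
  rw [fvec_mul_simple]; show reflVec A 3 (fv1 u1_6) = _; rw [v1_6]; decide +kernel
theorem v1_9 : fv1 u1_9 = ![0, -1, 0, 1, 0, -1, 1] := by
  show fvec M A hA base1 (u1_6 * M.simple 5) = _
  rw [fvec_mul_simple]; show reflVec A 5 (fv1 u1_6) = _; rw [v1_6]; decide +kernel
theorem v1_10 : fv1 u1_10 = ![1, 0, -1, 0, 0, 1, 0] := by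
  show fvec M A hA base1 (u1_8 * M.simple 2) = _
  rw [fvec_mul_simple]; show reflVec A 2 (fv1 u1_8) = _; rw [v1_8]; decide +kernel
theorem v1_11 : fv1 u1_11 = ![0, 0, 1, -1, 1, -1, 1] := by
  show fvec M A hA base1 (u1_8 * M.simple 5) = _
  rw [fvec_mul_simple]; show reflVec A 5 (fv1 u1_8) = _; rw [v1_8]; decide +kernel
theorem v1_12 : fv1 u1_12 = ![-1, 0, 0, 0, 0, 1, 0] := by
  show fvec M A hA base1 (u1_10 * M.simple 0) = _
  rw [fvec_mul_simple]; show reflVec A 0 (fv1 u1_10) = _; rw [v1_10]; decide +kernel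
theorem v1_13 : fv1 u1_13 = ![1, 0, -1, 0, 1, -1, 1] := by
  show fvec M A hA base1 (u1_10 * M.simple 5) = _
  rw [fvec_mul_simple]; show reflVec A 5 (fv1 u1_10) = _; rw [v1_10]; decide +kernel
theorem v1_14 : fv1 u1_14 = ![0, 0, 1, 0, -1, 0, 1] := by
  show fvec M A hA base1 (u1_11 * M.simple 4) = _
  rw [fvec_mul_simple]; show reflVec A 4 (fv1 u1_11) = _; rw [v1_11]; decide +kernel
theorem v1_15 : fv1 u1_15 = ![-1, 0, 0, 0, 1, -1, 1] := by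
  show fvec M A hA base1 (u1_12 * M.simple 5) = _
  rw [fvec_mul_simple]; show reflVec A 5 (fv1 u1_12) = _; rw [v1_12]; decide +kernel
theorem v1_16 : fv1 u1_16 = ![1, 0, -1, 1, -1, 0, 1] := by
  show fvec M A hA base1 (u1_13 * M.simple 4) = _
  rw [fvec_mul_simple]; show reflVec A 4 (fv1 u1_13) = _; rw [v1_13]; decide +kernel
theorem v1_17 : fv1 u1_17 = ![-1, 0, 0, 1, -1, 0, 1] := by
  show fvec M A hA base1 (u1_15 * M.simple 4) = _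
  rw [fvec_mul_simple]; show reflVec A 4 (fv1 u1_15) = _; rw [v1_15]; decide +kernel
theorem v1_18 : fv1 u1_18 = ![1, 1, 0, -1, 0, 0, 1] := by
  show fvec M A hA base1 (u1_16 * M.simple 3) = _
  rw [fvec_mul_simple]; show reflVec A 3 (fv1 u1_16) = _; rw [v1_16]; decide +kernel
theorem v1_19 : fv1 u1_19 = ![-1, 1, 1, -1, 0, 0, 1] := by
  show fvec M A hA base1 (u1_17 * M.simple 3) = _
  rw [fvec_mul_simple]; show reflVec A 3 (fv1 u1_17) = _; rw [v1_17]; decide +kernel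
theorem v1_20 : fv1 u1_20 = ![1, -1, 0, 0, 0, 0, 1] := by
  show fvec M A hA base1 (u1_18 * M.simple 1) = _
  rw [fvec_mul_simple]; show reflVec A 1 (fv1 u1_18) = _; rw [v1_18]; decide +kernel
theorem v1_21 : fv1 u1_21 = ![-1, -1, 1, 0, 0, 0, 1] := by
  show fvec M A hA base1 (u1_19 * M.simple 1) = _
  rw [fvec_mul_simple]; show reflVec A 1 (fv1 u1_19) = _; rw [v1_19]; decide +kernel
theorem v1_22 : fv1 u1_22 = ![0, 1, -1, 0, 0, 0, 1] := by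
  show fvec M A hA base1 (u1_19 * M.simple 2) = _
  rw [fvec_mul_simple]; show reflVec A 2 (fv1 u1_19) = _; rw [v1_19]; decide +kernel
theorem v1_23 : fv1 u1_23 = ![0, -1, -1, 1, 0, 0, 1] := by
  show fvec M A hA base1 (u1_21 * M.simple 2) = _
  rw [fvec_mul_simple]; show reflVec A 2 (fv1 u1_21) = _; rw [v1_21]; decide +kernel
theorem v1_24 : fv1 u1_24 = ![0, 0, 0, -1, 1, 0, 1] := by
  show fvec M A hA base1 (u1_23 * M.simple 3) = _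
  rw [fvec_mul_simple]; show reflVec A 3 (fv1 u1_23) = _; rw [v1_23]; decide +kernel
theorem v1_25 : fv1 u1_25 = ![0, 0, 0, 0, -1, 1, 1] := by
  show fvec M A hA base1 (u1_24 * M.simple 4) = _
  rw [fvec_mul_simple]; show reflVec A 4 (fv1 u1_24) = _; rw [v1_24]; decide +kernel
theorem v1_26 : fv1 u1_26 = ![0, 0, 0, 0, 0, -1, 2] := by
  show fvec M A hA base1 (u1_25 * M.simple 5) = _
  rw [fvec_mul_simple]; show reflVec A 5 (fv1 u1_25) = _; rw [v1_25]; decide +kernel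
theorem e1_0_0 : u1_0 * s 0 = 1 * u1_1 := (one_mul (u1_0 * s 0)).symm
theorem e1_1_0 : u1_1 * s 0 = 1 * u1_0 := tree_up (s_sq 0)
theorem e1_1_2 : u1_1 * s 2 = 1 * u1_2 := (one_mul (u1_1 * s 2)).symm
theorem e1_2_2 : u1_2 * s 2 = 1 * u1_1 := tree_up (s_sq 2)
theorem e1_2_3 : u1_2 * s 3 = 1 * u1_3 := (one_mul (u1_2 * s 3)).symm
theorem e1_3_3 : u1_3 * s 3 = 1 * u1_2 := tree_up (s_sq 3)
theorem e1_3_1 : u1_3 * s 1 = 1 * u1_4 := (one_mul (u1_3 * s 1)).symm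
theorem e1_4_1 : u1_4 * s 1 = 1 * u1_3 := tree_up (s_sq 1)
theorem e1_3_4 : u1_3 * s 4 = 1 * u1_5 := (one_mul (u1_3 * s 4)).symm
theorem e1_5_4 : u1_5 * s 4 = 1 * u1_3 := tree_up (s_sq 4)
theorem e1_4_4 : u1_4 * s 4 = 1 * u1_6 := (one_mul (u1_4 * s 4)).symm
theorem e1_6_4 : u1_6 * s 4 = 1 * u1_4 := tree_up (s_sq 4)
theorem e1_5_5 : u1_5 * s 5 = 1 * u1_7 := (one_mul (u1_5 * s 5)).symm
theorem e1_7_5 : u1_7 * s 5 = 1 * u1_5 := tree_up (s_sq 5)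
theorem e1_6_3 : u1_6 * s 3 = 1 * u1_8 := (one_mul (u1_6 * s 3)).symm
theorem e1_8_3 : u1_8 * s 3 = 1 * u1_6 := tree_up (s_sq 3)
theorem e1_6_5 : u1_6 * s 5 = 1 * u1_9 := (one_mul (u1_6 * s 5)).symm
theorem e1_9_5 : u1_9 * s 5 = 1 * u1_6 := tree_up (s_sq 5)
theorem e1_8_2 : u1_8 * s 2 = 1 * u1_10 := (one_mul (u1_8 * s 2)).symm
theorem e1_10_2 : u1_10 * s 2 = 1 * u1_8 := tree_up (s_sq 2)
theorem e1_8_5 : u1_8 * s 5 = 1 * u1_11 := (one_mul (u1_8 * s 5)).symm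
theorem e1_11_5 : u1_11 * s 5 = 1 * u1_8 := tree_up (s_sq 5)
theorem e1_10_0 : u1_10 * s 0 = 1 * u1_12 := (one_mul (u1_10 * s 0)).symm
theorem e1_12_0 : u1_12 * s 0 = 1 * u1_10 := tree_up (s_sq 0)
theorem e1_10_5 : u1_10 * s 5 = 1 * u1_13 := (one_mul (u1_10 * s 5)).symm
theorem e1_13_5 : u1_13 * s 5 = 1 * u1_10 := tree_up (s_sq 5)
theorem e1_11_4 : u1_11 * s 4 = 1 * u1_14 := (one_mul (u1_11 * s 4)).symm
theorem e1_14_4 : u1_14 * s 4 = 1 * u1_11 := tree_up (s_sq 4)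
theorem e1_12_5 : u1_12 * s 5 = 1 * u1_15 := (one_mul (u1_12 * s 5)).symm
theorem e1_15_5 : u1_15 * s 5 = 1 * u1_12 := tree_up (s_sq 5)
theorem e1_13_4 : u1_13 * s 4 = 1 * u1_16 := (one_mul (u1_13 * s 4)).symm
theorem e1_16_4 : u1_16 * s 4 = 1 * u1_13 := tree_up (s_sq 4)
theorem e1_15_4 : u1_15 * s 4 = 1 * u1_17 := (one_mul (u1_15 * s 4)).symm
theorem e1_17_4 : u1_17 * s 4 = 1 * u1_15 := tree_up (s_sq 4)
theorem e1_16_3 : u1_16 * s 3 = 1 * u1_18 := (one_mul (u1_16 * s 3)).symm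
theorem e1_18_3 : u1_18 * s 3 = 1 * u1_16 := tree_up (s_sq 3)
theorem e1_17_3 : u1_17 * s 3 = 1 * u1_19 := (one_mul (u1_17 * s 3)).symm
theorem e1_19_3 : u1_19 * s 3 = 1 * u1_17 := tree_up (s_sq 3)
theorem e1_18_1 : u1_18 * s 1 = 1 * u1_20 := (one_mul (u1_18 * s 1)).symm
theorem e1_20_1 : u1_20 * s 1 = 1 * u1_18 := tree_up (s_sq 1)
theorem e1_19_1 : u1_19 * s 1 = 1 * u1_21 := (one_mul (u1_19 * s 1)).symm
theorem e1_21_1 : u1_21 * s 1 = 1 * u1_19 := tree_up (s_sq 1)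
theorem e1_19_2 : u1_19 * s 2 = 1 * u1_22 := (one_mul (u1_19 * s 2)).symm
theorem e1_22_2 : u1_22 * s 2 = 1 * u1_19 := tree_up (s_sq 2)
theorem e1_21_2 : u1_21 * s 2 = 1 * u1_23 := (one_mul (u1_21 * s 2)).symm
theorem e1_23_2 : u1_23 * s 2 = 1 * u1_21 := tree_up (s_sq 2)
theorem e1_23_3 : u1_23 * s 3 = 1 * u1_24 := (one_mul (u1_23 * s 3)).symm
theorem e1_24_3 : u1_24 * s 3 = 1 * u1_23 := tree_up (s_sq 3)
theorem e1_24_4 : u1_24 * s 4 = 1 * u1_25 := (one_mul (u1_24 * s 4)).symm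
theorem e1_25_4 : u1_25 * s 4 = 1 * u1_24 := tree_up (s_sq 4)
theorem e1_25_5 : u1_25 * s 5 = 1 * u1_26 := (one_mul (u1_25 * s 5)).symm
theorem e1_26_5 : u1_26 * s 5 = 1 * u1_25 := tree_up (s_sq 5)
theorem e1_0_1 : u1_0 * s 1 = s 1 * u1_0 := (one_mul (s 1)).trans (mul_one (s 1)).symm
theorem e1_0_2 : u1_0 * s 2 = s 2 * u1_0 := (one_mul (s 2)).trans (mul_one (s 2)).symm
theorem e1_0_3 : u1_0 * s 3 = s 3 * u1_0 := (one_mul (s 3)).trans (mul_one (s 3)).symm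
theorem e1_0_4 : u1_0 * s 4 = s 4 * u1_0 := (one_mul (s 4)).trans (mul_one (s 4)).symm
theorem e1_0_5 : u1_0 * s 5 = s 5 * u1_0 := (one_mul (s 5)).trans (mul_one (s 5)).symm
theorem e1_1_1 : u1_1 * s 1 = s 1 * u1_1 := by
  simpa only [one_mul, mul_one] using ded2 r_1_0 e1_1_0 e1_0_1 e1_0_0
theorem e1_2_0 : u1_2 * s 0 = s 2 * u1_2 := by
  simpa only [one_mul, mul_one] using ded3 r_0_2 e1_2_2 e1_1_0 e1_0_2 e1_0_0 e1_1_2
theorem e1_1_3 : u1_1 * s 3 = s 3 * u1_1 := by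
  simpa only [one_mul, mul_one] using ded2 r_3_0 e1_1_0 e1_0_3 e1_0_0
theorem e1_1_4 : u1_1 * s 4 = s 4 * u1_1 := by
  simpa only [one_mul, mul_one] using ded2 r_4_0 e1_1_0 e1_0_4 e1_0_0
theorem e1_1_5 : u1_1 * s 5 = s 5 * u1_1 := by
  simpa only [one_mul, mul_one] using ded2 r_5_0 e1_1_0 e1_0_5 e1_0_0
theorem e1_2_1 : u1_2 * s 1 = s 1 * u1_2 := by
  simpa only [one_mul, mul_one] using ded2 r_1_2 e1_2_2 e1_1_1 e1_1_2
theorem e1_3_2 : u1_3 * s 2 = s 3 * u1_3 := by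
  simpa only [one_mul, mul_one] using ded3 r_2_3 e1_3_3 e1_2_2 e1_1_3 e1_1_2 e1_2_3
theorem e1_2_4 : u1_2 * s 4 = s 4 * u1_2 := by
  simpa only [one_mul, mul_one] using ded2 r_4_2 e1_2_2 e1_1_4 e1_1_2
theorem e1_2_5 : u1_2 * s 5 = s 5 * u1_2 := by
  simpa only [one_mul, mul_one] using ded2 r_5_2 e1_2_2 e1_1_5 e1_1_2
theorem e1_3_0 : u1_3 * s 0 = s 2 * u1_3 := by
  simpa only [one_mul, mul_one] using ded2 r_0_3 e1_3_3 e1_2_0 e1_2_3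
theorem e1_4_3 : u1_4 * s 3 = s 1 * u1_4 := by
  simpa only [one_mul, mul_one] using ded3 r_3_1 e1_4_1 e1_3_3 e1_2_1 e1_2_3 e1_3_1
theorem e1_5_3 : u1_5 * s 3 = s 4 * u1_5 := by
  simpa only [one_mul, mul_one] using ded3 r_3_4 e1_5_4 e1_3_3 e1_2_4 e1_2_3 e1_3_4
theorem e1_3_5 : u1_3 * s 5 = s 5 * u1_3 := by
  simpa only [one_mul, mul_one] using ded2 r_5_3 e1_3_3 e1_2_5 e1_2_3
theorem e1_4_0 : u1_4 * s 0 = s 2 * u1_4 := by
  simpa only [one_mul, mul_one] using ded2 r_0_1 e1_4_1 e1_3_0 e1_3_1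
theorem e1_5_0 : u1_5 * s 0 = s 2 * u1_5 := by
  simpa only [one_mul, mul_one] using ded2 r_0_4 e1_5_4 e1_3_0 e1_3_4
theorem e1_4_2 : u1_4 * s 2 = s 3 * u1_4 := by
  simpa only [one_mul, mul_one] using ded2 r_2_1 e1_4_1 e1_3_2 e1_3_1
theorem e1_6_1 : u1_6 * s 1 = 1 * u1_5 := by
  simpa only [one_mul, mul_one] using ded2 r_1_4 e1_6_4 e1_4_1 e1_3_4
theorem e1_5_1 : u1_5 * s 1 = 1 * u1_6 := rev_edge (s_sq 1) e1_6_1
theorem e1_4_5 : u1_4 * s 5 = s 5 * u1_4 := by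
  simpa only [one_mul, mul_one] using ded2 r_5_1 e1_4_1 e1_3_5 e1_3_1
theorem e1_5_2 : u1_5 * s 2 = s 3 * u1_5 := by
  simpa only [one_mul, mul_one] using ded2 r_2_4 e1_5_4 e1_3_2 e1_3_4
theorem e1_7_4 : u1_7 * s 4 = s 5 * u1_7 := by
  simpa only [one_mul, mul_one] using ded3 r_4_5 e1_7_5 e1_5_4 e1_3_5 e1_3_4 e1_5_5
theorem e1_6_0 : u1_6 * s 0 = s 2 * u1_6 := by
  simpa only [one_mul, mul_one] using ded2 r_0_4 e1_6_4 e1_4_0 e1_4_4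
theorem e1_6_2 : u1_6 * s 2 = s 3 * u1_6 := by
  simpa only [one_mul, mul_one] using ded2 r_2_4 e1_6_4 e1_4_2 e1_4_4
theorem e1_8_4 : u1_8 * s 4 = s 1 * u1_8 := by
  simpa only [one_mul, mul_one] using ded3 r_4_3 e1_8_3 e1_6_4 e1_4_3 e1_4_4 e1_6_3
theorem e1_9_4 : u1_9 * s 4 = s 5 * u1_9 := by
  simpa only [one_mul, mul_one] using ded3 r_4_5 e1_9_5 e1_6_4 e1_4_5 e1_4_4 e1_6_5
theorem e1_7_0 : u1_7 * s 0 = s 2 * u1_7 := by
  simpa only [one_mul, mul_one] using ded2 r_0_5 e1_7_5 e1_5_0 e1_5_5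
theorem e1_8_1 : u1_8 * s 1 = s 4 * u1_8 := by
  simpa only [one_mul, mul_one] using ded3 r_1_3 e1_8_3 e1_6_1 e1_5_3 e1_5_1 e1_6_3
theorem e1_9_1 : u1_9 * s 1 = 1 * u1_7 := by
  simpa only [one_mul, mul_one] using ded2 r_1_5 e1_9_5 e1_6_1 e1_5_5
theorem e1_7_1 : u1_7 * s 1 = 1 * u1_9 := rev_edge (s_sq 1) e1_9_1
theorem e1_7_2 : u1_7 * s 2 = s 3 * u1_7 := by
  simpa only [one_mul, mul_one] using ded2 r_2_5 e1_7_5 e1_5_2 e1_5_5
theorem e1_7_3 : u1_7 * s 3 = s 4 * u1_7 := by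
  simpa only [one_mul, mul_one] using ded2 r_3_5 e1_7_5 e1_5_3 e1_5_5
theorem e1_8_0 : u1_8 * s 0 = s 2 * u1_8 := by
  simpa only [one_mul, mul_one] using ded2 r_0_3 e1_8_3 e1_6_0 e1_6_3
theorem e1_9_0 : u1_9 * s 0 = s 2 * u1_9 := by
  simpa only [one_mul, mul_one] using ded2 r_0_5 e1_9_5 e1_6_0 e1_6_5
theorem e1_10_3 : u1_10 * s 3 = s 3 * u1_10 := by
  simpa only [one_mul, mul_one] using ded3 r_3_2 e1_10_2 e1_8_3 e1_6_2 e1_6_3 e1_8_2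
theorem e1_9_2 : u1_9 * s 2 = s 3 * u1_9 := by
  simpa only [one_mul, mul_one] using ded2 r_2_5 e1_9_5 e1_6_2 e1_6_5
theorem e1_11_3 : u1_11 * s 3 = 1 * u1_9 := by
  simpa only [one_mul, mul_one] using ded2 r_3_5 e1_11_5 e1_8_3 e1_6_5
theorem e1_9_3 : u1_9 * s 3 = 1 * u1_11 := rev_edge (s_sq 3) e1_11_3
theorem e1_11_1 : u1_11 * s 1 = s 4 * u1_11 := by
  simpa only [one_mul, mul_one] using ded3 r_1_3 e1_11_3 e1_9_1 e1_7_3 e1_7_1 e1_9_3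
theorem e1_12_2 : u1_12 * s 2 = s 2 * u1_12 := by
  simpa only [one_mul, mul_one] using ded3 r_2_0 e1_12_0 e1_10_2 e1_8_0 e1_8_2 e1_10_0
theorem e1_11_0 : u1_11 * s 0 = s 2 * u1_11 := by
  simpa only [one_mul, mul_one] using ded2 r_0_5 e1_11_5 e1_8_0 e1_8_5
theorem e1_10_1 : u1_10 * s 1 = s 4 * u1_10 := by
  simpa only [one_mul, mul_one] using ded2 r_1_2 e1_10_2 e1_8_1 e1_8_2
theorem e1_10_4 : u1_10 * s 4 = s 1 * u1_10 := by
  simpa only [one_mul, mul_one] using ded2 r_4_2 e1_10_2 e1_8_4 e1_8_2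
theorem e1_13_2 : u1_13 * s 2 = 1 * u1_11 := by
  simpa only [one_mul, mul_one] using ded2 r_2_5 e1_13_5 e1_10_2 e1_8_5
theorem e1_11_2 : u1_11 * s 2 = 1 * u1_13 := rev_edge (s_sq 2) e1_13_2
theorem e1_14_5 : u1_14 * s 5 = s 1 * u1_14 := by
  simpa only [one_mul, mul_one] using ded3 r_5_4 e1_14_4 e1_11_5 e1_8_4 e1_8_5 e1_11_4
theorem e1_13_3 : u1_13 * s 3 = s 3 * u1_13 := by
  simpa only [one_mul, mul_one] using ded3 r_3_2 e1_13_2 e1_11_3 e1_9_2 e1_9_3 e1_11_2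
theorem e1_14_3 : u1_14 * s 3 = s 5 * u1_14 := by
  simpa only [one_mul, mul_one] using ded3 r_3_4 e1_14_4 e1_11_3 e1_9_4 e1_9_3 e1_11_4
theorem e1_12_1 : u1_12 * s 1 = s 4 * u1_12 := by
  simpa only [one_mul, mul_one] using ded2 r_1_0 e1_12_0 e1_10_1 e1_10_0
theorem e1_12_3 : u1_12 * s 3 = s 3 * u1_12 := by
  simpa only [one_mul, mul_one] using ded2 r_3_0 e1_12_0 e1_10_3 e1_10_0
theorem e1_12_4 : u1_12 * s 4 = s 1 * u1_12 := by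
  simpa only [one_mul, mul_one] using ded2 r_4_0 e1_12_0 e1_10_4 e1_10_0
theorem e1_15_0 : u1_15 * s 0 = 1 * u1_13 := by
  simpa only [one_mul, mul_one] using ded2 r_0_5 e1_15_5 e1_12_0 e1_10_5
theorem e1_13_0 : u1_13 * s 0 = 1 * u1_15 := rev_edge (s_sq 0) e1_15_0
theorem e1_13_1 : u1_13 * s 1 = s 4 * u1_13 := by
  simpa only [one_mul, mul_one] using ded2 r_1_5 e1_13_5 e1_10_1 e1_10_5
theorem e1_16_5 : u1_16 * s 5 = s 1 * u1_16 := by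
  simpa only [one_mul, mul_one] using ded3 r_5_4 e1_16_4 e1_13_5 e1_10_4 e1_10_5 e1_13_4
theorem e1_15_2 : u1_15 * s 2 = s 2 * u1_15 := by
  simpa only [one_mul, mul_one] using ded3 r_2_0 e1_15_0 e1_13_2 e1_11_0 e1_11_2 e1_13_0
theorem e1_14_0 : u1_14 * s 0 = s 2 * u1_14 := by
  simpa only [one_mul, mul_one] using ded2 r_0_4 e1_14_4 e1_11_0 e1_11_4
theorem e1_14_1 : u1_14 * s 1 = s 4 * u1_14 := by
  simpa only [one_mul, mul_one] using ded2 r_1_4 e1_14_4 e1_11_1 e1_11_4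
theorem e1_16_2 : u1_16 * s 2 = 1 * u1_14 := by
  simpa only [one_mul, mul_one] using ded2 r_2_4 e1_16_4 e1_13_2 e1_11_4
theorem e1_14_2 : u1_14 * s 2 = 1 * u1_16 := rev_edge (s_sq 2) e1_16_2
theorem e1_15_1 : u1_15 * s 1 = s 4 * u1_15 := by
  simpa only [one_mul, mul_one] using ded2 r_1_5 e1_15_5 e1_12_1 e1_12_5
theorem e1_15_3 : u1_15 * s 3 = s 3 * u1_15 := by
  simpa only [one_mul, mul_one] using ded2 r_3_5 e1_15_5 e1_12_3 e1_12_5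
theorem e1_17_5 : u1_17 * s 5 = s 1 * u1_17 := by
  simpa only [one_mul, mul_one] using ded3 r_5_4 e1_17_4 e1_15_5 e1_12_4 e1_12_5 e1_15_4
theorem e1_17_0 : u1_17 * s 0 = 1 * u1_16 := by
  simpa only [one_mul, mul_one] using ded2 r_0_4 e1_17_4 e1_15_0 e1_13_4
theorem e1_16_0 : u1_16 * s 0 = 1 * u1_17 := rev_edge (s_sq 0) e1_17_0
theorem e1_16_1 : u1_16 * s 1 = s 4 * u1_16 := by
  simpa only [one_mul, mul_one] using ded2 r_1_4 e1_16_4 e1_13_1 e1_13_4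
theorem e1_18_4 : u1_18 * s 4 = s 3 * u1_18 := by
  simpa only [one_mul, mul_one] using ded3 r_4_3 e1_18_3 e1_16_4 e1_13_3 e1_13_4 e1_16_3
theorem e1_17_2 : u1_17 * s 2 = s 2 * u1_17 := by
  simpa only [one_mul, mul_one] using ded3 r_2_0 e1_17_0 e1_16_2 e1_14_0 e1_14_2 e1_16_0
theorem e1_18_2 : u1_18 * s 2 = s 5 * u1_18 := by
  simpa only [one_mul, mul_one] using ded3 r_2_3 e1_18_3 e1_16_2 e1_14_3 e1_14_2 e1_16_3
theorem e1_17_1 : u1_17 * s 1 = s 4 * u1_17 := by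
  simpa only [one_mul, mul_one] using ded2 r_1_4 e1_17_4 e1_15_1 e1_15_4
theorem e1_19_4 : u1_19 * s 4 = s 3 * u1_19 := by
  simpa only [one_mul, mul_one] using ded3 r_4_3 e1_19_3 e1_17_4 e1_15_3 e1_15_4 e1_17_3
theorem e1_19_0 : u1_19 * s 0 = 1 * u1_18 := by
  simpa only [one_mul, mul_one] using ded2 r_0_3 e1_19_3 e1_17_0 e1_16_3
theorem e1_18_0 : u1_18 * s 0 = 1 * u1_19 := rev_edge (s_sq 0) e1_19_0
theorem e1_20_3 : u1_20 * s 3 = s 4 * u1_20 := by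
  simpa only [one_mul, mul_one] using ded3 r_3_1 e1_20_1 e1_18_3 e1_16_1 e1_16_3 e1_18_1
theorem e1_18_5 : u1_18 * s 5 = s 1 * u1_18 := by
  simpa only [one_mul, mul_one] using ded2 r_5_3 e1_18_3 e1_16_5 e1_16_3
theorem e1_21_3 : u1_21 * s 3 = s 4 * u1_21 := by
  simpa only [one_mul, mul_one] using ded3 r_3_1 e1_21_1 e1_19_3 e1_17_1 e1_17_3 e1_19_1
theorem e1_22_3 : u1_22 * s 3 = s 2 * u1_22 := by
  simpa only [one_mul, mul_one] using ded3 r_3_2 e1_22_2 e1_19_3 e1_17_2 e1_17_3 e1_19_2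
theorem e1_19_5 : u1_19 * s 5 = s 1 * u1_19 := by
  simpa only [one_mul, mul_one] using ded2 r_5_3 e1_19_3 e1_17_5 e1_17_3
theorem e1_21_0 : u1_21 * s 0 = 1 * u1_20 := by
  simpa only [one_mul, mul_one] using ded2 r_0_1 e1_21_1 e1_19_0 e1_18_1
theorem e1_20_0 : u1_20 * s 0 = 1 * u1_21 := rev_edge (s_sq 0) e1_21_0
theorem e1_22_0 : u1_22 * s 0 = s 5 * u1_22 := by
  simpa only [one_mul, mul_one] using ded3 r_0_2 e1_22_2 e1_19_0 e1_18_2 e1_18_0 e1_19_2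
theorem e1_20_2 : u1_20 * s 2 = s 5 * u1_20 := by
  simpa only [one_mul, mul_one] using ded2 r_2_1 e1_20_1 e1_18_2 e1_18_1
theorem e1_20_4 : u1_20 * s 4 = s 3 * u1_20 := by
  simpa only [one_mul, mul_one] using ded2 r_4_1 e1_20_1 e1_18_4 e1_18_1
theorem e1_20_5 : u1_20 * s 5 = s 1 * u1_20 := by
  simpa only [one_mul, mul_one] using ded2 r_5_1 e1_20_1 e1_18_5 e1_18_1
theorem e1_23_1 : u1_23 * s 1 = 1 * u1_22 := by
  simpa only [one_mul, mul_one] using ded2 r_1_2 e1_23_2 e1_21_1 e1_19_2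
theorem e1_22_1 : u1_22 * s 1 = 1 * u1_23 := rev_edge (s_sq 1) e1_23_1
theorem e1_21_4 : u1_21 * s 4 = s 3 * u1_21 := by
  simpa only [one_mul, mul_one] using ded2 r_4_1 e1_21_1 e1_19_4 e1_19_1
theorem e1_21_5 : u1_21 * s 5 = s 1 * u1_21 := by
  simpa only [one_mul, mul_one] using ded2 r_5_1 e1_21_1 e1_19_5 e1_19_1
theorem e1_22_4 : u1_22 * s 4 = s 3 * u1_22 := by
  simpa only [one_mul, mul_one] using ded2 r_4_2 e1_22_2 e1_19_4 e1_19_2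
theorem e1_22_5 : u1_22 * s 5 = s 1 * u1_22 := by
  simpa only [one_mul, mul_one] using ded2 r_5_2 e1_22_2 e1_19_5 e1_19_2
theorem e1_23_0 : u1_23 * s 0 = s 5 * u1_23 := by
  simpa only [one_mul, mul_one] using ded3 r_0_2 e1_23_2 e1_21_0 e1_20_2 e1_20_0 e1_21_2
theorem e1_24_2 : u1_24 * s 2 = s 4 * u1_24 := by
  simpa only [one_mul, mul_one] using ded3 r_2_3 e1_24_3 e1_23_2 e1_21_3 e1_21_2 e1_23_3
theorem e1_23_4 : u1_23 * s 4 = s 3 * u1_23 := by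
  simpa only [one_mul, mul_one] using ded2 r_4_2 e1_23_2 e1_21_4 e1_21_2
theorem e1_23_5 : u1_23 * s 5 = s 1 * u1_23 := by
  simpa only [one_mul, mul_one] using ded2 r_5_2 e1_23_2 e1_21_5 e1_21_2
theorem e1_24_1 : u1_24 * s 1 = s 2 * u1_24 := by
  simpa only [one_mul, mul_one] using ded3 r_1_3 e1_24_3 e1_23_1 e1_22_3 e1_22_1 e1_23_3
theorem e1_24_0 : u1_24 * s 0 = s 5 * u1_24 := by
  simpa only [one_mul, mul_one] using ded2 r_0_3 e1_24_3 e1_23_0 e1_23_3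
theorem e1_25_3 : u1_25 * s 3 = s 3 * u1_25 := by
  simpa only [one_mul, mul_one] using ded3 r_3_4 e1_25_4 e1_24_3 e1_23_4 e1_23_3 e1_24_4
theorem e1_24_5 : u1_24 * s 5 = s 1 * u1_24 := by
  simpa only [one_mul, mul_one] using ded2 r_5_3 e1_24_3 e1_23_5 e1_23_3
theorem e1_25_0 : u1_25 * s 0 = s 5 * u1_25 := by
  simpa only [one_mul, mul_one] using ded2 r_0_4 e1_25_4 e1_24_0 e1_24_4
theorem e1_25_1 : u1_25 * s 1 = s 2 * u1_25 := by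
  simpa only [one_mul, mul_one] using ded2 r_1_4 e1_25_4 e1_24_1 e1_24_4
theorem e1_25_2 : u1_25 * s 2 = s 4 * u1_25 := by
  simpa only [one_mul, mul_one] using ded2 r_2_4 e1_25_4 e1_24_2 e1_24_4
theorem e1_26_4 : u1_26 * s 4 = s 1 * u1_26 := by
  simpa only [one_mul, mul_one] using ded3 r_4_5 e1_26_5 e1_25_4 e1_24_5 e1_24_4 e1_25_5
theorem e1_26_0 : u1_26 * s 0 = s 5 * u1_26 := by
  simpa only [one_mul, mul_one] using ded2 r_0_5 e1_26_5 e1_25_0 e1_25_5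
theorem e1_26_1 : u1_26 * s 1 = s 2 * u1_26 := by
  simpa only [one_mul, mul_one] using ded2 r_1_5 e1_26_5 e1_25_1 e1_25_5
theorem e1_26_2 : u1_26 * s 2 = s 4 * u1_26 := by
  simpa only [one_mul, mul_one] using ded2 r_2_5 e1_26_5 e1_25_2 e1_25_5
theorem e1_26_3 : u1_26 * s 3 = s 3 * u1_26 := by
  simpa only [one_mul, mul_one] using ded2 r_3_5 e1_26_5 e1_25_3 e1_25_5
def P1 (u : W) : Prop := u ∈ Subgroup.closure (gens M J1) ∧ ∀ x ∈ gens M J1, ∃ h ∈ Subgroup.closure (gens M J2), ∃ u' ∈ reps1, u * x = h * u'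
theorem mr1_0 : u1_0 ∈ reps1 := List.getElem_mem (l := reps1) (n := 0) (by decide)
theorem mr1_1 : u1_1 ∈ reps1 := List.getElem_mem (l := reps1) (n := 1) (by decide)
theorem mr1_2 : u1_2 ∈ reps1 := List.getElem_mem (l := reps1) (n := 2) (by decide)
theorem mr1_3 : u1_3 ∈ reps1 := List.getElem_mem (l := reps1) (n := 3) (by decide)
theorem mr1_4 : u1_4 ∈ reps1 := List.getElem_mem (l := reps1) (n := 4) (by decide)
theorem mr1_5 : u1_5 ∈ reps1 := List.getElem_mem (l := reps1) (n := 5) (by decide)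
theorem mr1_6 : u1_6 ∈ reps1 := List.getElem_mem (l := reps1) (n := 6) (by decide)
theorem mr1_7 : u1_7 ∈ reps1 := List.getElem_mem (l := reps1) (n := 7) (by decide)
theorem mr1_8 : u1_8 ∈ reps1 := List.getElem_mem (l := reps1) (n := 8) (by decide)
theorem mr1_9 : u1_9 ∈ reps1 := List.getElem_mem (l := reps1) (n := 9) (by decide)
theorem mr1_10 : u1_10 ∈ reps1 := List.getElem_mem (l := reps1) (n := 10) (by decide)
theorem mr1_11 : u1_11 ∈ reps1 := List.getElem_mem (l := reps1) (n := 11) (by decide)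
theorem mr1_12 : u1_12 ∈ reps1 := List.getElem_mem (l := reps1) (n := 12) (by decide)
theorem mr1_13 : u1_13 ∈ reps1 := List.getElem_mem (l := reps1) (n := 13) (by decide)
theorem mr1_14 : u1_14 ∈ reps1 := List.getElem_mem (l := reps1) (n := 14) (by decide)
theorem mr1_15 : u1_15 ∈ reps1 := List.getElem_mem (l := reps1) (n := 15) (by decide)
theorem mr1_16 : u1_16 ∈ reps1 := List.getElem_mem (l := reps1) (n := 16) (by decide)
theorem mr1_17 : u1_17 ∈ reps1 := List.getElem_mem (l := reps1) (n := 17) (by decide)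
theorem mr1_18 : u1_18 ∈ reps1 := List.getElem_mem (l := reps1) (n := 18) (by decide)
theorem mr1_19 : u1_19 ∈ reps1 := List.getElem_mem (l := reps1) (n := 19) (by decide)
theorem mr1_20 : u1_20 ∈ reps1 := List.getElem_mem (l := reps1) (n := 20) (by decide)
theorem mr1_21 : u1_21 ∈ reps1 := List.getElem_mem (l := reps1) (n := 21) (by decide)
theorem mr1_22 : u1_22 ∈ reps1 := List.getElem_mem (l := reps1) (n := 22) (by decide)
theorem mr1_23 : u1_23 ∈ reps1 := List.getElem_mem (l := reps1) (n := 23) (by decide)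
theorem mr1_24 : u1_24 ∈ reps1 := List.getElem_mem (l := reps1) (n := 24) (by decide)
theorem mr1_25 : u1_25 ∈ reps1 := List.getElem_mem (l := reps1) (n := 25) (by decide)
theorem mr1_26 : u1_26 ∈ reps1 := List.getElem_mem (l := reps1) (n := 26) (by decide)
theorem mm1_0 : u1_0 ∈ Subgroup.closure (gens M J1) := one_mem _
theorem mm1_1 : u1_1 ∈ Subgroup.closure (gens M J1) := mul_mem mm1_0 (Subgroup.subset_closure ⟨0, by decide, rfl⟩)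
theorem mm1_2 : u1_2 ∈ Subgroup.closure (gens M J1) := mul_mem mm1_1 (Subgroup.subset_closure ⟨2, by decide, rfl⟩)
theorem mm1_3 : u1_3 ∈ Subgroup.closure (gens M J1) := mul_mem mm1_2 (Subgroup.subset_closure ⟨3, by decide, rfl⟩)
theorem mm1_4 : u1_4 ∈ Subgroup.closure (gens M J1) := mul_mem mm1_3 (Subgroup.subset_closure ⟨1, by decide, rfl⟩)
theorem mm1_5 : u1_5 ∈ Subgroup.closure (gens M J1) := mul_mem mm1_3 (Subgroup.subset_closure ⟨4, by decide, rfl⟩)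
theorem mm1_6 : u1_6 ∈ Subgroup.closure (gens M J1) := mul_mem mm1_4 (Subgroup.subset_closure ⟨4, by decide, rfl⟩)
theorem mm1_7 : u1_7 ∈ Subgroup.closure (gens M J1) := mul_mem mm1_5 (Subgroup.subset_closure ⟨5, by decide, rfl⟩)
theorem mm1_8 : u1_8 ∈ Subgroup.closure (gens M J1) := mul_mem mm1_6 (Subgroup.subset_closure ⟨3, by decide, rfl⟩)
theorem mm1_9 : u1_9 ∈ Subgroup.closure (gens M J1) := mul_mem mm1_6 (Subgroup.subset_closure ⟨5, by decide, rfl⟩)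
theorem mm1_10 : u1_10 ∈ Subgroup.closure (gens M J1) := mul_mem mm1_8 (Subgroup.subset_closure ⟨2, by decide, rfl⟩)
theorem mm1_11 : u1_11 ∈ Subgroup.closure (gens M J1) := mul_mem mm1_8 (Subgroup.subset_closure ⟨5, by decide, rfl⟩)
theorem mm1_12 : u1_12 ∈ Subgroup.closure (gens M J1) := mul_mem mm1_10 (Subgroup.subset_closure ⟨0, by decide, rfl⟩)
theorem mm1_13 : u1_13 ∈ Subgroup.closure (gens M J1) := mul_mem mm1_10 (Subgroup.subset_closure ⟨5, by decide, rfl⟩)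
theorem mm1_14 : u1_14 ∈ Subgroup.closure (gens M J1) := mul_mem mm1_11 (Subgroup.subset_closure ⟨4, by decide, rfl⟩)
theorem mm1_15 : u1_15 ∈ Subgroup.closure (gens M J1) := mul_mem mm1_12 (Subgroup.subset_closure ⟨5, by decide, rfl⟩)
theorem mm1_16 : u1_16 ∈ Subgroup.closure (gens M J1) := mul_mem mm1_13 (Subgroup.subset_closure ⟨4, by decide, rfl⟩)
theorem mm1_17 : u1_17 ∈ Subgroup.closure (gens M J1) := mul_mem mm1_15 (Subgroup.subset_closure ⟨4, by decide, rfl⟩)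
theorem mm1_18 : u1_18 ∈ Subgroup.closure (gens M J1) := mul_mem mm1_16 (Subgroup.subset_closure ⟨3, by decide, rfl⟩)
theorem mm1_19 : u1_19 ∈ Subgroup.closure (gens M J1) := mul_mem mm1_17 (Subgroup.subset_closure ⟨3, by decide, rfl⟩)
theorem mm1_20 : u1_20 ∈ Subgroup.closure (gens M J1) := mul_mem mm1_18 (Subgroup.subset_closure ⟨1, by decide, rfl⟩)
theorem mm1_21 : u1_21 ∈ Subgroup.closure (gens M J1) := mul_mem mm1_19 (Subgroup.subset_closure ⟨1, by decide, rfl⟩)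
theorem mm1_22 : u1_22 ∈ Subgroup.closure (gens M J1) := mul_mem mm1_19 (Subgroup.subset_closure ⟨2, by decide, rfl⟩)
theorem mm1_23 : u1_23 ∈ Subgroup.closure (gens M J1) := mul_mem mm1_21 (Subgroup.subset_closure ⟨2, by decide, rfl⟩)
theorem mm1_24 : u1_24 ∈ Subgroup.closure (gens M J1) := mul_mem mm1_23 (Subgroup.subset_closure ⟨3, by decide, rfl⟩)
theorem mm1_25 : u1_25 ∈ Subgroup.closure (gens M J1) := mul_mem mm1_24 (Subgroup.subset_closure ⟨4, by decide, rfl⟩)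
theorem mm1_26 : u1_26 ∈ Subgroup.closure (gens M J1) := mul_mem mm1_25 (Subgroup.subset_closure ⟨5, by decide, rfl⟩)
theorem c1_0 : P1 u1_0 := by
  refine ⟨mm1_0, ?_⟩
  rintro x ⟨j, hj, rfl⟩
  simp only [J1, List.mem_cons, List.not_mem_nil, or_false] at hj
  rcases hj with rfl | rfl | rfl | rfl | rfl | rfl
  · exact ⟨1, one_mem _, u1_1, mr1_1, e1_0_0⟩
  · exact ⟨s 1, Subgroup.subset_closure ⟨1, by decide, rfl⟩, u1_0, mr1_0, e1_0_1⟩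
  · exact ⟨s 2, Subgroup.subset_closure ⟨2, by decide, rfl⟩, u1_0, mr1_0, e1_0_2⟩
  · exact ⟨s 3, Subgroup.subset_closure ⟨3, by decide, rfl⟩, u1_0, mr1_0, e1_0_3⟩
  · exact ⟨s 4, Subgroup.subset_closure ⟨4, by decide, rfl⟩, u1_0, mr1_0, e1_0_4⟩
  · exact ⟨s 5, Subgroup.subset_closure ⟨5, by decide, rfl⟩, u1_0, mr1_0, e1_0_5⟩
theorem c1_1 : P1 u1_1 := by
  refine ⟨mm1_1, ?_⟩
  rintro x ⟨j, hj, rfl⟩
  simp only [J1, List.mem_cons, List.not_mem_nil, or_false] at hj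
  rcases hj with rfl | rfl | rfl | rfl | rfl | rfl
  · exact ⟨1, one_mem _, u1_0, mr1_0, e1_1_0⟩
  · exact ⟨s 1, Subgroup.subset_closure ⟨1, by decide, rfl⟩, u1_1, mr1_1, e1_1_1⟩
  · exact ⟨1, one_mem _, u1_2, mr1_2, e1_1_2⟩
  · exact ⟨s 3, Subgroup.subset_closure ⟨3, by decide, rfl⟩, u1_1, mr1_1, e1_1_3⟩
  · exact ⟨s 4, Subgroup.subset_closure ⟨4, by decide, rfl⟩, u1_1, mr1_1, e1_1_4⟩
  · exact ⟨s 5, Subgroup.subset_closure ⟨5, by decide, rfl⟩, u1_1, mr1_1, e1_1_5⟩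
theorem c1_2 : P1 u1_2 := by
  refine ⟨mm1_2, ?_⟩
  rintro x ⟨j, hj, rfl⟩
  simp only [J1, List.mem_cons, List.not_mem_nil, or_false] at hj
  rcases hj with rfl | rfl | rfl | rfl | rfl | rfl
  · exact ⟨s 2, Subgroup.subset_closure ⟨2, by decide, rfl⟩, u1_2, mr1_2, e1_2_0⟩
  · exact ⟨s 1, Subgroup.subset_closure ⟨1, by decide, rfl⟩, u1_2, mr1_2, e1_2_1⟩
  · exact ⟨1, one_mem _, u1_1, mr1_1, e1_2_2⟩
  · exact ⟨1, one_mem _, u1_3, mr1_3, e1_2_3⟩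
  · exact ⟨s 4, Subgroup.subset_closure ⟨4, by decide, rfl⟩, u1_2, mr1_2, e1_2_4⟩
  · exact ⟨s 5, Subgroup.subset_closure ⟨5, by decide, rfl⟩, u1_2, mr1_2, e1_2_5⟩
theorem c1_3 : P1 u1_3 := by
  refine ⟨mm1_3, ?_⟩
  rintro x ⟨j, hj, rfl⟩
  simp only [J1, List.mem_cons, List.not_mem_nil, or_false] at hj
  rcases hj with rfl | rfl | rfl | rfl | rfl | rfl
  · exact ⟨s 2, Subgroup.subset_closure ⟨2, by decide, rfl⟩, u1_3, mr1_3, e1_3_0⟩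
  · exact ⟨1, one_mem _, u1_4, mr1_4, e1_3_1⟩
  · exact ⟨s 3, Subgroup.subset_closure ⟨3, by decide, rfl⟩, u1_3, mr1_3, e1_3_2⟩
  · exact ⟨1, one_mem _, u1_2, mr1_2, e1_3_3⟩
  · exact ⟨1, one_mem _, u1_5, mr1_5, e1_3_4⟩
  · exact ⟨s 5, Subgroup.subset_closure ⟨5, by decide, rfl⟩, u1_3, mr1_3, e1_3_5⟩
theorem c1_4 : P1 u1_4 := by
  refine ⟨mm1_4, ?_⟩
  rintro x ⟨j, hj, rfl⟩
  simp only [J1, List.mem_cons, List.not_mem_nil, or_false] at hj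
  rcases hj with rfl | rfl | rfl | rfl | rfl | rfl
  · exact ⟨s 2, Subgroup.subset_closure ⟨2, by decide, rfl⟩, u1_4, mr1_4, e1_4_0⟩
  · exact ⟨1, one_mem _, u1_3, mr1_3, e1_4_1⟩
  · exact ⟨s 3, Subgroup.subset_closure ⟨3, by decide, rfl⟩, u1_4, mr1_4, e1_4_2⟩
  · exact ⟨s 1, Subgroup.subset_closure ⟨1, by decide, rfl⟩, u1_4, mr1_4, e1_4_3⟩
  · exact ⟨1, one_mem _, u1_6, mr1_6, e1_4_4⟩
  · exact ⟨s 5, Subgroup.subset_closure ⟨5, by decide, rfl⟩, u1_4, mr1_4, e1_4_5⟩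
theorem c1_5 : P1 u1_5 := by
  refine ⟨mm1_5, ?_⟩
  rintro x ⟨j, hj, rfl⟩
  simp only [J1, List.mem_cons, List.not_mem_nil, or_false] at hj
  rcases hj with rfl | rfl | rfl | rfl | rfl | rfl
  · exact ⟨s 2, Subgroup.subset_closure ⟨2, by decide, rfl⟩, u1_5, mr1_5, e1_5_0⟩
  · exact ⟨1, one_mem _, u1_6, mr1_6, e1_5_1⟩
  · exact ⟨s 3, Subgroup.subset_closure ⟨3, by decide, rfl⟩, u1_5, mr1_5, e1_5_2⟩
  · exact ⟨s 4, Subgroup.subset_closure ⟨4, by decide, rfl⟩, u1_5, mr1_5, e1_5_3⟩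
  · exact ⟨1, one_mem _, u1_3, mr1_3, e1_5_4⟩
  · exact ⟨1, one_mem _, u1_7, mr1_7, e1_5_5⟩
theorem c1_6 : P1 u1_6 := by
  refine ⟨mm1_6, ?_⟩
  rintro x ⟨j, hj, rfl⟩
  simp only [J1, List.mem_cons, List.not_mem_nil, or_false] at hj
  rcases hj with rfl | rfl | rfl | rfl | rfl | rfl
  · exact ⟨s 2, Subgroup.subset_closure ⟨2, by decide, rfl⟩, u1_6, mr1_6, e1_6_0⟩
  · exact ⟨1, one_mem _, u1_5, mr1_5, e1_6_1⟩
  · exact ⟨s 3, Subgroup.subset_closure ⟨3, by decide, rfl⟩, u1_6, mr1_6, e1_6_2⟩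
  · exact ⟨1, one_mem _, u1_8, mr1_8, e1_6_3⟩
  · exact ⟨1, one_mem _, u1_4, mr1_4, e1_6_4⟩
  · exact ⟨1, one_mem _, u1_9, mr1_9, e1_6_5⟩
theorem c1_7 : P1 u1_7 := by
  refine ⟨mm1_7, ?_⟩
  rintro x ⟨j, hj, rfl⟩
  simp only [J1, List.mem_cons, List.not_mem_nil, or_false] at hj
  rcases hj with rfl | rfl | rfl | rfl | rfl | rfl
  · exact ⟨s 2, Subgroup.subset_closure ⟨2, by decide, rfl⟩, u1_7, mr1_7, e1_7_0⟩
  · exact ⟨1, one_mem _, u1_9, mr1_9, e1_7_1⟩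
  · exact ⟨s 3, Subgroup.subset_closure ⟨3, by decide, rfl⟩, u1_7, mr1_7, e1_7_2⟩
  · exact ⟨s 4, Subgroup.subset_closure ⟨4, by decide, rfl⟩, u1_7, mr1_7, e1_7_3⟩
  · exact ⟨s 5, Subgroup.subset_closure ⟨5, by decide, rfl⟩, u1_7, mr1_7, e1_7_4⟩
  · exact ⟨1, one_mem _, u1_5, mr1_5, e1_7_5⟩
theorem c1_8 : P1 u1_8 := by
  refine ⟨mm1_8, ?_⟩
  rintro x ⟨j, hj, rfl⟩
  simp only [J1, List.mem_cons, List.not_mem_nil, or_false] at hj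
  rcases hj with rfl | rfl | rfl | rfl | rfl | rfl
  · exact ⟨s 2, Subgroup.subset_closure ⟨2, by decide, rfl⟩, u1_8, mr1_8, e1_8_0⟩
  · exact ⟨s 4, Subgroup.subset_closure ⟨4, by decide, rfl⟩, u1_8, mr1_8, e1_8_1⟩
  · exact ⟨1, one_mem _, u1_10, mr1_10, e1_8_2⟩
  · exact ⟨1, one_mem _, u1_6, mr1_6, e1_8_3⟩
  · exact ⟨s 1, Subgroup.subset_closure ⟨1, by decide, rfl⟩, u1_8, mr1_8, e1_8_4⟩
  · exact ⟨1, one_mem _, u1_11, mr1_11, e1_8_5⟩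
theorem c1_9 : P1 u1_9 := by
  refine ⟨mm1_9, ?_⟩
  rintro x ⟨j, hj, rfl⟩
  simp only [J1, List.mem_cons, List.not_mem_nil, or_false] at hj
  rcases hj with rfl | rfl | rfl | rfl | rfl | rfl
  · exact ⟨s 2, Subgroup.subset_closure ⟨2, by decide, rfl⟩, u1_9, mr1_9, e1_9_0⟩
  · exact ⟨1, one_mem _, u1_7, mr1_7, e1_9_1⟩
  · exact ⟨s 3, Subgroup.subset_closure ⟨3, by decide, rfl⟩, u1_9, mr1_9, e1_9_2⟩
  · exact ⟨1, one_mem _, u1_11, mr1_11, e1_9_3⟩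
  · exact ⟨s 5, Subgroup.subset_closure ⟨5, by decide, rfl⟩, u1_9, mr1_9, e1_9_4⟩
  · exact ⟨1, one_mem _, u1_6, mr1_6, e1_9_5⟩
theorem c1_10 : P1 u1_10 := by
  refine ⟨mm1_10, ?_⟩
  rintro x ⟨j, hj, rfl⟩
  simp only [J1, List.mem_cons, List.not_mem_nil, or_false] at hj
  rcases hj with rfl | rfl | rfl | rfl | rfl | rfl
  · exact ⟨1, one_mem _, u1_12, mr1_12, e1_10_0⟩
  · exact ⟨s 4, Subgroup.subset_closure ⟨4, by decide, rfl⟩, u1_10, mr1_10, e1_10_1⟩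
  · exact ⟨1, one_mem _, u1_8, mr1_8, e1_10_2⟩
  · exact ⟨s 3, Subgroup.subset_closure ⟨3, by decide, rfl⟩, u1_10, mr1_10, e1_10_3⟩
  · exact ⟨s 1, Subgroup.subset_closure ⟨1, by decide, rfl⟩, u1_10, mr1_10, e1_10_4⟩
  · exact ⟨1, one_mem _, u1_13, mr1_13, e1_10_5⟩
theorem c1_11 : P1 u1_11 := by
  refine ⟨mm1_11, ?_⟩
  rintro x ⟨j, hj, rfl⟩
  simp only [J1, List.mem_cons, List.not_mem_nil, or_false] at hj
  rcases hj with rfl | rfl | rfl | rfl | rfl | rfl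
  · exact ⟨s 2, Subgroup.subset_closure ⟨2, by decide, rfl⟩, u1_11, mr1_11, e1_11_0⟩
  · exact ⟨s 4, Subgroup.subset_closure ⟨4, by decide, rfl⟩, u1_11, mr1_11, e1_11_1⟩
  · exact ⟨1, one_mem _, u1_13, mr1_13, e1_11_2⟩
  · exact ⟨1, one_mem _, u1_9, mr1_9, e1_11_3⟩
  · exact ⟨1, one_mem _, u1_14, mr1_14, e1_11_4⟩
  · exact ⟨1, one_mem _, u1_8, mr1_8, e1_11_5⟩
theorem c1_12 : P1 u1_12 := by
  refine ⟨mm1_12, ?_⟩
  rintro x ⟨j, hj, rfl⟩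
  simp only [J1, List.mem_cons, List.not_mem_nil, or_false] at hj
  rcases hj with rfl | rfl | rfl | rfl | rfl | rfl
  · exact ⟨1, one_mem _, u1_10, mr1_10, e1_12_0⟩
  · exact ⟨s 4, Subgroup.subset_closure ⟨4, by decide, rfl⟩, u1_12, mr1_12, e1_12_1⟩
  · exact ⟨s 2, Subgroup.subset_closure ⟨2, by decide, rfl⟩, u1_12, mr1_12, e1_12_2⟩
  · exact ⟨s 3, Subgroup.subset_closure ⟨3, by decide, rfl⟩, u1_12, mr1_12, e1_12_3⟩
  · exact ⟨s 1, Subgroup.subset_closure ⟨1, by decide, rfl⟩, u1_12, mr1_12, e1_12_4⟩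
  · exact ⟨1, one_mem _, u1_15, mr1_15, e1_12_5⟩
theorem c1_13 : P1 u1_13 := by
  refine ⟨mm1_13, ?_⟩
  rintro x ⟨j, hj, rfl⟩
  simp only [J1, List.mem_cons, List.not_mem_nil, or_false] at hj
  rcases hj with rfl | rfl | rfl | rfl | rfl | rfl
  · exact ⟨1, one_mem _, u1_15, mr1_15, e1_13_0⟩
  · exact ⟨s 4, Subgroup.subset_closure ⟨4, by decide, rfl⟩, u1_13, mr1_13, e1_13_1⟩
  · exact ⟨1, one_mem _, u1_11, mr1_11, e1_13_2⟩
  · exact ⟨s 3, Subgroup.subset_closure ⟨3, by decide, rfl⟩, u1_13, mr1_13, e1_13_3⟩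
  · exact ⟨1, one_mem _, u1_16, mr1_16, e1_13_4⟩
  · exact ⟨1, one_mem _, u1_10, mr1_10, e1_13_5⟩
theorem c1_14 : P1 u1_14 := by
  refine ⟨mm1_14, ?_⟩
  rintro x ⟨j, hj, rfl⟩
  simp only [J1, List.mem_cons, List.not_mem_nil, or_false] at hj
  rcases hj with rfl | rfl | rfl | rfl | rfl | rfl
  · exact ⟨s 2, Subgroup.subset_closure ⟨2, by decide, rfl⟩, u1_14, mr1_14, e1_14_0⟩
  · exact ⟨s 4, Subgroup.subset_closure ⟨4, by decide, rfl⟩, u1_14, mr1_14, e1_14_1⟩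
  · exact ⟨1, one_mem _, u1_16, mr1_16, e1_14_2⟩
  · exact ⟨s 5, Subgroup.subset_closure ⟨5, by decide, rfl⟩, u1_14, mr1_14, e1_14_3⟩
  · exact ⟨1, one_mem _, u1_11, mr1_11, e1_14_4⟩
  · exact ⟨s 1, Subgroup.subset_closure ⟨1, by decide, rfl⟩, u1_14, mr1_14, e1_14_5⟩
theorem c1_15 : P1 u1_15 := by
  refine ⟨mm1_15, ?_⟩
  rintro x ⟨j, hj, rfl⟩
  simp only [J1, List.mem_cons, List.not_mem_nil, or_false] at hj
  rcases hj with rfl | rfl | rfl | rfl | rfl | rfl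
  · exact ⟨1, one_mem _, u1_13, mr1_13, e1_15_0⟩
  · exact ⟨s 4, Subgroup.subset_closure ⟨4, by decide, rfl⟩, u1_15, mr1_15, e1_15_1⟩
  · exact ⟨s 2, Subgroup.subset_closure ⟨2, by decide, rfl⟩, u1_15, mr1_15, e1_15_2⟩
  · exact ⟨s 3, Subgroup.subset_closure ⟨3, by decide, rfl⟩, u1_15, mr1_15, e1_15_3⟩
  · exact ⟨1, one_mem _, u1_17, mr1_17, e1_15_4⟩
  · exact ⟨1, one_mem _, u1_12, mr1_12, e1_15_5⟩
theorem c1_16 : P1 u1_16 := by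
  refine ⟨mm1_16, ?_⟩
  rintro x ⟨j, hj, rfl⟩
  simp only [J1, List.mem_cons, List.not_mem_nil, or_false] at hj
  rcases hj with rfl | rfl | rfl | rfl | rfl | rfl
  · exact ⟨1, one_mem _, u1_17, mr1_17, e1_16_0⟩
  · exact ⟨s 4, Subgroup.subset_closure ⟨4, by decide, rfl⟩, u1_16, mr1_16, e1_16_1⟩
  · exact ⟨1, one_mem _, u1_14, mr1_14, e1_16_2⟩
  · exact ⟨1, one_mem _, u1_18, mr1_18, e1_16_3⟩
  · exact ⟨1, one_mem _, u1_13, mr1_13, e1_16_4⟩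
  · exact ⟨s 1, Subgroup.subset_closure ⟨1, by decide, rfl⟩, u1_16, mr1_16, e1_16_5⟩
theorem c1_17 : P1 u1_17 := by
  refine ⟨mm1_17, ?_⟩
  rintro x ⟨j, hj, rfl⟩
  simp only [J1, List.mem_cons, List.not_mem_nil, or_false] at hj
  rcases hj with rfl | rfl | rfl | rfl | rfl | rfl
  · exact ⟨1, one_mem _, u1_16, mr1_16, e1_17_0⟩
  · exact ⟨s 4, Subgroup.subset_closure ⟨4, by decide, rfl⟩, u1_17, mr1_17, e1_17_1⟩
  · exact ⟨s 2, Subgroup.subset_closure ⟨2, by decide, rfl⟩, u1_17, mr1_17, e1_17_2⟩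
  · exact ⟨1, one_mem _, u1_19, mr1_19, e1_17_3⟩
  · exact ⟨1, one_mem _, u1_15, mr1_15, e1_17_4⟩
  · exact ⟨s 1, Subgroup.subset_closure ⟨1, by decide, rfl⟩, u1_17, mr1_17, e1_17_5⟩
theorem c1_18 : P1 u1_18 := by
  refine ⟨mm1_18, ?_⟩
  rintro x ⟨j, hj, rfl⟩
  simp only [J1, List.mem_cons, List.not_mem_nil, or_false] at hj
  rcases hj with rfl | rfl | rfl | rfl | rfl | rfl
  · exact ⟨1, one_mem _, u1_19, mr1_19, e1_18_0⟩
  · exact ⟨1, one_mem _, u1_20, mr1_20, e1_18_1⟩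
  · exact ⟨s 5, Subgroup.subset_closure ⟨5, by decide, rfl⟩, u1_18, mr1_18, e1_18_2⟩
  · exact ⟨1, one_mem _, u1_16, mr1_16, e1_18_3⟩
  · exact ⟨s 3, Subgroup.subset_closure ⟨3, by decide, rfl⟩, u1_18, mr1_18, e1_18_4⟩
  · exact ⟨s 1, Subgroup.subset_closure ⟨1, by decide, rfl⟩, u1_18, mr1_18, e1_18_5⟩
theorem c1_19 : P1 u1_19 := by
  refine ⟨mm1_19, ?_⟩
  rintro x ⟨j, hj, rfl⟩
  simp only [J1, List.mem_cons, List.not_mem_nil, or_false] at hj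
  rcases hj with rfl | rfl | rfl | rfl | rfl | rfl
  · exact ⟨1, one_mem _, u1_18, mr1_18, e1_19_0⟩
  · exact ⟨1, one_mem _, u1_21, mr1_21, e1_19_1⟩
  · exact ⟨1, one_mem _, u1_22, mr1_22, e1_19_2⟩
  · exact ⟨1, one_mem _, u1_17, mr1_17, e1_19_3⟩
  · exact ⟨s 3, Subgroup.subset_closure ⟨3, by decide, rfl⟩, u1_19, mr1_19, e1_19_4⟩
  · exact ⟨s 1, Subgroup.subset_closure ⟨1, by decide, rfl⟩, u1_19, mr1_19, e1_19_5⟩
theorem c1_20 : P1 u1_20 := by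
  refine ⟨mm1_20, ?_⟩
  rintro x ⟨j, hj, rfl⟩
  simp only [J1, List.mem_cons, List.not_mem_nil, or_false] at hj
  rcases hj with rfl | rfl | rfl | rfl | rfl | rfl
  · exact ⟨1, one_mem _, u1_21, mr1_21, e1_20_0⟩
  · exact ⟨1, one_mem _, u1_18, mr1_18, e1_20_1⟩
  · exact ⟨s 5, Subgroup.subset_closure ⟨5, by decide, rfl⟩, u1_20, mr1_20, e1_20_2⟩
  · exact ⟨s 4, Subgroup.subset_closure ⟨4, by decide, rfl⟩, u1_20, mr1_20, e1_20_3⟩
  · exact ⟨s 3, Subgroup.subset_closure ⟨3, by decide, rfl⟩, u1_20, mr1_20, e1_20_4⟩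
  · exact ⟨s 1, Subgroup.subset_closure ⟨1, by decide, rfl⟩, u1_20, mr1_20, e1_20_5⟩
theorem c1_21 : P1 u1_21 := by
  refine ⟨mm1_21, ?_⟩
  rintro x ⟨j, hj, rfl⟩
  simp only [J1, List.mem_cons, List.not_mem_nil, or_false] at hj
  rcases hj with rfl | rfl | rfl | rfl | rfl | rfl
  · exact ⟨1, one_mem _, u1_20, mr1_20, e1_21_0⟩
  · exact ⟨1, one_mem _, u1_19, mr1_19, e1_21_1⟩
  · exact ⟨1, one_mem _, u1_23, mr1_23, e1_21_2⟩
  · exact ⟨s 4, Subgroup.subset_closure ⟨4, by decide, rfl⟩, u1_21, mr1_21, e1_21_3⟩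
  · exact ⟨s 3, Subgroup.subset_closure ⟨3, by decide, rfl⟩, u1_21, mr1_21, e1_21_4⟩
  · exact ⟨s 1, Subgroup.subset_closure ⟨1, by decide, rfl⟩, u1_21, mr1_21, e1_21_5⟩
theorem c1_22 : P1 u1_22 := by
  refine ⟨mm1_22, ?_⟩
  rintro x ⟨j, hj, rfl⟩
  simp only [J1, List.mem_cons, List.not_mem_nil, or_false] at hj
  rcases hj with rfl | rfl | rfl | rfl | rfl | rfl
  · exact ⟨s 5, Subgroup.subset_closure ⟨5, by decide, rfl⟩, u1_22, mr1_22, e1_22_0⟩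
  · exact ⟨1, one_mem _, u1_23, mr1_23, e1_22_1⟩
  · exact ⟨1, one_mem _, u1_19, mr1_19, e1_22_2⟩
  · exact ⟨s 2, Subgroup.subset_closure ⟨2, by decide, rfl⟩, u1_22, mr1_22, e1_22_3⟩
  · exact ⟨s 3, Subgroup.subset_closure ⟨3, by decide, rfl⟩, u1_22, mr1_22, e1_22_4⟩
  · exact ⟨s 1, Subgroup.subset_closure ⟨1, by decide, rfl⟩, u1_22, mr1_22, e1_22_5⟩
theorem c1_23 : P1 u1_23 := by
  refine ⟨mm1_23, ?_⟩
  rintro x ⟨j, hj, rfl⟩
  simp only [J1, List.mem_cons, List.not_mem_nil, or_false] at hj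
  rcases hj with rfl | rfl | rfl | rfl | rfl | rfl
  · exact ⟨s 5, Subgroup.subset_closure ⟨5, by decide, rfl⟩, u1_23, mr1_23, e1_23_0⟩
  · exact ⟨1, one_mem _, u1_22, mr1_22, e1_23_1⟩
  · exact ⟨1, one_mem _, u1_21, mr1_21, e1_23_2⟩
  · exact ⟨1, one_mem _, u1_24, mr1_24, e1_23_3⟩
  · exact ⟨s 3, Subgroup.subset_closure ⟨3, by decide, rfl⟩, u1_23, mr1_23, e1_23_4⟩
  · exact ⟨s 1, Subgroup.subset_closure ⟨1, by decide, rfl⟩, u1_23, mr1_23, e1_23_5⟩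
theorem c1_24 : P1 u1_24 := by
  refine ⟨mm1_24, ?_⟩
  rintro x ⟨j, hj, rfl⟩
  simp only [J1, List.mem_cons, List.not_mem_nil, or_false] at hj
  rcases hj with rfl | rfl | rfl | rfl | rfl | rfl
  · exact ⟨s 5, Subgroup.subset_closure ⟨5, by decide, rfl⟩, u1_24, mr1_24, e1_24_0⟩
  · exact ⟨s 2, Subgroup.subset_closure ⟨2, by decide, rfl⟩, u1_24, mr1_24, e1_24_1⟩
  · exact ⟨s 4, Subgroup.subset_closure ⟨4, by decide, rfl⟩, u1_24, mr1_24, e1_24_2⟩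
  · exact ⟨1, one_mem _, u1_23, mr1_23, e1_24_3⟩
  · exact ⟨1, one_mem _, u1_25, mr1_25, e1_24_4⟩
  · exact ⟨s 1, Subgroup.subset_closure ⟨1, by decide, rfl⟩, u1_24, mr1_24, e1_24_5⟩
theorem c1_25 : P1 u1_25 := by
  refine ⟨mm1_25, ?_⟩
  rintro x ⟨j, hj, rfl⟩
  simp only [J1, List.mem_cons, List.not_mem_nil, or_false] at hj
  rcases hj with rfl | rfl | rfl | rfl | rfl | rfl
  · exact ⟨s 5, Subgroup.subset_closure ⟨5, by decide, rfl⟩, u1_25, mr1_25, e1_25_0⟩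
  · exact ⟨s 2, Subgroup.subset_closure ⟨2, by decide, rfl⟩, u1_25, mr1_25, e1_25_1⟩
  · exact ⟨s 4, Subgroup.subset_closure ⟨4, by decide, rfl⟩, u1_25, mr1_25, e1_25_2⟩
  · exact ⟨s 3, Subgroup.subset_closure ⟨3, by decide, rfl⟩, u1_25, mr1_25, e1_25_3⟩
  · exact ⟨1, one_mem _, u1_24, mr1_24, e1_25_4⟩
  · exact ⟨1, one_mem _, u1_26, mr1_26, e1_25_5⟩
theorem c1_26 : P1 u1_26 := by
  refine ⟨mm1_26, ?_⟩
  rintro x ⟨j, hj, rfl⟩
  simp only [J1, List.mem_cons, List.not_mem_nil, or_false] at hj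
  rcases hj with rfl | rfl | rfl | rfl | rfl | rfl
  · exact ⟨s 5, Subgroup.subset_closure ⟨5, by decide, rfl⟩, u1_26, mr1_26, e1_26_0⟩
  · exact ⟨s 2, Subgroup.subset_closure ⟨2, by decide, rfl⟩, u1_26, mr1_26, e1_26_1⟩
  · exact ⟨s 4, Subgroup.subset_closure ⟨4, by decide, rfl⟩, u1_26, mr1_26, e1_26_2⟩
  · exact ⟨s 3, Subgroup.subset_closure ⟨3, by decide, rfl⟩, u1_26, mr1_26, e1_26_3⟩
  · exact ⟨s 1, Subgroup.subset_closure ⟨1, by decide, rfl⟩, u1_26, mr1_26, e1_26_4⟩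
  · exact ⟨1, one_mem _, u1_25, mr1_25, e1_26_5⟩
def preps1 : List {u : W // P1 u} := [⟨u1_0, c1_0⟩, ⟨u1_1, c1_1⟩, ⟨u1_2, c1_2⟩, ⟨u1_3, c1_3⟩, ⟨u1_4, c1_4⟩, ⟨u1_5, c1_5⟩, ⟨u1_6, c1_6⟩, ⟨u1_7, c1_7⟩, ⟨u1_8, c1_8⟩, ⟨u1_9, c1_9⟩, ⟨u1_10, c1_10⟩, ⟨u1_11, c1_11⟩, ⟨u1_12, c1_12⟩, ⟨u1_13, c1_13⟩, ⟨u1_14, c1_14⟩, ⟨u1_15, c1_15⟩, ⟨u1_16, c1_16⟩, ⟨u1_17, c1_17⟩, ⟨u1_18, c1_18⟩, ⟨u1_19, c1_19⟩, ⟨u1_20, c1_20⟩, ⟨u1_21, c1_21⟩, ⟨u1_22, c1_22⟩, ⟨u1_23, c1_23⟩, ⟨u1_24, c1_24⟩, ⟨u1_25, c1_25⟩, ⟨u1_26, c1_26⟩]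
theorem preps1_map : preps1.map Subtype.val = reps1 := rfl
theorem allP1 : ∀ u ∈ reps1, P1 u := by
  intro u hu
  rw [← preps1_map, List.mem_map] at hu
  obtain ⟨x, _, rfl⟩ := hu
  exact x.2
def vecs1 : List (Fin 7 → ℤ) := [![1, 0, 0, 0, 0, 0, 0], ![-1, 0, 1, 0, 0, 0, 0], ![0, 0, -1, 1, 0, 0, 0], ![0, 1, 0, -1, 1, 0, 0], ![0, -1, 0, 0, 1, 0, 0], ![0, 1, 0, 0, -1, 1, 0], ![0, -1, 0, 1, -1, 1, 0], ![0, 1, 0, 0, 0, -1, 1], ![0, 0, 1, -1, 0, 1, 0], ![0, -1, 0, 1, 0, -1, 1], ![1, 0, -1, 0, 0, 1, 0], ![0, 0, 1, -1, 1, -1, 1], ![-1, 0, 0, 0, 0, 1, 0], ![1, 0, -1, 0, 1, -1, 1], ![0, 0, 1, 0, -1, 0, 1], ![-1, 0, 0, 0, 1, -1, 1], ![1, 0, -1, 1, -1, 0, 1], ![-1, 0, 0, 1, -1, 0, 1], ![1, 1, 0, -1, 0, 0, 1], ![-1, 1, 1, -1, 0, 0, 1], ![1, -1, 0, 0, 0, 0, 1], ![-1, -1, 1, 0, 0, 0, 1], ![0, 1, -1, 0, 0, 0, 1], ![0, -1, -1, 1, 0, 0, 1], ![0, 0, 0, -1, 1, 0, 1], ![0, 0,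 0, 0, -1, 1, 1], ![0, 0, 0, 0, 0, -1, 2]]
theorem map1 : reps1.map fv1 = vecs1 := by
  simp only [reps1, List.map_cons, List.map_nil, v1_0, v1_1, v1_2, v1_3, v1_4, v1_5, v1_6, v1_7, v1_8, v1_9, v1_10, v1_11, v1_12, v1_13, v1_14, v1_15, v1_16, v1_17, v1_18, v1_19, v1_20, v1_21, v1_22, v1_23, v1_24, v1_25, v1_26]
  rfl
theorem nd1 : (reps1.map fv1).Nodup := by rw [map1]; decide +kernel
theorem fix1 : ∀ h ∈ gens M J2, ∀ w, fv1 (h * w) = fv1 w := by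
  rintro h ⟨j, hj, rfl⟩ w
  simp only [J2, List.mem_cons, List.not_mem_nil, or_false] at hj
  rcases hj with rfl | rfl | rfl | rfl | rfl
  all_goals exact fvec_fix M A hA base1 _ (by decide +kernel) w
theorem sub1 : gens M J2 ⊆ gens M J1 := gens_mono M (by decide)
theorem card1 : Nat.card (Subgroup.closure (gens M J1)) = Nat.card (Subgroup.closure (gens M J2)) * 27 :=
  level_card (gens M J1) (gens M J2) sub1 (gens_inv M J1) reps1 mr1_0 (fun u hu => (allP1 u hu).1) (fun u hu => (allP1 u hu).2) fv1 fix1 nd1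
theorem ker1 : ∀ w ∈ Subgroup.closure (gens M J1), fv1 w = fv1 1 → w ∈ Subgroup.closure (gens M J2) :=
  level_ker (gens M J1) (gens M J2) (gens_inv M J1) reps1 mr1_0 (fun u hu => (allP1 u hu).2) fv1 fix1 nd1

-- level 2: index 10
def base2 : Fin 7 → ℤ := ![0, 0, 0, 0, 0, 1, 0]
def fv2 : W → (Fin 7 → ℤ) := fvec M A hA base2
def u2_0 : W := 1
def u2_1 : W := u2_0 * s 5
def u2_2 : W := u2_1 * s 4
def u2_3 : W := u2_2 * s 3
def u2_4 : W := u2_3 * s 1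
def u2_5 : W := u2_3 * s 2
def u2_6 : W := u2_4 * s 2
def u2_7 : W := u2_6 * s 3
def u2_8 : W := u2_7 * s 4
def u2_9 : W := u2_8 * s 5
def reps2 : List W := [u2_0, u2_1, u2_2, u2_3, u2_4, u2_5, u2_6, u2_7, u2_8, u2_9]
theorem v2_0 : fv2 u2_0 = ![0, 0, 0, 0, 0, 1, 0] := fvec_one M A hA base2
theorem v2_1 : fv2 u2_1 = ![0, 0, 0, 0, 1, -1, 1] := by
  show fvec M A hA base2 (u2_0 * M.simple 5) = _
  rw [fvec_mul_simple]; show reflVec A 5 (fv2 u2_0) = _; rw [v2_0]; decide +kernel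
theorem v2_2 : fv2 u2_2 = ![0, 0, 0, 1, -1, 0, 1] := by
  show fvec M A hA base2 (u2_1 * M.simple 4) = _
  rw [fvec_mul_simple]; show reflVec A 4 (fv2 u2_1) = _; rw [v2_1]; decide +kernel
theorem v2_3 : fv2 u2_3 = ![0, 1, 1, -1, 0, 0, 1] := by
  show fvec M A hA base2 (u2_2 * M.simple 3) = _
  rw [fvec_mul_simple]; show reflVec A 3 (fv2 u2_2) = _; rw [v2_2]; decide +kernel
theorem v2_4 : fv2 u2_4 = ![0, -1, 1, 0, 0, 0, 1] := by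
  show fvec M A hA base2 (u2_3 * M.simple 1) = _
  rw [fvec_mul_simple]; show reflVec A 1 (fv2 u2_3) = _; rw [v2_3]; decide +kernel
theorem v2_5 : fv2 u2_5 = ![1, 1, -1, 0, 0, 0, 1] := by
  show fvec M A hA base2 (u2_3 * M.simple 2) = _
  rw [fvec_mul_simple]; show reflVec A 2 (fv2 u2_3) = _; rw [v2_3]; decide +kernel
theorem v2_6 : fv2 u2_6 = ![1, -1, -1, 1, 0, 0, 1] := by
  show fvec M A hA base2 (u2_4 * M.simple 2) = _
  rw [fvec_mul_simple]; show reflVec A 2 (fv2 u2_4) = _; rw [v2_4]; decide +kernel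
theorem v2_7 : fv2 u2_7 = ![1, 0, 0, -1, 1, 0, 1] := by
  show fvec M A hA base2 (u2_6 * M.simple 3) = _
  rw [fvec_mul_simple]; show reflVec A 3 (fv2 u2_6) = _; rw [v2_6]; decide +kernel
theorem v2_8 : fv2 u2_8 = ![1, 0, 0, 0, -1, 1, 1] := by
  show fvec M A hA base2 (u2_7 * M.simple 4) = _
  rw [fvec_mul_simple]; show reflVec A 4 (fv2 u2_7) = _; rw [v2_7]; decide +kernel
theorem v2_9 : fv2 u2_9 = ![1, 0, 0, 0, 0, -1, 2] := by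
  show fvec M A hA base2 (u2_8 * M.simple 5) = _
  rw [fvec_mul_simple]; show reflVec A 5 (fv2 u2_8) = _; rw [v2_8]; decide +kernel
theorem e2_0_5 : u2_0 * s 5 = 1 * u2_1 := (one_mul (u2_0 * s 5)).symm
theorem e2_1_5 : u2_1 * s 5 = 1 * u2_0 := tree_up (s_sq 5)
theorem e2_1_4 : u2_1 * s 4 = 1 * u2_2 := (one_mul (u2_1 * s 4)).symm
theorem e2_2_4 : u2_2 * s 4 = 1 * u2_1 := tree_up (s_sq 4)
theorem e2_2_3 : u2_2 * s 3 = 1 * u2_3 := (one_mul (u2_2 * s 3)).symm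
theorem e2_3_3 : u2_3 * s 3 = 1 * u2_2 := tree_up (s_sq 3)
theorem e2_3_1 : u2_3 * s 1 = 1 * u2_4 := (one_mul (u2_3 * s 1)).symm
theorem e2_4_1 : u2_4 * s 1 = 1 * u2_3 := tree_up (s_sq 1)
theorem e2_3_2 : u2_3 * s 2 = 1 * u2_5 := (one_mul (u2_3 * s 2)).symm
theorem e2_5_2 : u2_5 * s 2 = 1 * u2_3 := tree_up (s_sq 2)
theorem e2_4_2 : u2_4 * s 2 = 1 * u2_6 := (one_mul (u2_4 * s 2)).symm
theorem e2_6_2 : u2_6 * s 2 = 1 * u2_4 := tree_up (s_sq 2)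
theorem e2_6_3 : u2_6 * s 3 = 1 * u2_7 := (one_mul (u2_6 * s 3)).symm
theorem e2_7_3 : u2_7 * s 3 = 1 * u2_6 := tree_up (s_sq 3)
theorem e2_7_4 : u2_7 * s 4 = 1 * u2_8 := (one_mul (u2_7 * s 4)).symm
theorem e2_8_4 : u2_8 * s 4 = 1 * u2_7 := tree_up (s_sq 4)
theorem e2_8_5 : u2_8 * s 5 = 1 * u2_9 := (one_mul (u2_8 * s 5)).symm
theorem e2_9_5 : u2_9 * s 5 = 1 * u2_8 := tree_up (s_sq 5)
theorem e2_0_1 : u2_0 * s 1 = s 1 * u2_0 := (one_mul (s 1)).trans (mul_one (s 1)).symm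
theorem e2_0_2 : u2_0 * s 2 = s 2 * u2_0 := (one_mul (s 2)).trans (mul_one (s 2)).symm
theorem e2_0_3 : u2_0 * s 3 = s 3 * u2_0 := (one_mul (s 3)).trans (mul_one (s 3)).symm
theorem e2_0_4 : u2_0 * s 4 = s 4 * u2_0 := (one_mul (s 4)).trans (mul_one (s 4)).symm
theorem e2_1_1 : u2_1 * s 1 = s 1 * u2_1 := by
  simpa only [one_mul, mul_one] using ded2 r_1_5 e2_1_5 e2_0_1 e2_0_5
theorem e2_1_2 : u2_1 * s 2 = s 2 * u2_1 := by
  simpa only [one_mul, mul_one] using ded2 r_2_5 e2_1_5 e2_0_2 e2_0_5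
theorem e2_1_3 : u2_1 * s 3 = s 3 * u2_1 := by
  simpa only [one_mul, mul_one] using ded2 r_3_5 e2_1_5 e2_0_3 e2_0_5
theorem e2_2_5 : u2_2 * s 5 = s 4 * u2_2 := by
  simpa only [one_mul, mul_one] using ded3 r_5_4 e2_2_4 e2_1_5 e2_0_4 e2_0_5 e2_1_4
theorem e2_2_1 : u2_2 * s 1 = s 1 * u2_2 := by
  simpa only [one_mul, mul_one] using ded2 r_1_4 e2_2_4 e2_1_1 e2_1_4
theorem e2_2_2 : u2_2 * s 2 = s 2 * u2_2 := by
  simpa only [one_mul, mul_one] using ded2 r_2_4 e2_2_4 e2_1_2 e2_1_4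
theorem e2_3_4 : u2_3 * s 4 = s 3 * u2_3 := by
  simpa only [one_mul, mul_one] using ded3 r_4_3 e2_3_3 e2_2_4 e2_1_3 e2_1_4 e2_2_3
theorem e2_4_3 : u2_4 * s 3 = s 1 * u2_4 := by
  simpa only [one_mul, mul_one] using ded3 r_3_1 e2_4_1 e2_3_3 e2_2_1 e2_2_3 e2_3_1
theorem e2_5_3 : u2_5 * s 3 = s 2 * u2_5 := by
  simpa only [one_mul, mul_one] using ded3 r_3_2 e2_5_2 e2_3_3 e2_2_2 e2_2_3 e2_3_2
theorem e2_3_5 : u2_3 * s 5 = s 4 * u2_3 := by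
  simpa only [one_mul, mul_one] using ded2 r_5_3 e2_3_3 e2_2_5 e2_2_3
theorem e2_6_1 : u2_6 * s 1 = 1 * u2_5 := by
  simpa only [one_mul, mul_one] using ded2 r_1_2 e2_6_2 e2_4_1 e2_3_2
theorem e2_5_1 : u2_5 * s 1 = 1 * u2_6 := rev_edge (s_sq 1) e2_6_1
theorem e2_4_4 : u2_4 * s 4 = s 3 * u2_4 := by
  simpa only [one_mul, mul_one] using ded2 r_4_1 e2_4_1 e2_3_4 e2_3_1
theorem e2_4_5 : u2_4 * s 5 = s 4 * u2_4 := by
  simpa only [one_mul, mul_one] using ded2 r_5_1 e2_4_1 e2_3_5 e2_3_1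
theorem e2_5_4 : u2_5 * s 4 = s 3 * u2_5 := by
  simpa only [one_mul, mul_one] using ded2 r_4_2 e2_5_2 e2_3_4 e2_3_2
theorem e2_5_5 : u2_5 * s 5 = s 4 * u2_5 := by
  simpa only [one_mul, mul_one] using ded2 r_5_2 e2_5_2 e2_3_5 e2_3_2
theorem e2_7_2 : u2_7 * s 2 = s 1 * u2_7 := by
  simpa only [one_mul, mul_one] using ded3 r_2_3 e2_7_3 e2_6_2 e2_4_3 e2_4_2 e2_6_3
theorem e2_6_4 : u2_6 * s 4 = s 3 * u2_6 := by
  simpa only [one_mul, mul_one] using ded2 r_4_2 e2_6_2 e2_4_4 e2_4_2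
theorem e2_6_5 : u2_6 * s 5 = s 4 * u2_6 := by
  simpa only [one_mul, mul_one] using ded2 r_5_2 e2_6_2 e2_4_5 e2_4_2
theorem e2_7_1 : u2_7 * s 1 = s 2 * u2_7 := by
  simpa only [one_mul, mul_one] using ded3 r_1_3 e2_7_3 e2_6_1 e2_5_3 e2_5_1 e2_6_3
theorem e2_8_3 : u2_8 * s 3 = s 3 * u2_8 := by
  simpa only [one_mul, mul_one] using ded3 r_3_4 e2_8_4 e2_7_3 e2_6_4 e2_6_3 e2_7_4
theorem e2_7_5 : u2_7 * s 5 = s 4 * u2_7 := by
  simpa only [one_mul, mul_one] using ded2 r_5_3 e2_7_3 e2_6_5 e2_6_3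
theorem e2_8_1 : u2_8 * s 1 = s 2 * u2_8 := by
  simpa only [one_mul, mul_one] using ded2 r_1_4 e2_8_4 e2_7_1 e2_7_4
theorem e2_8_2 : u2_8 * s 2 = s 1 * u2_8 := by
  simpa only [one_mul, mul_one] using ded2 r_2_4 e2_8_4 e2_7_2 e2_7_4
theorem e2_9_4 : u2_9 * s 4 = s 4 * u2_9 := by
  simpa only [one_mul, mul_one] using ded3 r_4_5 e2_9_5 e2_8_4 e2_7_5 e2_7_4 e2_8_5
theorem e2_9_1 : u2_9 * s 1 = s 2 * u2_9 := by
  simpa only [one_mul, mul_one] using ded2 r_1_5 e2_9_5 e2_8_1 e2_8_5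
theorem e2_9_2 : u2_9 * s 2 = s 1 * u2_9 := by
  simpa only [one_mul, mul_one] using ded2 r_2_5 e2_9_5 e2_8_2 e2_8_5
theorem e2_9_3 : u2_9 * s 3 = s 3 * u2_9 := by
  simpa only [one_mul, mul_one] using ded2 r_3_5 e2_9_5 e2_8_3 e2_8_5
def P2 (u : W) : Prop := u ∈ Subgroup.closure (gens M J2) ∧ ∀ x ∈ gens M J2, ∃ h ∈ Subgroup.closure (gens M J3), ∃ u' ∈ reps2, u * x = h * u'
theorem mr2_0 : u2_0 ∈ reps2 := List.getElem_mem (l := reps2) (n := 0) (by decide)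
theorem mr2_1 : u2_1 ∈ reps2 := List.getElem_mem (l := reps2) (n := 1) (by decide)
theorem mr2_2 : u2_2 ∈ reps2 := List.getElem_mem (l := reps2) (n := 2) (by decide)
theorem mr2_3 : u2_3 ∈ reps2 := List.getElem_mem (l := reps2) (n := 3) (by decide)
theorem mr2_4 : u2_4 ∈ reps2 := List.getElem_mem (l := reps2) (n := 4) (by decide)
theorem mr2_5 : u2_5 ∈ reps2 := List.getElem_mem (l := reps2) (n := 5) (by decide)
theorem mr2_6 : u2_6 ∈ reps2 := List.getElem_mem (l := reps2) (n := 6) (by decide)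
theorem mr2_7 : u2_7 ∈ reps2 := List.getElem_mem (l := reps2) (n := 7) (by decide)
theorem mr2_8 : u2_8 ∈ reps2 := List.getElem_mem (l := reps2) (n := 8) (by decide)
theorem mr2_9 : u2_9 ∈ reps2 := List.getElem_mem (l := reps2) (n := 9) (by decide)
theorem mm2_0 : u2_0 ∈ Subgroup.closure (gens M J2) := one_mem _
theorem mm2_1 : u2_1 ∈ Subgroup.closure (gens M J2) := mul_mem mm2_0 (Subgroup.subset_closure ⟨5, by decide, rfl⟩)
theorem mm2_2 : u2_2 ∈ Subgroup.closure (gens M J2) := mul_mem mm2_1 (Subgroup.subset_closure ⟨4, by decide, rfl⟩)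
theorem mm2_3 : u2_3 ∈ Subgroup.closure (gens M J2) := mul_mem mm2_2 (Subgroup.subset_closure ⟨3, by decide, rfl⟩)
theorem mm2_4 : u2_4 ∈ Subgroup.closure (gens M J2) := mul_mem mm2_3 (Subgroup.subset_closure ⟨1, by decide, rfl⟩)
theorem mm2_5 : u2_5 ∈ Subgroup.closure (gens M J2) := mul_mem mm2_3 (Subgroup.subset_closure ⟨2, by decide, rfl⟩)
theorem mm2_6 : u2_6 ∈ Subgroup.closure (gens M J2) := mul_mem mm2_4 (Subgroup.subset_closure ⟨2, by decide, rfl⟩)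
theorem mm2_7 : u2_7 ∈ Subgroup.closure (gens M J2) := mul_mem mm2_6 (Subgroup.subset_closure ⟨3, by decide, rfl⟩)
theorem mm2_8 : u2_8 ∈ Subgroup.closure (gens M J2) := mul_mem mm2_7 (Subgroup.subset_closure ⟨4, by decide, rfl⟩)
theorem mm2_9 : u2_9 ∈ Subgroup.closure (gens M J2) := mul_mem mm2_8 (Subgroup.subset_closure ⟨5, by decide, rfl⟩)
theorem c2_0 : P2 u2_0 := by
  refine ⟨mm2_0, ?_⟩
  rintro x ⟨j, hj, rfl⟩
  simp only [J2, List.mem_cons, List.not_mem_nil, or_false] at hj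
  rcases hj with rfl | rfl | rfl | rfl | rfl
  · exact ⟨s 1, Subgroup.subset_closure ⟨1, by decide, rfl⟩, u2_0, mr2_0, e2_0_1⟩
  · exact ⟨s 2, Subgroup.subset_closure ⟨2, by decide, rfl⟩, u2_0, mr2_0, e2_0_2⟩
  · exact ⟨s 3, Subgroup.subset_closure ⟨3, by decide, rfl⟩, u2_0, mr2_0, e2_0_3⟩
  · exact ⟨s 4, Subgroup.subset_closure ⟨4, by decide, rfl⟩, u2_0, mr2_0, e2_0_4⟩
  · exact ⟨1, one_mem _, u2_1, mr2_1, e2_0_5⟩
theorem c2_1 : P2 u2_1 := by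
  refine ⟨mm2_1, ?_⟩
  rintro x ⟨j, hj, rfl⟩
  simp only [J2, List.mem_cons, List.not_mem_nil, or_false] at hj
  rcases hj with rfl | rfl | rfl | rfl | rfl
  · exact ⟨s 1, Subgroup.subset_closure ⟨1, by decide, rfl⟩, u2_1, mr2_1, e2_1_1⟩
  · exact ⟨s 2, Subgroup.subset_closure ⟨2, by decide, rfl⟩, u2_1, mr2_1, e2_1_2⟩
  · exact ⟨s 3, Subgroup.subset_closure ⟨3, by decide, rfl⟩, u2_1, mr2_1, e2_1_3⟩
  · exact ⟨1, one_mem _, u2_2, mr2_2, e2_1_4⟩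
  · exact ⟨1, one_mem _, u2_0, mr2_0, e2_1_5⟩
theorem c2_2 : P2 u2_2 := by
  refine ⟨mm2_2, ?_⟩
  rintro x ⟨j, hj, rfl⟩
  simp only [J2, List.mem_cons, List.not_mem_nil, or_false] at hj
  rcases hj with rfl | rfl | rfl | rfl | rfl
  · exact ⟨s 1, Subgroup.subset_closure ⟨1, by decide, rfl⟩, u2_2, mr2_2, e2_2_1⟩
  · exact ⟨s 2, Subgroup.subset_closure ⟨2, by decide, rfl⟩, u2_2, mr2_2, e2_2_2⟩
  · exact ⟨1, one_mem _, u2_3, mr2_3, e2_2_3⟩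
  · exact ⟨1, one_mem _, u2_1, mr2_1, e2_2_4⟩
  · exact ⟨s 4, Subgroup.subset_closure ⟨4, by decide, rfl⟩, u2_2, mr2_2, e2_2_5⟩
theorem c2_3 : P2 u2_3 := by
  refine ⟨mm2_3, ?_⟩
  rintro x ⟨j, hj, rfl⟩
  simp only [J2, List.mem_cons, List.not_mem_nil, or_false] at hj
  rcases hj with rfl | rfl | rfl | rfl | rfl
  · exact ⟨1, one_mem _, u2_4, mr2_4, e2_3_1⟩
  · exact ⟨1, one_mem _, u2_5, mr2_5, e2_3_2⟩
  · exact ⟨1, one_mem _, u2_2, mr2_2, e2_3_3⟩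
  · exact ⟨s 3, Subgroup.subset_closure ⟨3, by decide, rfl⟩, u2_3, mr2_3, e2_3_4⟩
  · exact ⟨s 4, Subgroup.subset_closure ⟨4, by decide, rfl⟩, u2_3, mr2_3, e2_3_5⟩
theorem c2_4 : P2 u2_4 := by
  refine ⟨mm2_4, ?_⟩
  rintro x ⟨j, hj, rfl⟩
  simp only [J2, List.mem_cons, List.not_mem_nil, or_false] at hj
  rcases hj with rfl | rfl | rfl | rfl | rfl
  · exact ⟨1, one_mem _, u2_3, mr2_3, e2_4_1⟩
  · exact ⟨1, one_mem _, u2_6, mr2_6, e2_4_2⟩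
  · exact ⟨s 1, Subgroup.subset_closure ⟨1, by decide, rfl⟩, u2_4, mr2_4, e2_4_3⟩
  · exact ⟨s 3, Subgroup.subset_closure ⟨3, by decide, rfl⟩, u2_4, mr2_4, e2_4_4⟩
  · exact ⟨s 4, Subgroup.subset_closure ⟨4, by decide, rfl⟩, u2_4, mr2_4, e2_4_5⟩
theorem c2_5 : P2 u2_5 := by
  refine ⟨mm2_5, ?_⟩
  rintro x ⟨j, hj, rfl⟩
  simp only [J2, List.mem_cons, List.not_mem_nil, or_false] at hj
  rcases hj with rfl | rfl | rfl | rfl | rfl
  · exact ⟨1, one_mem _, u2_6, mr2_6, e2_5_1⟩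
  · exact ⟨1, one_mem _, u2_3, mr2_3, e2_5_2⟩
  · exact ⟨s 2, Subgroup.subset_closure ⟨2, by decide, rfl⟩, u2_5, mr2_5, e2_5_3⟩
  · exact ⟨s 3, Subgroup.subset_closure ⟨3, by decide, rfl⟩, u2_5, mr2_5, e2_5_4⟩
  · exact ⟨s 4, Subgroup.subset_closure ⟨4, by decide, rfl⟩, u2_5, mr2_5, e2_5_5⟩
theorem c2_6 : P2 u2_6 := by
  refine ⟨mm2_6, ?_⟩
  rintro x ⟨j, hj, rfl⟩
  simp only [J2, List.mem_cons, List.not_mem_nil, or_false] at hj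
  rcases hj with rfl | rfl | rfl | rfl | rfl
  · exact ⟨1, one_mem _, u2_5, mr2_5, e2_6_1⟩
  · exact ⟨1, one_mem _, u2_4, mr2_4, e2_6_2⟩
  · exact ⟨1, one_mem _, u2_7, mr2_7, e2_6_3⟩
  · exact ⟨s 3, Subgroup.subset_closure ⟨3, by decide, rfl⟩, u2_6, mr2_6, e2_6_4⟩
  · exact ⟨s 4, Subgroup.subset_closure ⟨4, by decide, rfl⟩, u2_6, mr2_6, e2_6_5⟩
theorem c2_7 : P2 u2_7 := by
  refine ⟨mm2_7, ?_⟩
  rintro x ⟨j, hj, rfl⟩
  simp only [J2, List.mem_cons, List.not_mem_nil, or_false] at hj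
  rcases hj with rfl | rfl | rfl | rfl | rfl
  · exact ⟨s 2, Subgroup.subset_closure ⟨2, by decide, rfl⟩, u2_7, mr2_7, e2_7_1⟩
  · exact ⟨s 1, Subgroup.subset_closure ⟨1, by decide, rfl⟩, u2_7, mr2_7, e2_7_2⟩
  · exact ⟨1, one_mem _, u2_6, mr2_6, e2_7_3⟩
  · exact ⟨1, one_mem _, u2_8, mr2_8, e2_7_4⟩
  · exact ⟨s 4, Subgroup.subset_closure ⟨4, by decide, rfl⟩, u2_7, mr2_7, e2_7_5⟩
theorem c2_8 : P2 u2_8 := by
  refine ⟨mm2_8, ?_⟩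
  rintro x ⟨j, hj, rfl⟩
  simp only [J2, List.mem_cons, List.not_mem_nil, or_false] at hj
  rcases hj with rfl | rfl | rfl | rfl | rfl
  · exact ⟨s 2, Subgroup.subset_closure ⟨2, by decide, rfl⟩, u2_8, mr2_8, e2_8_1⟩
  · exact ⟨s 1, Subgroup.subset_closure ⟨1, by decide, rfl⟩, u2_8, mr2_8, e2_8_2⟩
  · exact ⟨s 3, Subgroup.subset_closure ⟨3, by decide, rfl⟩, u2_8, mr2_8, e2_8_3⟩
  · exact ⟨1, one_mem _, u2_7, mr2_7, e2_8_4⟩
  · exact ⟨1, one_mem _, u2_9, mr2_9, e2_8_5⟩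
theorem c2_9 : P2 u2_9 := by
  refine ⟨mm2_9, ?_⟩
  rintro x ⟨j, hj, rfl⟩
  simp only [J2, List.mem_cons, List.not_mem_nil, or_false] at hj
  rcases hj with rfl | rfl | rfl | rfl | rfl
  · exact ⟨s 2, Subgroup.subset_closure ⟨2, by decide, rfl⟩, u2_9, mr2_9, e2_9_1⟩
  · exact ⟨s 1, Subgroup.subset_closure ⟨1, by decide, rfl⟩, u2_9, mr2_9, e2_9_2⟩
  · exact ⟨s 3, Subgroup.subset_closure ⟨3, by decide, rfl⟩, u2_9, mr2_9, e2_9_3⟩
  · exact ⟨s 4, Subgroup.subset_closure ⟨4, by decide, rfl⟩, u2_9, mr2_9, e2_9_4⟩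
  · exact ⟨1, one_mem _, u2_8, mr2_8, e2_9_5⟩
def preps2 : List {u : W // P2 u} := [⟨u2_0, c2_0⟩, ⟨u2_1, c2_1⟩, ⟨u2_2, c2_2⟩, ⟨u2_3, c2_3⟩, ⟨u2_4, c2_4⟩, ⟨u2_5, c2_5⟩, ⟨u2_6, c2_6⟩, ⟨u2_7, c2_7⟩, ⟨u2_8, c2_8⟩, ⟨u2_9, c2_9⟩]
theorem preps2_map : preps2.map Subtype.val = reps2 := rfl
theorem allP2 : ∀ u ∈ reps2, P2 u := by
  intro u hu
  rw [← preps2_map, List.mem_map] at hu
  obtain ⟨x, _, rfl⟩ := hu
  exact x.2
def vecs2 : List (Fin 7 → ℤ) := [![0, 0, 0, 0, 0, 1, 0], ![0, 0, 0, 0, 1, -1, 1], ![0, 0, 0, 1, -1, 0, 1], ![0, 1, 1, -1, 0, 0, 1], ![0, -1, 1, 0, 0, 0, 1], ![1, 1, -1, 0, 0, 0, 1], ![1, -1, -1, 1, 0, 0, 1], ![1, 0, 0, -1, 1, 0, 1], ![1, 0, 0, 0, -1, 1, 1], ![1, 0, 0, 0, 0, -1, 2]]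
theorem map2 : reps2.map fv2 = vecs2 := by
  simp only [reps2, List.map_cons, List.map_nil, v2_0, v2_1, v2_2, v2_3, v2_4, v2_5, v2_6, v2_7, v2_8, v2_9]
  rfl
theorem nd2 : (reps2.map fv2).Nodup := by rw [map2]; decide +kernel
theorem fix2 : ∀ h ∈ gens M J3, ∀ w, fv2 (h * w) = fv2 w := by
  rintro h ⟨j, hj, rfl⟩ w
  simp only [J3, List.mem_cons, List.not_mem_nil, or_false] at hj
  rcases hj with rfl | rfl | rfl | rfl
  all_goals exact fvec_fix M A hA base2 _ (by decide +kernel) w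
theorem sub2 : gens M J3 ⊆ gens M J2 := gens_mono M (by decide)
theorem card2 : Nat.card (Subgroup.closure (gens M J2)) = Nat.card (Subgroup.closure (gens M J3)) * 10 :=
  level_card (gens M J2) (gens M J3) sub2 (gens_inv M J2) reps2 mr2_0 (fun u hu => (allP2 u hu).1) (fun u hu => (allP2 u hu).2) fv2 fix2 nd2
theorem ker2 : ∀ w ∈ Subgroup.closure (gens M J2), fv2 w = fv2 1 → w ∈ Subgroup.closure (gens M J3) :=
  level_ker (gens M J2) (gens M J3) (gens_inv M J2) reps2 mr2_0 (fun u hu => (allP2 u hu).2) fv2 fix2 nd2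

-- level 3: index 8
def base3 : Fin 7 → ℤ := ![0, 0, 0, 0, 1, 0, 0]
def fv3 : W → (Fin 7 → ℤ) := fvec M A hA base3
def u3_0 : W := 1
def u3_1 : W := u3_0 * s 4
def u3_2 : W := u3_1 * s 3
def u3_3 : W := u3_2 * s 1
def u3_4 : W := u3_2 * s 2
def u3_5 : W := u3_3 * s 2
def u3_6 : W := u3_5 * s 3
def u3_7 : W := u3_6 * s 4
def reps3 : List W := [u3_0, u3_1, u3_2, u3_3, u3_4, u3_5, u3_6, u3_7]
theorem v3_0 : fv3 u3_0 = ![0, 0, 0, 0, 1, 0, 0] := fvec_one M A hA base3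
theorem v3_1 : fv3 u3_1 = ![0, 0, 0, 1, -1, 1, 0] := by
  show fvec M A hA base3 (u3_0 * M.simple 4) = _
  rw [fvec_mul_simple]; show reflVec A 4 (fv3 u3_0) = _; rw [v3_0]; decide +kernel
theorem v3_2 : fv3 u3_2 = ![0, 1, 1, -1, 0, 1, 0] := by
  show fvec M A hA base3 (u3_1 * M.simple 3) = _
  rw [fvec_mul_simple]; show reflVec A 3 (fv3 u3_1) = _; rw [v3_1]; decide +kernel
theorem v3_3 : fv3 u3_3 = ![0, -1, 1, 0, 0, 1, 0] := by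
  show fvec M A hA base3 (u3_2 * M.simple 1) = _
  rw [fvec_mul_simple]; show reflVec A 1 (fv3 u3_2) = _; rw [v3_2]; decide +kernel
theorem v3_4 : fv3 u3_4 = ![1, 1, -1, 0, 0, 1, 0] := by
  show fvec M A hA base3 (u3_2 * M.simple 2) = _
  rw [fvec_mul_simple]; show reflVec A 2 (fv3 u3_2) = _; rw [v3_2]; decide +kernel
theorem v3_5 : fv3 u3_5 = ![1, -1, -1, 1, 0, 1, 0] := by
  show fvec M A hA base3 (u3_3 * M.simple 2) = _
  rw [fvec_mul_simple]; show reflVec A 2 (fv3 u3_3) = _; rw [v3_3]; decide +kernel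
theorem v3_6 : fv3 u3_6 = ![1, 0, 0, -1, 1, 1, 0] := by
  show fvec M A hA base3 (u3_5 * M.simple 3) = _
  rw [fvec_mul_simple]; show reflVec A 3 (fv3 u3_5) = _; rw [v3_5]; decide +kernel
theorem v3_7 : fv3 u3_7 = ![1, 0, 0, 0, -1, 2, 0] := by
  show fvec M A hA base3 (u3_6 * M.simple 4) = _
  rw [fvec_mul_simple]; show reflVec A 4 (fv3 u3_6) = _; rw [v3_6]; decide +kernel
theorem e3_0_4 : u3_0 * s 4 = 1 * u3_1 := (one_mul (u3_0 * s 4)).symm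
theorem e3_1_4 : u3_1 * s 4 = 1 * u3_0 := tree_up (s_sq 4)
theorem e3_1_3 : u3_1 * s 3 = 1 * u3_2 := (one_mul (u3_1 * s 3)).symm
theorem e3_2_3 : u3_2 * s 3 = 1 * u3_1 := tree_up (s_sq 3)
theorem e3_2_1 : u3_2 * s 1 = 1 * u3_3 := (one_mul (u3_2 * s 1)).symm
theorem e3_3_1 : u3_3 * s 1 = 1 * u3_2 := tree_up (s_sq 1)
theorem e3_2_2 : u3_2 * s 2 = 1 * u3_4 := (one_mul (u3_2 * s 2)).symm
theorem e3_4_2 : u3_4 * s 2 = 1 * u3_2 := tree_up (s_sq 2)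
theorem e3_3_2 : u3_3 * s 2 = 1 * u3_5 := (one_mul (u3_3 * s 2)).symm
theorem e3_5_2 : u3_5 * s 2 = 1 * u3_3 := tree_up (s_sq 2)
theorem e3_5_3 : u3_5 * s 3 = 1 * u3_6 := (one_mul (u3_5 * s 3)).symm
theorem e3_6_3 : u3_6 * s 3 = 1 * u3_5 := tree_up (s_sq 3)
theorem e3_6_4 : u3_6 * s 4 = 1 * u3_7 := (one_mul (u3_6 * s 4)).symm
theorem e3_7_4 : u3_7 * s 4 = 1 * u3_6 := tree_up (s_sq 4)
theorem e3_0_1 : u3_0 * s 1 = s 1 * u3_0 := (one_mul (s 1)).trans (mul_one (s 1)).symm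
theorem e3_0_2 : u3_0 * s 2 = s 2 * u3_0 := (one_mul (s 2)).trans (mul_one (s 2)).symm
theorem e3_0_3 : u3_0 * s 3 = s 3 * u3_0 := (one_mul (s 3)).trans (mul_one (s 3)).symm
theorem e3_1_1 : u3_1 * s 1 = s 1 * u3_1 := by
  simpa only [one_mul, mul_one] using ded2 r_1_4 e3_1_4 e3_0_1 e3_0_4
theorem e3_1_2 : u3_1 * s 2 = s 2 * u3_1 := by
  simpa only [one_mul, mul_one] using ded2 r_2_4 e3_1_4 e3_0_2 e3_0_4
theorem e3_2_4 : u3_2 * s 4 = s 3 * u3_2 := by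
  simpa only [one_mul, mul_one] using ded3 r_4_3 e3_2_3 e3_1_4 e3_0_3 e3_0_4 e3_1_3
theorem e3_3_3 : u3_3 * s 3 = s 1 * u3_3 := by
  simpa only [one_mul, mul_one] using ded3 r_3_1 e3_3_1 e3_2_3 e3_1_1 e3_1_3 e3_2_1
theorem e3_4_3 : u3_4 * s 3 = s 2 * u3_4 := by
  simpa only [one_mul, mul_one] using ded3 r_3_2 e3_4_2 e3_2_3 e3_1_2 e3_1_3 e3_2_2
theorem e3_5_1 : u3_5 * s 1 = 1 * u3_4 := by
  simpa only [one_mul, mul_one] using ded2 r_1_2 e3_5_2 e3_3_1 e3_2_2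
theorem e3_4_1 : u3_4 * s 1 = 1 * u3_5 := rev_edge (s_sq 1) e3_5_1
theorem e3_3_4 : u3_3 * s 4 = s 3 * u3_3 := by
  simpa only [one_mul, mul_one] using ded2 r_4_1 e3_3_1 e3_2_4 e3_2_1
theorem e3_4_4 : u3_4 * s 4 = s 3 * u3_4 := by
  simpa only [one_mul, mul_one] using ded2 r_4_2 e3_4_2 e3_2_4 e3_2_2
theorem e3_6_2 : u3_6 * s 2 = s 1 * u3_6 := by
  simpa only [one_mul, mul_one] using ded3 r_2_3 e3_6_3 e3_5_2 e3_3_3 e3_3_2 e3_5_3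
theorem e3_5_4 : u3_5 * s 4 = s 3 * u3_5 := by
  simpa only [one_mul, mul_one] using ded2 r_4_2 e3_5_2 e3_3_4 e3_3_2
theorem e3_6_1 : u3_6 * s 1 = s 2 * u3_6 := by
  simpa only [one_mul, mul_one] using ded3 r_1_3 e3_6_3 e3_5_1 e3_4_3 e3_4_1 e3_5_3
theorem e3_7_3 : u3_7 * s 3 = s 3 * u3_7 := by
  simpa only [one_mul, mul_one] using ded3 r_3_4 e3_7_4 e3_6_3 e3_5_4 e3_5_3 e3_6_4
theorem e3_7_1 : u3_7 * s 1 = s 2 * u3_7 := by
  simpa only [one_mul, mul_one] using ded2 r_1_4 e3_7_4 e3_6_1 e3_6_4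
theorem e3_7_2 : u3_7 * s 2 = s 1 * u3_7 := by
  simpa only [one_mul, mul_one] using ded2 r_2_4 e3_7_4 e3_6_2 e3_6_4
def P3 (u : W) : Prop := u ∈ Subgroup.closure (gens M J3) ∧ ∀ x ∈ gens M J3, ∃ h ∈ Subgroup.closure (gens M J4), ∃ u' ∈ reps3, u * x = h * u'
theorem mr3_0 : u3_0 ∈ reps3 := List.getElem_mem (l := reps3) (n := 0) (by decide)
theorem mr3_1 : u3_1 ∈ reps3 := List.getElem_mem (l := reps3) (n := 1) (by decide)
theorem mr3_2 : u3_2 ∈ reps3 := List.getElem_mem (l := reps3) (n := 2) (by decide)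
theorem mr3_3 : u3_3 ∈ reps3 := List.getElem_mem (l := reps3) (n := 3) (by decide)
theorem mr3_4 : u3_4 ∈ reps3 := List.getElem_mem (l := reps3) (n := 4) (by decide)
theorem mr3_5 : u3_5 ∈ reps3 := List.getElem_mem (l := reps3) (n := 5) (by decide)
theorem mr3_6 : u3_6 ∈ reps3 := List.getElem_mem (l := reps3) (n := 6) (by decide)
theorem mr3_7 : u3_7 ∈ reps3 := List.getElem_mem (l := reps3) (n := 7) (by decide)
theorem mm3_0 : u3_0 ∈ Subgroup.closure (gens M J3) := one_mem _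
theorem mm3_1 : u3_1 ∈ Subgroup.closure (gens M J3) := mul_mem mm3_0 (Subgroup.subset_closure ⟨4, by decide, rfl⟩)
theorem mm3_2 : u3_2 ∈ Subgroup.closure (gens M J3) := mul_mem mm3_1 (Subgroup.subset_closure ⟨3, by decide, rfl⟩)
theorem mm3_3 : u3_3 ∈ Subgroup.closure (gens M J3) := mul_mem mm3_2 (Subgroup.subset_closure ⟨1, by decide, rfl⟩)
theorem mm3_4 : u3_4 ∈ Subgroup.closure (gens M J3) := mul_mem mm3_2 (Subgroup.subset_closure ⟨2, by decide, rfl⟩)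
theorem mm3_5 : u3_5 ∈ Subgroup.closure (gens M J3) := mul_mem mm3_3 (Subgroup.subset_closure ⟨2, by decide, rfl⟩)
theorem mm3_6 : u3_6 ∈ Subgroup.closure (gens M J3) := mul_mem mm3_5 (Subgroup.subset_closure ⟨3, by decide, rfl⟩)
theorem mm3_7 : u3_7 ∈ Subgroup.closure (gens M J3) := mul_mem mm3_6 (Subgroup.subset_closure ⟨4, by decide, rfl⟩)
theorem c3_0 : P3 u3_0 := by
  refine ⟨mm3_0, ?_⟩
  rintro x ⟨j, hj, rfl⟩
  simp only [J3, List.mem_cons, List.not_mem_nil, or_false] at hj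
  rcases hj with rfl | rfl | rfl | rfl
  · exact ⟨s 1, Subgroup.subset_closure ⟨1, by decide, rfl⟩, u3_0, mr3_0, e3_0_1⟩
  · exact ⟨s 2, Subgroup.subset_closure ⟨2, by decide, rfl⟩, u3_0, mr3_0, e3_0_2⟩
  · exact ⟨s 3, Subgroup.subset_closure ⟨3, by decide, rfl⟩, u3_0, mr3_0, e3_0_3⟩
  · exact ⟨1, one_mem _, u3_1, mr3_1, e3_0_4⟩
theorem c3_1 : P3 u3_1 := by
  refine ⟨mm3_1, ?_⟩
  rintro x ⟨j, hj, rfl⟩
  simp only [J3, List.mem_cons, List.not_mem_nil, or_false] at hj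
  rcases hj with rfl | rfl | rfl | rfl
  · exact ⟨s 1, Subgroup.subset_closure ⟨1, by decide, rfl⟩, u3_1, mr3_1, e3_1_1⟩
  · exact ⟨s 2, Subgroup.subset_closure ⟨2, by decide, rfl⟩, u3_1, mr3_1, e3_1_2⟩
  · exact ⟨1, one_mem _, u3_2, mr3_2, e3_1_3⟩
  · exact ⟨1, one_mem _, u3_0, mr3_0, e3_1_4⟩
theorem c3_2 : P3 u3_2 := by
  refine ⟨mm3_2, ?_⟩
  rintro x ⟨j, hj, rfl⟩
  simp only [J3, List.mem_cons, List.not_mem_nil, or_false] at hj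
  rcases hj with rfl | rfl | rfl | rfl
  · exact ⟨1, one_mem _, u3_3, mr3_3, e3_2_1⟩
  · exact ⟨1, one_mem _, u3_4, mr3_4, e3_2_2⟩
  · exact ⟨1, one_mem _, u3_1, mr3_1, e3_2_3⟩
  · exact ⟨s 3, Subgroup.subset_closure ⟨3, by decide, rfl⟩, u3_2, mr3_2, e3_2_4⟩
theorem c3_3 : P3 u3_3 := by
  refine ⟨mm3_3, ?_⟩
  rintro x ⟨j, hj, rfl⟩
  simp only [J3, List.mem_cons, List.not_mem_nil, or_false] at hj
  rcases hj with rfl | rfl | rfl | rfl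
  · exact ⟨1, one_mem _, u3_2, mr3_2, e3_3_1⟩
  · exact ⟨1, one_mem _, u3_5, mr3_5, e3_3_2⟩
  · exact ⟨s 1, Subgroup.subset_closure ⟨1, by decide, rfl⟩, u3_3, mr3_3, e3_3_3⟩
  · exact ⟨s 3, Subgroup.subset_closure ⟨3, by decide, rfl⟩, u3_3, mr3_3, e3_3_4⟩
theorem c3_4 : P3 u3_4 := by
  refine ⟨mm3_4, ?_⟩
  rintro x ⟨j, hj, rfl⟩
  simp only [J3, List.mem_cons, List.not_mem_nil, or_false] at hj
  rcases hj with rfl | rfl | rfl | rfl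
  · exact ⟨1, one_mem _, u3_5, mr3_5, e3_4_1⟩
  · exact ⟨1, one_mem _, u3_2, mr3_2, e3_4_2⟩
  · exact ⟨s 2, Subgroup.subset_closure ⟨2, by decide, rfl⟩, u3_4, mr3_4, e3_4_3⟩
  · exact ⟨s 3, Subgroup.subset_closure ⟨3, by decide, rfl⟩, u3_4, mr3_4, e3_4_4⟩
theorem c3_5 : P3 u3_5 := by
  refine ⟨mm3_5, ?_⟩
  rintro x ⟨j, hj, rfl⟩
  simp only [J3, List.mem_cons, List.not_mem_nil, or_false] at hj
  rcases hj with rfl | rfl | rfl | rfl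
  · exact ⟨1, one_mem _, u3_4, mr3_4, e3_5_1⟩
  · exact ⟨1, one_mem _, u3_3, mr3_3, e3_5_2⟩
  · exact ⟨1, one_mem _, u3_6, mr3_6, e3_5_3⟩
  · exact ⟨s 3, Subgroup.subset_closure ⟨3, by decide, rfl⟩, u3_5, mr3_5, e3_5_4⟩
theorem c3_6 : P3 u3_6 := by
  refine ⟨mm3_6, ?_⟩
  rintro x ⟨j, hj, rfl⟩
  simp only [J3, List.mem_cons, List.not_mem_nil, or_false] at hj
  rcases hj with rfl | rfl | rfl | rfl
  · exact ⟨s 2, Subgroup.subset_closure ⟨2, by decide, rfl⟩, u3_6, mr3_6, e3_6_1⟩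
  · exact ⟨s 1, Subgroup.subset_closure ⟨1, by decide, rfl⟩, u3_6, mr3_6, e3_6_2⟩
  · exact ⟨1, one_mem _, u3_5, mr3_5, e3_6_3⟩
  · exact ⟨1, one_mem _, u3_7, mr3_7, e3_6_4⟩
theorem c3_7 : P3 u3_7 := by
  refine ⟨mm3_7, ?_⟩
  rintro x ⟨j, hj, rfl⟩
  simp only [J3, List.mem_cons, List.not_mem_nil, or_false] at hj
  rcases hj with rfl | rfl | rfl | rfl
  · exact ⟨s 2, Subgroup.subset_closure ⟨2, by decide, rfl⟩, u3_7, mr3_7, e3_7_1⟩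
  · exact ⟨s 1, Subgroup.subset_closure ⟨1, by decide, rfl⟩, u3_7, mr3_7, e3_7_2⟩
  · exact ⟨s 3, Subgroup.subset_closure ⟨3, by decide, rfl⟩, u3_7, mr3_7, e3_7_3⟩
  · exact ⟨1, one_mem _, u3_6, mr3_6, e3_7_4⟩
def preps3 : List {u : W // P3 u} := [⟨u3_0, c3_0⟩, ⟨u3_1, c3_1⟩, ⟨u3_2, c3_2⟩, ⟨u3_3, c3_3⟩, ⟨u3_4, c3_4⟩, ⟨u3_5, c3_5⟩, ⟨u3_6, c3_6⟩, ⟨u3_7, c3_7⟩]
theorem preps3_map : preps3.map Subtype.val = reps3 := rfl
theorem allP3 : ∀ u ∈ reps3, P3 u := by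
  intro u hu
  rw [← preps3_map, List.mem_map] at hu
  obtain ⟨x, _, rfl⟩ := hu
  exact x.2
def vecs3 : List (Fin 7 → ℤ) := [![0, 0, 0, 0, 1, 0, 0], ![0, 0, 0, 1, -1, 1, 0], ![0, 1, 1, -1, 0, 1, 0], ![0, -1, 1, 0, 0, 1, 0], ![1, 1, -1, 0, 0, 1, 0], ![1, -1, -1, 1, 0, 1, 0], ![1, 0, 0, -1, 1, 1, 0], ![1, 0, 0, 0, -1, 2, 0]]
theorem map3 : reps3.map fv3 = vecs3 := by
  simp only [reps3, List.map_cons, List.map_nil, v3_0, v3_1, v3_2, v3_3, v3_4, v3_5, v3_6, v3_7]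
  rfl
theorem nd3 : (reps3.map fv3).Nodup := by rw [map3]; decide +kernel
theorem fix3 : ∀ h ∈ gens M J4, ∀ w, fv3 (h * w) = fv3 w := by
  rintro h ⟨j, hj, rfl⟩ w
  simp only [J4, List.mem_cons, List.not_mem_nil, or_false] at hj
  rcases hj with rfl | rfl | rfl
  all_goals exact fvec_fix M A hA base3 _ (by decide +kernel) w
theorem sub3 : gens M J4 ⊆ gens M J3 := gens_mono M (by decide)
theorem card3 : Nat.card (Subgroup.closure (gens M J3)) = Nat.card (Subgroup.closure (gens M J4)) * 8 :=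
  level_card (gens M J3) (gens M J4) sub3 (gens_inv M J3) reps3 mr3_0 (fun u hu => (allP3 u hu).1) (fun u hu => (allP3 u hu).2) fv3 fix3 nd3
theorem ker3 : ∀ w ∈ Subgroup.closure (gens M J3), fv3 w = fv3 1 → w ∈ Subgroup.closure (gens M J4) :=
  level_ker (gens M J3) (gens M J4) (gens_inv M J3) reps3 mr3_0 (fun u hu => (allP3 u hu).2) fv3 fix3 nd3

-- level 4: index 6
def base4 : Fin 7 → ℤ := ![0, 0, 0, 1, 0, 0, 0]
def fv4 : W → (Fin 7 → ℤ) := fvec M A hA base4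
def u4_0 : W := 1
def u4_1 : W := u4_0 * s 3
def u4_2 : W := u4_1 * s 1
def u4_3 : W := u4_1 * s 2
def u4_4 : W := u4_2 * s 2
def u4_5 : W := u4_4 * s 3
def reps4 : List W := [u4_0, u4_1, u4_2, u4_3, u4_4, u4_5]
theorem v4_0 : fv4 u4_0 = ![0, 0, 0, 1, 0, 0, 0] := fvec_one M A hA base4
theorem v4_1 : fv4 u4_1 = ![0, 1, 1, -1, 1, 0, 0] := by
  show fvec M A hA base4 (u4_0 * M.simple 3) = _
  rw [fvec_mul_simple]; show reflVec A 3 (fv4 u4_0) = _; rw [v4_0]; decide +kernel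
theorem v4_2 : fv4 u4_2 = ![0, -1, 1, 0, 1, 0, 0] := by
  show fvec M A hA base4 (u4_1 * M.simple 1) = _
  rw [fvec_mul_simple]; show reflVec A 1 (fv4 u4_1) = _; rw [v4_1]; decide +kernel
theorem v4_3 : fv4 u4_3 = ![1, 1, -1, 0, 1, 0, 0] := by
  show fvec M A hA base4 (u4_1 * M.simple 2) = _
  rw [fvec_mul_simple]; show reflVec A 2 (fv4 u4_1) = _; rw [v4_1]; decide +kernel
theorem v4_4 : fv4 u4_4 = ![1, -1, -1, 1, 1, 0, 0] := by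
  show fvec M A hA base4 (u4_2 * M.simple 2) = _
  rw [fvec_mul_simple]; show reflVec A 2 (fv4 u4_2) = _; rw [v4_2]; decide +kernel
theorem v4_5 : fv4 u4_5 = ![1, 0, 0, -1, 2, 0, 0] := by
  show fvec M A hA base4 (u4_4 * M.simple 3) = _
  rw [fvec_mul_simple]; show reflVec A 3 (fv4 u4_4) = _; rw [v4_4]; decide +kernel
theorem e4_0_3 : u4_0 * s 3 = 1 * u4_1 := (one_mul (u4_0 * s 3)).symm
theorem e4_1_3 : u4_1 * s 3 = 1 * u4_0 := tree_up (s_sq 3)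
theorem e4_1_1 : u4_1 * s 1 = 1 * u4_2 := (one_mul (u4_1 * s 1)).symm
theorem e4_2_1 : u4_2 * s 1 = 1 * u4_1 := tree_up (s_sq 1)
theorem e4_1_2 : u4_1 * s 2 = 1 * u4_3 := (one_mul (u4_1 * s 2)).symm
theorem e4_3_2 : u4_3 * s 2 = 1 * u4_1 := tree_up (s_sq 2)
theorem e4_2_2 : u4_2 * s 2 = 1 * u4_4 := (one_mul (u4_2 * s 2)).symm
theorem e4_4_2 : u4_4 * s 2 = 1 * u4_2 := tree_up (s_sq 2)
theorem e4_4_3 : u4_4 * s 3 = 1 * u4_5 := (one_mul (u4_4 * s 3)).symm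
theorem e4_5_3 : u4_5 * s 3 = 1 * u4_4 := tree_up (s_sq 3)
theorem e4_0_1 : u4_0 * s 1 = s 1 * u4_0 := (one_mul (s 1)).trans (mul_one (s 1)).symm
theorem e4_0_2 : u4_0 * s 2 = s 2 * u4_0 := (one_mul (s 2)).trans (mul_one (s 2)).symm
theorem e4_2_3 : u4_2 * s 3 = s 1 * u4_2 := by
  simpa only [one_mul, mul_one] using ded3 r_3_1 e4_2_1 e4_1_3 e4_0_1 e4_0_3 e4_1_1
theorem e4_3_3 : u4_3 * s 3 = s 2 * u4_3 := by
  simpa only [one_mul, mul_one] using ded3 r_3_2 e4_3_2 e4_1_3 e4_0_2 e4_0_3 e4_1_2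
theorem e4_4_1 : u4_4 * s 1 = 1 * u4_3 := by
  simpa only [one_mul, mul_one] using ded2 r_1_2 e4_4_2 e4_2_1 e4_1_2
theorem e4_3_1 : u4_3 * s 1 = 1 * u4_4 := rev_edge (s_sq 1) e4_4_1
theorem e4_5_2 : u4_5 * s 2 = s 1 * u4_5 := by
  simpa only [one_mul, mul_one] using ded3 r_2_3 e4_5_3 e4_4_2 e4_2_3 e4_2_2 e4_4_3
theorem e4_5_1 : u4_5 * s 1 = s 2 * u4_5 := by
  simpa only [one_mul, mul_one] using ded3 r_1_3 e4_5_3 e4_4_1 e4_3_3 e4_3_1 e4_4_3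
def P4 (u : W) : Prop := u ∈ Subgroup.closure (gens M J4) ∧ ∀ x ∈ gens M J4, ∃ h ∈ Subgroup.closure (gens M J5), ∃ u' ∈ reps4, u * x = h * u'
theorem mr4_0 : u4_0 ∈ reps4 := List.getElem_mem (l := reps4) (n := 0) (by decide)
theorem mr4_1 : u4_1 ∈ reps4 := List.getElem_mem (l := reps4) (n := 1) (by decide)
theorem mr4_2 : u4_2 ∈ reps4 := List.getElem_mem (l := reps4) (n := 2) (by decide)
theorem mr4_3 : u4_3 ∈ reps4 := List.getElem_mem (l := reps4) (n := 3) (by decide)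
theorem mr4_4 : u4_4 ∈ reps4 := List.getElem_mem (l := reps4) (n := 4) (by decide)
theorem mr4_5 : u4_5 ∈ reps4 := List.getElem_mem (l := reps4) (n := 5) (by decide)
theorem mm4_0 : u4_0 ∈ Subgroup.closure (gens M J4) := one_mem _
theorem mm4_1 : u4_1 ∈ Subgroup.closure (gens M J4) := mul_mem mm4_0 (Subgroup.subset_closure ⟨3, by decide, rfl⟩)
theorem mm4_2 : u4_2 ∈ Subgroup.closure (gens M J4) := mul_mem mm4_1 (Subgroup.subset_closure ⟨1, by decide, rfl⟩)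
theorem mm4_3 : u4_3 ∈ Subgroup.closure (gens M J4) := mul_mem mm4_1 (Subgroup.subset_closure ⟨2, by decide, rfl⟩)
theorem mm4_4 : u4_4 ∈ Subgroup.closure (gens M J4) := mul_mem mm4_2 (Subgroup.subset_closure ⟨2, by decide, rfl⟩)
theorem mm4_5 : u4_5 ∈ Subgroup.closure (gens M J4) := mul_mem mm4_4 (Subgroup.subset_closure ⟨3, by decide, rfl⟩)
theorem c4_0 : P4 u4_0 := by
  refine ⟨mm4_0, ?_⟩
  rintro x ⟨j, hj, rfl⟩
  simp only [J4, List.mem_cons, List.not_mem_nil, or_false] at hj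
  rcases hj with rfl | rfl | rfl
  · exact ⟨s 1, Subgroup.subset_closure ⟨1, by decide, rfl⟩, u4_0, mr4_0, e4_0_1⟩
  · exact ⟨s 2, Subgroup.subset_closure ⟨2, by decide, rfl⟩, u4_0, mr4_0, e4_0_2⟩
  · exact ⟨1, one_mem _, u4_1, mr4_1, e4_0_3⟩
theorem c4_1 : P4 u4_1 := by
  refine ⟨mm4_1, ?_⟩
  rintro x ⟨j, hj, rfl⟩
  simp only [J4, List.mem_cons, List.not_mem_nil, or_false] at hj
  rcases hj with rfl | rfl | rfl
  · exact ⟨1, one_mem _, u4_2, mr4_2, e4_1_1⟩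
  · exact ⟨1, one_mem _, u4_3, mr4_3, e4_1_2⟩
  · exact ⟨1, one_mem _, u4_0, mr4_0, e4_1_3⟩
theorem c4_2 : P4 u4_2 := by
  refine ⟨mm4_2, ?_⟩
  rintro x ⟨j, hj, rfl⟩
  simp only [J4, List.mem_cons, List.not_mem_nil, or_false] at hj
  rcases hj with rfl | rfl | rfl
  · exact ⟨1, one_mem _, u4_1, mr4_1, e4_2_1⟩
  · exact ⟨1, one_mem _, u4_4, mr4_4, e4_2_2⟩
  · exact ⟨s 1, Subgroup.subset_closure ⟨1, by decide, rfl⟩, u4_2, mr4_2, e4_2_3⟩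
theorem c4_3 : P4 u4_3 := by
  refine ⟨mm4_3, ?_⟩
  rintro x ⟨j, hj, rfl⟩
  simp only [J4, List.mem_cons, List.not_mem_nil, or_false] at hj
  rcases hj with rfl | rfl | rfl
  · exact ⟨1, one_mem _, u4_4, mr4_4, e4_3_1⟩
  · exact ⟨1, one_mem _, u4_1, mr4_1, e4_3_2⟩
  · exact ⟨s 2, Subgroup.subset_closure ⟨2, by decide, rfl⟩, u4_3, mr4_3, e4_3_3⟩
theorem c4_4 : P4 u4_4 := by
  refine ⟨mm4_4, ?_⟩
  rintro x ⟨j, hj, rfl⟩
  simp only [J4, List.mem_cons, List.not_mem_nil, or_false] at hj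
  rcases hj with rfl | rfl | rfl
  · exact ⟨1, one_mem _, u4_3, mr4_3, e4_4_1⟩
  · exact ⟨1, one_mem _, u4_2, mr4_2, e4_4_2⟩
  · exact ⟨1, one_mem _, u4_5, mr4_5, e4_4_3⟩
theorem c4_5 : P4 u4_5 := by
  refine ⟨mm4_5, ?_⟩
  rintro x ⟨j, hj, rfl⟩
  simp only [J4, List.mem_cons, List.not_mem_nil, or_false] at hj
  rcases hj with rfl | rfl | rfl
  · exact ⟨s 2, Subgroup.subset_closure ⟨2, by decide, rfl⟩, u4_5, mr4_5, e4_5_1⟩
  · exact ⟨s 1, Subgroup.subset_closure ⟨1, by decide, rfl⟩, u4_5, mr4_5, e4_5_2⟩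
  · exact ⟨1, one_mem _, u4_4, mr4_4, e4_5_3⟩
def preps4 : List {u : W // P4 u} := [⟨u4_0, c4_0⟩, ⟨u4_1, c4_1⟩, ⟨u4_2, c4_2⟩, ⟨u4_3, c4_3⟩, ⟨u4_4, c4_4⟩, ⟨u4_5, c4_5⟩]
theorem preps4_map : preps4.map Subtype.val = reps4 := rfl
theorem allP4 : ∀ u ∈ reps4, P4 u := by
  intro u hu
  rw [← preps4_map, List.mem_map] at hu
  obtain ⟨x, _, rfl⟩ := hu
  exact x.2
def vecs4 : List (Fin 7 → ℤ) := [![0, 0, 0, 1, 0, 0, 0], ![0, 1, 1, -1, 1, 0, 0], ![0, -1, 1, 0, 1, 0, 0], ![1, 1, -1, 0, 1, 0, 0], ![1, -1, -1, 1, 1, 0, 0], ![1, 0, 0, -1, 2, 0, 0]]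
theorem map4 : reps4.map fv4 = vecs4 := by
  simp only [reps4, List.map_cons, List.map_nil, v4_0, v4_1, v4_2, v4_3, v4_4, v4_5]
  rfl
theorem nd4 : (reps4.map fv4).Nodup := by rw [map4]; decide +kernel
theorem fix4 : ∀ h ∈ gens M J5, ∀ w, fv4 (h * w) = fv4 w := by
  rintro h ⟨j, hj, rfl⟩ w
  simp only [J5, List.mem_cons, List.not_mem_nil, or_false] at hj
  rcases hj with rfl | rfl
  all_goals exact fvec_fix M A hA base4 _ (by decide +kernel) w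
theorem sub4 : gens M J5 ⊆ gens M J4 := gens_mono M (by decide)
theorem card4 : Nat.card (Subgroup.closure (gens M J4)) = Nat.card (Subgroup.closure (gens M J5)) * 6 :=
  level_card (gens M J4) (gens M J5) sub4 (gens_inv M J4) reps4 mr4_0 (fun u hu => (allP4 u hu).1) (fun u hu => (allP4 u hu).2) fv4 fix4 nd4
theorem ker4 : ∀ w ∈ Subgroup.closure (gens M J4), fv4 w = fv4 1 → w ∈ Subgroup.closure (gens M J5) :=
  level_ker (gens M J4) (gens M J5) (gens_inv M J4) reps4 mr4_0 (fun u hu => (allP4 u hu).2) fv4 fix4 nd4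

-- level 5: index 2
def base5 : Fin 7 → ℤ := ![0, 0, 1, 0, 0, 0, 0]
def fv5 : W → (Fin 7 → ℤ) := fvec M A hA base5
def u5_0 : W := 1
def u5_1 : W := u5_0 * s 2
def reps5 : List W := [u5_0, u5_1]
theorem v5_0 : fv5 u5_0 = ![0, 0, 1, 0, 0, 0, 0] := fvec_one M A hA base5
theorem v5_1 : fv5 u5_1 = ![1, 0, -1, 1, 0, 0, 0] := by
  show fvec M A hA base5 (u5_0 * M.simple 2) = _
  rw [fvec_mul_simple]; show reflVec A 2 (fv5 u5_0) = _; rw [v5_0]; decide +kernel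
theorem e5_0_2 : u5_0 * s 2 = 1 * u5_1 := (one_mul (u5_0 * s 2)).symm
theorem e5_1_2 : u5_1 * s 2 = 1 * u5_0 := tree_up (s_sq 2)
theorem e5_0_1 : u5_0 * s 1 = s 1 * u5_0 := (one_mul (s 1)).trans (mul_one (s 1)).symm
theorem e5_1_1 : u5_1 * s 1 = s 1 * u5_1 := by
  simpa only [one_mul, mul_one] using ded2 r_1_2 e5_1_2 e5_0_1 e5_0_2
def P5 (u : W) : Prop := u ∈ Subgroup.closure (gens M J5) ∧ ∀ x ∈ gens M J5, ∃ h ∈ Subgroup.closure (gens M J6), ∃ u' ∈ reps5, u * x = h * u'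
theorem mr5_0 : u5_0 ∈ reps5 := List.getElem_mem (l := reps5) (n := 0) (by decide)
theorem mr5_1 : u5_1 ∈ reps5 := List.getElem_mem (l := reps5) (n := 1) (by decide)
theorem mm5_0 : u5_0 ∈ Subgroup.closure (gens M J5) := one_mem _
theorem mm5_1 : u5_1 ∈ Subgroup.closure (gens M J5) := mul_mem mm5_0 (Subgroup.subset_closure ⟨2, by decide, rfl⟩)
theorem c5_0 : P5 u5_0 := by
  refine ⟨mm5_0, ?_⟩
  rintro x ⟨j, hj, rfl⟩
  simp only [J5, List.mem_cons, List.not_mem_nil, or_false] at hj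
  rcases hj with rfl | rfl
  · exact ⟨s 1, Subgroup.subset_closure ⟨1, by decide, rfl⟩, u5_0, mr5_0, e5_0_1⟩
  · exact ⟨1, one_mem _, u5_1, mr5_1, e5_0_2⟩
theorem c5_1 : P5 u5_1 := by
  refine ⟨mm5_1, ?_⟩
  rintro x ⟨j, hj, rfl⟩
  simp only [J5, List.mem_cons, List.not_mem_nil, or_false] at hj
  rcases hj with rfl | rfl
  · exact ⟨s 1, Subgroup.subset_closure ⟨1, by decide, rfl⟩, u5_1, mr5_1, e5_1_1⟩
  · exact ⟨1, one_mem _, u5_0, mr5_0, e5_1_2⟩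
def preps5 : List {u : W // P5 u} := [⟨u5_0, c5_0⟩, ⟨u5_1, c5_1⟩]
theorem preps5_map : preps5.map Subtype.val = reps5 := rfl
theorem allP5 : ∀ u ∈ reps5, P5 u := by
  intro u hu
  rw [← preps5_map, List.mem_map] at hu
  obtain ⟨x, _, rfl⟩ := hu
  exact x.2
def vecs5 : List (Fin 7 → ℤ) := [![0, 0, 1, 0, 0, 0, 0], ![1, 0, -1, 1, 0, 0, 0]]
theorem map5 : reps5.map fv5 = vecs5 := by
  simp only [reps5, List.map_cons, List.map_nil, v5_0, v5_1]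
  rfl
theorem nd5 : (reps5.map fv5).Nodup := by rw [map5]; decide +kernel
theorem fix5 : ∀ h ∈ gens M J6, ∀ w, fv5 (h * w) = fv5 w := by
  rintro h ⟨j, hj, rfl⟩ w
  simp only [J6, List.mem_cons, List.not_mem_nil, or_false] at hj
  subst hj
  all_goals exact fvec_fix M A hA base5 _ (by decide +kernel) w
theorem sub5 : gens M J6 ⊆ gens M J5 := gens_mono M (by decide)
theorem card5 : Nat.card (Subgroup.closure (gens M J5)) = Nat.card (Subgroup.closure (gens M J6)) * 2 :=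
  level_card (gens M J5) (gens M J6) sub5 (gens_inv M J5) reps5 mr5_0 (fun u hu => (allP5 u hu).1) (fun u hu => (allP5 u hu).2) fv5 fix5 nd5
theorem ker5 : ∀ w ∈ Subgroup.closure (gens M J5), fv5 w = fv5 1 → w ∈ Subgroup.closure (gens M J6) :=
  level_ker (gens M J5) (gens M J6) (gens_inv M J5) reps5 mr5_0 (fun u hu => (allP5 u hu).2) fv5 fix5 nd5

-- level 6: index 2
def base6 : Fin 7 → ℤ := ![0, 1, 0, 0, 0, 0, 0]
def fv6 : W → (Fin 7 → ℤ) := fvec M A hA base6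
def u6_0 : W := 1
def u6_1 : W := u6_0 * s 1
def reps6 : List W := [u6_0, u6_1]
theorem v6_0 : fv6 u6_0 = ![0, 1, 0, 0, 0, 0, 0] := fvec_one M A hA base6
theorem v6_1 : fv6 u6_1 = ![0, -1, 0, 1, 0, 0, 0] := by
  show fvec M A hA base6 (u6_0 * M.simple 1) = _
  rw [fvec_mul_simple]; show reflVec A 1 (fv6 u6_0) = _; rw [v6_0]; decide +kernel
theorem e6_0_1 : u6_0 * s 1 = 1 * u6_1 := (one_mul (u6_0 * s 1)).symm
theorem e6_1_1 : u6_1 * s 1 = 1 * u6_0 := tree_up (s_sq 1)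
def P6 (u : W) : Prop := u ∈ Subgroup.closure (gens M J6) ∧ ∀ x ∈ gens M J6, ∃ h ∈ Subgroup.closure (gens M J7), ∃ u' ∈ reps6, u * x = h * u'
theorem mr6_0 : u6_0 ∈ reps6 := List.getElem_mem (l := reps6) (n := 0) (by decide)
theorem mr6_1 : u6_1 ∈ reps6 := List.getElem_mem (l := reps6) (n := 1) (by decide)
theorem mm6_0 : u6_0 ∈ Subgroup.closure (gens M J6) := one_mem _
theorem mm6_1 : u6_1 ∈ Subgroup.closure (gens M J6) := mul_mem mm6_0 (Subgroup.subset_closure ⟨1, by decide, rfl⟩)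
theorem c6_0 : P6 u6_0 := by
  refine ⟨mm6_0, ?_⟩
  rintro x ⟨j, hj, rfl⟩
  simp only [J6, List.mem_cons, List.not_mem_nil, or_false] at hj
  subst hj
  · exact ⟨1, one_mem _, u6_1, mr6_1, e6_0_1⟩
theorem c6_1 : P6 u6_1 := by
  refine ⟨mm6_1, ?_⟩
  rintro x ⟨j, hj, rfl⟩
  simp only [J6, List.mem_cons, List.not_mem_nil, or_false] at hj
  subst hj
  · exact ⟨1, one_mem _, u6_0, mr6_0, e6_1_1⟩
def preps6 : List {u : W // P6 u} := [⟨u6_0, c6_0⟩, ⟨u6_1, c6_1⟩]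
theorem preps6_map : preps6.map Subtype.val = reps6 := rfl
theorem allP6 : ∀ u ∈ reps6, P6 u := by
  intro u hu
  rw [← preps6_map, List.mem_map] at hu
  obtain ⟨x, _, rfl⟩ := hu
  exact x.2
def vecs6 : List (Fin 7 → ℤ) := [![0, 1, 0, 0, 0, 0, 0], ![0, -1, 0, 1, 0, 0, 0]]
theorem map6 : reps6.map fv6 = vecs6 := by
  simp only [reps6, List.map_cons, List.map_nil, v6_0, v6_1]
  rfl
theorem nd6 : (reps6.map fv6).Nodup := by rw [map6]; decide +kernel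
theorem fix6 : ∀ h ∈ gens M J7, ∀ w, fv6 (h * w) = fv6 w := by
  rintro h ⟨j, hj, rfl⟩ w
  simp [J7] at hj
theorem sub6 : gens M J7 ⊆ gens M J6 := gens_mono M (by decide)
theorem card6 : Nat.card (Subgroup.closure (gens M J6)) = Nat.card (Subgroup.closure (gens M J7)) * 2 :=
  level_card (gens M J6) (gens M J7) sub6 (gens_inv M J6) reps6 mr6_0 (fun u hu => (allP6 u hu).1) (fun u hu => (allP6 u hu).2) fv6 fix6 nd6
theorem ker6 : ∀ w ∈ Subgroup.closure (gens M J6), fv6 w = fv6 1 → w ∈ Subgroup.closure (gens M J7) :=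
  level_ker (gens M J6) (gens M J7) (gens_inv M J6) reps6 mr6_0 (fun u hu => (allP6 u hu).2) fv6 fix6 nd6

theorem card_eq : Nat.card W = 2903040 := by
  have htop : Subgroup.closure (gens M J0) = ⊤ := closure_gens_all M J0 (by decide)
  have hbot : Nat.card (Subgroup.closure (gens M J7)) = 1 := by
    show Nat.card (Subgroup.closure (gens M ([] : List (Fin 7)))) = 1
    rw [closure_gens_nil]; exact Subgroup.card_bot
  rw [← Subgroup.card_top (G := W), ← htop, card0, card1, card2, card3, card4, card5, card6, hbot]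
theorem rho_ker (w : W) (h : rho M A hA w = 1) : w = 1 := by
  have h0 : w ∈ Subgroup.closure (gens M J0) := by rw [closure_gens_all M J0 (by decide)]; trivial
  have h1 := ker0 w h0 (fvec_of_rho_eq_one M A hA base0 w h)
  have h2 := ker1 w h1 (fvec_of_rho_eq_one M A hA base1 w h)
  have h3 := ker2 w h2 (fvec_of_rho_eq_one M A hA base2 w h)
  have h4 := ker3 w h3 (fvec_of_rho_eq_one M A hA base3 w h)
  have h5 := ker4 w h4 (fvec_of_rho_eq_one M A hA base4 w h)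
  have h6 := ker5 w h5 (fvec_of_rho_eq_one M A hA base5 w h)
  have h7 := ker6 w h6 (fvec_of_rho_eq_one M A hA base6 w h)
  have hb : Subgroup.closure (gens M J7) = ⊥ := closure_gens_nil M
  rw [hb] at h7
  exact Subgroup.mem_bot.mp h7

def cox : W := ((List.finRange 7).map M.simple).prod
def Cm0 : Matrix (Fin 7) (Fin 7) ℤ := 1
def Cm1 : Matrix (Fin 7) (Fin 7) ℤ := !![-1, 0, 0, 0, 0, 0, 0; 0, 1, 0, 0, 0, 0, 0; 1, 0, 1, 0, 0, 0, 0; 0, 0, 0, 1, 0, 0, 0; 0, 0, 0, 0, 1, 0, 0; 0, 0, 0, 0, 0, 1, 0; 0, 0, 0, 0, 0, 0, 1]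
theorem hCm1 : Cm0 * reflMat A 0 = Cm1 := by decide +kernel
def Cm2 : Matrix (Fin 7) (Fin 7) ℤ := !![-1, 0, 0, 0, 0, 0, 0; 0, -1, 0, 0, 0, 0, 0; 1, 0, 1, 0, 0, 0, 0; 0, 1, 0, 1, 0, 0, 0; 0, 0, 0, 0, 1, 0, 0; 0, 0, 0, 0, 0, 1, 0; 0, 0, 0, 0, 0, 0, 1]
theorem hCm2 : Cm1 * reflMat A 1 = Cm2 := by decide +kernel
def Cm3 : Matrix (Fin 7) (Fin 7) ℤ := !![-1, 0, -1, 0, 0, 0, 0; 0, -1, 0, 0, 0, 0, 0; 1, 0, 0, 0, 0, 0, 0; 0, 1, 1, 1, 0, 0, 0; 0, 0, 0, 0, 1, 0, 0; 0, 0, 0, 0, 0, 1, 0; 0, 0, 0, 0, 0, 0, 1]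
theorem hCm3 : Cm2 * reflMat A 2 = Cm3 := by decide +kernel
def Cm4 : Matrix (Fin 7) (Fin 7) ℤ := !![-1, 0, -1, -1, 0, 0, 0; 0, -1, 0, -1, 0, 0, 0; 1, 0, 0, 0, 0, 0, 0; 0, 1, 1, 1, 0, 0, 0; 0, 0, 0, 1, 1, 0, 0; 0, 0, 0, 0, 0, 1, 0; 0, 0, 0, 0, 0, 0, 1]
theorem hCm4 : Cm3 * reflMat A 3 = Cm4 := by decide +kernel
def Cm5 : Matrix (Fin 7) (Fin 7) ℤ := !![-1, 0, -1, -1, -1, 0, 0; 0, -1, 0, -1, -1, 0, 0; 1, 0, 0, 0, 0, 0, 0; 0, 1, 1, 1, 1, 0, 0; 0, 0, 0, 1, 0, 0, 0; 0, 0, 0, 0, 1, 1, 0; 0, 0, 0, 0, 0, 0, 1]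
theorem hCm5 : Cm4 * reflMat A 4 = Cm5 := by decide +kernel
def Cm6 : Matrix (Fin 7) (Fin 7) ℤ := !![-1, 0, -1, -1, -1, -1, 0; 0, -1, 0, -1, -1, -1, 0; 1, 0, 0, 0, 0, 0, 0; 0, 1, 1, 1, 1, 1, 0; 0, 0, 0, 1, 0, 0, 0; 0, 0, 0, 0, 1, 0, 0; 0, 0, 0, 0, 0, 1, 1]
theorem hCm6 : Cm5 * reflMat A 5 = Cm6 := by decide +kernel
def Cm7 : Matrix (Fin 7) (Fin 7) ℤ := !![-1, 0, -1, -1, -1, -1, -1; 0, -1, 0, -1, -1, -1, -1; 1, 0, 0, 0, 0, 0, 0; 0, 1, 1, 1, 1, 1, 1; 0, 0, 0, 1, 0, 0, 0; 0, 0, 0, 0, 1, 0, 0; 0, 0, 0, 0, 0, 1, 0]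
theorem hCm7 : Cm6 * reflMat A 6 = Cm7 := by decide +kernel
theorem rho_cox : rho M A hA cox = Cm7 := by
  have : cox = M.simple 0 * M.simple 1 * M.simple 2 * M.simple 3 * M.simple 4 * M.simple 5 * M.simple 6 := by
    simp [cox, List.finRange_succ, mul_assoc]
  rw [this]
  simp only [map_mul, rho_simple]
  rw [← one_mul (reflMat A 0), ← Cm0, hCm1, hCm2, hCm3, hCm4, hCm5, hCm6, hCm7]
def Pw1 : Matrix (Fin 7) (Fin 7) ℤ := Cm7
def Pw2 : Matrix (Fin 7) (Fin 7) ℤ := !![0, -1, 0, -1, -1, -1, 0; 0, 0, -1, -1, -1, -1, 0; -1, 0, -1, -1, -1, -1, -1; 1, 0, 1, 1, 1, 1, 0; 0, 1, 1, 1, 1, 1, 1; 0, 0, 0, 1, 0, 0, 0; 0, 0, 0, 0, 1, 0, 0]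
theorem hPw2 : Pw1 * Cm7 = Pw2 := by decide +kernel
def Pw3 : Matrix (Fin 7) (Fin 7) ℤ := !![0, 0, -1, -1, -1, 0, 0; -1, -1, -1, -2, -2, -1, -1; 0, -1, 0, -1, -1, -1, 0; 0, 1, 0, 1, 1, 0, 0; 1, 0, 1, 1, 1, 1, 0; 0, 1, 1, 1, 1, 1, 1; 0, 0, 0, 1, 0, 0, 0]
theorem hPw3 : Pw2 * Cm7 = Pw3 := by decide +kernel
def Pw4 : Matrix (Fin 7) (Fin 7) ℤ := !![-1, -1, -1, -2, -1, -1, -1; 0, -1, -1, -2, -1, -1, 0; 0, 0, -1, -1, -1, 0, 0; 0, 0, 1, 1, 0, 0, 0; 0, 1, 0, 1, 1, 0, 0; 1, 0, 1, 1, 1, 1, 0; 0, 1, 1, 1, 1, 1, 1]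
theorem hPw4 : Pw3 * Cm7 = Pw4 := by decide +kernel
def Pw5 : Matrix (Fin 7) (Fin 7) ℤ := !![0, -1, -1, -1, -1, -1, 0; -1, -1, -2, -2, -2, -1, -1; -1, -1, -1, -2, -1, -1, -1; 1, 1, 1, 1, 1, 1, 1; 0, 0, 1, 1, 0, 0, 0; 0, 1, 0, 1, 1, 0, 0; 1, 0, 1, 1, 1, 1, 0]
theorem hPw5 : Pw4 * Cm7 = Pw5 := by decide +kernel
def Pw6 : Matrix (Fin 7) (Fin 7) ℤ := !![-1, 0, -1, -1, -1, 0, 0; -1, -1, -1, -2, -1, -1, 0; 0, -1, -1, -1, -1, -1, 0; 0, 0, 0, 0, 0, 0, -1; 1, 1, 1, 1, 1, 1, 1; 0, 0, 1, 1, 0, 0, 0; 0, 1, 0, 1, 1, 0, 0]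
theorem hPw6 : Pw5 * Cm7 = Pw6 := by decide +kernel
def Pw7 : Matrix (Fin 7) (Fin 7) ℤ := !![0, -1, 0, -1, 0, 0, 0; 0, -1, -1, -1, -1, 0, 0; -1, 0, -1, -1, -1, 0, 0; 0, 0, 0, 0, 0, -1, 0; 0, 0, 0, 0, 0, 0, -1; 1, 1, 1, 1, 1, 1, 1; 0, 0, 1, 1, 0, 0, 0]
theorem hPw7 : Pw6 * Cm7 = Pw7 := by decide +kernel
def Pw8 : Matrix (Fin 7) (Fin 7) ℤ := !![0, 0, -1, 0, 0, 0, 0; -1, 0, -1, -1, 0, 0, 0; 0, -1, 0, -1, 0, 0, 0; 0, 0, 0, 0, -1, 0, 0; 0, 0, 0, 0, 0, -1, 0; 0, 0, 0, 0, 0, 0, -1; 1, 1, 1, 1, 1, 1, 1]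
theorem hPw8 : Pw7 * Cm7 = Pw8 := by decide +kernel
def Pw9 : Matrix (Fin 7) (Fin 7) ℤ := !![-1, 0, 0, 0, 0, 0, 0; 0, -1, 0, 0, 0, 0, 0; 0, 0, -1, 0, 0, 0, 0; 0, 0, 0, -1, 0, 0, 0; 0, 0, 0, 0, -1, 0, 0; 0, 0, 0, 0, 0, -1, 0; 0, 0, 0, 0, 0, 0, -1]
theorem hPw9 : Pw8 * Cm7 = Pw9 := by decide +kernel
def Pw10 : Matrix (Fin 7) (Fin 7) ℤ := !![1, 0, 1, 1, 1, 1, 1; 0, 1, 0, 1, 1, 1, 1; -1, 0, 0, 0, 0, 0, 0; 0, -1, -1, -1, -1, -1, -1; 0, 0, 0, -1, 0, 0, 0; 0, 0, 0, 0, -1, 0, 0; 0, 0, 0, 0, 0, -1, 0]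
theorem hPw10 : Pw9 * Cm7 = Pw10 := by decide +kernel
def Pw11 : Matrix (Fin 7) (Fin 7) ℤ := !![0, 1, 0, 1, 1, 1, 0; 0, 0, 1, 1, 1, 1, 0; 1, 0, 1, 1, 1, 1, 1; -1, 0, -1, -1, -1, -1, 0; 0, -1, -1, -1, -1, -1, -1; 0, 0, 0, -1, 0, 0, 0; 0, 0, 0, 0, -1, 0, 0]
theorem hPw11 : Pw10 * Cm7 = Pw11 := by decide +kernel
def Pw12 : Matrix (Fin 7) (Fin 7) ℤ := !![0, 0, 1, 1, 1, 0, 0; 1, 1, 1, 2, 2, 1, 1; 0, 1, 0, 1, 1, 1, 0; 0, -1, 0, -1, -1, 0, 0; -1, 0, -1, -1, -1, -1, 0; 0, -1, -1, -1, -1, -1, -1; 0, 0, 0, -1, 0, 0, 0]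
theorem hPw12 : Pw11 * Cm7 = Pw12 := by decide +kernel
def Pw13 : Matrix (Fin 7) (Fin 7) ℤ := !![1, 1, 1, 2, 1, 1, 1; 0, 1, 1, 2, 1, 1, 0; 0, 0, 1, 1, 1, 0, 0; 0, 0, -1, -1, 0, 0, 0; 0, -1, 0, -1, -1, 0, 0; -1, 0, -1, -1, -1, -1, 0; 0, -1, -1, -1, -1, -1, -1]
theorem hPw13 : Pw12 * Cm7 = Pw13 := by decide +kernel
def Pw14 : Matrix (Fin 7) (Fin 7) ℤ := !![0, 1, 1, 1, 1, 1, 0; 1, 1, 2, 2, 2, 1, 1; 1, 1, 1, 2, 1, 1, 1; -1, -1, -1, -1, -1, -1, -1; 0, 0, -1, -1, 0, 0, 0; 0, -1, 0, -1, -1, 0, 0; -1, 0, -1, -1, -1, -1, 0]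
theorem hPw14 : Pw13 * Cm7 = Pw14 := by decide +kernel
def Pw15 : Matrix (Fin 7) (Fin 7) ℤ := !![1, 0, 1, 1, 1, 0, 0; 1, 1, 1, 2, 1, 1, 0; 0, 1, 1, 1, 1, 1, 0; 0, 0, 0, 0, 0, 0, 1; -1, -1, -1, -1, -1, -1, -1; 0, 0, -1, -1, 0, 0, 0; 0, -1, 0, -1, -1, 0, 0]
theorem hPw15 : Pw14 * Cm7 = Pw15 := by decide +kernel
def Pw16 : Matrix (Fin 7) (Fin 7) ℤ := !![0, 1, 0, 1, 0, 0, 0; 0, 1, 1, 1, 1, 0, 0; 1, 0, 1, 1, 1, 0, 0; 0, 0, 0, 0, 0, 1, 0; 0, 0, 0, 0, 0, 0, 1; -1, -1, -1, -1, -1, -1, -1; 0, 0, -1, -1, 0, 0, 0]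
theorem hPw16 : Pw15 * Cm7 = Pw16 := by decide +kernel
def Pw17 : Matrix (Fin 7) (Fin 7) ℤ := !![0, 0, 1, 0, 0, 0, 0; 1, 0, 1, 1, 0, 0, 0; 0, 1, 0, 1, 0, 0, 0; 0, 0, 0, 0, 1, 0, 0; 0, 0, 0, 0, 0, 1, 0; 0, 0, 0, 0, 0, 0, 1; -1, -1, -1, -1, -1, -1, -1]
theorem hPw17 : Pw16 * Cm7 = Pw17 := by decide +kernel
def Pw18 : Matrix (Fin 7) (Fin 7) ℤ := !![1, 0, 0, 0, 0, 0, 0; 0, 1, 0, 0, 0, 0, 0; 0, 0, 1, 0, 0, 0, 0; 0, 0, 0, 1, 0, 0, 0; 0, 0, 0, 0, 1, 0, 0; 0, 0, 0, 0, 0, 1, 0; 0, 0, 0, 0, 0, 0, 1]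
theorem hPw18 : Pw17 * Cm7 = Pw18 := by decide +kernel
theorem rho_cox_pow1 : rho M A hA (cox ^ 1) = Pw1 := by rw [pow_one, rho_cox]; rfl
theorem rho_cox_pow2 : rho M A hA (cox ^ 2) = Pw2 := by rw [pow_succ, map_mul, rho_cox_pow1, rho_cox, hPw2]
theorem rho_cox_pow3 : rho M A hA (cox ^ 3) = Pw3 := by rw [pow_succ, map_mul, rho_cox_pow2, rho_cox, hPw3]
theorem rho_cox_pow4 : rho M A hA (cox ^ 4) = Pw4 := by rw [pow_succ, map_mul, rho_cox_pow3, rho_cox, hPw4]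
theorem rho_cox_pow5 : rho M A hA (cox ^ 5) = Pw5 := by rw [pow_succ, map_mul, rho_cox_pow4, rho_cox, hPw5]
theorem rho_cox_pow6 : rho M A hA (cox ^ 6) = Pw6 := by rw [pow_succ, map_mul, rho_cox_pow5, rho_cox, hPw6]
theorem rho_cox_pow7 : rho M A hA (cox ^ 7) = Pw7 := by rw [pow_succ, map_mul, rho_cox_pow6, rho_cox, hPw7]
theorem rho_cox_pow8 : rho M A hA (cox ^ 8) = Pw8 := by rw [pow_succ, map_mul, rho_cox_pow7, rho_cox, hPw8]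
theorem rho_cox_pow9 : rho M A hA (cox ^ 9) = Pw9 := by rw [pow_succ, map_mul, rho_cox_pow8, rho_cox, hPw9]
theorem rho_cox_pow10 : rho M A hA (cox ^ 10) = Pw10 := by rw [pow_succ, map_mul, rho_cox_pow9, rho_cox, hPw10]
theorem rho_cox_pow11 : rho M A hA (cox ^ 11) = Pw11 := by rw [pow_succ, map_mul, rho_cox_pow10, rho_cox, hPw11]
theorem rho_cox_pow12 : rho M A hA (cox ^ 12) = Pw12 := by rw [pow_succ, map_mul, rho_cox_pow11, rho_cox, hPw12]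
theorem rho_cox_pow13 : rho M A hA (cox ^ 13) = Pw13 := by rw [pow_succ, map_mul, rho_cox_pow12, rho_cox, hPw13]
theorem rho_cox_pow14 : rho M A hA (cox ^ 14) = Pw14 := by rw [pow_succ, map_mul, rho_cox_pow13, rho_cox, hPw14]
theorem rho_cox_pow15 : rho M A hA (cox ^ 15) = Pw15 := by rw [pow_succ, map_mul, rho_cox_pow14, rho_cox, hPw15]
theorem rho_cox_pow16 : rho M A hA (cox ^ 16) = Pw16 := by rw [pow_succ, map_mul, rho_cox_pow15, rho_cox, hPw16]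
theorem rho_cox_pow17 : rho M A hA (cox ^ 17) = Pw17 := by rw [pow_succ, map_mul, rho_cox_pow16, rho_cox, hPw17]
theorem rho_cox_pow18 : rho M A hA (cox ^ 18) = Pw18 := by rw [pow_succ, map_mul, rho_cox_pow17, rho_cox, hPw18]
theorem cox_order : orderOf cox = 18 := by
  rw [orderOf_eq_iff (by norm_num)]
  refine ⟨rho_ker _ (by rw [rho_cox_pow18]; decide +kernel), ?_⟩
  intro m hm hm0 hc
  have hr : rho M A hA (cox ^ m) = 1 := by rw [hc, map_one]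
  interval_cases m
  · rw [rho_cox_pow1] at hr; revert hr; decide +kernel
  · rw [rho_cox_pow2] at hr; revert hr; decide +kernel
  · rw [rho_cox_pow3] at hr; revert hr; decide +kernel
  · rw [rho_cox_pow4] at hr; revert hr; decide +kernel
  · rw [rho_cox_pow5] at hr; revert hr; decide +kernel
  · rw [rho_cox_pow6] at hr; revert hr; decide +kernel
  · rw [rho_cox_pow7] at hr; revert hr; decide +kernel
  · rw [rho_cox_pow8] at hr; revert hr; decide +kernel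
  · rw [rho_cox_pow9] at hr; revert hr; decide +kernel
  · rw [rho_cox_pow10] at hr; revert hr; decide +kernel
  · rw [rho_cox_pow11] at hr; revert hr; decide +kernel
  · rw [rho_cox_pow12] at hr; revert hr; decide +kernel
  · rw [rho_cox_pow13] at hr; revert hr; decide +kernel
  · rw [rho_cox_pow14] at hr; revert hr; decide +kernel
  · rw [rho_cox_pow15] at hr; revert hr; decide +kernel
  · rw [rho_cox_pow16] at hr; revert hr; decide +kernel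
  · rw [rho_cox_pow17] at hr; revert hr; decide +kernel

end

end Cfsg.Agent.Lib.Helper18.CoxE7
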