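import Cfsg.Agent.Lib.Helper18.CoxRep

set_option autoImplicit false
set_option linter.unusedVariables false
set_option maxRecDepth 100000

namespace Cfsg.Agent.Lib.Helper18.CoxE8

open Cfsg.Agent.Lib.Helper18

noncomputable section

abbrev M : CoxeterMatrix (Fin 8) := CoxeterMatrix.E₈
abbrev W : Type := M.Group
def A : Matrix (Fin 8) (Fin 8) ℤ := !![2, 0, -1, 0, 0, 0, 0, 0; 0, 2, 0, -1, 0, 0, 0, 0; -1, 0, 2, -1, 0, 0, 0, 0; 0, -1, -1, 2, -1, 0, 0, 0; 0, 0, 0, -1, 2, -1, 0, 0; 0, 0, 0, 0, -1, 2, -1, 0; 0, 0, 0, 0, 0, -1, 2, -1; 0, 0, 0, 0, 0, 0, -1, 2]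

theorem hA_0_0 : (reflMat A 0 * reflMat A 0) ^ 1 = 1 := by
  apply Matrix.ext_of_mulVec_single; intro k
  simp only [pow_succ, pow_zero, one_mul, ← Matrix.mulVec_mulVec, reflMat_mulVec, Matrix.one_mulVec]
  revert k; decide +kernel
theorem hA_0_1 : (reflMat A 0 * reflMat A 1) ^ 2 = 1 := by
  apply Matrix.ext_of_mulVec_single; intro k
  simp only [pow_succ, pow_zero, one_mul, ← Matrix.mulVec_mulVec, reflMat_mulVec, Matrix.one_mulVec]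
  revert k; decide +kernel
theorem hA_0_2 : (reflMat A 0 * reflMat A 2) ^ 3 = 1 := by
  apply Matrix.ext_of_mulVec_single; intro k
  simp only [pow_succ, pow_zero, one_mul, ← Matrix.mulVec_mulVec, reflMat_mulVec, Matrix.one_mulVec]
  revert k; decide +kernel
theorem hA_0_3 : (reflMat A 0 * reflMat A 3) ^ 2 = 1 := by
  apply Matrix.ext_of_mulVec_single; intro k
  simp only [pow_succ, pow_zero, one_mul, ← Matrix.mulVec_mulVec, reflMat_mulVec, Matrix.one_mulVec]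
  revert k; decide +kernel
theorem hA_0_4 : (reflMat A 0 * reflMat A 4) ^ 2 = 1 := by
  apply Matrix.ext_of_mulVec_single; intro k
  simp only [pow_succ, pow_zero, one_mul, ← Matrix.mulVec_mulVec, reflMat_mulVec, Matrix.one_mulVec]
  revert k; decide +kernel
theorem hA_0_5 : (reflMat A 0 * reflMat A 5) ^ 2 = 1 := by
  apply Matrix.ext_of_mulVec_single; intro k
  simp only [pow_succ, pow_zero, one_mul, ← Matrix.mulVec_mulVec, reflMat_mulVec, Matrix.one_mulVec]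
  revert k; decide +kernel
theorem hA_0_6 : (reflMat A 0 * reflMat A 6) ^ 2 = 1 := by
  apply Matrix.ext_of_mulVec_single; intro k
  simp only [pow_succ, pow_zero, one_mul, ← Matrix.mulVec_mulVec, reflMat_mulVec, Matrix.one_mulVec]
  revert k; decide +kernel
theorem hA_0_7 : (reflMat A 0 * reflMat A 7) ^ 2 = 1 := by
  apply Matrix.ext_of_mulVec_single; intro k
  simp only [pow_succ, pow_zero, one_mul, ← Matrix.mulVec_mulVec, reflMat_mulVec, Matrix.one_mulVec]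
  revert k; decide +kernel
theorem hA_1_0 : (reflMat A 1 * reflMat A 0) ^ 2 = 1 := by
  apply Matrix.ext_of_mulVec_single; intro k
  simp only [pow_succ, pow_zero, one_mul, ← Matrix.mulVec_mulVec, reflMat_mulVec, Matrix.one_mulVec]
  revert k; decide +kernel
theorem hA_1_1 : (reflMat A 1 * reflMat A 1) ^ 1 = 1 := by
  apply Matrix.ext_of_mulVec_single; intro k
  simp only [pow_succ, pow_zero, one_mul, ← Matrix.mulVec_mulVec, reflMat_mulVec, Matrix.one_mulVec]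
  revert k; decide +kernel
theorem hA_1_2 : (reflMat A 1 * reflMat A 2) ^ 2 = 1 := by
  apply Matrix.ext_of_mulVec_single; intro k
  simp only [pow_succ, pow_zero, one_mul, ← Matrix.mulVec_mulVec, reflMat_mulVec, Matrix.one_mulVec]
  revert k; decide +kernel
theorem hA_1_3 : (reflMat A 1 * reflMat A 3) ^ 3 = 1 := by
  apply Matrix.ext_of_mulVec_single; intro k
  simp only [pow_succ, pow_zero, one_mul, ← Matrix.mulVec_mulVec, reflMat_mulVec, Matrix.one_mulVec]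
  revert k; decide +kernel
theorem hA_1_4 : (reflMat A 1 * reflMat A 4) ^ 2 = 1 := by
  apply Matrix.ext_of_mulVec_single; intro k
  simp only [pow_succ, pow_zero, one_mul, ← Matrix.mulVec_mulVec, reflMat_mulVec, Matrix.one_mulVec]
  revert k; decide +kernel
theorem hA_1_5 : (reflMat A 1 * reflMat A 5) ^ 2 = 1 := by
  apply Matrix.ext_of_mulVec_single; intro k
  simp only [pow_succ, pow_zero, one_mul, ← Matrix.mulVec_mulVec, reflMat_mulVec, Matrix.one_mulVec]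
  revert k; decide +kernel
theorem hA_1_6 : (reflMat A 1 * reflMat A 6) ^ 2 = 1 := by
  apply Matrix.ext_of_mulVec_single; intro k
  simp only [pow_succ, pow_zero, one_mul, ← Matrix.mulVec_mulVec, reflMat_mulVec, Matrix.one_mulVec]
  revert k; decide +kernel
theorem hA_1_7 : (reflMat A 1 * reflMat A 7) ^ 2 = 1 := by
  apply Matrix.ext_of_mulVec_single; intro k
  simp only [pow_succ, pow_zero, one_mul, ← Matrix.mulVec_mulVec, reflMat_mulVec, Matrix.one_mulVec]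
  revert k; decide +kernel
theorem hA_2_0 : (reflMat A 2 * reflMat A 0) ^ 3 = 1 := by
  apply Matrix.ext_of_mulVec_single; intro k
  simp only [pow_succ, pow_zero, one_mul, ← Matrix.mulVec_mulVec, reflMat_mulVec, Matrix.one_mulVec]
  revert k; decide +kernel
theorem hA_2_1 : (reflMat A 2 * reflMat A 1) ^ 2 = 1 := by
  apply Matrix.ext_of_mulVec_single; intro k
  simp only [pow_succ, pow_zero, one_mul, ← Matrix.mulVec_mulVec, reflMat_mulVec, Matrix.one_mulVec]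
  revert k; decide +kernel
theorem hA_2_2 : (reflMat A 2 * reflMat A 2) ^ 1 = 1 := by
  apply Matrix.ext_of_mulVec_single; intro k
  simp only [pow_succ, pow_zero, one_mul, ← Matrix.mulVec_mulVec, reflMat_mulVec, Matrix.one_mulVec]
  revert k; decide +kernel
theorem hA_2_3 : (reflMat A 2 * reflMat A 3) ^ 3 = 1 := by
  apply Matrix.ext_of_mulVec_single; intro k
  simp only [pow_succ, pow_zero, one_mul, ← Matrix.mulVec_mulVec, reflMat_mulVec, Matrix.one_mulVec]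
  revert k; decide +kernel
theorem hA_2_4 : (reflMat A 2 * reflMat A 4) ^ 2 = 1 := by
  apply Matrix.ext_of_mulVec_single; intro k
  simp only [pow_succ, pow_zero, one_mul, ← Matrix.mulVec_mulVec, reflMat_mulVec, Matrix.one_mulVec]
  revert k; decide +kernel
theorem hA_2_5 : (reflMat A 2 * reflMat A 5) ^ 2 = 1 := by
  apply Matrix.ext_of_mulVec_single; intro k
  simp only [pow_succ, pow_zero, one_mul, ← Matrix.mulVec_mulVec, reflMat_mulVec, Matrix.one_mulVec]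
  revert k; decide +kernel
theorem hA_2_6 : (reflMat A 2 * reflMat A 6) ^ 2 = 1 := by
  apply Matrix.ext_of_mulVec_single; intro k
  simp only [pow_succ, pow_zero, one_mul, ← Matrix.mulVec_mulVec, reflMat_mulVec, Matrix.one_mulVec]
  revert k; decide +kernel
theorem hA_2_7 : (reflMat A 2 * reflMat A 7) ^ 2 = 1 := by
  apply Matrix.ext_of_mulVec_single; intro k
  simp only [pow_succ, pow_zero, one_mul, ← Matrix.mulVec_mulVec, reflMat_mulVec, Matrix.one_mulVec]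
  revert k; decide +kernel
theorem hA_3_0 : (reflMat A 3 * reflMat A 0) ^ 2 = 1 := by
  apply Matrix.ext_of_mulVec_single; intro k
  simp only [pow_succ, pow_zero, one_mul, ← Matrix.mulVec_mulVec, reflMat_mulVec, Matrix.one_mulVec]
  revert k; decide +kernel
theorem hA_3_1 : (reflMat A 3 * reflMat A 1) ^ 3 = 1 := by
  apply Matrix.ext_of_mulVec_single; intro k
  simp only [pow_succ, pow_zero, one_mul, ← Matrix.mulVec_mulVec, reflMat_mulVec, Matrix.one_mulVec]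
  revert k; decide +kernel
theorem hA_3_2 : (reflMat A 3 * reflMat A 2) ^ 3 = 1 := by
  apply Matrix.ext_of_mulVec_single; intro k
  simp only [pow_succ, pow_zero, one_mul, ← Matrix.mulVec_mulVec, reflMat_mulVec, Matrix.one_mulVec]
  revert k; decide +kernel
theorem hA_3_3 : (reflMat A 3 * reflMat A 3) ^ 1 = 1 := by
  apply Matrix.ext_of_mulVec_single; intro k
  simp only [pow_succ, pow_zero, one_mul, ← Matrix.mulVec_mulVec, reflMat_mulVec, Matrix.one_mulVec]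
  revert k; decide +kernel
theorem hA_3_4 : (reflMat A 3 * reflMat A 4) ^ 3 = 1 := by
  apply Matrix.ext_of_mulVec_single; intro k
  simp only [pow_succ, pow_zero, one_mul, ← Matrix.mulVec_mulVec, reflMat_mulVec, Matrix.one_mulVec]
  revert k; decide +kernel
theorem hA_3_5 : (reflMat A 3 * reflMat A 5) ^ 2 = 1 := by
  apply Matrix.ext_of_mulVec_single; intro k
  simp only [pow_succ, pow_zero, one_mul, ← Matrix.mulVec_mulVec, reflMat_mulVec, Matrix.one_mulVec]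
  revert k; decide +kernel
theorem hA_3_6 : (reflMat A 3 * reflMat A 6) ^ 2 = 1 := by
  apply Matrix.ext_of_mulVec_single; intro k
  simp only [pow_succ, pow_zero, one_mul, ← Matrix.mulVec_mulVec, reflMat_mulVec, Matrix.one_mulVec]
  revert k; decide +kernel
theorem hA_3_7 : (reflMat A 3 * reflMat A 7) ^ 2 = 1 := by
  apply Matrix.ext_of_mulVec_single; intro k
  simp only [pow_succ, pow_zero, one_mul, ← Matrix.mulVec_mulVec, reflMat_mulVec, Matrix.one_mulVec]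
  revert k; decide +kernel
theorem hA_4_0 : (reflMat A 4 * reflMat A 0) ^ 2 = 1 := by
  apply Matrix.ext_of_mulVec_single; intro k
  simp only [pow_succ, pow_zero, one_mul, ← Matrix.mulVec_mulVec, reflMat_mulVec, Matrix.one_mulVec]
  revert k; decide +kernel
theorem hA_4_1 : (reflMat A 4 * reflMat A 1) ^ 2 = 1 := by
  apply Matrix.ext_of_mulVec_single; intro k
  simp only [pow_succ, pow_zero, one_mul, ← Matrix.mulVec_mulVec, reflMat_mulVec, Matrix.one_mulVec]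
  revert k; decide +kernel
theorem hA_4_2 : (reflMat A 4 * reflMat A 2) ^ 2 = 1 := by
  apply Matrix.ext_of_mulVec_single; intro k
  simp only [pow_succ, pow_zero, one_mul, ← Matrix.mulVec_mulVec, reflMat_mulVec, Matrix.one_mulVec]
  revert k; decide +kernel
theorem hA_4_3 : (reflMat A 4 * reflMat A 3) ^ 3 = 1 := by
  apply Matrix.ext_of_mulVec_single; intro k
  simp only [pow_succ, pow_zero, one_mul, ← Matrix.mulVec_mulVec, reflMat_mulVec, Matrix.one_mulVec]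
  revert k; decide +kernel
theorem hA_4_4 : (reflMat A 4 * reflMat A 4) ^ 1 = 1 := by
  apply Matrix.ext_of_mulVec_single; intro k
  simp only [pow_succ, pow_zero, one_mul, ← Matrix.mulVec_mulVec, reflMat_mulVec, Matrix.one_mulVec]
  revert k; decide +kernel
theorem hA_4_5 : (reflMat A 4 * reflMat A 5) ^ 3 = 1 := by
  apply Matrix.ext_of_mulVec_single; intro k
  simp only [pow_succ, pow_zero, one_mul, ← Matrix.mulVec_mulVec, reflMat_mulVec, Matrix.one_mulVec]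
  revert k; decide +kernel
theorem hA_4_6 : (reflMat A 4 * reflMat A 6) ^ 2 = 1 := by
  apply Matrix.ext_of_mulVec_single; intro k
  simp only [pow_succ, pow_zero, one_mul, ← Matrix.mulVec_mulVec, reflMat_mulVec, Matrix.one_mulVec]
  revert k; decide +kernel
theorem hA_4_7 : (reflMat A 4 * reflMat A 7) ^ 2 = 1 := by
  apply Matrix.ext_of_mulVec_single; intro k
  simp only [pow_succ, pow_zero, one_mul, ← Matrix.mulVec_mulVec, reflMat_mulVec, Matrix.one_mulVec]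
  revert k; decide +kernel
theorem hA_5_0 : (reflMat A 5 * reflMat A 0) ^ 2 = 1 := by
  apply Matrix.ext_of_mulVec_single; intro k
  simp only [pow_succ, pow_zero, one_mul, ← Matrix.mulVec_mulVec, reflMat_mulVec, Matrix.one_mulVec]
  revert k; decide +kernel
theorem hA_5_1 : (reflMat A 5 * reflMat A 1) ^ 2 = 1 := by
  apply Matrix.ext_of_mulVec_single; intro k
  simp only [pow_succ, pow_zero, one_mul, ← Matrix.mulVec_mulVec, reflMat_mulVec, Matrix.one_mulVec]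
  revert k; decide +kernel
theorem hA_5_2 : (reflMat A 5 * reflMat A 2) ^ 2 = 1 := by
  apply Matrix.ext_of_mulVec_single; intro k
  simp only [pow_succ, pow_zero, one_mul, ← Matrix.mulVec_mulVec, reflMat_mulVec, Matrix.one_mulVec]
  revert k; decide +kernel
theorem hA_5_3 : (reflMat A 5 * reflMat A 3) ^ 2 = 1 := by
  apply Matrix.ext_of_mulVec_single; intro k
  simp only [pow_succ, pow_zero, one_mul, ← Matrix.mulVec_mulVec, reflMat_mulVec, Matrix.one_mulVec]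
  revert k; decide +kernel
theorem hA_5_4 : (reflMat A 5 * reflMat A 4) ^ 3 = 1 := by
  apply Matrix.ext_of_mulVec_single; intro k
  simp only [pow_succ, pow_zero, one_mul, ← Matrix.mulVec_mulVec, reflMat_mulVec, Matrix.one_mulVec]
  revert k; decide +kernel
theorem hA_5_5 : (reflMat A 5 * reflMat A 5) ^ 1 = 1 := by
  apply Matrix.ext_of_mulVec_single; intro k
  simp only [pow_succ, pow_zero, one_mul, ← Matrix.mulVec_mulVec, reflMat_mulVec, Matrix.one_mulVec]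
  revert k; decide +kernel
theorem hA_5_6 : (reflMat A 5 * reflMat A 6) ^ 3 = 1 := by
  apply Matrix.ext_of_mulVec_single; intro k
  simp only [pow_succ, pow_zero, one_mul, ← Matrix.mulVec_mulVec, reflMat_mulVec, Matrix.one_mulVec]
  revert k; decide +kernel
theorem hA_5_7 : (reflMat A 5 * reflMat A 7) ^ 2 = 1 := by
  apply Matrix.ext_of_mulVec_single; intro k
  simp only [pow_succ, pow_zero, one_mul, ← Matrix.mulVec_mulVec, reflMat_mulVec, Matrix.one_mulVec]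
  revert k; decide +kernel
theorem hA_6_0 : (reflMat A 6 * reflMat A 0) ^ 2 = 1 := by
  apply Matrix.ext_of_mulVec_single; intro k
  simp only [pow_succ, pow_zero, one_mul, ← Matrix.mulVec_mulVec, reflMat_mulVec, Matrix.one_mulVec]
  revert k; decide +kernel
theorem hA_6_1 : (reflMat A 6 * reflMat A 1) ^ 2 = 1 := by
  apply Matrix.ext_of_mulVec_single; intro k
  simp only [pow_succ, pow_zero, one_mul, ← Matrix.mulVec_mulVec, reflMat_mulVec, Matrix.one_mulVec]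
  revert k; decide +kernel
theorem hA_6_2 : (reflMat A 6 * reflMat A 2) ^ 2 = 1 := by
  apply Matrix.ext_of_mulVec_single; intro k
  simp only [pow_succ, pow_zero, one_mul, ← Matrix.mulVec_mulVec, reflMat_mulVec, Matrix.one_mulVec]
  revert k; decide +kernel
theorem hA_6_3 : (reflMat A 6 * reflMat A 3) ^ 2 = 1 := by
  apply Matrix.ext_of_mulVec_single; intro k
  simp only [pow_succ, pow_zero, one_mul, ← Matrix.mulVec_mulVec, reflMat_mulVec, Matrix.one_mulVec]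
  revert k; decide +kernel
theorem hA_6_4 : (reflMat A 6 * reflMat A 4) ^ 2 = 1 := by
  apply Matrix.ext_of_mulVec_single; intro k
  simp only [pow_succ, pow_zero, one_mul, ← Matrix.mulVec_mulVec, reflMat_mulVec, Matrix.one_mulVec]
  revert k; decide +kernel
theorem hA_6_5 : (reflMat A 6 * reflMat A 5) ^ 3 = 1 := by
  apply Matrix.ext_of_mulVec_single; intro k
  simp only [pow_succ, pow_zero, one_mul, ← Matrix.mulVec_mulVec, reflMat_mulVec, Matrix.one_mulVec]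
  revert k; decide +kernel
theorem hA_6_6 : (reflMat A 6 * reflMat A 6) ^ 1 = 1 := by
  apply Matrix.ext_of_mulVec_single; intro k
  simp only [pow_succ, pow_zero, one_mul, ← Matrix.mulVec_mulVec, reflMat_mulVec, Matrix.one_mulVec]
  revert k; decide +kernel
theorem hA_6_7 : (reflMat A 6 * reflMat A 7) ^ 3 = 1 := by
  apply Matrix.ext_of_mulVec_single; intro k
  simp only [pow_succ, pow_zero, one_mul, ← Matrix.mulVec_mulVec, reflMat_mulVec, Matrix.one_mulVec]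
  revert k; decide +kernel
theorem hA_7_0 : (reflMat A 7 * reflMat A 0) ^ 2 = 1 := by
  apply Matrix.ext_of_mulVec_single; intro k
  simp only [pow_succ, pow_zero, one_mul, ← Matrix.mulVec_mulVec, reflMat_mulVec, Matrix.one_mulVec]
  revert k; decide +kernel
theorem hA_7_1 : (reflMat A 7 * reflMat A 1) ^ 2 = 1 := by
  apply Matrix.ext_of_mulVec_single; intro k
  simp only [pow_succ, pow_zero, one_mul, ← Matrix.mulVec_mulVec, reflMat_mulVec, Matrix.one_mulVec]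
  revert k; decide +kernel
theorem hA_7_2 : (reflMat A 7 * reflMat A 2) ^ 2 = 1 := by
  apply Matrix.ext_of_mulVec_single; intro k
  simp only [pow_succ, pow_zero, one_mul, ← Matrix.mulVec_mulVec, reflMat_mulVec, Matrix.one_mulVec]
  revert k; decide +kernel
theorem hA_7_3 : (reflMat A 7 * reflMat A 3) ^ 2 = 1 := by
  apply Matrix.ext_of_mulVec_single; intro k
  simp only [pow_succ, pow_zero, one_mul, ← Matrix.mulVec_mulVec, reflMat_mulVec, Matrix.one_mulVec]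
  revert k; decide +kernel
theorem hA_7_4 : (reflMat A 7 * reflMat A 4) ^ 2 = 1 := by
  apply Matrix.ext_of_mulVec_single; intro k
  simp only [pow_succ, pow_zero, one_mul, ← Matrix.mulVec_mulVec, reflMat_mulVec, Matrix.one_mulVec]
  revert k; decide +kernel
theorem hA_7_5 : (reflMat A 7 * reflMat A 5) ^ 2 = 1 := by
  apply Matrix.ext_of_mulVec_single; intro k
  simp only [pow_succ, pow_zero, one_mul, ← Matrix.mulVec_mulVec, reflMat_mulVec, Matrix.one_mulVec]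
  revert k; decide +kernel
theorem hA_7_6 : (reflMat A 7 * reflMat A 6) ^ 3 = 1 := by
  apply Matrix.ext_of_mulVec_single; intro k
  simp only [pow_succ, pow_zero, one_mul, ← Matrix.mulVec_mulVec, reflMat_mulVec, Matrix.one_mulVec]
  revert k; decide +kernel
theorem hA_7_7 : (reflMat A 7 * reflMat A 7) ^ 1 = 1 := by
  apply Matrix.ext_of_mulVec_single; intro k
  simp only [pow_succ, pow_zero, one_mul, ← Matrix.mulVec_mulVec, reflMat_mulVec, Matrix.one_mulVec]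
  revert k; decide +kernel
theorem hA : M.IsLiftable (reflMat A) := fun i i' =>
  match i, i' with
  | 0, 0 => hA_0_0
  | 0, 1 => hA_0_1
  | 0, 2 => hA_0_2
  | 0, 3 => hA_0_3
  | 0, 4 => hA_0_4
  | 0, 5 => hA_0_5
  | 0, 6 => hA_0_6
  | 0, 7 => hA_0_7
  | 1, 0 => hA_1_0
  | 1, 1 => hA_1_1
  | 1, 2 => hA_1_2
  | 1, 3 => hA_1_3
  | 1, 4 => hA_1_4
  | 1, 5 => hA_1_5
  | 1, 6 => hA_1_6
  | 1, 7 => hA_1_7
  | 2, 0 => hA_2_0
  | 2, 1 => hA_2_1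
  | 2, 2 => hA_2_2
  | 2, 3 => hA_2_3
  | 2, 4 => hA_2_4
  | 2, 5 => hA_2_5
  | 2, 6 => hA_2_6
  | 2, 7 => hA_2_7
  | 3, 0 => hA_3_0
  | 3, 1 => hA_3_1
  | 3, 2 => hA_3_2
  | 3, 3 => hA_3_3
  | 3, 4 => hA_3_4
  | 3, 5 => hA_3_5
  | 3, 6 => hA_3_6
  | 3, 7 => hA_3_7
  | 4, 0 => hA_4_0
  | 4, 1 => hA_4_1
  | 4, 2 => hA_4_2
  | 4, 3 => hA_4_3
  | 4, 4 => hA_4_4
  | 4, 5 => hA_4_5
  | 4, 6 => hA_4_6
  | 4, 7 => hA_4_7
  | 5, 0 => hA_5_0
  | 5, 1 => hA_5_1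
  | 5, 2 => hA_5_2
  | 5, 3 => hA_5_3
  | 5, 4 => hA_5_4
  | 5, 5 => hA_5_5
  | 5, 6 => hA_5_6
  | 5, 7 => hA_5_7
  | 6, 0 => hA_6_0
  | 6, 1 => hA_6_1
  | 6, 2 => hA_6_2
  | 6, 3 => hA_6_3
  | 6, 4 => hA_6_4
  | 6, 5 => hA_6_5
  | 6, 6 => hA_6_6
  | 6, 7 => hA_6_7
  | 7, 0 => hA_7_0
  | 7, 1 => hA_7_1
  | 7, 2 => hA_7_2
  | 7, 3 => hA_7_3
  | 7, 4 => hA_7_4
  | 7, 5 => hA_7_5
  | 7, 6 => hA_7_6
  | 7, 7 => hA_7_7

abbrev s (i : Fin 8) : W := M.simple i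
theorem s_sq (i : Fin 8) : s i * s i = 1 := simple_sq M i
theorem r_0_1 : s 0 = s 1 * s 0 * s 1 :=
  rel2 (s_sq 0) (s_sq 1) (M.toCoxeterSystem.simple_mul_simple_pow 0 1)
theorem r_0_2 : s 0 = s 2 * s 0 * s 2 * s 0 * s 2 :=
  rel3 (s_sq 0) (s_sq 2) (M.toCoxeterSystem.simple_mul_simple_pow 0 2)
theorem r_0_3 : s 0 = s 3 * s 0 * s 3 :=
  rel2 (s_sq 0) (s_sq 3) (M.toCoxeterSystem.simple_mul_simple_pow 0 3)
theorem r_0_4 : s 0 = s 4 * s 0 * s 4 :=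
  rel2 (s_sq 0) (s_sq 4) (M.toCoxeterSystem.simple_mul_simple_pow 0 4)
theorem r_0_5 : s 0 = s 5 * s 0 * s 5 :=
  rel2 (s_sq 0) (s_sq 5) (M.toCoxeterSystem.simple_mul_simple_pow 0 5)
theorem r_0_6 : s 0 = s 6 * s 0 * s 6 :=
  rel2 (s_sq 0) (s_sq 6) (M.toCoxeterSystem.simple_mul_simple_pow 0 6)
theorem r_0_7 : s 0 = s 7 * s 0 * s 7 :=
  rel2 (s_sq 0) (s_sq 7) (M.toCoxeterSystem.simple_mul_simple_pow 0 7)
theorem r_1_0 : s 1 = s 0 * s 1 * s 0 :=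
  rel2 (s_sq 1) (s_sq 0) (M.toCoxeterSystem.simple_mul_simple_pow 1 0)
theorem r_1_2 : s 1 = s 2 * s 1 * s 2 :=
  rel2 (s_sq 1) (s_sq 2) (M.toCoxeterSystem.simple_mul_simple_pow 1 2)
theorem r_1_3 : s 1 = s 3 * s 1 * s 3 * s 1 * s 3 :=
  rel3 (s_sq 1) (s_sq 3) (M.toCoxeterSystem.simple_mul_simple_pow 1 3)
theorem r_1_4 : s 1 = s 4 * s 1 * s 4 :=
  rel2 (s_sq 1) (s_sq 4) (M.toCoxeterSystem.simple_mul_simple_pow 1 4)
theorem r_1_5 : s 1 = s 5 * s 1 * s 5 :=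
  rel2 (s_sq 1) (s_sq 5) (M.toCoxeterSystem.simple_mul_simple_pow 1 5)
theorem r_1_6 : s 1 = s 6 * s 1 * s 6 :=
  rel2 (s_sq 1) (s_sq 6) (M.toCoxeterSystem.simple_mul_simple_pow 1 6)
theorem r_1_7 : s 1 = s 7 * s 1 * s 7 :=
  rel2 (s_sq 1) (s_sq 7) (M.toCoxeterSystem.simple_mul_simple_pow 1 7)
theorem r_2_0 : s 2 = s 0 * s 2 * s 0 * s 2 * s 0 :=
  rel3 (s_sq 2) (s_sq 0) (M.toCoxeterSystem.simple_mul_simple_pow 2 0)
theorem r_2_1 : s 2 = s 1 * s 2 * s 1 :=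
  rel2 (s_sq 2) (s_sq 1) (M.toCoxeterSystem.simple_mul_simple_pow 2 1)
theorem r_2_3 : s 2 = s 3 * s 2 * s 3 * s 2 * s 3 :=
  rel3 (s_sq 2) (s_sq 3) (M.toCoxeterSystem.simple_mul_simple_pow 2 3)
theorem r_2_4 : s 2 = s 4 * s 2 * s 4 :=
  rel2 (s_sq 2) (s_sq 4) (M.toCoxeterSystem.simple_mul_simple_pow 2 4)
theorem r_2_5 : s 2 = s 5 * s 2 * s 5 :=
  rel2 (s_sq 2) (s_sq 5) (M.toCoxeterSystem.simple_mul_simple_pow 2 5)
theorem r_2_6 : s 2 = s 6 * s 2 * s 6 :=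
  rel2 (s_sq 2) (s_sq 6) (M.toCoxeterSystem.simple_mul_simple_pow 2 6)
theorem r_2_7 : s 2 = s 7 * s 2 * s 7 :=
  rel2 (s_sq 2) (s_sq 7) (M.toCoxeterSystem.simple_mul_simple_pow 2 7)
theorem r_3_0 : s 3 = s 0 * s 3 * s 0 :=
  rel2 (s_sq 3) (s_sq 0) (M.toCoxeterSystem.simple_mul_simple_pow 3 0)
theorem r_3_1 : s 3 = s 1 * s 3 * s 1 * s 3 * s 1 :=
  rel3 (s_sq 3) (s_sq 1) (M.toCoxeterSystem.simple_mul_simple_pow 3 1)
theorem r_3_2 : s 3 = s 2 * s 3 * s 2 * s 3 * s 2 :=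
  rel3 (s_sq 3) (s_sq 2) (M.toCoxeterSystem.simple_mul_simple_pow 3 2)
theorem r_3_4 : s 3 = s 4 * s 3 * s 4 * s 3 * s 4 :=
  rel3 (s_sq 3) (s_sq 4) (M.toCoxeterSystem.simple_mul_simple_pow 3 4)
theorem r_3_5 : s 3 = s 5 * s 3 * s 5 :=
  rel2 (s_sq 3) (s_sq 5) (M.toCoxeterSystem.simple_mul_simple_pow 3 5)
theorem r_3_6 : s 3 = s 6 * s 3 * s 6 :=
  rel2 (s_sq 3) (s_sq 6) (M.toCoxeterSystem.simple_mul_simple_pow 3 6)
theorem r_3_7 : s 3 = s 7 * s 3 * s 7 :=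
  rel2 (s_sq 3) (s_sq 7) (M.toCoxeterSystem.simple_mul_simple_pow 3 7)
theorem r_4_0 : s 4 = s 0 * s 4 * s 0 :=
  rel2 (s_sq 4) (s_sq 0) (M.toCoxeterSystem.simple_mul_simple_pow 4 0)
theorem r_4_1 : s 4 = s 1 * s 4 * s 1 :=
  rel2 (s_sq 4) (s_sq 1) (M.toCoxeterSystem.simple_mul_simple_pow 4 1)
theorem r_4_2 : s 4 = s 2 * s 4 * s 2 :=
  rel2 (s_sq 4) (s_sq 2) (M.toCoxeterSystem.simple_mul_simple_pow 4 2)
theorem r_4_3 : s 4 = s 3 * s 4 * s 3 * s 4 * s 3 :=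
  rel3 (s_sq 4) (s_sq 3) (M.toCoxeterSystem.simple_mul_simple_pow 4 3)
theorem r_4_5 : s 4 = s 5 * s 4 * s 5 * s 4 * s 5 :=
  rel3 (s_sq 4) (s_sq 5) (M.toCoxeterSystem.simple_mul_simple_pow 4 5)
theorem r_4_6 : s 4 = s 6 * s 4 * s 6 :=
  rel2 (s_sq 4) (s_sq 6) (M.toCoxeterSystem.simple_mul_simple_pow 4 6)
theorem r_4_7 : s 4 = s 7 * s 4 * s 7 :=
  rel2 (s_sq 4) (s_sq 7) (M.toCoxeterSystem.simple_mul_simple_pow 4 7)
theorem r_5_0 : s 5 = s 0 * s 5 * s 0 :=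
  rel2 (s_sq 5) (s_sq 0) (M.toCoxeterSystem.simple_mul_simple_pow 5 0)
theorem r_5_1 : s 5 = s 1 * s 5 * s 1 :=
  rel2 (s_sq 5) (s_sq 1) (M.toCoxeterSystem.simple_mul_simple_pow 5 1)
theorem r_5_2 : s 5 = s 2 * s 5 * s 2 :=
  rel2 (s_sq 5) (s_sq 2) (M.toCoxeterSystem.simple_mul_simple_pow 5 2)
theorem r_5_3 : s 5 = s 3 * s 5 * s 3 :=
  rel2 (s_sq 5) (s_sq 3) (M.toCoxeterSystem.simple_mul_simple_pow 5 3)
theorem r_5_4 : s 5 = s 4 * s 5 * s 4 * s 5 * s 4 :=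
  rel3 (s_sq 5) (s_sq 4) (M.toCoxeterSystem.simple_mul_simple_pow 5 4)
theorem r_5_6 : s 5 = s 6 * s 5 * s 6 * s 5 * s 6 :=
  rel3 (s_sq 5) (s_sq 6) (M.toCoxeterSystem.simple_mul_simple_pow 5 6)
theorem r_5_7 : s 5 = s 7 * s 5 * s 7 :=
  rel2 (s_sq 5) (s_sq 7) (M.toCoxeterSystem.simple_mul_simple_pow 5 7)
theorem r_6_0 : s 6 = s 0 * s 6 * s 0 :=
  rel2 (s_sq 6) (s_sq 0) (M.toCoxeterSystem.simple_mul_simple_pow 6 0)
theorem r_6_1 : s 6 = s 1 * s 6 * s 1 :=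
  rel2 (s_sq 6) (s_sq 1) (M.toCoxeterSystem.simple_mul_simple_pow 6 1)
theorem r_6_2 : s 6 = s 2 * s 6 * s 2 :=
  rel2 (s_sq 6) (s_sq 2) (M.toCoxeterSystem.simple_mul_simple_pow 6 2)
theorem r_6_3 : s 6 = s 3 * s 6 * s 3 :=
  rel2 (s_sq 6) (s_sq 3) (M.toCoxeterSystem.simple_mul_simple_pow 6 3)
theorem r_6_4 : s 6 = s 4 * s 6 * s 4 :=
  rel2 (s_sq 6) (s_sq 4) (M.toCoxeterSystem.simple_mul_simple_pow 6 4)
theorem r_6_5 : s 6 = s 5 * s 6 * s 5 * s 6 * s 5 :=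
  rel3 (s_sq 6) (s_sq 5) (M.toCoxeterSystem.simple_mul_simple_pow 6 5)
theorem r_6_7 : s 6 = s 7 * s 6 * s 7 * s 6 * s 7 :=
  rel3 (s_sq 6) (s_sq 7) (M.toCoxeterSystem.simple_mul_simple_pow 6 7)
theorem r_7_0 : s 7 = s 0 * s 7 * s 0 :=
  rel2 (s_sq 7) (s_sq 0) (M.toCoxeterSystem.simple_mul_simple_pow 7 0)
theorem r_7_1 : s 7 = s 1 * s 7 * s 1 :=
  rel2 (s_sq 7) (s_sq 1) (M.toCoxeterSystem.simple_mul_simple_pow 7 1)
theorem r_7_2 : s 7 = s 2 * s 7 * s 2 :=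
  rel2 (s_sq 7) (s_sq 2) (M.toCoxeterSystem.simple_mul_simple_pow 7 2)
theorem r_7_3 : s 7 = s 3 * s 7 * s 3 :=
  rel2 (s_sq 7) (s_sq 3) (M.toCoxeterSystem.simple_mul_simple_pow 7 3)
theorem r_7_4 : s 7 = s 4 * s 7 * s 4 :=
  rel2 (s_sq 7) (s_sq 4) (M.toCoxeterSystem.simple_mul_simple_pow 7 4)
theorem r_7_5 : s 7 = s 5 * s 7 * s 5 :=
  rel2 (s_sq 7) (s_sq 5) (M.toCoxeterSystem.simple_mul_simple_pow 7 5)
theorem r_7_6 : s 7 = s 6 * s 7 * s 6 * s 7 * s 6 :=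
  rel3 (s_sq 7) (s_sq 6) (M.toCoxeterSystem.simple_mul_simple_pow 7 6)

def J0 : List (Fin 8) := [0, 1, 2, 3, 4, 5, 6, 7]
def J1 : List (Fin 8) := [0, 1, 2, 3, 4, 5, 6]
def J2 : List (Fin 8) := [0, 1, 2, 3, 4, 5]
def J3 : List (Fin 8) := [1, 2, 3, 4, 5]
def J4 : List (Fin 8) := [1, 2, 3, 4]
def J5 : List (Fin 8) := [1, 2, 3]
def J6 : List (Fin 8) := [1, 2]
def J7 : List (Fin 8) := [1]
def J8 : List (Fin 8) := []

-- level 0: index 240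
def base0 : Fin 8 → ℤ := ![0, 0, 0, 0, 0, 0, 0, 1]
def fv0 : W → (Fin 8 → ℤ) := fvec M A hA base0
def u0_0 : W := 1
def u0_1 : W := u0_0 * s 7
def u0_2 : W := u0_1 * s 6
def u0_3 : W := u0_2 * s 5
def u0_4 : W := u0_3 * s 4
def u0_5 : W := u0_4 * s 3
def u0_6 : W := u0_5 * s 1
def u0_7 : W := u0_5 * s 2
def u0_8 : W := u0_6 * s 2
def u0_9 : W := u0_7 * s 0
def u0_10 : W := u0_8 * s 0
def u0_11 : W := u0_8 * s 3
def u0_12 : W := u0_10 * s 3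
def u0_13 : W := u0_11 * s 4
def u0_14 : W := u0_12 * s 2
def u0_15 : W := u0_12 * s 4
def u0_16 : W := u0_13 * s 5
def u0_17 : W := u0_14 * s 4
def u0_18 : W := u0_15 * s 5
def u0_19 : W := u0_16 * s 6
def u0_20 : W := u0_17 * s 3
def u0_21 : W := u0_17 * s 5
def u0_22 : W := u0_18 * s 6
def u0_23 : W := u0_19 * s 7
def u0_24 : W := u0_20 * s 1
def u0_25 : W := u0_20 * s 5
def u0_26 : W := u0_21 * s 6
def u0_27 : W := u0_22 * s 7
def u0_28 : W := u0_24 * s 5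
def u0_29 : W := u0_25 * s 4
def u0_30 : W := u0_25 * s 6
def u0_31 : W := u0_26 * s 7
def u0_32 : W := u0_28 * s 4
def u0_33 : W := u0_28 * s 6
def u0_34 : W := u0_29 * s 6
def u0_35 : W := u0_30 * s 7
def u0_36 : W := u0_32 * s 3
def u0_37 : W := u0_32 * s 6
def u0_38 : W := u0_33 * s 7
def u0_39 : W := u0_34 * s 5
def u0_40 : W := u0_34 * s 7
def u0_41 : W := u0_36 * s 2
def u0_42 : W := u0_36 * s 6
def u0_43 : W := u0_37 * s 5
def u0_44 : W := u0_37 * s 7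
def u0_45 : W := u0_39 * s 7
def u0_46 : W := u0_41 * s 0
def u0_47 : W := u0_41 * s 6
def u0_48 : W := u0_42 * s 5
def u0_49 : W := u0_42 * s 7
def u0_50 : W := u0_43 * s 7
def u0_51 : W := u0_45 * s 6
def u0_52 : W := u0_46 * s 6
def u0_53 : W := u0_47 * s 5
def u0_54 : W := u0_47 * s 7
def u0_55 : W := u0_48 * s 4
def u0_56 : W := u0_48 * s 7
def u0_57 : W := u0_50 * s 6
def u0_58 : W := u0_52 * s 5
def u0_59 : W := u0_52 * s 7
def u0_60 : W := u0_53 * s 4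
def u0_61 : W := u0_53 * s 7
def u0_62 : W := u0_55 * s 7
def u0_63 : W := u0_56 * s 6
def u0_64 : W := u0_58 * s 4
def u0_65 : W := u0_58 * s 7
def u0_66 : W := u0_60 * s 3
def u0_67 : W := u0_60 * s 7
def u0_68 : W := u0_61 * s 6
def u0_69 : W := u0_62 * s 6
def u0_70 : W := u0_64 * s 3
def u0_71 : W := u0_64 * s 7
def u0_72 : W := u0_65 * s 6
def u0_73 : W := u0_66 * s 1
def u0_74 : W := u0_66 * s 7
def u0_75 : W := u0_67 * s 6
def u0_76 : W := u0_69 * s 5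
def u0_77 : W := u0_70 * s 1
def u0_78 : W := u0_70 * s 2
def u0_79 : W := u0_70 * s 7
def u0_80 : W := u0_71 * s 6
def u0_81 : W := u0_73 * s 7
def u0_82 : W := u0_74 * s 6
def u0_83 : W := u0_75 * s 5
def u0_84 : W := u0_77 * s 2
def u0_85 : W := u0_77 * s 7
def u0_86 : W := u0_78 * s 7
def u0_87 : W := u0_79 * s 6
def u0_88 : W := u0_80 * s 5
def u0_89 : W := u0_81 * s 6
def u0_90 : W := u0_82 * s 5
def u0_91 : W := u0_84 * s 3
def u0_92 : W := u0_84 * s 7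
def u0_93 : W := u0_85 * s 6
def u0_94 : W := u0_86 * s 6
def u0_95 : W := u0_87 * s 5
def u0_96 : W := u0_89 * s 5
def u0_97 : W := u0_90 * s 4
def u0_98 : W := u0_91 * s 4
def u0_99 : W := u0_91 * s 7
def u0_100 : W := u0_92 * s 6
def u0_101 : W := u0_93 * s 5
def u0_102 : W := u0_94 * s 5
def u0_103 : W := u0_95 * s 4
def u0_104 : W := u0_96 * s 4
def u0_105 : W := u0_98 * s 5
def u0_106 : W := u0_98 * s 7
def u0_107 : W := u0_99 * s 6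
def u0_108 : W := u0_100 * s 5
def u0_109 : W := u0_101 * s 4
def u0_110 : W := u0_102 * s 4
def u0_111 : W := u0_104 * s 3
def u0_112 : W := u0_105 * s 6
def u0_113 : W := u0_105 * s 7
def u0_114 : W := u0_106 * s 6
def u0_115 : W := u0_107 * s 5
def u0_116 : W := u0_108 * s 4
def u0_117 : W := u0_109 * s 3
def u0_118 : W := u0_110 * s 3
def u0_119 : W := u0_111 * s 2
def u0_120 : W := u0_112 * s 7
def u0_121 : W := u0_113 * s 6
def u0_122 : W := u0_114 * s 5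
def u0_123 : W := u0_115 * s 4
def u0_124 : W := u0_116 * s 3
def u0_125 : W := u0_117 * s 2
def u0_126 : W := u0_118 * s 1
def u0_127 : W := u0_119 * s 0
def u0_128 : W := u0_120 * s 6
def u0_129 : W := u0_121 * s 5
def u0_130 : W := u0_122 * s 4
def u0_131 : W := u0_123 * s 3
def u0_132 : W := u0_124 * s 1
def u0_133 : W := u0_124 * s 2
def u0_134 : W := u0_125 * s 0
def u0_135 : W := u0_128 * s 5
def u0_136 : W := u0_129 * s 4
def u0_137 : W := u0_130 * s 3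
def u0_138 : W := u0_131 * s 1
def u0_139 : W := u0_131 * s 2
def u0_140 : W := u0_132 * s 2
def u0_141 : W := u0_133 * s 0
def u0_142 : W := u0_135 * s 4
def u0_143 : W := u0_136 * s 3
def u0_144 : W := u0_137 * s 1
def u0_145 : W := u0_137 * s 2
def u0_146 : W := u0_138 * s 2
def u0_147 : W := u0_139 * s 0
def u0_148 : W := u0_140 * s 0
def u0_149 : W := u0_142 * s 3
def u0_150 : W := u0_143 * s 1
def u0_151 : W := u0_143 * s 2
def u0_152 : W := u0_144 * s 2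
def u0_153 : W := u0_145 * s 0
def u0_154 : W := u0_146 * s 0
def u0_155 : W := u0_146 * s 3
def u0_156 : W := u0_149 * s 1
def u0_157 : W := u0_149 * s 2
def u0_158 : W := u0_150 * s 2
def u0_159 : W := u0_151 * s 0
def u0_160 : W := u0_152 * s 0
def u0_161 : W := u0_152 * s 3
def u0_162 : W := u0_154 * s 3
def u0_163 : W := u0_156 * s 2
def u0_164 : W := u0_157 * s 0
def u0_165 : W := u0_158 * s 0
def u0_166 : W := u0_158 * s 3
def u0_167 : W := u0_160 * s 3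
def u0_168 : W := u0_161 * s 4
def u0_169 : W := u0_162 * s 2
def u0_170 : W := u0_163 * s 0
def u0_171 : W := u0_163 * s 3
def u0_172 : W := u0_165 * s 3
def u0_173 : W := u0_166 * s 4
def u0_174 : W := u0_167 * s 2
def u0_175 : W := u0_167 * s 4
def u0_176 : W := u0_170 * s 3
def u0_177 : W := u0_171 * s 4
def u0_178 : W := u0_172 * s 2
def u0_179 : W := u0_172 * s 4
def u0_180 : W := u0_173 * s 5
def u0_181 : W := u0_174 * s 4
def u0_182 : W := u0_176 * s 2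
def u0_183 : W := u0_176 * s 4
def u0_184 : W := u0_177 * s 5
def u0_185 : W := u0_178 * s 4
def u0_186 : W := u0_179 * s 5
def u0_187 : W := u0_181 * s 3
def u0_188 : W := u0_182 * s 4
def u0_189 : W := u0_183 * s 5
def u0_190 : W := u0_184 * s 6
def u0_191 : W := u0_185 * s 3
def u0_192 : W := u0_185 * s 5
def u0_193 : W := u0_187 * s 1
def u0_194 : W := u0_188 * s 3
def u0_195 : W := u0_188 * s 5
def u0_196 : W := u0_189 * s 6
def u0_197 : W := u0_191 * s 1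
def u0_198 : W := u0_191 * s 5
def u0_199 : W := u0_194 * s 1
def u0_200 : W := u0_194 * s 5
def u0_201 : W := u0_195 * s 6
def u0_202 : W := u0_197 * s 5
def u0_203 : W := u0_198 * s 4
def u0_204 : W := u0_199 * s 5
def u0_205 : W := u0_200 * s 4
def u0_206 : W := u0_200 * s 6
def u0_207 : W := u0_202 * s 4
def u0_208 : W := u0_204 * s 4
def u0_209 : W := u0_204 * s 6
def u0_210 : W := u0_205 * s 6
def u0_211 : W := u0_207 * s 3
def u0_212 : W := u0_208 * s 3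
def u0_213 : W := u0_208 * s 6
def u0_214 : W := u0_210 * s 5
def u0_215 : W := u0_211 * s 2
def u0_216 : W := u0_212 * s 2
def u0_217 : W := u0_212 * s 6
def u0_218 : W := u0_213 * s 5
def u0_219 : W := u0_215 * s 0
def u0_220 : W := u0_216 * s 0
def u0_221 : W := u0_216 * s 6
def u0_222 : W := u0_217 * s 5
def u0_223 : W := u0_220 * s 6
def u0_224 : W := u0_221 * s 5
def u0_225 : W := u0_222 * s 4
def u0_226 : W := u0_223 * s 5
def u0_227 : W := u0_224 * s 4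
def u0_228 : W := u0_226 * s 4
def u0_229 : W := u0_227 * s 3
def u0_230 : W := u0_228 * s 3
def u0_231 : W := u0_229 * s 1
def u0_232 : W := u0_230 * s 1
def u0_233 : W := u0_230 * s 2
def u0_234 : W := u0_232 * s 2
def u0_235 : W := u0_234 * s 3
def u0_236 : W := u0_235 * s 4
def u0_237 : W := u0_236 * s 5
def u0_238 : W := u0_237 * s 6
def u0_239 : W := u0_238 * s 7
def reps0 : List W := [u0_0, u0_1, u0_2, u0_3, u0_4, u0_5, u0_6, u0_7, u0_8, u0_9, u0_10, u0_11, u0_12, u0_13, u0_14, u0_15, u0_16, u0_17, u0_18, u0_19, u0_20, u0_21, u0_22, u0_23, u0_24, u0_25, u0_26, u0_27, u0_28, u0_29, u0_30, u0_31, u0_32, u0_33, u0_34, u0_35, u0_36, u0_37, u0_38, u0_39, u0_40, u0_41, u0_42, u0_43, u0_44, u0_45, u0_46, u0_47, u0_48, u0_49, u0_50, u0_51, u0_52, u0_53, u0_54, u0_55, u0_56, u0_57, u0_58, u0_59, u0_60, u0_61, u0_62, u0_63, u0_64, u0_65, u0_66, u0_67, u0_68, u0_69, u0_70,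 u0_71, u0_72, u0_73, u0_74, u0_75, u0_76, u0_77, u0_78, u0_79, u0_80, u0_81, u0_82, u0_83, u0_84, u0_85, u0_86, u0_87, u0_88, u0_89, u0_90, u0_91, u0_92, u0_93, u0_94, u0_95, u0_96, u0_97, u0_98, u0_99, u0_100, u0_101, u0_102, u0_103, u0_104, u0_105, u0_106, u0_107, u0_108, u0_109, u0_110, u0_111, u0_112, u0_113, u0_114, u0_115, u0_116, u0_117, u0_118, u0_119, u0_120, u0_121, u0_122, u0_123, u0_124, u0_125, u0_126, u0_127, u0_128, u0_129, u0_130, u0_131, u0_132, u0_133, u0_134, u0_135, u0_136, u0_137, u0_138, u0_139, u0_140, u0_141, u0_142, u0_143, u0_144, u0_145, u0_146, u0_147, u0_148, u0_149, u0_150, u0_151, u0_152, u0_153, u0_154, u0_155, u0_156, u0_157, u0_158, u0_159, u0_160, u0_161, u0_162, u0_163, u0_164, u0_165, u0_166, u0_167, u0_168, u0_169, u0_170, u0_171, u0_172, u0_173, u0_174, u0_175, u0_176, u0_177, u0_178, u0_179, u0_180, u0_181, u0_182, u0_183, u0_184,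 u0_185, u0_186, u0_187, u0_188, u0_189, u0_190, u0_191, u0_192, u0_193, u0_194, u0_195, u0_196, u0_197, u0_198, u0_199, u0_200, u0_201, u0_202, u0_203, u0_204, u0_205, u0_206, u0_207, u0_208, u0_209, u0_210, u0_211, u0_212, u0_213, u0_214, u0_215, u0_216, u0_217, u0_218, u0_219, u0_220, u0_221, u0_222, u0_223, u0_224, u0_225, u0_226, u0_227, u0_228, u0_229, u0_230, u0_231, u0_232, u0_233, u0_234, u0_235, u0_236, u0_237, u0_238, u0_239]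
theorem v0_0 : fv0 u0_0 = ![0, 0, 0, 0, 0, 0, 0, 1] := fvec_one M A hA base0
theorem v0_1 : fv0 u0_1 = ![0, 0, 0, 0, 0, 0, 1, -1] := by
  show fvec M A hA base0 (u0_0 * M.simple 7) = _
  rw [fvec_mul_simple]; show reflVec A 7 (fv0 u0_0) = _; rw [v0_0]; decide +kernel
theorem v0_2 : fv0 u0_2 = ![0, 0, 0, 0, 0, 1, -1, 0] := by
  show fvec M A hA base0 (u0_1 * M.simple 6) = _
  rw [fvec_mul_simple]; show reflVec A 6 (fv0 u0_1) = _; rw [v0_1]; decide +kernel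
theorem v0_3 : fv0 u0_3 = ![0, 0, 0, 0, 1, -1, 0, 0] := by
  show fvec M A hA base0 (u0_2 * M.simple 5) = _
  rw [fvec_mul_simple]; show reflVec A 5 (fv0 u0_2) = _; rw [v0_2]; decide +kernel
theorem v0_4 : fv0 u0_4 = ![0, 0, 0, 1, -1, 0, 0, 0] := by
  show fvec M A hA base0 (u0_3 * M.simple 4) = _
  rw [fvec_mul_simple]; show reflVec A 4 (fv0 u0_3) = _; rw [v0_3]; decide +kernel
theorem v0_5 : fv0 u0_5 = ![0, 1, 1, -1, 0, 0, 0, 0] := by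
  show fvec M A hA base0 (u0_4 * M.simple 3) = _
  rw [fvec_mul_simple]; show reflVec A 3 (fv0 u0_4) = _; rw [v0_4]; decide +kernel
theorem v0_6 : fv0 u0_6 = ![0, -1, 1, 0, 0, 0, 0, 0] := by
  show fvec M A hA base0 (u0_5 * M.simple 1) = _
  rw [fvec_mul_simple]; show reflVec A 1 (fv0 u0_5) = _; rw [v0_5]; decide +kernel
theorem v0_7 : fv0 u0_7 = ![1, 1, -1, 0, 0, 0, 0, 0] := by
  show fvec M A hA base0 (u0_5 * M.simple 2) = _
  rw [fvec_mul_simple]; show reflVec A 2 (fv0 u0_5) = _; rw [v0_5]; decide +kernel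
theorem v0_8 : fv0 u0_8 = ![1, -1, -1, 1, 0, 0, 0, 0] := by
  show fvec M A hA base0 (u0_6 * M.simple 2) = _
  rw [fvec_mul_simple]; show reflVec A 2 (fv0 u0_6) = _; rw [v0_6]; decide +kernel
theorem v0_9 : fv0 u0_9 = ![-1, 1, 0, 0, 0, 0, 0, 0] := by
  show fvec M A hA base0 (u0_7 * M.simple 0) = _
  rw [fvec_mul_simple]; show reflVec A 0 (fv0 u0_7) = _; rw [v0_7]; decide +kernel
theorem v0_10 : fv0 u0_10 = ![-1, -1, 0, 1, 0, 0, 0, 0] := by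
  show fvec M A hA base0 (u0_8 * M.simple 0) = _
  rw [fvec_mul_simple]; show reflVec A 0 (fv0 u0_8) = _; rw [v0_8]; decide +kernel
theorem v0_11 : fv0 u0_11 = ![1, 0, 0, -1, 1, 0, 0, 0] := by
  show fvec M A hA base0 (u0_8 * M.simple 3) = _
  rw [fvec_mul_simple]; show reflVec A 3 (fv0 u0_8) = _; rw [v0_8]; decide +kernel
theorem v0_12 : fv0 u0_12 = ![-1, 0, 1, -1, 1, 0, 0, 0] := by
  show fvec M A hA base0 (u0_10 * M.simple 3) = _
  rw [fvec_mul_simple]; show reflVec A 3 (fv0 u0_10) = _; rw [v0_10]; decide +kernel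
theorem v0_13 : fv0 u0_13 = ![1, 0, 0, 0, -1, 1, 0, 0] := by
  show fvec M A hA base0 (u0_11 * M.simple 4) = _
  rw [fvec_mul_simple]; show reflVec A 4 (fv0 u0_11) = _; rw [v0_11]; decide +kernel
theorem v0_14 : fv0 u0_14 = ![0, 0, -1, 0, 1, 0, 0, 0] := by
  show fvec M A hA base0 (u0_12 * M.simple 2) = _
  rw [fvec_mul_simple]; show reflVec A 2 (fv0 u0_12) = _; rw [v0_12]; decide +kernel
theorem v0_15 : fv0 u0_15 = ![-1, 0, 1, 0, -1, 1, 0, 0] := by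
  show fvec M A hA base0 (u0_12 * M.simple 4) = _
  rw [fvec_mul_simple]; show reflVec A 4 (fv0 u0_12) = _; rw [v0_12]; decide +kernel
theorem v0_16 : fv0 u0_16 = ![1, 0, 0, 0, 0, -1, 1, 0] := by
  show fvec M A hA base0 (u0_13 * M.simple 5) = _
  rw [fvec_mul_simple]; show reflVec A 5 (fv0 u0_13) = _; rw [v0_13]; decide +kernel
theorem v0_17 : fv0 u0_17 = ![0, 0, -1, 1, -1, 1, 0, 0] := by
  show fvec M A hA base0 (u0_14 * M.simple 4) = _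
  rw [fvec_mul_simple]; show reflVec A 4 (fv0 u0_14) = _; rw [v0_14]; decide +kernel
theorem v0_18 : fv0 u0_18 = ![-1, 0, 1, 0, 0, -1, 1, 0] := by
  show fvec M A hA base0 (u0_15 * M.simple 5) = _
  rw [fvec_mul_simple]; show reflVec A 5 (fv0 u0_15) = _; rw [v0_15]; decide +kernel
theorem v0_19 : fv0 u0_19 = ![1, 0, 0, 0, 0, 0, -1, 1] := by
  show fvec M A hA base0 (u0_16 * M.simple 6) = _
  rw [fvec_mul_simple]; show reflVec A 6 (fv0 u0_16) = _; rw [v0_16]; decide +kernel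
theorem v0_20 : fv0 u0_20 = ![0, 1, 0, -1, 0, 1, 0, 0] := by
  show fvec M A hA base0 (u0_17 * M.simple 3) = _
  rw [fvec_mul_simple]; show reflVec A 3 (fv0 u0_17) = _; rw [v0_17]; decide +kernel
theorem v0_21 : fv0 u0_21 = ![0, 0, -1, 1, 0, -1, 1, 0] := by
  show fvec M A hA base0 (u0_17 * M.simple 5) = _
  rw [fvec_mul_simple]; show reflVec A 5 (fv0 u0_17) = _; rw [v0_17]; decide +kernel
theorem v0_22 : fv0 u0_22 = ![-1, 0, 1, 0, 0, 0, -1, 1] := by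
  show fvec M A hA base0 (u0_18 * M.simple 6) = _
  rw [fvec_mul_simple]; show reflVec A 6 (fv0 u0_18) = _; rw [v0_18]; decide +kernel
theorem v0_23 : fv0 u0_23 = ![1, 0, 0, 0, 0, 0, 0, -1] := by
  show fvec M A hA base0 (u0_19 * M.simple 7) = _
  rw [fvec_mul_simple]; show reflVec A 7 (fv0 u0_19) = _; rw [v0_19]; decide +kernel
theorem v0_24 : fv0 u0_24 = ![0, -1, 0, 0, 0, 1, 0, 0] := by
  show fvec M A hA base0 (u0_20 * M.simple 1) = _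
  rw [fvec_mul_simple]; show reflVec A 1 (fv0 u0_20) = _; rw [v0_20]; decide +kernel
theorem v0_25 : fv0 u0_25 = ![0, 1, 0, -1, 1, -1, 1, 0] := by
  show fvec M A hA base0 (u0_20 * M.simple 5) = _
  rw [fvec_mul_simple]; show reflVec A 5 (fv0 u0_20) = _; rw [v0_20]; decide +kernel
theorem v0_26 : fv0 u0_26 = ![0, 0, -1, 1, 0, 0, -1, 1] := by
  show fvec M A hA base0 (u0_21 * M.simple 6) = _
  rw [fvec_mul_simple]; show reflVec A 6 (fv0 u0_21) = _; rw [v0_21]; decide +kernel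
theorem v0_27 : fv0 u0_27 = ![-1, 0, 1, 0, 0, 0, 0, -1] := by
  show fvec M A hA base0 (u0_22 * M.simple 7) = _
  rw [fvec_mul_simple]; show reflVec A 7 (fv0 u0_22) = _; rw [v0_22]; decide +kernel
theorem v0_28 : fv0 u0_28 = ![0, -1, 0, 0, 1, -1, 1, 0] := by
  show fvec M A hA base0 (u0_24 * M.simple 5) = _
  rw [fvec_mul_simple]; show reflVec A 5 (fv0 u0_24) = _; rw [v0_24]; decide +kernel
theorem v0_29 : fv0 u0_29 = ![0, 1, 0, 0, -1, 0, 1, 0] := by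
  show fvec M A hA base0 (u0_25 * M.simple 4) = _
  rw [fvec_mul_simple]; show reflVec A 4 (fv0 u0_25) = _; rw [v0_25]; decide +kernel
theorem v0_30 : fv0 u0_30 = ![0, 1, 0, -1, 1, 0, -1, 1] := by
  show fvec M A hA base0 (u0_25 * M.simple 6) = _
  rw [fvec_mul_simple]; show reflVec A 6 (fv0 u0_25) = _; rw [v0_25]; decide +kernel
theorem v0_31 : fv0 u0_31 = ![0, 0, -1, 1, 0, 0, 0, -1] := by
  show fvec M A hA base0 (u0_26 * M.simple 7) = _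
  rw [fvec_mul_simple]; show reflVec A 7 (fv0 u0_26) = _; rw [v0_26]; decide +kernel
theorem v0_32 : fv0 u0_32 = ![0, -1, 0, 1, -1, 0, 1, 0] := by
  show fvec M A hA base0 (u0_28 * M.simple 4) = _
  rw [fvec_mul_simple]; show reflVec A 4 (fv0 u0_28) = _; rw [v0_28]; decide +kernel
theorem v0_33 : fv0 u0_33 = ![0, -1, 0, 0, 1, 0, -1, 1] := by
  show fvec M A hA base0 (u0_28 * M.simple 6) = _
  rw [fvec_mul_simple]; show reflVec A 6 (fv0 u0_28) = _; rw [v0_28]; decide +kernel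
theorem v0_34 : fv0 u0_34 = ![0, 1, 0, 0, -1, 1, -1, 1] := by
  show fvec M A hA base0 (u0_29 * M.simple 6) = _
  rw [fvec_mul_simple]; show reflVec A 6 (fv0 u0_29) = _; rw [v0_29]; decide +kernel
theorem v0_35 : fv0 u0_35 = ![0, 1, 0, -1, 1, 0, 0, -1] := by
  show fvec M A hA base0 (u0_30 * M.simple 7) = _
  rw [fvec_mul_simple]; show reflVec A 7 (fv0 u0_30) = _; rw [v0_30]; decide +kernel
theorem v0_36 : fv0 u0_36 = ![0, 0, 1, -1, 0, 0, 1, 0] := by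
  show fvec M A hA base0 (u0_32 * M.simple 3) = _
  rw [fvec_mul_simple]; show reflVec A 3 (fv0 u0_32) = _; rw [v0_32]; decide +kernel
theorem v0_37 : fv0 u0_37 = ![0, -1, 0, 1, -1, 1, -1, 1] := by
  show fvec M A hA base0 (u0_32 * M.simple 6) = _
  rw [fvec_mul_simple]; show reflVec A 6 (fv0 u0_32) = _; rw [v0_32]; decide +kernel
theorem v0_38 : fv0 u0_38 = ![0, -1, 0, 0, 1, 0, 0, -1] := by
  show fvec M A hA base0 (u0_33 * M.simple 7) = _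
  rw [fvec_mul_simple]; show reflVec A 7 (fv0 u0_33) = _; rw [v0_33]; decide +kernel
theorem v0_39 : fv0 u0_39 = ![0, 1, 0, 0, 0, -1, 0, 1] := by
  show fvec M A hA base0 (u0_34 * M.simple 5) = _
  rw [fvec_mul_simple]; show reflVec A 5 (fv0 u0_34) = _; rw [v0_34]; decide +kernel
theorem v0_40 : fv0 u0_40 = ![0, 1, 0, 0, -1, 1, 0, -1] := by
  show fvec M A hA base0 (u0_34 * M.simple 7) = _
  rw [fvec_mul_simple]; show reflVec A 7 (fv0 u0_34) = _; rw [v0_34]; decide +kernel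
theorem v0_41 : fv0 u0_41 = ![1, 0, -1, 0, 0, 0, 1, 0] := by
  show fvec M A hA base0 (u0_36 * M.simple 2) = _
  rw [fvec_mul_simple]; show reflVec A 2 (fv0 u0_36) = _; rw [v0_36]; decide +kernel
theorem v0_42 : fv0 u0_42 = ![0, 0, 1, -1, 0, 1, -1, 1] := by
  show fvec M A hA base0 (u0_36 * M.simple 6) = _
  rw [fvec_mul_simple]; show reflVec A 6 (fv0 u0_36) = _; rw [v0_36]; decide +kernel
theorem v0_43 : fv0 u0_43 = ![0, -1, 0, 1, 0, -1, 0, 1] := by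
  show fvec M A hA base0 (u0_37 * M.simple 5) = _
  rw [fvec_mul_simple]; show reflVec A 5 (fv0 u0_37) = _; rw [v0_37]; decide +kernel
theorem v0_44 : fv0 u0_44 = ![0, -1, 0, 1, -1, 1, 0, -1] := by
  show fvec M A hA base0 (u0_37 * M.simple 7) = _
  rw [fvec_mul_simple]; show reflVec A 7 (fv0 u0_37) = _; rw [v0_37]; decide +kernel
theorem v0_45 : fv0 u0_45 = ![0, 1, 0, 0, 0, -1, 1, -1] := by
  show fvec M A hA base0 (u0_39 * M.simple 7) = _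
  rw [fvec_mul_simple]; show reflVec A 7 (fv0 u0_39) = _; rw [v0_39]; decide +kernel
theorem v0_46 : fv0 u0_46 = ![-1, 0, 0, 0, 0, 0, 1, 0] := by
  show fvec M A hA base0 (u0_41 * M.simple 0) = _
  rw [fvec_mul_simple]; show reflVec A 0 (fv0 u0_41) = _; rw [v0_41]; decide +kernel
theorem v0_47 : fv0 u0_47 = ![1, 0, -1, 0, 0, 1, -1, 1] := by
  show fvec M A hA base0 (u0_41 * M.simple 6) = _
  rw [fvec_mul_simple]; show reflVec A 6 (fv0 u0_41) = _; rw [v0_41]; decide +kernel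
theorem v0_48 : fv0 u0_48 = ![0, 0, 1, -1, 1, -1, 0, 1] := by
  show fvec M A hA base0 (u0_42 * M.simple 5) = _
  rw [fvec_mul_simple]; show reflVec A 5 (fv0 u0_42) = _; rw [v0_42]; decide +kernel
theorem v0_49 : fv0 u0_49 = ![0, 0, 1, -1, 0, 1, 0, -1] := by
  show fvec M A hA base0 (u0_42 * M.simple 7) = _
  rw [fvec_mul_simple]; show reflVec A 7 (fv0 u0_42) = _; rw [v0_42]; decide +kernel
theorem v0_50 : fv0 u0_50 = ![0, -1, 0, 1, 0, -1, 1, -1] := by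
  show fvec M A hA base0 (u0_43 * M.simple 7) = _
  rw [fvec_mul_simple]; show reflVec A 7 (fv0 u0_43) = _; rw [v0_43]; decide +kernel
theorem v0_51 : fv0 u0_51 = ![0, 1, 0, 0, 0, 0, -1, 0] := by
  show fvec M A hA base0 (u0_45 * M.simple 6) = _
  rw [fvec_mul_simple]; show reflVec A 6 (fv0 u0_45) = _; rw [v0_45]; decide +kernel
theorem v0_52 : fv0 u0_52 = ![-1, 0, 0, 0, 0, 1, -1, 1] := by
  show fvec M A hA base0 (u0_46 * M.simple 6) = _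
  rw [fvec_mul_simple]; show reflVec A 6 (fv0 u0_46) = _; rw [v0_46]; decide +kernel
theorem v0_53 : fv0 u0_53 = ![1, 0, -1, 0, 1, -1, 0, 1] := by
  show fvec M A hA base0 (u0_47 * M.simple 5) = _
  rw [fvec_mul_simple]; show reflVec A 5 (fv0 u0_47) = _; rw [v0_47]; decide +kernel
theorem v0_54 : fv0 u0_54 = ![1, 0, -1, 0, 0, 1, 0, -1] := by
  show fvec M A hA base0 (u0_47 * M.simple 7) = _
  rw [fvec_mul_simple]; show reflVec A 7 (fv0 u0_47) = _; rw [v0_47]; decide +kernel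
theorem v0_55 : fv0 u0_55 = ![0, 0, 1, 0, -1, 0, 0, 1] := by
  show fvec M A hA base0 (u0_48 * M.simple 4) = _
  rw [fvec_mul_simple]; show reflVec A 4 (fv0 u0_48) = _; rw [v0_48]; decide +kernel
theorem v0_56 : fv0 u0_56 = ![0, 0, 1, -1, 1, -1, 1, -1] := by
  show fvec M A hA base0 (u0_48 * M.simple 7) = _
  rw [fvec_mul_simple]; show reflVec A 7 (fv0 u0_48) = _; rw [v0_48]; decide +kernel
theorem v0_57 : fv0 u0_57 = ![0, -1, 0, 1, 0, 0, -1, 0] := by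
  show fvec M A hA base0 (u0_50 * M.simple 6) = _
  rw [fvec_mul_simple]; show reflVec A 6 (fv0 u0_50) = _; rw [v0_50]; decide +kernel
theorem v0_58 : fv0 u0_58 = ![-1, 0, 0, 0, 1, -1, 0, 1] := by
  show fvec M A hA base0 (u0_52 * M.simple 5) = _
  rw [fvec_mul_simple]; show reflVec A 5 (fv0 u0_52) = _; rw [v0_52]; decide +kernel
theorem v0_59 : fv0 u0_59 = ![-1, 0, 0, 0, 0, 1, 0, -1] := by
  show fvec M A hA base0 (u0_52 * M.simple 7) = _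
  rw [fvec_mul_simple]; show reflVec A 7 (fv0 u0_52) = _; rw [v0_52]; decide +kernel
theorem v0_60 : fv0 u0_60 = ![1, 0, -1, 1, -1, 0, 0, 1] := by
  show fvec M A hA base0 (u0_53 * M.simple 4) = _
  rw [fvec_mul_simple]; show reflVec A 4 (fv0 u0_53) = _; rw [v0_53]; decide +kernel
theorem v0_61 : fv0 u0_61 = ![1, 0, -1, 0, 1, -1, 1, -1] := by
  show fvec M A hA base0 (u0_53 * M.simple 7) = _
  rw [fvec_mul_simple]; show reflVec A 7 (fv0 u0_53) = _; rw [v0_53]; decide +kernel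
theorem v0_62 : fv0 u0_62 = ![0, 0, 1, 0, -1, 0, 1, -1] := by
  show fvec M A hA base0 (u0_55 * M.simple 7) = _
  rw [fvec_mul_simple]; show reflVec A 7 (fv0 u0_55) = _; rw [v0_55]; decide +kernel
theorem v0_63 : fv0 u0_63 = ![0, 0, 1, -1, 1, 0, -1, 0] := by
  show fvec M A hA base0 (u0_56 * M.simple 6) = _
  rw [fvec_mul_simple]; show reflVec A 6 (fv0 u0_56) = _; rw [v0_56]; decide +kernel
theorem v0_64 : fv0 u0_64 = ![-1, 0, 0, 1, -1, 0, 0, 1] := by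
  show fvec M A hA base0 (u0_58 * M.simple 4) = _
  rw [fvec_mul_simple]; show reflVec A 4 (fv0 u0_58) = _; rw [v0_58]; decide +kernel
theorem v0_65 : fv0 u0_65 = ![-1, 0, 0, 0, 1, -1, 1, -1] := by
  show fvec M A hA base0 (u0_58 * M.simple 7) = _
  rw [fvec_mul_simple]; show reflVec A 7 (fv0 u0_58) = _; rw [v0_58]; decide +kernel
theorem v0_66 : fv0 u0_66 = ![1, 1, 0, -1, 0, 0, 0, 1] := by
  show fvec M A hA base0 (u0_60 * M.simple 3) = _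
  rw [fvec_mul_simple]; show reflVec A 3 (fv0 u0_60) = _; rw [v0_60]; decide +kernel
theorem v0_67 : fv0 u0_67 = ![1, 0, -1, 1, -1, 0, 1, -1] := by
  show fvec M A hA base0 (u0_60 * M.simple 7) = _
  rw [fvec_mul_simple]; show reflVec A 7 (fv0 u0_60) = _; rw [v0_60]; decide +kernel
theorem v0_68 : fv0 u0_68 = ![1, 0, -1, 0, 1, 0, -1, 0] := by
  show fvec M A hA base0 (u0_61 * M.simple 6) = _
  rw [fvec_mul_simple]; show reflVec A 6 (fv0 u0_61) = _; rw [v0_61]; decide +kernel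
theorem v0_69 : fv0 u0_69 = ![0, 0, 1, 0, -1, 1, -1, 0] := by
  show fvec M A hA base0 (u0_62 * M.simple 6) = _
  rw [fvec_mul_simple]; show reflVec A 6 (fv0 u0_62) = _; rw [v0_62]; decide +kernel
theorem v0_70 : fv0 u0_70 = ![-1, 1, 1, -1, 0, 0, 0, 1] := by
  show fvec M A hA base0 (u0_64 * M.simple 3) = _
  rw [fvec_mul_simple]; show reflVec A 3 (fv0 u0_64) = _; rw [v0_64]; decide +kernel
theorem v0_71 : fv0 u0_71 = ![-1, 0, 0, 1, -1, 0, 1, -1] := by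
  show fvec M A hA base0 (u0_64 * M.simple 7) = _
  rw [fvec_mul_simple]; show reflVec A 7 (fv0 u0_64) = _; rw [v0_64]; decide +kernel
theorem v0_72 : fv0 u0_72 = ![-1, 0, 0, 0, 1, 0, -1, 0] := by
  show fvec M A hA base0 (u0_65 * M.simple 6) = _
  rw [fvec_mul_simple]; show reflVec A 6 (fv0 u0_65) = _; rw [v0_65]; decide +kernel
theorem v0_73 : fv0 u0_73 = ![1, -1, 0, 0, 0, 0, 0, 1] := by
  show fvec M A hA base0 (u0_66 * M.simple 1) = _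
  rw [fvec_mul_simple]; show reflVec A 1 (fv0 u0_66) = _; rw [v0_66]; decide +kernel
theorem v0_74 : fv0 u0_74 = ![1, 1, 0, -1, 0, 0, 1, -1] := by
  show fvec M A hA base0 (u0_66 * M.simple 7) = _
  rw [fvec_mul_simple]; show reflVec A 7 (fv0 u0_66) = _; rw [v0_66]; decide +kernel
theorem v0_75 : fv0 u0_75 = ![1, 0, -1, 1, -1, 1, -1, 0] := by
  show fvec M A hA base0 (u0_67 * M.simple 6) = _
  rw [fvec_mul_simple]; show reflVec A 6 (fv0 u0_67) = _; rw [v0_67]; decide +kernel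
theorem v0_76 : fv0 u0_76 = ![0, 0, 1, 0, 0, -1, 0, 0] := by
  show fvec M A hA base0 (u0_69 * M.simple 5) = _
  rw [fvec_mul_simple]; show reflVec A 5 (fv0 u0_69) = _; rw [v0_69]; decide +kernel
theorem v0_77 : fv0 u0_77 = ![-1, -1, 1, 0, 0, 0, 0, 1] := by
  show fvec M A hA base0 (u0_70 * M.simple 1) = _
  rw [fvec_mul_simple]; show reflVec A 1 (fv0 u0_70) = _; rw [v0_70]; decide +kernel
theorem v0_78 : fv0 u0_78 = ![0, 1, -1, 0, 0, 0, 0, 1] := by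
  show fvec M A hA base0 (u0_70 * M.simple 2) = _
  rw [fvec_mul_simple]; show reflVec A 2 (fv0 u0_70) = _; rw [v0_70]; decide +kernel
theorem v0_79 : fv0 u0_79 = ![-1, 1, 1, -1, 0, 0, 1, -1] := by
  show fvec M A hA base0 (u0_70 * M.simple 7) = _
  rw [fvec_mul_simple]; show reflVec A 7 (fv0 u0_70) = _; rw [v0_70]; decide +kernel
theorem v0_80 : fv0 u0_80 = ![-1, 0, 0, 1, -1, 1, -1, 0] := by
  show fvec M A hA base0 (u0_71 * M.simple 6) = _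
  rw [fvec_mul_simple]; show reflVec A 6 (fv0 u0_71) = _; rw [v0_71]; decide +kernel
theorem v0_81 : fv0 u0_81 = ![1, -1, 0, 0, 0, 0, 1, -1] := by
  show fvec M A hA base0 (u0_73 * M.simple 7) = _
  rw [fvec_mul_simple]; show reflVec A 7 (fv0 u0_73) = _; rw [v0_73]; decide +kernel
theorem v0_82 : fv0 u0_82 = ![1, 1, 0, -1, 0, 1, -1, 0] := by
  show fvec M A hA base0 (u0_74 * M.simple 6) = _
  rw [fvec_mul_simple]; show reflVec A 6 (fv0 u0_74) = _; rw [v0_74]; decide +kernel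
theorem v0_83 : fv0 u0_83 = ![1, 0, -1, 1, 0, -1, 0, 0] := by
  show fvec M A hA base0 (u0_75 * M.simple 5) = _
  rw [fvec_mul_simple]; show reflVec A 5 (fv0 u0_75) = _; rw [v0_75]; decide +kernel
theorem v0_84 : fv0 u0_84 = ![0, -1, -1, 1, 0, 0, 0, 1] := by
  show fvec M A hA base0 (u0_77 * M.simple 2) = _
  rw [fvec_mul_simple]; show reflVec A 2 (fv0 u0_77) = _; rw [v0_77]; decide +kernel
theorem v0_85 : fv0 u0_85 = ![-1, -1, 1, 0, 0, 0, 1, -1] := by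
  show fvec M A hA base0 (u0_77 * M.simple 7) = _
  rw [fvec_mul_simple]; show reflVec A 7 (fv0 u0_77) = _; rw [v0_77]; decide +kernel
theorem v0_86 : fv0 u0_86 = ![0, 1, -1, 0, 0, 0, 1, -1] := by
  show fvec M A hA base0 (u0_78 * M.simple 7) = _
  rw [fvec_mul_simple]; show reflVec A 7 (fv0 u0_78) = _; rw [v0_78]; decide +kernel
theorem v0_87 : fv0 u0_87 = ![-1, 1, 1, -1, 0, 1, -1, 0] := by
  show fvec M A hA base0 (u0_79 * M.simple 6) = _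
  rw [fvec_mul_simple]; show reflVec A 6 (fv0 u0_79) = _; rw [v0_79]; decide +kernel
theorem v0_88 : fv0 u0_88 = ![-1, 0, 0, 1, 0, -1, 0, 0] := by
  show fvec M A hA base0 (u0_80 * M.simple 5) = _
  rw [fvec_mul_simple]; show reflVec A 5 (fv0 u0_80) = _; rw [v0_80]; decide +kernel
theorem v0_89 : fv0 u0_89 = ![1, -1, 0, 0, 0, 1, -1, 0] := by
  show fvec M A hA base0 (u0_81 * M.simple 6) = _
  rw [fvec_mul_simple]; show reflVec A 6 (fv0 u0_81) = _; rw [v0_81]; decide +kernel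
theorem v0_90 : fv0 u0_90 = ![1, 1, 0, -1, 1, -1, 0, 0] := by
  show fvec M A hA base0 (u0_82 * M.simple 5) = _
  rw [fvec_mul_simple]; show reflVec A 5 (fv0 u0_82) = _; rw [v0_82]; decide +kernel
theorem v0_91 : fv0 u0_91 = ![0, 0, 0, -1, 1, 0, 0, 1] := by
  show fvec M A hA base0 (u0_84 * M.simple 3) = _
  rw [fvec_mul_simple]; show reflVec A 3 (fv0 u0_84) = _; rw [v0_84]; decide +kernel
theorem v0_92 : fv0 u0_92 = ![0, -1, -1, 1, 0, 0, 1, -1] := by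
  show fvec M A hA base0 (u0_84 * M.simple 7) = _
  rw [fvec_mul_simple]; show reflVec A 7 (fv0 u0_84) = _; rw [v0_84]; decide +kernel
theorem v0_93 : fv0 u0_93 = ![-1, -1, 1, 0, 0, 1, -1, 0] := by
  show fvec M A hA base0 (u0_85 * M.simple 6) = _
  rw [fvec_mul_simple]; show reflVec A 6 (fv0 u0_85) = _; rw [v0_85]; decide +kernel
theorem v0_94 : fv0 u0_94 = ![0, 1, -1, 0, 0, 1, -1, 0] := by
  show fvec M A hA base0 (u0_86 * M.simple 6) = _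
  rw [fvec_mul_simple]; show reflVec A 6 (fv0 u0_86) = _; rw [v0_86]; decide +kernel
theorem v0_95 : fv0 u0_95 = ![-1, 1, 1, -1, 1, -1, 0, 0] := by
  show fvec M A hA base0 (u0_87 * M.simple 5) = _
  rw [fvec_mul_simple]; show reflVec A 5 (fv0 u0_87) = _; rw [v0_87]; decide +kernel
theorem v0_96 : fv0 u0_96 = ![1, -1, 0, 0, 1, -1, 0, 0] := by
  show fvec M A hA base0 (u0_89 * M.simple 5) = _
  rw [fvec_mul_simple]; show reflVec A 5 (fv0 u0_89) = _; rw [v0_89]; decide +kernel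
theorem v0_97 : fv0 u0_97 = ![1, 1, 0, 0, -1, 0, 0, 0] := by
  show fvec M A hA base0 (u0_90 * M.simple 4) = _
  rw [fvec_mul_simple]; show reflVec A 4 (fv0 u0_90) = _; rw [v0_90]; decide +kernel
theorem v0_98 : fv0 u0_98 = ![0, 0, 0, 0, -1, 1, 0, 1] := by
  show fvec M A hA base0 (u0_91 * M.simple 4) = _
  rw [fvec_mul_simple]; show reflVec A 4 (fv0 u0_91) = _; rw [v0_91]; decide +kernel
theorem v0_99 : fv0 u0_99 = ![0, 0, 0, -1, 1, 0, 1, -1] := by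
  show fvec M A hA base0 (u0_91 * M.simple 7) = _
  rw [fvec_mul_simple]; show reflVec A 7 (fv0 u0_91) = _; rw [v0_91]; decide +kernel
theorem v0_100 : fv0 u0_100 = ![0, -1, -1, 1, 0, 1, -1, 0] := by
  show fvec M A hA base0 (u0_92 * M.simple 6) = _
  rw [fvec_mul_simple]; show reflVec A 6 (fv0 u0_92) = _; rw [v0_92]; decide +kernel
theorem v0_101 : fv0 u0_101 = ![-1, -1, 1, 0, 1, -1, 0, 0] := by
  show fvec M A hA base0 (u0_93 * M.simple 5) = _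
  rw [fvec_mul_simple]; show reflVec A 5 (fv0 u0_93) = _; rw [v0_93]; decide +kernel
theorem v0_102 : fv0 u0_102 = ![0, 1, -1, 0, 1, -1, 0, 0] := by
  show fvec M A hA base0 (u0_94 * M.simple 5) = _
  rw [fvec_mul_simple]; show reflVec A 5 (fv0 u0_94) = _; rw [v0_94]; decide +kernel
theorem v0_103 : fv0 u0_103 = ![-1, 1, 1, 0, -1, 0, 0, 0] := by
  show fvec M A hA base0 (u0_95 * M.simple 4) = _
  rw [fvec_mul_simple]; show reflVec A 4 (fv0 u0_95) = _; rw [v0_95]; decide +kernel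
theorem v0_104 : fv0 u0_104 = ![1, -1, 0, 1, -1, 0, 0, 0] := by
  show fvec M A hA base0 (u0_96 * M.simple 4) = _
  rw [fvec_mul_simple]; show reflVec A 4 (fv0 u0_96) = _; rw [v0_96]; decide +kernel
theorem v0_105 : fv0 u0_105 = ![0, 0, 0, 0, 0, -1, 1, 1] := by
  show fvec M A hA base0 (u0_98 * M.simple 5) = _
  rw [fvec_mul_simple]; show reflVec A 5 (fv0 u0_98) = _; rw [v0_98]; decide +kernel
theorem v0_106 : fv0 u0_106 = ![0, 0, 0, 0, -1, 1, 1, -1] := by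
  show fvec M A hA base0 (u0_98 * M.simple 7) = _
  rw [fvec_mul_simple]; show reflVec A 7 (fv0 u0_98) = _; rw [v0_98]; decide +kernel
theorem v0_107 : fv0 u0_107 = ![0, 0, 0, -1, 1, 1, -1, 0] := by
  show fvec M A hA base0 (u0_99 * M.simple 6) = _
  rw [fvec_mul_simple]; show reflVec A 6 (fv0 u0_99) = _; rw [v0_99]; decide +kernel
theorem v0_108 : fv0 u0_108 = ![0, -1, -1, 1, 1, -1, 0, 0] := by
  show fvec M A hA base0 (u0_100 * M.simple 5) = _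
  rw [fvec_mul_simple]; show reflVec A 5 (fv0 u0_100) = _; rw [v0_100]; decide +kernel
theorem v0_109 : fv0 u0_109 = ![-1, -1, 1, 1, -1, 0, 0, 0] := by
  show fvec M A hA base0 (u0_101 * M.simple 4) = _
  rw [fvec_mul_simple]; show reflVec A 4 (fv0 u0_101) = _; rw [v0_101]; decide +kernel
theorem v0_110 : fv0 u0_110 = ![0, 1, -1, 1, -1, 0, 0, 0] := by
  show fvec M A hA base0 (u0_102 * M.simple 4) = _
  rw [fvec_mul_simple]; show reflVec A 4 (fv0 u0_102) = _; rw [v0_102]; decide +kernel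
theorem v0_111 : fv0 u0_111 = ![1, 0, 1, -1, 0, 0, 0, 0] := by
  show fvec M A hA base0 (u0_104 * M.simple 3) = _
  rw [fvec_mul_simple]; show reflVec A 3 (fv0 u0_104) = _; rw [v0_104]; decide +kernel
theorem v0_112 : fv0 u0_112 = ![0, 0, 0, 0, 0, 0, -1, 2] := by
  show fvec M A hA base0 (u0_105 * M.simple 6) = _
  rw [fvec_mul_simple]; show reflVec A 6 (fv0 u0_105) = _; rw [v0_105]; decide +kernel
theorem v0_113 : fv0 u0_113 = ![0, 0, 0, 0, 0, -1, 2, -1] := by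
  show fvec M A hA base0 (u0_105 * M.simple 7) = _
  rw [fvec_mul_simple]; show reflVec A 7 (fv0 u0_105) = _; rw [v0_105]; decide +kernel
theorem v0_114 : fv0 u0_114 = ![0, 0, 0, 0, -1, 2, -1, 0] := by
  show fvec M A hA base0 (u0_106 * M.simple 6) = _
  rw [fvec_mul_simple]; show reflVec A 6 (fv0 u0_106) = _; rw [v0_106]; decide +kernel
theorem v0_115 : fv0 u0_115 = ![0, 0, 0, -1, 2, -1, 0, 0] := by
  show fvec M A hA base0 (u0_107 * M.simple 5) = _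
  rw [fvec_mul_simple]; show reflVec A 5 (fv0 u0_107) = _; rw [v0_107]; decide +kernel
theorem v0_116 : fv0 u0_116 = ![0, -1, -1, 2, -1, 0, 0, 0] := by
  show fvec M A hA base0 (u0_108 * M.simple 4) = _
  rw [fvec_mul_simple]; show reflVec A 4 (fv0 u0_108) = _; rw [v0_108]; decide +kernel
theorem v0_117 : fv0 u0_117 = ![-1, 0, 2, -1, 0, 0, 0, 0] := by
  show fvec M A hA base0 (u0_109 * M.simple 3) = _
  rw [fvec_mul_simple]; show reflVec A 3 (fv0 u0_109) = _; rw [v0_109]; decide +kernel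
theorem v0_118 : fv0 u0_118 = ![0, 2, 0, -1, 0, 0, 0, 0] := by
  show fvec M A hA base0 (u0_110 * M.simple 3) = _
  rw [fvec_mul_simple]; show reflVec A 3 (fv0 u0_110) = _; rw [v0_110]; decide +kernel
theorem v0_119 : fv0 u0_119 = ![2, 0, -1, 0, 0, 0, 0, 0] := by
  show fvec M A hA base0 (u0_111 * M.simple 2) = _
  rw [fvec_mul_simple]; show reflVec A 2 (fv0 u0_111) = _; rw [v0_111]; decide +kernel
theorem v0_120 : fv0 u0_120 = ![0, 0, 0, 0, 0, 0, 1, -2] := by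
  show fvec M A hA base0 (u0_112 * M.simple 7) = _
  rw [fvec_mul_simple]; show reflVec A 7 (fv0 u0_112) = _; rw [v0_112]; decide +kernel
theorem v0_121 : fv0 u0_121 = ![0, 0, 0, 0, 0, 1, -2, 1] := by
  show fvec M A hA base0 (u0_113 * M.simple 6) = _
  rw [fvec_mul_simple]; show reflVec A 6 (fv0 u0_113) = _; rw [v0_113]; decide +kernel
theorem v0_122 : fv0 u0_122 = ![0, 0, 0, 0, 1, -2, 1, 0] := by
  show fvec M A hA base0 (u0_114 * M.simple 5) = _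
  rw [fvec_mul_simple]; show reflVec A 5 (fv0 u0_114) = _; rw [v0_114]; decide +kernel
theorem v0_123 : fv0 u0_123 = ![0, 0, 0, 1, -2, 1, 0, 0] := by
  show fvec M A hA base0 (u0_115 * M.simple 4) = _
  rw [fvec_mul_simple]; show reflVec A 4 (fv0 u0_115) = _; rw [v0_115]; decide +kernel
theorem v0_124 : fv0 u0_124 = ![0, 1, 1, -2, 1, 0, 0, 0] := by
  show fvec M A hA base0 (u0_116 * M.simple 3) = _
  rw [fvec_mul_simple]; show reflVec A 3 (fv0 u0_116) = _; rw [v0_116]; decide +kernel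
theorem v0_125 : fv0 u0_125 = ![1, 0, -2, 1, 0, 0, 0, 0] := by
  show fvec M A hA base0 (u0_117 * M.simple 2) = _
  rw [fvec_mul_simple]; show reflVec A 2 (fv0 u0_117) = _; rw [v0_117]; decide +kernel
theorem v0_126 : fv0 u0_126 = ![0, -2, 0, 1, 0, 0, 0, 0] := by
  show fvec M A hA base0 (u0_118 * M.simple 1) = _
  rw [fvec_mul_simple]; show reflVec A 1 (fv0 u0_118) = _; rw [v0_118]; decide +kernel
theorem v0_127 : fv0 u0_127 = ![-2, 0, 1, 0, 0, 0, 0, 0] := by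
  show fvec M A hA base0 (u0_119 * M.simple 0) = _
  rw [fvec_mul_simple]; show reflVec A 0 (fv0 u0_119) = _; rw [v0_119]; decide +kernel
theorem v0_128 : fv0 u0_128 = ![0, 0, 0, 0, 0, 1, -1, -1] := by
  show fvec M A hA base0 (u0_120 * M.simple 6) = _
  rw [fvec_mul_simple]; show reflVec A 6 (fv0 u0_120) = _; rw [v0_120]; decide +kernel
theorem v0_129 : fv0 u0_129 = ![0, 0, 0, 0, 1, -1, -1, 1] := by
  show fvec M A hA base0 (u0_121 * M.simple 5) = _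
  rw [fvec_mul_simple]; show reflVec A 5 (fv0 u0_121) = _; rw [v0_121]; decide +kernel
theorem v0_130 : fv0 u0_130 = ![0, 0, 0, 1, -1, -1, 1, 0] := by
  show fvec M A hA base0 (u0_122 * M.simple 4) = _
  rw [fvec_mul_simple]; show reflVec A 4 (fv0 u0_122) = _; rw [v0_122]; decide +kernel
theorem v0_131 : fv0 u0_131 = ![0, 1, 1, -1, -1, 1, 0, 0] := by
  show fvec M A hA base0 (u0_123 * M.simple 3) = _
  rw [fvec_mul_simple]; show reflVec A 3 (fv0 u0_123) = _; rw [v0_123]; decide +kernel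
theorem v0_132 : fv0 u0_132 = ![0, -1, 1, -1, 1, 0, 0, 0] := by
  show fvec M A hA base0 (u0_124 * M.simple 1) = _
  rw [fvec_mul_simple]; show reflVec A 1 (fv0 u0_124) = _; rw [v0_124]; decide +kernel
theorem v0_133 : fv0 u0_133 = ![1, 1, -1, -1, 1, 0, 0, 0] := by
  show fvec M A hA base0 (u0_124 * M.simple 2) = _
  rw [fvec_mul_simple]; show reflVec A 2 (fv0 u0_124) = _; rw [v0_124]; decide +kernel
theorem v0_134 : fv0 u0_134 = ![-1, 0, -1, 1, 0, 0, 0, 0] := by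
  show fvec M A hA base0 (u0_125 * M.simple 0) = _
  rw [fvec_mul_simple]; show reflVec A 0 (fv0 u0_125) = _; rw [v0_125]; decide +kernel
theorem v0_135 : fv0 u0_135 = ![0, 0, 0, 0, 1, -1, 0, -1] := by
  show fvec M A hA base0 (u0_128 * M.simple 5) = _
  rw [fvec_mul_simple]; show reflVec A 5 (fv0 u0_128) = _; rw [v0_128]; decide +kernel
theorem v0_136 : fv0 u0_136 = ![0, 0, 0, 1, -1, 0, -1, 1] := by
  show fvec M A hA base0 (u0_129 * M.simple 4) = _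
  rw [fvec_mul_simple]; show reflVec A 4 (fv0 u0_129) = _; rw [v0_129]; decide +kernel
theorem v0_137 : fv0 u0_137 = ![0, 1, 1, -1, 0, -1, 1, 0] := by
  show fvec M A hA base0 (u0_130 * M.simple 3) = _
  rw [fvec_mul_simple]; show reflVec A 3 (fv0 u0_130) = _; rw [v0_130]; decide +kernel
theorem v0_138 : fv0 u0_138 = ![0, -1, 1, 0, -1, 1, 0, 0] := by
  show fvec M A hA base0 (u0_131 * M.simple 1) = _
  rw [fvec_mul_simple]; show reflVec A 1 (fv0 u0_131) = _; rw [v0_131]; decide +kernel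
theorem v0_139 : fv0 u0_139 = ![1, 1, -1, 0, -1, 1, 0, 0] := by
  show fvec M A hA base0 (u0_131 * M.simple 2) = _
  rw [fvec_mul_simple]; show reflVec A 2 (fv0 u0_131) = _; rw [v0_131]; decide +kernel
theorem v0_140 : fv0 u0_140 = ![1, -1, -1, 0, 1, 0, 0, 0] := by
  show fvec M A hA base0 (u0_132 * M.simple 2) = _
  rw [fvec_mul_simple]; show reflVec A 2 (fv0 u0_132) = _; rw [v0_132]; decide +kernel
theorem v0_141 : fv0 u0_141 = ![-1, 1, 0, -1, 1, 0, 0, 0] := by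
  show fvec M A hA base0 (u0_133 * M.simple 0) = _
  rw [fvec_mul_simple]; show reflVec A 0 (fv0 u0_133) = _; rw [v0_133]; decide +kernel
theorem v0_142 : fv0 u0_142 = ![0, 0, 0, 1, -1, 0, 0, -1] := by
  show fvec M A hA base0 (u0_135 * M.simple 4) = _
  rw [fvec_mul_simple]; show reflVec A 4 (fv0 u0_135) = _; rw [v0_135]; decide +kernel
theorem v0_143 : fv0 u0_143 = ![0, 1, 1, -1, 0, 0, -1, 1] := by
  show fvec M A hA base0 (u0_136 * M.simple 3) = _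
  rw [fvec_mul_simple]; show reflVec A 3 (fv0 u0_136) = _; rw [v0_136]; decide +kernel
theorem v0_144 : fv0 u0_144 = ![0, -1, 1, 0, 0, -1, 1, 0] := by
  show fvec M A hA base0 (u0_137 * M.simple 1) = _
  rw [fvec_mul_simple]; show reflVec A 1 (fv0 u0_137) = _; rw [v0_137]; decide +kernel
theorem v0_145 : fv0 u0_145 = ![1, 1, -1, 0, 0, -1, 1, 0] := by
  show fvec M A hA base0 (u0_137 * M.simple 2) = _
  rw [fvec_mul_simple]; show reflVec A 2 (fv0 u0_137) = _; rw [v0_137]; decide +kernel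
theorem v0_146 : fv0 u0_146 = ![1, -1, -1, 1, -1, 1, 0, 0] := by
  show fvec M A hA base0 (u0_138 * M.simple 2) = _
  rw [fvec_mul_simple]; show reflVec A 2 (fv0 u0_138) = _; rw [v0_138]; decide +kernel
theorem v0_147 : fv0 u0_147 = ![-1, 1, 0, 0, -1, 1, 0, 0] := by
  show fvec M A hA base0 (u0_139 * M.simple 0) = _
  rw [fvec_mul_simple]; show reflVec A 0 (fv0 u0_139) = _; rw [v0_139]; decide +kernel
theorem v0_148 : fv0 u0_148 = ![-1, -1, 0, 0, 1, 0, 0, 0] := by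
  show fvec M A hA base0 (u0_140 * M.simple 0) = _
  rw [fvec_mul_simple]; show reflVec A 0 (fv0 u0_140) = _; rw [v0_140]; decide +kernel
theorem v0_149 : fv0 u0_149 = ![0, 1, 1, -1, 0, 0, 0, -1] := by
  show fvec M A hA base0 (u0_142 * M.simple 3) = _
  rw [fvec_mul_simple]; show reflVec A 3 (fv0 u0_142) = _; rw [v0_142]; decide +kernel
theorem v0_150 : fv0 u0_150 = ![0, -1, 1, 0, 0, 0, -1, 1] := by
  show fvec M A hA base0 (u0_143 * M.simple 1) = _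
  rw [fvec_mul_simple]; show reflVec A 1 (fv0 u0_143) = _; rw [v0_143]; decide +kernel
theorem v0_151 : fv0 u0_151 = ![1, 1, -1, 0, 0, 0, -1, 1] := by
  show fvec M A hA base0 (u0_143 * M.simple 2) = _
  rw [fvec_mul_simple]; show reflVec A 2 (fv0 u0_143) = _; rw [v0_143]; decide +kernel
theorem v0_152 : fv0 u0_152 = ![1, -1, -1, 1, 0, -1, 1, 0] := by
  show fvec M A hA base0 (u0_144 * M.simple 2) = _
  rw [fvec_mul_simple]; show reflVec A 2 (fv0 u0_144) = _; rw [v0_144]; decide +kernel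
theorem v0_153 : fv0 u0_153 = ![-1, 1, 0, 0, 0, -1, 1, 0] := by
  show fvec M A hA base0 (u0_145 * M.simple 0) = _
  rw [fvec_mul_simple]; show reflVec A 0 (fv0 u0_145) = _; rw [v0_145]; decide +kernel
theorem v0_154 : fv0 u0_154 = ![-1, -1, 0, 1, -1, 1, 0, 0] := by
  show fvec M A hA base0 (u0_146 * M.simple 0) = _
  rw [fvec_mul_simple]; show reflVec A 0 (fv0 u0_146) = _; rw [v0_146]; decide +kernel
theorem v0_155 : fv0 u0_155 = ![1, 0, 0, -1, 0, 1, 0, 0] := by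
  show fvec M A hA base0 (u0_146 * M.simple 3) = _
  rw [fvec_mul_simple]; show reflVec A 3 (fv0 u0_146) = _; rw [v0_146]; decide +kernel
theorem v0_156 : fv0 u0_156 = ![0, -1, 1, 0, 0, 0, 0, -1] := by
  show fvec M A hA base0 (u0_149 * M.simple 1) = _
  rw [fvec_mul_simple]; show reflVec A 1 (fv0 u0_149) = _; rw [v0_149]; decide +kernel
theorem v0_157 : fv0 u0_157 = ![1, 1, -1, 0, 0, 0, 0, -1] := by
  show fvec M A hA base0 (u0_149 * M.simple 2) = _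
  rw [fvec_mul_simple]; show reflVec A 2 (fv0 u0_149) = _; rw [v0_149]; decide +kernel
theorem v0_158 : fv0 u0_158 = ![1, -1, -1, 1, 0, 0, -1, 1] := by
  show fvec M A hA base0 (u0_150 * M.simple 2) = _
  rw [fvec_mul_simple]; show reflVec A 2 (fv0 u0_150) = _; rw [v0_150]; decide +kernel
theorem v0_159 : fv0 u0_159 = ![-1, 1, 0, 0, 0, 0, -1, 1] := by
  show fvec M A hA base0 (u0_151 * M.simple 0) = _
  rw [fvec_mul_simple]; show reflVec A 0 (fv0 u0_151) = _; rw [v0_151]; decide +kernel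
theorem v0_160 : fv0 u0_160 = ![-1, -1, 0, 1, 0, -1, 1, 0] := by
  show fvec M A hA base0 (u0_152 * M.simple 0) = _
  rw [fvec_mul_simple]; show reflVec A 0 (fv0 u0_152) = _; rw [v0_152]; decide +kernel
theorem v0_161 : fv0 u0_161 = ![1, 0, 0, -1, 1, -1, 1, 0] := by
  show fvec M A hA base0 (u0_152 * M.simple 3) = _
  rw [fvec_mul_simple]; show reflVec A 3 (fv0 u0_152) = _; rw [v0_152]; decide +kernel
theorem v0_162 : fv0 u0_162 = ![-1, 0, 1, -1, 0, 1, 0, 0] := by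
  show fvec M A hA base0 (u0_154 * M.simple 3) = _
  rw [fvec_mul_simple]; show reflVec A 3 (fv0 u0_154) = _; rw [v0_154]; decide +kernel
theorem v0_163 : fv0 u0_163 = ![1, -1, -1, 1, 0, 0, 0, -1] := by
  show fvec M A hA base0 (u0_156 * M.simple 2) = _
  rw [fvec_mul_simple]; show reflVec A 2 (fv0 u0_156) = _; rw [v0_156]; decide +kernel
theorem v0_164 : fv0 u0_164 = ![-1, 1, 0, 0, 0, 0, 0, -1] := by
  show fvec M A hA base0 (u0_157 * M.simple 0) = _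
  rw [fvec_mul_simple]; show reflVec A 0 (fv0 u0_157) = _; rw [v0_157]; decide +kernel
theorem v0_165 : fv0 u0_165 = ![-1, -1, 0, 1, 0, 0, -1, 1] := by
  show fvec M A hA base0 (u0_158 * M.simple 0) = _
  rw [fvec_mul_simple]; show reflVec A 0 (fv0 u0_158) = _; rw [v0_158]; decide +kernel
theorem v0_166 : fv0 u0_166 = ![1, 0, 0, -1, 1, 0, -1, 1] := by
  show fvec M A hA base0 (u0_158 * M.simple 3) = _
  rw [fvec_mul_simple]; show reflVec A 3 (fv0 u0_158) = _; rw [v0_158]; decide +kernel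
theorem v0_167 : fv0 u0_167 = ![-1, 0, 1, -1, 1, -1, 1, 0] := by
  show fvec M A hA base0 (u0_160 * M.simple 3) = _
  rw [fvec_mul_simple]; show reflVec A 3 (fv0 u0_160) = _; rw [v0_160]; decide +kernel
theorem v0_168 : fv0 u0_168 = ![1, 0, 0, 0, -1, 0, 1, 0] := by
  show fvec M A hA base0 (u0_161 * M.simple 4) = _
  rw [fvec_mul_simple]; show reflVec A 4 (fv0 u0_161) = _; rw [v0_161]; decide +kernel
theorem v0_169 : fv0 u0_169 = ![0, 0, -1, 0, 0, 1, 0, 0] := by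
  show fvec M A hA base0 (u0_162 * M.simple 2) = _
  rw [fvec_mul_simple]; show reflVec A 2 (fv0 u0_162) = _; rw [v0_162]; decide +kernel
theorem v0_170 : fv0 u0_170 = ![-1, -1, 0, 1, 0, 0, 0, -1] := by
  show fvec M A hA base0 (u0_163 * M.simple 0) = _
  rw [fvec_mul_simple]; show reflVec A 0 (fv0 u0_163) = _; rw [v0_163]; decide +kernel
theorem v0_171 : fv0 u0_171 = ![1, 0, 0, -1, 1, 0, 0, -1] := by
  show fvec M A hA base0 (u0_163 * M.simple 3) = _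
  rw [fvec_mul_simple]; show reflVec A 3 (fv0 u0_163) = _; rw [v0_163]; decide +kernel
theorem v0_172 : fv0 u0_172 = ![-1, 0, 1, -1, 1, 0, -1, 1] := by
  show fvec M A hA base0 (u0_165 * M.simple 3) = _
  rw [fvec_mul_simple]; show reflVec A 3 (fv0 u0_165) = _; rw [v0_165]; decide +kernel
theorem v0_173 : fv0 u0_173 = ![1, 0, 0, 0, -1, 1, -1, 1] := by
  show fvec M A hA base0 (u0_166 * M.simple 4) = _
  rw [fvec_mul_simple]; show reflVec A 4 (fv0 u0_166) = _; rw [v0_166]; decide +kernel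
theorem v0_174 : fv0 u0_174 = ![0, 0, -1, 0, 1, -1, 1, 0] := by
  show fvec M A hA base0 (u0_167 * M.simple 2) = _
  rw [fvec_mul_simple]; show reflVec A 2 (fv0 u0_167) = _; rw [v0_167]; decide +kernel
theorem v0_175 : fv0 u0_175 = ![-1, 0, 1, 0, -1, 0, 1, 0] := by
  show fvec M A hA base0 (u0_167 * M.simple 4) = _
  rw [fvec_mul_simple]; show reflVec A 4 (fv0 u0_167) = _; rw [v0_167]; decide +kernel
theorem v0_176 : fv0 u0_176 = ![-1, 0, 1, -1, 1, 0, 0, -1] := by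
  show fvec M A hA base0 (u0_170 * M.simple 3) = _
  rw [fvec_mul_simple]; show reflVec A 3 (fv0 u0_170) = _; rw [v0_170]; decide +kernel
theorem v0_177 : fv0 u0_177 = ![1, 0, 0, 0, -1, 1, 0, -1] := by
  show fvec M A hA base0 (u0_171 * M.simple 4) = _
  rw [fvec_mul_simple]; show reflVec A 4 (fv0 u0_171) = _; rw [v0_171]; decide +kernel
theorem v0_178 : fv0 u0_178 = ![0, 0, -1, 0, 1, 0, -1, 1] := by
  show fvec M A hA base0 (u0_172 * M.simple 2) = _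
  rw [fvec_mul_simple]; show reflVec A 2 (fv0 u0_172) = _; rw [v0_172]; decide +kernel
theorem v0_179 : fv0 u0_179 = ![-1, 0, 1, 0, -1, 1, -1, 1] := by
  show fvec M A hA base0 (u0_172 * M.simple 4) = _
  rw [fvec_mul_simple]; show reflVec A 4 (fv0 u0_172) = _; rw [v0_172]; decide +kernel
theorem v0_180 : fv0 u0_180 = ![1, 0, 0, 0, 0, -1, 0, 1] := by
  show fvec M A hA base0 (u0_173 * M.simple 5) = _
  rw [fvec_mul_simple]; show reflVec A 5 (fv0 u0_173) = _; rw [v0_173]; decide +kernel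
theorem v0_181 : fv0 u0_181 = ![0, 0, -1, 1, -1, 0, 1, 0] := by
  show fvec M A hA base0 (u0_174 * M.simple 4) = _
  rw [fvec_mul_simple]; show reflVec A 4 (fv0 u0_174) = _; rw [v0_174]; decide +kernel
theorem v0_182 : fv0 u0_182 = ![0, 0, -1, 0, 1, 0, 0, -1] := by
  show fvec M A hA base0 (u0_176 * M.simple 2) = _
  rw [fvec_mul_simple]; show reflVec A 2 (fv0 u0_176) = _; rw [v0_176]; decide +kernel
theorem v0_183 : fv0 u0_183 = ![-1, 0, 1, 0, -1, 1, 0, -1] := by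
  show fvec M A hA base0 (u0_176 * M.simple 4) = _
  rw [fvec_mul_simple]; show reflVec A 4 (fv0 u0_176) = _; rw [v0_176]; decide +kernel
theorem v0_184 : fv0 u0_184 = ![1, 0, 0, 0, 0, -1, 1, -1] := by
  show fvec M A hA base0 (u0_177 * M.simple 5) = _
  rw [fvec_mul_simple]; show reflVec A 5 (fv0 u0_177) = _; rw [v0_177]; decide +kernel
theorem v0_185 : fv0 u0_185 = ![0, 0, -1, 1, -1, 1, -1, 1] := by
  show fvec M A hA base0 (u0_178 * M.simple 4) = _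
  rw [fvec_mul_simple]; show reflVec A 4 (fv0 u0_178) = _; rw [v0_178]; decide +kernel
theorem v0_186 : fv0 u0_186 = ![-1, 0, 1, 0, 0, -1, 0, 1] := by
  show fvec M A hA base0 (u0_179 * M.simple 5) = _
  rw [fvec_mul_simple]; show reflVec A 5 (fv0 u0_179) = _; rw [v0_179]; decide +kernel
theorem v0_187 : fv0 u0_187 = ![0, 1, 0, -1, 0, 0, 1, 0] := by
  show fvec M A hA base0 (u0_181 * M.simple 3) = _
  rw [fvec_mul_simple]; show reflVec A 3 (fv0 u0_181) = _; rw [v0_181]; decide +kernel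
theorem v0_188 : fv0 u0_188 = ![0, 0, -1, 1, -1, 1, 0, -1] := by
  show fvec M A hA base0 (u0_182 * M.simple 4) = _
  rw [fvec_mul_simple]; show reflVec A 4 (fv0 u0_182) = _; rw [v0_182]; decide +kernel
theorem v0_189 : fv0 u0_189 = ![-1, 0, 1, 0, 0, -1, 1, -1] := by
  show fvec M A hA base0 (u0_183 * M.simple 5) = _
  rw [fvec_mul_simple]; show reflVec A 5 (fv0 u0_183) = _; rw [v0_183]; decide +kernel
theorem v0_190 : fv0 u0_190 = ![1, 0, 0, 0, 0, 0, -1, 0] := by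
  show fvec M A hA base0 (u0_184 * M.simple 6) = _
  rw [fvec_mul_simple]; show reflVec A 6 (fv0 u0_184) = _; rw [v0_184]; decide +kernel
theorem v0_191 : fv0 u0_191 = ![0, 1, 0, -1, 0, 1, -1, 1] := by
  show fvec M A hA base0 (u0_185 * M.simple 3) = _
  rw [fvec_mul_simple]; show reflVec A 3 (fv0 u0_185) = _; rw [v0_185]; decide +kernel
theorem v0_192 : fv0 u0_192 = ![0, 0, -1, 1, 0, -1, 0, 1] := by
  show fvec M A hA base0 (u0_185 * M.simple 5) = _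
  rw [fvec_mul_simple]; show reflVec A 5 (fv0 u0_185) = _; rw [v0_185]; decide +kernel
theorem v0_193 : fv0 u0_193 = ![0, -1, 0, 0, 0, 0, 1, 0] := by
  show fvec M A hA base0 (u0_187 * M.simple 1) = _
  rw [fvec_mul_simple]; show reflVec A 1 (fv0 u0_187) = _; rw [v0_187]; decide +kernel
theorem v0_194 : fv0 u0_194 = ![0, 1, 0, -1, 0, 1, 0, -1] := by
  show fvec M A hA base0 (u0_188 * M.simple 3) = _
  rw [fvec_mul_simple]; show reflVec A 3 (fv0 u0_188) = _; rw [v0_188]; decide +kernel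
theorem v0_195 : fv0 u0_195 = ![0, 0, -1, 1, 0, -1, 1, -1] := by
  show fvec M A hA base0 (u0_188 * M.simple 5) = _
  rw [fvec_mul_simple]; show reflVec A 5 (fv0 u0_188) = _; rw [v0_188]; decide +kernel
theorem v0_196 : fv0 u0_196 = ![-1, 0, 1, 0, 0, 0, -1, 0] := by
  show fvec M A hA base0 (u0_189 * M.simple 6) = _
  rw [fvec_mul_simple]; show reflVec A 6 (fv0 u0_189) = _; rw [v0_189]; decide +kernel
theorem v0_197 : fv0 u0_197 = ![0, -1, 0, 0, 0, 1, -1, 1] := by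
  show fvec M A hA base0 (u0_191 * M.simple 1) = _
  rw [fvec_mul_simple]; show reflVec A 1 (fv0 u0_191) = _; rw [v0_191]; decide +kernel
theorem v0_198 : fv0 u0_198 = ![0, 1, 0, -1, 1, -1, 0, 1] := by
  show fvec M A hA base0 (u0_191 * M.simple 5) = _
  rw [fvec_mul_simple]; show reflVec A 5 (fv0 u0_191) = _; rw [v0_191]; decide +kernel
theorem v0_199 : fv0 u0_199 = ![0, -1, 0, 0, 0, 1, 0, -1] := by
  show fvec M A hA base0 (u0_194 * M.simple 1) = _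
  rw [fvec_mul_simple]; show reflVec A 1 (fv0 u0_194) = _; rw [v0_194]; decide +kernel
theorem v0_200 : fv0 u0_200 = ![0, 1, 0, -1, 1, -1, 1, -1] := by
  show fvec M A hA base0 (u0_194 * M.simple 5) = _
  rw [fvec_mul_simple]; show reflVec A 5 (fv0 u0_194) = _; rw [v0_194]; decide +kernel
theorem v0_201 : fv0 u0_201 = ![0, 0, -1, 1, 0, 0, -1, 0] := by
  show fvec M A hA base0 (u0_195 * M.simple 6) = _
  rw [fvec_mul_simple]; show reflVec A 6 (fv0 u0_195) = _; rw [v0_195]; decide +kernel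
theorem v0_202 : fv0 u0_202 = ![0, -1, 0, 0, 1, -1, 0, 1] := by
  show fvec M A hA base0 (u0_197 * M.simple 5) = _
  rw [fvec_mul_simple]; show reflVec A 5 (fv0 u0_197) = _; rw [v0_197]; decide +kernel
theorem v0_203 : fv0 u0_203 = ![0, 1, 0, 0, -1, 0, 0, 1] := by
  show fvec M A hA base0 (u0_198 * M.simple 4) = _
  rw [fvec_mul_simple]; show reflVec A 4 (fv0 u0_198) = _; rw [v0_198]; decide +kernel
theorem v0_204 : fv0 u0_204 = ![0, -1, 0, 0, 1, -1, 1, -1] := by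
  show fvec M A hA base0 (u0_199 * M.simple 5) = _
  rw [fvec_mul_simple]; show reflVec A 5 (fv0 u0_199) = _; rw [v0_199]; decide +kernel
theorem v0_205 : fv0 u0_205 = ![0, 1, 0, 0, -1, 0, 1, -1] := by
  show fvec M A hA base0 (u0_200 * M.simple 4) = _
  rw [fvec_mul_simple]; show reflVec A 4 (fv0 u0_200) = _; rw [v0_200]; decide +kernel
theorem v0_206 : fv0 u0_206 = ![0, 1, 0, -1, 1, 0, -1, 0] := by
  show fvec M A hA base0 (u0_200 * M.simple 6) = _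
  rw [fvec_mul_simple]; show reflVec A 6 (fv0 u0_200) = _; rw [v0_200]; decide +kernel
theorem v0_207 : fv0 u0_207 = ![0, -1, 0, 1, -1, 0, 0, 1] := by
  show fvec M A hA base0 (u0_202 * M.simple 4) = _
  rw [fvec_mul_simple]; show reflVec A 4 (fv0 u0_202) = _; rw [v0_202]; decide +kernel
theorem v0_208 : fv0 u0_208 = ![0, -1, 0, 1, -1, 0, 1, -1] := by
  show fvec M A hA base0 (u0_204 * M.simple 4) = _
  rw [fvec_mul_simple]; show reflVec A 4 (fv0 u0_204) = _; rw [v0_204]; decide +kernel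
theorem v0_209 : fv0 u0_209 = ![0, -1, 0, 0, 1, 0, -1, 0] := by
  show fvec M A hA base0 (u0_204 * M.simple 6) = _
  rw [fvec_mul_simple]; show reflVec A 6 (fv0 u0_204) = _; rw [v0_204]; decide +kernel
theorem v0_210 : fv0 u0_210 = ![0, 1, 0, 0, -1, 1, -1, 0] := by
  show fvec M A hA base0 (u0_205 * M.simple 6) = _
  rw [fvec_mul_simple]; show reflVec A 6 (fv0 u0_205) = _; rw [v0_205]; decide +kernel
theorem v0_211 : fv0 u0_211 = ![0, 0, 1, -1, 0, 0, 0, 1] := by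
  show fvec M A hA base0 (u0_207 * M.simple 3) = _
  rw [fvec_mul_simple]; show reflVec A 3 (fv0 u0_207) = _; rw [v0_207]; decide +kernel
theorem v0_212 : fv0 u0_212 = ![0, 0, 1, -1, 0, 0, 1, -1] := by
  show fvec M A hA base0 (u0_208 * M.simple 3) = _
  rw [fvec_mul_simple]; show reflVec A 3 (fv0 u0_208) = _; rw [v0_208]; decide +kernel
theorem v0_213 : fv0 u0_213 = ![0, -1, 0, 1, -1, 1, -1, 0] := by
  show fvec M A hA base0 (u0_208 * M.simple 6) = _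
  rw [fvec_mul_simple]; show reflVec A 6 (fv0 u0_208) = _; rw [v0_208]; decide +kernel
theorem v0_214 : fv0 u0_214 = ![0, 1, 0, 0, 0, -1, 0, 0] := by
  show fvec M A hA base0 (u0_210 * M.simple 5) = _
  rw [fvec_mul_simple]; show reflVec A 5 (fv0 u0_210) = _; rw [v0_210]; decide +kernel
theorem v0_215 : fv0 u0_215 = ![1, 0, -1, 0, 0, 0, 0, 1] := by
  show fvec M A hA base0 (u0_211 * M.simple 2) = _
  rw [fvec_mul_simple]; show reflVec A 2 (fv0 u0_211) = _; rw [v0_211]; decide +kernel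
theorem v0_216 : fv0 u0_216 = ![1, 0, -1, 0, 0, 0, 1, -1] := by
  show fvec M A hA base0 (u0_212 * M.simple 2) = _
  rw [fvec_mul_simple]; show reflVec A 2 (fv0 u0_212) = _; rw [v0_212]; decide +kernel
theorem v0_217 : fv0 u0_217 = ![0, 0, 1, -1, 0, 1, -1, 0] := by
  show fvec M A hA base0 (u0_212 * M.simple 6) = _
  rw [fvec_mul_simple]; show reflVec A 6 (fv0 u0_212) = _; rw [v0_212]; decide +kernel
theorem v0_218 : fv0 u0_218 = ![0, -1, 0, 1, 0, -1, 0, 0] := by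
  show fvec M A hA base0 (u0_213 * M.simple 5) = _
  rw [fvec_mul_simple]; show reflVec A 5 (fv0 u0_213) = _; rw [v0_213]; decide +kernel
theorem v0_219 : fv0 u0_219 = ![-1, 0, 0, 0, 0, 0, 0, 1] := by
  show fvec M A hA base0 (u0_215 * M.simple 0) = _
  rw [fvec_mul_simple]; show reflVec A 0 (fv0 u0_215) = _; rw [v0_215]; decide +kernel
theorem v0_220 : fv0 u0_220 = ![-1, 0, 0, 0, 0, 0, 1, -1] := by
  show fvec M A hA base0 (u0_216 * M.simple 0) = _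
  rw [fvec_mul_simple]; show reflVec A 0 (fv0 u0_216) = _; rw [v0_216]; decide +kernel
theorem v0_221 : fv0 u0_221 = ![1, 0, -1, 0, 0, 1, -1, 0] := by
  show fvec M A hA base0 (u0_216 * M.simple 6) = _
  rw [fvec_mul_simple]; show reflVec A 6 (fv0 u0_216) = _; rw [v0_216]; decide +kernel
theorem v0_222 : fv0 u0_222 = ![0, 0, 1, -1, 1, -1, 0, 0] := by
  show fvec M A hA base0 (u0_217 * M.simple 5) = _
  rw [fvec_mul_simple]; show reflVec A 5 (fv0 u0_217) = _; rw [v0_217]; decide +kernel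
theorem v0_223 : fv0 u0_223 = ![-1, 0, 0, 0, 0, 1, -1, 0] := by
  show fvec M A hA base0 (u0_220 * M.simple 6) = _
  rw [fvec_mul_simple]; show reflVec A 6 (fv0 u0_220) = _; rw [v0_220]; decide +kernel
theorem v0_224 : fv0 u0_224 = ![1, 0, -1, 0, 1, -1, 0, 0] := by
  show fvec M A hA base0 (u0_221 * M.simple 5) = _
  rw [fvec_mul_simple]; show reflVec A 5 (fv0 u0_221) = _; rw [v0_221]; decide +kernel
theorem v0_225 : fv0 u0_225 = ![0, 0, 1, 0, -1, 0, 0, 0] := by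
  show fvec M A hA base0 (u0_222 * M.simple 4) = _
  rw [fvec_mul_simple]; show reflVec A 4 (fv0 u0_222) = _; rw [v0_222]; decide +kernel
theorem v0_226 : fv0 u0_226 = ![-1, 0, 0, 0, 1, -1, 0, 0] := by
  show fvec M A hA base0 (u0_223 * M.simple 5) = _
  rw [fvec_mul_simple]; show reflVec A 5 (fv0 u0_223) = _; rw [v0_223]; decide +kernel
theorem v0_227 : fv0 u0_227 = ![1, 0, -1, 1, -1, 0, 0, 0] := by
  show fvec M A hA base0 (u0_224 * M.simple 4) = _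
  rw [fvec_mul_simple]; show reflVec A 4 (fv0 u0_224) = _; rw [v0_224]; decide +kernel
theorem v0_228 : fv0 u0_228 = ![-1, 0, 0, 1, -1, 0, 0, 0] := by
  show fvec M A hA base0 (u0_226 * M.simple 4) = _
  rw [fvec_mul_simple]; show reflVec A 4 (fv0 u0_226) = _; rw [v0_226]; decide +kernel
theorem v0_229 : fv0 u0_229 = ![1, 1, 0, -1, 0, 0, 0, 0] := by
  show fvec M A hA base0 (u0_227 * M.simple 3) = _
  rw [fvec_mul_simple]; show reflVec A 3 (fv0 u0_227) = _; rw [v0_227]; decide +kernel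
theorem v0_230 : fv0 u0_230 = ![-1, 1, 1, -1, 0, 0, 0, 0] := by
  show fvec M A hA base0 (u0_228 * M.simple 3) = _
  rw [fvec_mul_simple]; show reflVec A 3 (fv0 u0_228) = _; rw [v0_228]; decide +kernel
theorem v0_231 : fv0 u0_231 = ![1, -1, 0, 0, 0, 0, 0, 0] := by
  show fvec M A hA base0 (u0_229 * M.simple 1) = _
  rw [fvec_mul_simple]; show reflVec A 1 (fv0 u0_229) = _; rw [v0_229]; decide +kernel
theorem v0_232 : fv0 u0_232 = ![-1, -1, 1, 0, 0, 0, 0, 0] := by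
  show fvec M A hA base0 (u0_230 * M.simple 1) = _
  rw [fvec_mul_simple]; show reflVec A 1 (fv0 u0_230) = _; rw [v0_230]; decide +kernel
theorem v0_233 : fv0 u0_233 = ![0, 1, -1, 0, 0, 0, 0, 0] := by
  show fvec M A hA base0 (u0_230 * M.simple 2) = _
  rw [fvec_mul_simple]; show reflVec A 2 (fv0 u0_230) = _; rw [v0_230]; decide +kernel
theorem v0_234 : fv0 u0_234 = ![0, -1, -1, 1, 0, 0, 0, 0] := by
  show fvec M A hA base0 (u0_232 * M.simple 2) = _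
  rw [fvec_mul_simple]; show reflVec A 2 (fv0 u0_232) = _; rw [v0_232]; decide +kernel
theorem v0_235 : fv0 u0_235 = ![0, 0, 0, -1, 1, 0, 0, 0] := by
  show fvec M A hA base0 (u0_234 * M.simple 3) = _
  rw [fvec_mul_simple]; show reflVec A 3 (fv0 u0_234) = _; rw [v0_234]; decide +kernel
theorem v0_236 : fv0 u0_236 = ![0, 0, 0, 0, -1, 1, 0, 0] := by
  show fvec M A hA base0 (u0_235 * M.simple 4) = _
  rw [fvec_mul_simple]; show reflVec A 4 (fv0 u0_235) = _; rw [v0_235]; decide +kernel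
theorem v0_237 : fv0 u0_237 = ![0, 0, 0, 0, 0, -1, 1, 0] := by
  show fvec M A hA base0 (u0_236 * M.simple 5) = _
  rw [fvec_mul_simple]; show reflVec A 5 (fv0 u0_236) = _; rw [v0_236]; decide +kernel
theorem v0_238 : fv0 u0_238 = ![0, 0, 0, 0, 0, 0, -1, 1] := by
  show fvec M A hA base0 (u0_237 * M.simple 6) = _
  rw [fvec_mul_simple]; show reflVec A 6 (fv0 u0_237) = _; rw [v0_237]; decide +kernel
theorem v0_239 : fv0 u0_239 = ![0, 0, 0, 0, 0, 0, 0, -1] := by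
  show fvec M A hA base0 (u0_238 * M.simple 7) = _
  rw [fvec_mul_simple]; show reflVec A 7 (fv0 u0_238) = _; rw [v0_238]; decide +kernel
theorem e0_0_7 : u0_0 * s 7 = 1 * u0_1 := (one_mul (u0_0 * s 7)).symm
theorem e0_1_7 : u0_1 * s 7 = 1 * u0_0 := tree_up (s_sq 7)
theorem e0_1_6 : u0_1 * s 6 = 1 * u0_2 := (one_mul (u0_1 * s 6)).symm
theorem e0_2_6 : u0_2 * s 6 = 1 * u0_1 := tree_up (s_sq 6)
theorem e0_2_5 : u0_2 * s 5 = 1 * u0_3 := (one_mul (u0_2 * s 5)).symm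
theorem e0_3_5 : u0_3 * s 5 = 1 * u0_2 := tree_up (s_sq 5)
theorem e0_3_4 : u0_3 * s 4 = 1 * u0_4 := (one_mul (u0_3 * s 4)).symm
theorem e0_4_4 : u0_4 * s 4 = 1 * u0_3 := tree_up (s_sq 4)
theorem e0_4_3 : u0_4 * s 3 = 1 * u0_5 := (one_mul (u0_4 * s 3)).symm
theorem e0_5_3 : u0_5 * s 3 = 1 * u0_4 := tree_up (s_sq 3)
theorem e0_5_1 : u0_5 * s 1 = 1 * u0_6 := (one_mul (u0_5 * s 1)).symm
theorem e0_6_1 : u0_6 * s 1 = 1 * u0_5 := tree_up (s_sq 1)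
theorem e0_5_2 : u0_5 * s 2 = 1 * u0_7 := (one_mul (u0_5 * s 2)).symm
theorem e0_7_2 : u0_7 * s 2 = 1 * u0_5 := tree_up (s_sq 2)
theorem e0_6_2 : u0_6 * s 2 = 1 * u0_8 := (one_mul (u0_6 * s 2)).symm
theorem e0_8_2 : u0_8 * s 2 = 1 * u0_6 := tree_up (s_sq 2)
theorem e0_7_0 : u0_7 * s 0 = 1 * u0_9 := (one_mul (u0_7 * s 0)).symm
theorem e0_9_0 : u0_9 * s 0 = 1 * u0_7 := tree_up (s_sq 0)
theorem e0_8_0 : u0_8 * s 0 = 1 * u0_10 := (one_mul (u0_8 * s 0)).symm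
theorem e0_10_0 : u0_10 * s 0 = 1 * u0_8 := tree_up (s_sq 0)
theorem e0_8_3 : u0_8 * s 3 = 1 * u0_11 := (one_mul (u0_8 * s 3)).symm
theorem e0_11_3 : u0_11 * s 3 = 1 * u0_8 := tree_up (s_sq 3)
theorem e0_10_3 : u0_10 * s 3 = 1 * u0_12 := (one_mul (u0_10 * s 3)).symm
theorem e0_12_3 : u0_12 * s 3 = 1 * u0_10 := tree_up (s_sq 3)
theorem e0_11_4 : u0_11 * s 4 = 1 * u0_13 := (one_mul (u0_11 * s 4)).symm
theorem e0_13_4 : u0_13 * s 4 = 1 * u0_11 := tree_up (s_sq 4)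
theorem e0_12_2 : u0_12 * s 2 = 1 * u0_14 := (one_mul (u0_12 * s 2)).symm
theorem e0_14_2 : u0_14 * s 2 = 1 * u0_12 := tree_up (s_sq 2)
theorem e0_12_4 : u0_12 * s 4 = 1 * u0_15 := (one_mul (u0_12 * s 4)).symm
theorem e0_15_4 : u0_15 * s 4 = 1 * u0_12 := tree_up (s_sq 4)
theorem e0_13_5 : u0_13 * s 5 = 1 * u0_16 := (one_mul (u0_13 * s 5)).symm
theorem e0_16_5 : u0_16 * s 5 = 1 * u0_13 := tree_up (s_sq 5)
theorem e0_14_4 : u0_14 * s 4 = 1 * u0_17 := (one_mul (u0_14 * s 4)).symm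
theorem e0_17_4 : u0_17 * s 4 = 1 * u0_14 := tree_up (s_sq 4)
theorem e0_15_5 : u0_15 * s 5 = 1 * u0_18 := (one_mul (u0_15 * s 5)).symm
theorem e0_18_5 : u0_18 * s 5 = 1 * u0_15 := tree_up (s_sq 5)
theorem e0_16_6 : u0_16 * s 6 = 1 * u0_19 := (one_mul (u0_16 * s 6)).symm
theorem e0_19_6 : u0_19 * s 6 = 1 * u0_16 := tree_up (s_sq 6)
theorem e0_17_3 : u0_17 * s 3 = 1 * u0_20 := (one_mul (u0_17 * s 3)).symm
theorem e0_20_3 : u0_20 * s 3 = 1 * u0_17 := tree_up (s_sq 3)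
theorem e0_17_5 : u0_17 * s 5 = 1 * u0_21 := (one_mul (u0_17 * s 5)).symm
theorem e0_21_5 : u0_21 * s 5 = 1 * u0_17 := tree_up (s_sq 5)
theorem e0_18_6 : u0_18 * s 6 = 1 * u0_22 := (one_mul (u0_18 * s 6)).symm
theorem e0_22_6 : u0_22 * s 6 = 1 * u0_18 := tree_up (s_sq 6)
theorem e0_19_7 : u0_19 * s 7 = 1 * u0_23 := (one_mul (u0_19 * s 7)).symm
theorem e0_23_7 : u0_23 * s 7 = 1 * u0_19 := tree_up (s_sq 7)
theorem e0_20_1 : u0_20 * s 1 = 1 * u0_24 := (one_mul (u0_20 * s 1)).symm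
theorem e0_24_1 : u0_24 * s 1 = 1 * u0_20 := tree_up (s_sq 1)
theorem e0_20_5 : u0_20 * s 5 = 1 * u0_25 := (one_mul (u0_20 * s 5)).symm
theorem e0_25_5 : u0_25 * s 5 = 1 * u0_20 := tree_up (s_sq 5)
theorem e0_21_6 : u0_21 * s 6 = 1 * u0_26 := (one_mul (u0_21 * s 6)).symm
theorem e0_26_6 : u0_26 * s 6 = 1 * u0_21 := tree_up (s_sq 6)
theorem e0_22_7 : u0_22 * s 7 = 1 * u0_27 := (one_mul (u0_22 * s 7)).symm
theorem e0_27_7 : u0_27 * s 7 = 1 * u0_22 := tree_up (s_sq 7)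
theorem e0_24_5 : u0_24 * s 5 = 1 * u0_28 := (one_mul (u0_24 * s 5)).symm
theorem e0_28_5 : u0_28 * s 5 = 1 * u0_24 := tree_up (s_sq 5)
theorem e0_25_4 : u0_25 * s 4 = 1 * u0_29 := (one_mul (u0_25 * s 4)).symm
theorem e0_29_4 : u0_29 * s 4 = 1 * u0_25 := tree_up (s_sq 4)
theorem e0_25_6 : u0_25 * s 6 = 1 * u0_30 := (one_mul (u0_25 * s 6)).symm
theorem e0_30_6 : u0_30 * s 6 = 1 * u0_25 := tree_up (s_sq 6)
theorem e0_26_7 : u0_26 * s 7 = 1 * u0_31 := (one_mul (u0_26 * s 7)).symm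
theorem e0_31_7 : u0_31 * s 7 = 1 * u0_26 := tree_up (s_sq 7)
theorem e0_28_4 : u0_28 * s 4 = 1 * u0_32 := (one_mul (u0_28 * s 4)).symm
theorem e0_32_4 : u0_32 * s 4 = 1 * u0_28 := tree_up (s_sq 4)
theorem e0_28_6 : u0_28 * s 6 = 1 * u0_33 := (one_mul (u0_28 * s 6)).symm
theorem e0_33_6 : u0_33 * s 6 = 1 * u0_28 := tree_up (s_sq 6)
theorem e0_29_6 : u0_29 * s 6 = 1 * u0_34 := (one_mul (u0_29 * s 6)).symm
theorem e0_34_6 : u0_34 * s 6 = 1 * u0_29 := tree_up (s_sq 6)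
theorem e0_30_7 : u0_30 * s 7 = 1 * u0_35 := (one_mul (u0_30 * s 7)).symm
theorem e0_35_7 : u0_35 * s 7 = 1 * u0_30 := tree_up (s_sq 7)
theorem e0_32_3 : u0_32 * s 3 = 1 * u0_36 := (one_mul (u0_32 * s 3)).symm
theorem e0_36_3 : u0_36 * s 3 = 1 * u0_32 := tree_up (s_sq 3)
theorem e0_32_6 : u0_32 * s 6 = 1 * u0_37 := (one_mul (u0_32 * s 6)).symm
theorem e0_37_6 : u0_37 * s 6 = 1 * u0_32 := tree_up (s_sq 6)
theorem e0_33_7 : u0_33 * s 7 = 1 * u0_38 := (one_mul (u0_33 * s 7)).symm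
theorem e0_38_7 : u0_38 * s 7 = 1 * u0_33 := tree_up (s_sq 7)
theorem e0_34_5 : u0_34 * s 5 = 1 * u0_39 := (one_mul (u0_34 * s 5)).symm
theorem e0_39_5 : u0_39 * s 5 = 1 * u0_34 := tree_up (s_sq 5)
theorem e0_34_7 : u0_34 * s 7 = 1 * u0_40 := (one_mul (u0_34 * s 7)).symm
theorem e0_40_7 : u0_40 * s 7 = 1 * u0_34 := tree_up (s_sq 7)
theorem e0_36_2 : u0_36 * s 2 = 1 * u0_41 := (one_mul (u0_36 * s 2)).symm
theorem e0_41_2 : u0_41 * s 2 = 1 * u0_36 := tree_up (s_sq 2)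
theorem e0_36_6 : u0_36 * s 6 = 1 * u0_42 := (one_mul (u0_36 * s 6)).symm
theorem e0_42_6 : u0_42 * s 6 = 1 * u0_36 := tree_up (s_sq 6)
theorem e0_37_5 : u0_37 * s 5 = 1 * u0_43 := (one_mul (u0_37 * s 5)).symm
theorem e0_43_5 : u0_43 * s 5 = 1 * u0_37 := tree_up (s_sq 5)
theorem e0_37_7 : u0_37 * s 7 = 1 * u0_44 := (one_mul (u0_37 * s 7)).symm
theorem e0_44_7 : u0_44 * s 7 = 1 * u0_37 := tree_up (s_sq 7)
theorem e0_39_7 : u0_39 * s 7 = 1 * u0_45 := (one_mul (u0_39 * s 7)).symm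
theorem e0_45_7 : u0_45 * s 7 = 1 * u0_39 := tree_up (s_sq 7)
theorem e0_41_0 : u0_41 * s 0 = 1 * u0_46 := (one_mul (u0_41 * s 0)).symm
theorem e0_46_0 : u0_46 * s 0 = 1 * u0_41 := tree_up (s_sq 0)
theorem e0_41_6 : u0_41 * s 6 = 1 * u0_47 := (one_mul (u0_41 * s 6)).symm
theorem e0_47_6 : u0_47 * s 6 = 1 * u0_41 := tree_up (s_sq 6)
theorem e0_42_5 : u0_42 * s 5 = 1 * u0_48 := (one_mul (u0_42 * s 5)).symm
theorem e0_48_5 : u0_48 * s 5 = 1 * u0_42 := tree_up (s_sq 5)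
theorem e0_42_7 : u0_42 * s 7 = 1 * u0_49 := (one_mul (u0_42 * s 7)).symm
theorem e0_49_7 : u0_49 * s 7 = 1 * u0_42 := tree_up (s_sq 7)
theorem e0_43_7 : u0_43 * s 7 = 1 * u0_50 := (one_mul (u0_43 * s 7)).symm
theorem e0_50_7 : u0_50 * s 7 = 1 * u0_43 := tree_up (s_sq 7)
theorem e0_45_6 : u0_45 * s 6 = 1 * u0_51 := (one_mul (u0_45 * s 6)).symm
theorem e0_51_6 : u0_51 * s 6 = 1 * u0_45 := tree_up (s_sq 6)
theorem e0_46_6 : u0_46 * s 6 = 1 * u0_52 := (one_mul (u0_46 * s 6)).symm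
theorem e0_52_6 : u0_52 * s 6 = 1 * u0_46 := tree_up (s_sq 6)
theorem e0_47_5 : u0_47 * s 5 = 1 * u0_53 := (one_mul (u0_47 * s 5)).symm
theorem e0_53_5 : u0_53 * s 5 = 1 * u0_47 := tree_up (s_sq 5)
theorem e0_47_7 : u0_47 * s 7 = 1 * u0_54 := (one_mul (u0_47 * s 7)).symm
theorem e0_54_7 : u0_54 * s 7 = 1 * u0_47 := tree_up (s_sq 7)
theorem e0_48_4 : u0_48 * s 4 = 1 * u0_55 := (one_mul (u0_48 * s 4)).symm
theorem e0_55_4 : u0_55 * s 4 = 1 * u0_48 := tree_up (s_sq 4)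
theorem e0_48_7 : u0_48 * s 7 = 1 * u0_56 := (one_mul (u0_48 * s 7)).symm
theorem e0_56_7 : u0_56 * s 7 = 1 * u0_48 := tree_up (s_sq 7)
theorem e0_50_6 : u0_50 * s 6 = 1 * u0_57 := (one_mul (u0_50 * s 6)).symm
theorem e0_57_6 : u0_57 * s 6 = 1 * u0_50 := tree_up (s_sq 6)
theorem e0_52_5 : u0_52 * s 5 = 1 * u0_58 := (one_mul (u0_52 * s 5)).symm
theorem e0_58_5 : u0_58 * s 5 = 1 * u0_52 := tree_up (s_sq 5)
theorem e0_52_7 : u0_52 * s 7 = 1 * u0_59 := (one_mul (u0_52 * s 7)).symm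
theorem e0_59_7 : u0_59 * s 7 = 1 * u0_52 := tree_up (s_sq 7)
theorem e0_53_4 : u0_53 * s 4 = 1 * u0_60 := (one_mul (u0_53 * s 4)).symm
theorem e0_60_4 : u0_60 * s 4 = 1 * u0_53 := tree_up (s_sq 4)
theorem e0_53_7 : u0_53 * s 7 = 1 * u0_61 := (one_mul (u0_53 * s 7)).symm
theorem e0_61_7 : u0_61 * s 7 = 1 * u0_53 := tree_up (s_sq 7)
theorem e0_55_7 : u0_55 * s 7 = 1 * u0_62 := (one_mul (u0_55 * s 7)).symm
theorem e0_62_7 : u0_62 * s 7 = 1 * u0_55 := tree_up (s_sq 7)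
theorem e0_56_6 : u0_56 * s 6 = 1 * u0_63 := (one_mul (u0_56 * s 6)).symm
theorem e0_63_6 : u0_63 * s 6 = 1 * u0_56 := tree_up (s_sq 6)
theorem e0_58_4 : u0_58 * s 4 = 1 * u0_64 := (one_mul (u0_58 * s 4)).symm
theorem e0_64_4 : u0_64 * s 4 = 1 * u0_58 := tree_up (s_sq 4)
theorem e0_58_7 : u0_58 * s 7 = 1 * u0_65 := (one_mul (u0_58 * s 7)).symm
theorem e0_65_7 : u0_65 * s 7 = 1 * u0_58 := tree_up (s_sq 7)
theorem e0_60_3 : u0_60 * s 3 = 1 * u0_66 := (one_mul (u0_60 * s 3)).symm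
theorem e0_66_3 : u0_66 * s 3 = 1 * u0_60 := tree_up (s_sq 3)
theorem e0_60_7 : u0_60 * s 7 = 1 * u0_67 := (one_mul (u0_60 * s 7)).symm
theorem e0_67_7 : u0_67 * s 7 = 1 * u0_60 := tree_up (s_sq 7)
theorem e0_61_6 : u0_61 * s 6 = 1 * u0_68 := (one_mul (u0_61 * s 6)).symm
theorem e0_68_6 : u0_68 * s 6 = 1 * u0_61 := tree_up (s_sq 6)
theorem e0_62_6 : u0_62 * s 6 = 1 * u0_69 := (one_mul (u0_62 * s 6)).symm
theorem e0_69_6 : u0_69 * s 6 = 1 * u0_62 := tree_up (s_sq 6)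
theorem e0_64_3 : u0_64 * s 3 = 1 * u0_70 := (one_mul (u0_64 * s 3)).symm
theorem e0_70_3 : u0_70 * s 3 = 1 * u0_64 := tree_up (s_sq 3)
theorem e0_64_7 : u0_64 * s 7 = 1 * u0_71 := (one_mul (u0_64 * s 7)).symm
theorem e0_71_7 : u0_71 * s 7 = 1 * u0_64 := tree_up (s_sq 7)
theorem e0_65_6 : u0_65 * s 6 = 1 * u0_72 := (one_mul (u0_65 * s 6)).symm
theorem e0_72_6 : u0_72 * s 6 = 1 * u0_65 := tree_up (s_sq 6)
theorem e0_66_1 : u0_66 * s 1 = 1 * u0_73 := (one_mul (u0_66 * s 1)).symm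
theorem e0_73_1 : u0_73 * s 1 = 1 * u0_66 := tree_up (s_sq 1)
theorem e0_66_7 : u0_66 * s 7 = 1 * u0_74 := (one_mul (u0_66 * s 7)).symm
theorem e0_74_7 : u0_74 * s 7 = 1 * u0_66 := tree_up (s_sq 7)
theorem e0_67_6 : u0_67 * s 6 = 1 * u0_75 := (one_mul (u0_67 * s 6)).symm
theorem e0_75_6 : u0_75 * s 6 = 1 * u0_67 := tree_up (s_sq 6)
theorem e0_69_5 : u0_69 * s 5 = 1 * u0_76 := (one_mul (u0_69 * s 5)).symm
theorem e0_76_5 : u0_76 * s 5 = 1 * u0_69 := tree_up (s_sq 5)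
theorem e0_70_1 : u0_70 * s 1 = 1 * u0_77 := (one_mul (u0_70 * s 1)).symm
theorem e0_77_1 : u0_77 * s 1 = 1 * u0_70 := tree_up (s_sq 1)
theorem e0_70_2 : u0_70 * s 2 = 1 * u0_78 := (one_mul (u0_70 * s 2)).symm
theorem e0_78_2 : u0_78 * s 2 = 1 * u0_70 := tree_up (s_sq 2)
theorem e0_70_7 : u0_70 * s 7 = 1 * u0_79 := (one_mul (u0_70 * s 7)).symm
theorem e0_79_7 : u0_79 * s 7 = 1 * u0_70 := tree_up (s_sq 7)
theorem e0_71_6 : u0_71 * s 6 = 1 * u0_80 := (one_mul (u0_71 * s 6)).symm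
theorem e0_80_6 : u0_80 * s 6 = 1 * u0_71 := tree_up (s_sq 6)
theorem e0_73_7 : u0_73 * s 7 = 1 * u0_81 := (one_mul (u0_73 * s 7)).symm
theorem e0_81_7 : u0_81 * s 7 = 1 * u0_73 := tree_up (s_sq 7)
theorem e0_74_6 : u0_74 * s 6 = 1 * u0_82 := (one_mul (u0_74 * s 6)).symm
theorem e0_82_6 : u0_82 * s 6 = 1 * u0_74 := tree_up (s_sq 6)
theorem e0_75_5 : u0_75 * s 5 = 1 * u0_83 := (one_mul (u0_75 * s 5)).symm
theorem e0_83_5 : u0_83 * s 5 = 1 * u0_75 := tree_up (s_sq 5)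
theorem e0_77_2 : u0_77 * s 2 = 1 * u0_84 := (one_mul (u0_77 * s 2)).symm
theorem e0_84_2 : u0_84 * s 2 = 1 * u0_77 := tree_up (s_sq 2)
theorem e0_77_7 : u0_77 * s 7 = 1 * u0_85 := (one_mul (u0_77 * s 7)).symm
theorem e0_85_7 : u0_85 * s 7 = 1 * u0_77 := tree_up (s_sq 7)
theorem e0_78_7 : u0_78 * s 7 = 1 * u0_86 := (one_mul (u0_78 * s 7)).symm
theorem e0_86_7 : u0_86 * s 7 = 1 * u0_78 := tree_up (s_sq 7)
theorem e0_79_6 : u0_79 * s 6 = 1 * u0_87 := (one_mul (u0_79 * s 6)).symm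
theorem e0_87_6 : u0_87 * s 6 = 1 * u0_79 := tree_up (s_sq 6)
theorem e0_80_5 : u0_80 * s 5 = 1 * u0_88 := (one_mul (u0_80 * s 5)).symm
theorem e0_88_5 : u0_88 * s 5 = 1 * u0_80 := tree_up (s_sq 5)
theorem e0_81_6 : u0_81 * s 6 = 1 * u0_89 := (one_mul (u0_81 * s 6)).symm
theorem e0_89_6 : u0_89 * s 6 = 1 * u0_81 := tree_up (s_sq 6)
theorem e0_82_5 : u0_82 * s 5 = 1 * u0_90 := (one_mul (u0_82 * s 5)).symm
theorem e0_90_5 : u0_90 * s 5 = 1 * u0_82 := tree_up (s_sq 5)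
theorem e0_84_3 : u0_84 * s 3 = 1 * u0_91 := (one_mul (u0_84 * s 3)).symm
theorem e0_91_3 : u0_91 * s 3 = 1 * u0_84 := tree_up (s_sq 3)
theorem e0_84_7 : u0_84 * s 7 = 1 * u0_92 := (one_mul (u0_84 * s 7)).symm
theorem e0_92_7 : u0_92 * s 7 = 1 * u0_84 := tree_up (s_sq 7)
theorem e0_85_6 : u0_85 * s 6 = 1 * u0_93 := (one_mul (u0_85 * s 6)).symm
theorem e0_93_6 : u0_93 * s 6 = 1 * u0_85 := tree_up (s_sq 6)
theorem e0_86_6 : u0_86 * s 6 = 1 * u0_94 := (one_mul (u0_86 * s 6)).symm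
theorem e0_94_6 : u0_94 * s 6 = 1 * u0_86 := tree_up (s_sq 6)
theorem e0_87_5 : u0_87 * s 5 = 1 * u0_95 := (one_mul (u0_87 * s 5)).symm
theorem e0_95_5 : u0_95 * s 5 = 1 * u0_87 := tree_up (s_sq 5)
theorem e0_89_5 : u0_89 * s 5 = 1 * u0_96 := (one_mul (u0_89 * s 5)).symm
theorem e0_96_5 : u0_96 * s 5 = 1 * u0_89 := tree_up (s_sq 5)
theorem e0_90_4 : u0_90 * s 4 = 1 * u0_97 := (one_mul (u0_90 * s 4)).symm
theorem e0_97_4 : u0_97 * s 4 = 1 * u0_90 := tree_up (s_sq 4)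
theorem e0_91_4 : u0_91 * s 4 = 1 * u0_98 := (one_mul (u0_91 * s 4)).symm
theorem e0_98_4 : u0_98 * s 4 = 1 * u0_91 := tree_up (s_sq 4)
theorem e0_91_7 : u0_91 * s 7 = 1 * u0_99 := (one_mul (u0_91 * s 7)).symm
theorem e0_99_7 : u0_99 * s 7 = 1 * u0_91 := tree_up (s_sq 7)
theorem e0_92_6 : u0_92 * s 6 = 1 * u0_100 := (one_mul (u0_92 * s 6)).symm
theorem e0_100_6 : u0_100 * s 6 = 1 * u0_92 := tree_up (s_sq 6)
theorem e0_93_5 : u0_93 * s 5 = 1 * u0_101 := (one_mul (u0_93 * s 5)).symm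
theorem e0_101_5 : u0_101 * s 5 = 1 * u0_93 := tree_up (s_sq 5)
theorem e0_94_5 : u0_94 * s 5 = 1 * u0_102 := (one_mul (u0_94 * s 5)).symm
theorem e0_102_5 : u0_102 * s 5 = 1 * u0_94 := tree_up (s_sq 5)
theorem e0_95_4 : u0_95 * s 4 = 1 * u0_103 := (one_mul (u0_95 * s 4)).symm
theorem e0_103_4 : u0_103 * s 4 = 1 * u0_95 := tree_up (s_sq 4)
theorem e0_96_4 : u0_96 * s 4 = 1 * u0_104 := (one_mul (u0_96 * s 4)).symm
theorem e0_104_4 : u0_104 * s 4 = 1 * u0_96 := tree_up (s_sq 4)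
theorem e0_98_5 : u0_98 * s 5 = 1 * u0_105 := (one_mul (u0_98 * s 5)).symm
theorem e0_105_5 : u0_105 * s 5 = 1 * u0_98 := tree_up (s_sq 5)
theorem e0_98_7 : u0_98 * s 7 = 1 * u0_106 := (one_mul (u0_98 * s 7)).symm
theorem e0_106_7 : u0_106 * s 7 = 1 * u0_98 := tree_up (s_sq 7)
theorem e0_99_6 : u0_99 * s 6 = 1 * u0_107 := (one_mul (u0_99 * s 6)).symm
theorem e0_107_6 : u0_107 * s 6 = 1 * u0_99 := tree_up (s_sq 6)
theorem e0_100_5 : u0_100 * s 5 = 1 * u0_108 := (one_mul (u0_100 * s 5)).symm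
theorem e0_108_5 : u0_108 * s 5 = 1 * u0_100 := tree_up (s_sq 5)
theorem e0_101_4 : u0_101 * s 4 = 1 * u0_109 := (one_mul (u0_101 * s 4)).symm
theorem e0_109_4 : u0_109 * s 4 = 1 * u0_101 := tree_up (s_sq 4)
theorem e0_102_4 : u0_102 * s 4 = 1 * u0_110 := (one_mul (u0_102 * s 4)).symm
theorem e0_110_4 : u0_110 * s 4 = 1 * u0_102 := tree_up (s_sq 4)
theorem e0_104_3 : u0_104 * s 3 = 1 * u0_111 := (one_mul (u0_104 * s 3)).symm
theorem e0_111_3 : u0_111 * s 3 = 1 * u0_104 := tree_up (s_sq 3)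
theorem e0_105_6 : u0_105 * s 6 = 1 * u0_112 := (one_mul (u0_105 * s 6)).symm
theorem e0_112_6 : u0_112 * s 6 = 1 * u0_105 := tree_up (s_sq 6)
theorem e0_105_7 : u0_105 * s 7 = 1 * u0_113 := (one_mul (u0_105 * s 7)).symm
theorem e0_113_7 : u0_113 * s 7 = 1 * u0_105 := tree_up (s_sq 7)
theorem e0_106_6 : u0_106 * s 6 = 1 * u0_114 := (one_mul (u0_106 * s 6)).symm
theorem e0_114_6 : u0_114 * s 6 = 1 * u0_106 := tree_up (s_sq 6)
theorem e0_107_5 : u0_107 * s 5 = 1 * u0_115 := (one_mul (u0_107 * s 5)).symm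
theorem e0_115_5 : u0_115 * s 5 = 1 * u0_107 := tree_up (s_sq 5)
theorem e0_108_4 : u0_108 * s 4 = 1 * u0_116 := (one_mul (u0_108 * s 4)).symm
theorem e0_116_4 : u0_116 * s 4 = 1 * u0_108 := tree_up (s_sq 4)
theorem e0_109_3 : u0_109 * s 3 = 1 * u0_117 := (one_mul (u0_109 * s 3)).symm
theorem e0_117_3 : u0_117 * s 3 = 1 * u0_109 := tree_up (s_sq 3)
theorem e0_110_3 : u0_110 * s 3 = 1 * u0_118 := (one_mul (u0_110 * s 3)).symm
theorem e0_118_3 : u0_118 * s 3 = 1 * u0_110 := tree_up (s_sq 3)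
theorem e0_111_2 : u0_111 * s 2 = 1 * u0_119 := (one_mul (u0_111 * s 2)).symm
theorem e0_119_2 : u0_119 * s 2 = 1 * u0_111 := tree_up (s_sq 2)
theorem e0_112_7 : u0_112 * s 7 = 1 * u0_120 := (one_mul (u0_112 * s 7)).symm
theorem e0_120_7 : u0_120 * s 7 = 1 * u0_112 := tree_up (s_sq 7)
theorem e0_113_6 : u0_113 * s 6 = 1 * u0_121 := (one_mul (u0_113 * s 6)).symm
theorem e0_121_6 : u0_121 * s 6 = 1 * u0_113 := tree_up (s_sq 6)
theorem e0_114_5 : u0_114 * s 5 = 1 * u0_122 := (one_mul (u0_114 * s 5)).symm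
theorem e0_122_5 : u0_122 * s 5 = 1 * u0_114 := tree_up (s_sq 5)
theorem e0_115_4 : u0_115 * s 4 = 1 * u0_123 := (one_mul (u0_115 * s 4)).symm
theorem e0_123_4 : u0_123 * s 4 = 1 * u0_115 := tree_up (s_sq 4)
theorem e0_116_3 : u0_116 * s 3 = 1 * u0_124 := (one_mul (u0_116 * s 3)).symm
theorem e0_124_3 : u0_124 * s 3 = 1 * u0_116 := tree_up (s_sq 3)
theorem e0_117_2 : u0_117 * s 2 = 1 * u0_125 := (one_mul (u0_117 * s 2)).symm
theorem e0_125_2 : u0_125 * s 2 = 1 * u0_117 := tree_up (s_sq 2)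
theorem e0_118_1 : u0_118 * s 1 = 1 * u0_126 := (one_mul (u0_118 * s 1)).symm
theorem e0_126_1 : u0_126 * s 1 = 1 * u0_118 := tree_up (s_sq 1)
theorem e0_119_0 : u0_119 * s 0 = 1 * u0_127 := (one_mul (u0_119 * s 0)).symm
theorem e0_127_0 : u0_127 * s 0 = 1 * u0_119 := tree_up (s_sq 0)
theorem e0_120_6 : u0_120 * s 6 = 1 * u0_128 := (one_mul (u0_120 * s 6)).symm
theorem e0_128_6 : u0_128 * s 6 = 1 * u0_120 := tree_up (s_sq 6)
theorem e0_121_5 : u0_121 * s 5 = 1 * u0_129 := (one_mul (u0_121 * s 5)).symm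
theorem e0_129_5 : u0_129 * s 5 = 1 * u0_121 := tree_up (s_sq 5)
theorem e0_122_4 : u0_122 * s 4 = 1 * u0_130 := (one_mul (u0_122 * s 4)).symm
theorem e0_130_4 : u0_130 * s 4 = 1 * u0_122 := tree_up (s_sq 4)
theorem e0_123_3 : u0_123 * s 3 = 1 * u0_131 := (one_mul (u0_123 * s 3)).symm
theorem e0_131_3 : u0_131 * s 3 = 1 * u0_123 := tree_up (s_sq 3)
theorem e0_124_1 : u0_124 * s 1 = 1 * u0_132 := (one_mul (u0_124 * s 1)).symm
theorem e0_132_1 : u0_132 * s 1 = 1 * u0_124 := tree_up (s_sq 1)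
theorem e0_124_2 : u0_124 * s 2 = 1 * u0_133 := (one_mul (u0_124 * s 2)).symm
theorem e0_133_2 : u0_133 * s 2 = 1 * u0_124 := tree_up (s_sq 2)
theorem e0_125_0 : u0_125 * s 0 = 1 * u0_134 := (one_mul (u0_125 * s 0)).symm
theorem e0_134_0 : u0_134 * s 0 = 1 * u0_125 := tree_up (s_sq 0)
theorem e0_128_5 : u0_128 * s 5 = 1 * u0_135 := (one_mul (u0_128 * s 5)).symm
theorem e0_135_5 : u0_135 * s 5 = 1 * u0_128 := tree_up (s_sq 5)
theorem e0_129_4 : u0_129 * s 4 = 1 * u0_136 := (one_mul (u0_129 * s 4)).symm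
theorem e0_136_4 : u0_136 * s 4 = 1 * u0_129 := tree_up (s_sq 4)
theorem e0_130_3 : u0_130 * s 3 = 1 * u0_137 := (one_mul (u0_130 * s 3)).symm
theorem e0_137_3 : u0_137 * s 3 = 1 * u0_130 := tree_up (s_sq 3)
theorem e0_131_1 : u0_131 * s 1 = 1 * u0_138 := (one_mul (u0_131 * s 1)).symm
theorem e0_138_1 : u0_138 * s 1 = 1 * u0_131 := tree_up (s_sq 1)
theorem e0_131_2 : u0_131 * s 2 = 1 * u0_139 := (one_mul (u0_131 * s 2)).symm
theorem e0_139_2 : u0_139 * s 2 = 1 * u0_131 := tree_up (s_sq 2)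
theorem e0_132_2 : u0_132 * s 2 = 1 * u0_140 := (one_mul (u0_132 * s 2)).symm
theorem e0_140_2 : u0_140 * s 2 = 1 * u0_132 := tree_up (s_sq 2)
theorem e0_133_0 : u0_133 * s 0 = 1 * u0_141 := (one_mul (u0_133 * s 0)).symm
theorem e0_141_0 : u0_141 * s 0 = 1 * u0_133 := tree_up (s_sq 0)
theorem e0_135_4 : u0_135 * s 4 = 1 * u0_142 := (one_mul (u0_135 * s 4)).symm
theorem e0_142_4 : u0_142 * s 4 = 1 * u0_135 := tree_up (s_sq 4)
theorem e0_136_3 : u0_136 * s 3 = 1 * u0_143 := (one_mul (u0_136 * s 3)).symm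
theorem e0_143_3 : u0_143 * s 3 = 1 * u0_136 := tree_up (s_sq 3)
theorem e0_137_1 : u0_137 * s 1 = 1 * u0_144 := (one_mul (u0_137 * s 1)).symm
theorem e0_144_1 : u0_144 * s 1 = 1 * u0_137 := tree_up (s_sq 1)
theorem e0_137_2 : u0_137 * s 2 = 1 * u0_145 := (one_mul (u0_137 * s 2)).symm
theorem e0_145_2 : u0_145 * s 2 = 1 * u0_137 := tree_up (s_sq 2)
theorem e0_138_2 : u0_138 * s 2 = 1 * u0_146 := (one_mul (u0_138 * s 2)).symm
theorem e0_146_2 : u0_146 * s 2 = 1 * u0_138 := tree_up (s_sq 2)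
theorem e0_139_0 : u0_139 * s 0 = 1 * u0_147 := (one_mul (u0_139 * s 0)).symm
theorem e0_147_0 : u0_147 * s 0 = 1 * u0_139 := tree_up (s_sq 0)
theorem e0_140_0 : u0_140 * s 0 = 1 * u0_148 := (one_mul (u0_140 * s 0)).symm
theorem e0_148_0 : u0_148 * s 0 = 1 * u0_140 := tree_up (s_sq 0)
theorem e0_142_3 : u0_142 * s 3 = 1 * u0_149 := (one_mul (u0_142 * s 3)).symm
theorem e0_149_3 : u0_149 * s 3 = 1 * u0_142 := tree_up (s_sq 3)
theorem e0_143_1 : u0_143 * s 1 = 1 * u0_150 := (one_mul (u0_143 * s 1)).symm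
theorem e0_150_1 : u0_150 * s 1 = 1 * u0_143 := tree_up (s_sq 1)
theorem e0_143_2 : u0_143 * s 2 = 1 * u0_151 := (one_mul (u0_143 * s 2)).symm
theorem e0_151_2 : u0_151 * s 2 = 1 * u0_143 := tree_up (s_sq 2)
theorem e0_144_2 : u0_144 * s 2 = 1 * u0_152 := (one_mul (u0_144 * s 2)).symm
theorem e0_152_2 : u0_152 * s 2 = 1 * u0_144 := tree_up (s_sq 2)
theorem e0_145_0 : u0_145 * s 0 = 1 * u0_153 := (one_mul (u0_145 * s 0)).symm
theorem e0_153_0 : u0_153 * s 0 = 1 * u0_145 := tree_up (s_sq 0)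
theorem e0_146_0 : u0_146 * s 0 = 1 * u0_154 := (one_mul (u0_146 * s 0)).symm
theorem e0_154_0 : u0_154 * s 0 = 1 * u0_146 := tree_up (s_sq 0)
theorem e0_146_3 : u0_146 * s 3 = 1 * u0_155 := (one_mul (u0_146 * s 3)).symm
theorem e0_155_3 : u0_155 * s 3 = 1 * u0_146 := tree_up (s_sq 3)
theorem e0_149_1 : u0_149 * s 1 = 1 * u0_156 := (one_mul (u0_149 * s 1)).symm
theorem e0_156_1 : u0_156 * s 1 = 1 * u0_149 := tree_up (s_sq 1)
theorem e0_149_2 : u0_149 * s 2 = 1 * u0_157 := (one_mul (u0_149 * s 2)).symm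
theorem e0_157_2 : u0_157 * s 2 = 1 * u0_149 := tree_up (s_sq 2)
theorem e0_150_2 : u0_150 * s 2 = 1 * u0_158 := (one_mul (u0_150 * s 2)).symm
theorem e0_158_2 : u0_158 * s 2 = 1 * u0_150 := tree_up (s_sq 2)
theorem e0_151_0 : u0_151 * s 0 = 1 * u0_159 := (one_mul (u0_151 * s 0)).symm
theorem e0_159_0 : u0_159 * s 0 = 1 * u0_151 := tree_up (s_sq 0)
theorem e0_152_0 : u0_152 * s 0 = 1 * u0_160 := (one_mul (u0_152 * s 0)).symm
theorem e0_160_0 : u0_160 * s 0 = 1 * u0_152 := tree_up (s_sq 0)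
theorem e0_152_3 : u0_152 * s 3 = 1 * u0_161 := (one_mul (u0_152 * s 3)).symm
theorem e0_161_3 : u0_161 * s 3 = 1 * u0_152 := tree_up (s_sq 3)
theorem e0_154_3 : u0_154 * s 3 = 1 * u0_162 := (one_mul (u0_154 * s 3)).symm
theorem e0_162_3 : u0_162 * s 3 = 1 * u0_154 := tree_up (s_sq 3)
theorem e0_156_2 : u0_156 * s 2 = 1 * u0_163 := (one_mul (u0_156 * s 2)).symm
theorem e0_163_2 : u0_163 * s 2 = 1 * u0_156 := tree_up (s_sq 2)
theorem e0_157_0 : u0_157 * s 0 = 1 * u0_164 := (one_mul (u0_157 * s 0)).symm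
theorem e0_164_0 : u0_164 * s 0 = 1 * u0_157 := tree_up (s_sq 0)
theorem e0_158_0 : u0_158 * s 0 = 1 * u0_165 := (one_mul (u0_158 * s 0)).symm
theorem e0_165_0 : u0_165 * s 0 = 1 * u0_158 := tree_up (s_sq 0)
theorem e0_158_3 : u0_158 * s 3 = 1 * u0_166 := (one_mul (u0_158 * s 3)).symm
theorem e0_166_3 : u0_166 * s 3 = 1 * u0_158 := tree_up (s_sq 3)
theorem e0_160_3 : u0_160 * s 3 = 1 * u0_167 := (one_mul (u0_160 * s 3)).symm
theorem e0_167_3 : u0_167 * s 3 = 1 * u0_160 := tree_up (s_sq 3)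
theorem e0_161_4 : u0_161 * s 4 = 1 * u0_168 := (one_mul (u0_161 * s 4)).symm
theorem e0_168_4 : u0_168 * s 4 = 1 * u0_161 := tree_up (s_sq 4)
theorem e0_162_2 : u0_162 * s 2 = 1 * u0_169 := (one_mul (u0_162 * s 2)).symm
theorem e0_169_2 : u0_169 * s 2 = 1 * u0_162 := tree_up (s_sq 2)
theorem e0_163_0 : u0_163 * s 0 = 1 * u0_170 := (one_mul (u0_163 * s 0)).symm
theorem e0_170_0 : u0_170 * s 0 = 1 * u0_163 := tree_up (s_sq 0)
theorem e0_163_3 : u0_163 * s 3 = 1 * u0_171 := (one_mul (u0_163 * s 3)).symm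
theorem e0_171_3 : u0_171 * s 3 = 1 * u0_163 := tree_up (s_sq 3)
theorem e0_165_3 : u0_165 * s 3 = 1 * u0_172 := (one_mul (u0_165 * s 3)).symm
theorem e0_172_3 : u0_172 * s 3 = 1 * u0_165 := tree_up (s_sq 3)
theorem e0_166_4 : u0_166 * s 4 = 1 * u0_173 := (one_mul (u0_166 * s 4)).symm
theorem e0_173_4 : u0_173 * s 4 = 1 * u0_166 := tree_up (s_sq 4)
theorem e0_167_2 : u0_167 * s 2 = 1 * u0_174 := (one_mul (u0_167 * s 2)).symm
theorem e0_174_2 : u0_174 * s 2 = 1 * u0_167 := tree_up (s_sq 2)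
theorem e0_167_4 : u0_167 * s 4 = 1 * u0_175 := (one_mul (u0_167 * s 4)).symm
theorem e0_175_4 : u0_175 * s 4 = 1 * u0_167 := tree_up (s_sq 4)
theorem e0_170_3 : u0_170 * s 3 = 1 * u0_176 := (one_mul (u0_170 * s 3)).symm
theorem e0_176_3 : u0_176 * s 3 = 1 * u0_170 := tree_up (s_sq 3)
theorem e0_171_4 : u0_171 * s 4 = 1 * u0_177 := (one_mul (u0_171 * s 4)).symm
theorem e0_177_4 : u0_177 * s 4 = 1 * u0_171 := tree_up (s_sq 4)
theorem e0_172_2 : u0_172 * s 2 = 1 * u0_178 := (one_mul (u0_172 * s 2)).symm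
theorem e0_178_2 : u0_178 * s 2 = 1 * u0_172 := tree_up (s_sq 2)
theorem e0_172_4 : u0_172 * s 4 = 1 * u0_179 := (one_mul (u0_172 * s 4)).symm
theorem e0_179_4 : u0_179 * s 4 = 1 * u0_172 := tree_up (s_sq 4)
theorem e0_173_5 : u0_173 * s 5 = 1 * u0_180 := (one_mul (u0_173 * s 5)).symm
theorem e0_180_5 : u0_180 * s 5 = 1 * u0_173 := tree_up (s_sq 5)
theorem e0_174_4 : u0_174 * s 4 = 1 * u0_181 := (one_mul (u0_174 * s 4)).symm
theorem e0_181_4 : u0_181 * s 4 = 1 * u0_174 := tree_up (s_sq 4)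
theorem e0_176_2 : u0_176 * s 2 = 1 * u0_182 := (one_mul (u0_176 * s 2)).symm
theorem e0_182_2 : u0_182 * s 2 = 1 * u0_176 := tree_up (s_sq 2)
theorem e0_176_4 : u0_176 * s 4 = 1 * u0_183 := (one_mul (u0_176 * s 4)).symm
theorem e0_183_4 : u0_183 * s 4 = 1 * u0_176 := tree_up (s_sq 4)
theorem e0_177_5 : u0_177 * s 5 = 1 * u0_184 := (one_mul (u0_177 * s 5)).symm
theorem e0_184_5 : u0_184 * s 5 = 1 * u0_177 := tree_up (s_sq 5)
theorem e0_178_4 : u0_178 * s 4 = 1 * u0_185 := (one_mul (u0_178 * s 4)).symm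
theorem e0_185_4 : u0_185 * s 4 = 1 * u0_178 := tree_up (s_sq 4)
theorem e0_179_5 : u0_179 * s 5 = 1 * u0_186 := (one_mul (u0_179 * s 5)).symm
theorem e0_186_5 : u0_186 * s 5 = 1 * u0_179 := tree_up (s_sq 5)
theorem e0_181_3 : u0_181 * s 3 = 1 * u0_187 := (one_mul (u0_181 * s 3)).symm
theorem e0_187_3 : u0_187 * s 3 = 1 * u0_181 := tree_up (s_sq 3)
theorem e0_182_4 : u0_182 * s 4 = 1 * u0_188 := (one_mul (u0_182 * s 4)).symm
theorem e0_188_4 : u0_188 * s 4 = 1 * u0_182 := tree_up (s_sq 4)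
theorem e0_183_5 : u0_183 * s 5 = 1 * u0_189 := (one_mul (u0_183 * s 5)).symm
theorem e0_189_5 : u0_189 * s 5 = 1 * u0_183 := tree_up (s_sq 5)
theorem e0_184_6 : u0_184 * s 6 = 1 * u0_190 := (one_mul (u0_184 * s 6)).symm
theorem e0_190_6 : u0_190 * s 6 = 1 * u0_184 := tree_up (s_sq 6)
theorem e0_185_3 : u0_185 * s 3 = 1 * u0_191 := (one_mul (u0_185 * s 3)).symm
theorem e0_191_3 : u0_191 * s 3 = 1 * u0_185 := tree_up (s_sq 3)
theorem e0_185_5 : u0_185 * s 5 = 1 * u0_192 := (one_mul (u0_185 * s 5)).symm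
theorem e0_192_5 : u0_192 * s 5 = 1 * u0_185 := tree_up (s_sq 5)
theorem e0_187_1 : u0_187 * s 1 = 1 * u0_193 := (one_mul (u0_187 * s 1)).symm
theorem e0_193_1 : u0_193 * s 1 = 1 * u0_187 := tree_up (s_sq 1)
theorem e0_188_3 : u0_188 * s 3 = 1 * u0_194 := (one_mul (u0_188 * s 3)).symm
theorem e0_194_3 : u0_194 * s 3 = 1 * u0_188 := tree_up (s_sq 3)
theorem e0_188_5 : u0_188 * s 5 = 1 * u0_195 := (one_mul (u0_188 * s 5)).symm
theorem e0_195_5 : u0_195 * s 5 = 1 * u0_188 := tree_up (s_sq 5)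
theorem e0_189_6 : u0_189 * s 6 = 1 * u0_196 := (one_mul (u0_189 * s 6)).symm
theorem e0_196_6 : u0_196 * s 6 = 1 * u0_189 := tree_up (s_sq 6)
theorem e0_191_1 : u0_191 * s 1 = 1 * u0_197 := (one_mul (u0_191 * s 1)).symm
theorem e0_197_1 : u0_197 * s 1 = 1 * u0_191 := tree_up (s_sq 1)
theorem e0_191_5 : u0_191 * s 5 = 1 * u0_198 := (one_mul (u0_191 * s 5)).symm
theorem e0_198_5 : u0_198 * s 5 = 1 * u0_191 := tree_up (s_sq 5)
theorem e0_194_1 : u0_194 * s 1 = 1 * u0_199 := (one_mul (u0_194 * s 1)).symm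
theorem e0_199_1 : u0_199 * s 1 = 1 * u0_194 := tree_up (s_sq 1)
theorem e0_194_5 : u0_194 * s 5 = 1 * u0_200 := (one_mul (u0_194 * s 5)).symm
theorem e0_200_5 : u0_200 * s 5 = 1 * u0_194 := tree_up (s_sq 5)
theorem e0_195_6 : u0_195 * s 6 = 1 * u0_201 := (one_mul (u0_195 * s 6)).symm
theorem e0_201_6 : u0_201 * s 6 = 1 * u0_195 := tree_up (s_sq 6)
theorem e0_197_5 : u0_197 * s 5 = 1 * u0_202 := (one_mul (u0_197 * s 5)).symm
theorem e0_202_5 : u0_202 * s 5 = 1 * u0_197 := tree_up (s_sq 5)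
theorem e0_198_4 : u0_198 * s 4 = 1 * u0_203 := (one_mul (u0_198 * s 4)).symm
theorem e0_203_4 : u0_203 * s 4 = 1 * u0_198 := tree_up (s_sq 4)
theorem e0_199_5 : u0_199 * s 5 = 1 * u0_204 := (one_mul (u0_199 * s 5)).symm
theorem e0_204_5 : u0_204 * s 5 = 1 * u0_199 := tree_up (s_sq 5)
theorem e0_200_4 : u0_200 * s 4 = 1 * u0_205 := (one_mul (u0_200 * s 4)).symm
theorem e0_205_4 : u0_205 * s 4 = 1 * u0_200 := tree_up (s_sq 4)
theorem e0_200_6 : u0_200 * s 6 = 1 * u0_206 := (one_mul (u0_200 * s 6)).symm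
theorem e0_206_6 : u0_206 * s 6 = 1 * u0_200 := tree_up (s_sq 6)
theorem e0_202_4 : u0_202 * s 4 = 1 * u0_207 := (one_mul (u0_202 * s 4)).symm
theorem e0_207_4 : u0_207 * s 4 = 1 * u0_202 := tree_up (s_sq 4)
theorem e0_204_4 : u0_204 * s 4 = 1 * u0_208 := (one_mul (u0_204 * s 4)).symm
theorem e0_208_4 : u0_208 * s 4 = 1 * u0_204 := tree_up (s_sq 4)
theorem e0_204_6 : u0_204 * s 6 = 1 * u0_209 := (one_mul (u0_204 * s 6)).symm
theorem e0_209_6 : u0_209 * s 6 = 1 * u0_204 := tree_up (s_sq 6)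
theorem e0_205_6 : u0_205 * s 6 = 1 * u0_210 := (one_mul (u0_205 * s 6)).symm
theorem e0_210_6 : u0_210 * s 6 = 1 * u0_205 := tree_up (s_sq 6)
theorem e0_207_3 : u0_207 * s 3 = 1 * u0_211 := (one_mul (u0_207 * s 3)).symm
theorem e0_211_3 : u0_211 * s 3 = 1 * u0_207 := tree_up (s_sq 3)
theorem e0_208_3 : u0_208 * s 3 = 1 * u0_212 := (one_mul (u0_208 * s 3)).symm
theorem e0_212_3 : u0_212 * s 3 = 1 * u0_208 := tree_up (s_sq 3)
theorem e0_208_6 : u0_208 * s 6 = 1 * u0_213 := (one_mul (u0_208 * s 6)).symm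
theorem e0_213_6 : u0_213 * s 6 = 1 * u0_208 := tree_up (s_sq 6)
theorem e0_210_5 : u0_210 * s 5 = 1 * u0_214 := (one_mul (u0_210 * s 5)).symm
theorem e0_214_5 : u0_214 * s 5 = 1 * u0_210 := tree_up (s_sq 5)
theorem e0_211_2 : u0_211 * s 2 = 1 * u0_215 := (one_mul (u0_211 * s 2)).symm
theorem e0_215_2 : u0_215 * s 2 = 1 * u0_211 := tree_up (s_sq 2)
theorem e0_212_2 : u0_212 * s 2 = 1 * u0_216 := (one_mul (u0_212 * s 2)).symm
theorem e0_216_2 : u0_216 * s 2 = 1 * u0_212 := tree_up (s_sq 2)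
theorem e0_212_6 : u0_212 * s 6 = 1 * u0_217 := (one_mul (u0_212 * s 6)).symm
theorem e0_217_6 : u0_217 * s 6 = 1 * u0_212 := tree_up (s_sq 6)
theorem e0_213_5 : u0_213 * s 5 = 1 * u0_218 := (one_mul (u0_213 * s 5)).symm
theorem e0_218_5 : u0_218 * s 5 = 1 * u0_213 := tree_up (s_sq 5)
theorem e0_215_0 : u0_215 * s 0 = 1 * u0_219 := (one_mul (u0_215 * s 0)).symm
theorem e0_219_0 : u0_219 * s 0 = 1 * u0_215 := tree_up (s_sq 0)
theorem e0_216_0 : u0_216 * s 0 = 1 * u0_220 := (one_mul (u0_216 * s 0)).symm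
theorem e0_220_0 : u0_220 * s 0 = 1 * u0_216 := tree_up (s_sq 0)
theorem e0_216_6 : u0_216 * s 6 = 1 * u0_221 := (one_mul (u0_216 * s 6)).symm
theorem e0_221_6 : u0_221 * s 6 = 1 * u0_216 := tree_up (s_sq 6)
theorem e0_217_5 : u0_217 * s 5 = 1 * u0_222 := (one_mul (u0_217 * s 5)).symm
theorem e0_222_5 : u0_222 * s 5 = 1 * u0_217 := tree_up (s_sq 5)
theorem e0_220_6 : u0_220 * s 6 = 1 * u0_223 := (one_mul (u0_220 * s 6)).symm
theorem e0_223_6 : u0_223 * s 6 = 1 * u0_220 := tree_up (s_sq 6)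
theorem e0_221_5 : u0_221 * s 5 = 1 * u0_224 := (one_mul (u0_221 * s 5)).symm
theorem e0_224_5 : u0_224 * s 5 = 1 * u0_221 := tree_up (s_sq 5)
theorem e0_222_4 : u0_222 * s 4 = 1 * u0_225 := (one_mul (u0_222 * s 4)).symm
theorem e0_225_4 : u0_225 * s 4 = 1 * u0_222 := tree_up (s_sq 4)
theorem e0_223_5 : u0_223 * s 5 = 1 * u0_226 := (one_mul (u0_223 * s 5)).symm
theorem e0_226_5 : u0_226 * s 5 = 1 * u0_223 := tree_up (s_sq 5)
theorem e0_224_4 : u0_224 * s 4 = 1 * u0_227 := (one_mul (u0_224 * s 4)).symm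
theorem e0_227_4 : u0_227 * s 4 = 1 * u0_224 := tree_up (s_sq 4)
theorem e0_226_4 : u0_226 * s 4 = 1 * u0_228 := (one_mul (u0_226 * s 4)).symm
theorem e0_228_4 : u0_228 * s 4 = 1 * u0_226 := tree_up (s_sq 4)
theorem e0_227_3 : u0_227 * s 3 = 1 * u0_229 := (one_mul (u0_227 * s 3)).symm
theorem e0_229_3 : u0_229 * s 3 = 1 * u0_227 := tree_up (s_sq 3)
theorem e0_228_3 : u0_228 * s 3 = 1 * u0_230 := (one_mul (u0_228 * s 3)).symm
theorem e0_230_3 : u0_230 * s 3 = 1 * u0_228 := tree_up (s_sq 3)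
theorem e0_229_1 : u0_229 * s 1 = 1 * u0_231 := (one_mul (u0_229 * s 1)).symm
theorem e0_231_1 : u0_231 * s 1 = 1 * u0_229 := tree_up (s_sq 1)
theorem e0_230_1 : u0_230 * s 1 = 1 * u0_232 := (one_mul (u0_230 * s 1)).symm
theorem e0_232_1 : u0_232 * s 1 = 1 * u0_230 := tree_up (s_sq 1)
theorem e0_230_2 : u0_230 * s 2 = 1 * u0_233 := (one_mul (u0_230 * s 2)).symm
theorem e0_233_2 : u0_233 * s 2 = 1 * u0_230 := tree_up (s_sq 2)
theorem e0_232_2 : u0_232 * s 2 = 1 * u0_234 := (one_mul (u0_232 * s 2)).symm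
theorem e0_234_2 : u0_234 * s 2 = 1 * u0_232 := tree_up (s_sq 2)
theorem e0_234_3 : u0_234 * s 3 = 1 * u0_235 := (one_mul (u0_234 * s 3)).symm
theorem e0_235_3 : u0_235 * s 3 = 1 * u0_234 := tree_up (s_sq 3)
theorem e0_235_4 : u0_235 * s 4 = 1 * u0_236 := (one_mul (u0_235 * s 4)).symm
theorem e0_236_4 : u0_236 * s 4 = 1 * u0_235 := tree_up (s_sq 4)
theorem e0_236_5 : u0_236 * s 5 = 1 * u0_237 := (one_mul (u0_236 * s 5)).symm
theorem e0_237_5 : u0_237 * s 5 = 1 * u0_236 := tree_up (s_sq 5)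
theorem e0_237_6 : u0_237 * s 6 = 1 * u0_238 := (one_mul (u0_237 * s 6)).symm
theorem e0_238_6 : u0_238 * s 6 = 1 * u0_237 := tree_up (s_sq 6)
theorem e0_238_7 : u0_238 * s 7 = 1 * u0_239 := (one_mul (u0_238 * s 7)).symm
theorem e0_239_7 : u0_239 * s 7 = 1 * u0_238 := tree_up (s_sq 7)
theorem e0_0_0 : u0_0 * s 0 = s 0 * u0_0 := (one_mul (s 0)).trans (mul_one (s 0)).symm
theorem e0_0_1 : u0_0 * s 1 = s 1 * u0_0 := (one_mul (s 1)).trans (mul_one (s 1)).symm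
theorem e0_0_2 : u0_0 * s 2 = s 2 * u0_0 := (one_mul (s 2)).trans (mul_one (s 2)).symm
theorem e0_0_3 : u0_0 * s 3 = s 3 * u0_0 := (one_mul (s 3)).trans (mul_one (s 3)).symm
theorem e0_0_4 : u0_0 * s 4 = s 4 * u0_0 := (one_mul (s 4)).trans (mul_one (s 4)).symm
theorem e0_0_5 : u0_0 * s 5 = s 5 * u0_0 := (one_mul (s 5)).trans (mul_one (s 5)).symm
theorem e0_0_6 : u0_0 * s 6 = s 6 * u0_0 := (one_mul (s 6)).trans (mul_one (s 6)).symm
theorem e0_1_0 : u0_1 * s 0 = s 0 * u0_1 := by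
  simpa only [one_mul, mul_one] using ded2 r_0_7 e0_1_7 e0_0_0 e0_0_7
theorem e0_1_1 : u0_1 * s 1 = s 1 * u0_1 := by
  simpa only [one_mul, mul_one] using ded2 r_1_7 e0_1_7 e0_0_1 e0_0_7
theorem e0_1_2 : u0_1 * s 2 = s 2 * u0_1 := by
  simpa only [one_mul, mul_one] using ded2 r_2_7 e0_1_7 e0_0_2 e0_0_7
theorem e0_1_3 : u0_1 * s 3 = s 3 * u0_1 := by
  simpa only [one_mul, mul_one] using ded2 r_3_7 e0_1_7 e0_0_3 e0_0_7
theorem e0_1_4 : u0_1 * s 4 = s 4 * u0_1 := by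
  simpa only [one_mul, mul_one] using ded2 r_4_7 e0_1_7 e0_0_4 e0_0_7
theorem e0_1_5 : u0_1 * s 5 = s 5 * u0_1 := by
  simpa only [one_mul, mul_one] using ded2 r_5_7 e0_1_7 e0_0_5 e0_0_7
theorem e0_2_7 : u0_2 * s 7 = s 6 * u0_2 := by
  simpa only [one_mul, mul_one] using ded3 r_7_6 e0_2_6 e0_1_7 e0_0_6 e0_0_7 e0_1_6
theorem e0_2_0 : u0_2 * s 0 = s 0 * u0_2 := by
  simpa only [one_mul, mul_one] using ded2 r_0_6 e0_2_6 e0_1_0 e0_1_6
theorem e0_2_1 : u0_2 * s 1 = s 1 * u0_2 := by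
  simpa only [one_mul, mul_one] using ded2 r_1_6 e0_2_6 e0_1_1 e0_1_6
theorem e0_2_2 : u0_2 * s 2 = s 2 * u0_2 := by
  simpa only [one_mul, mul_one] using ded2 r_2_6 e0_2_6 e0_1_2 e0_1_6
theorem e0_2_3 : u0_2 * s 3 = s 3 * u0_2 := by
  simpa only [one_mul, mul_one] using ded2 r_3_6 e0_2_6 e0_1_3 e0_1_6
theorem e0_2_4 : u0_2 * s 4 = s 4 * u0_2 := by
  simpa only [one_mul, mul_one] using ded2 r_4_6 e0_2_6 e0_1_4 e0_1_6
theorem e0_3_6 : u0_3 * s 6 = s 5 * u0_3 := by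
  simpa only [one_mul, mul_one] using ded3 r_6_5 e0_3_5 e0_2_6 e0_1_5 e0_1_6 e0_2_5
theorem e0_3_0 : u0_3 * s 0 = s 0 * u0_3 := by
  simpa only [one_mul, mul_one] using ded2 r_0_5 e0_3_5 e0_2_0 e0_2_5
theorem e0_3_1 : u0_3 * s 1 = s 1 * u0_3 := by
  simpa only [one_mul, mul_one] using ded2 r_1_5 e0_3_5 e0_2_1 e0_2_5
theorem e0_3_2 : u0_3 * s 2 = s 2 * u0_3 := by
  simpa only [one_mul, mul_one] using ded2 r_2_5 e0_3_5 e0_2_2 e0_2_5
theorem e0_3_3 : u0_3 * s 3 = s 3 * u0_3 := by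
  simpa only [one_mul, mul_one] using ded2 r_3_5 e0_3_5 e0_2_3 e0_2_5
theorem e0_4_5 : u0_4 * s 5 = s 4 * u0_4 := by
  simpa only [one_mul, mul_one] using ded3 r_5_4 e0_4_4 e0_3_5 e0_2_4 e0_2_5 e0_3_4
theorem e0_3_7 : u0_3 * s 7 = s 6 * u0_3 := by
  simpa only [one_mul, mul_one] using ded2 r_7_5 e0_3_5 e0_2_7 e0_2_5
theorem e0_4_0 : u0_4 * s 0 = s 0 * u0_4 := by
  simpa only [one_mul, mul_one] using ded2 r_0_4 e0_4_4 e0_3_0 e0_3_4
theorem e0_4_1 : u0_4 * s 1 = s 1 * u0_4 := by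
  simpa only [one_mul, mul_one] using ded2 r_1_4 e0_4_4 e0_3_1 e0_3_4
theorem e0_4_2 : u0_4 * s 2 = s 2 * u0_4 := by
  simpa only [one_mul, mul_one] using ded2 r_2_4 e0_4_4 e0_3_2 e0_3_4
theorem e0_5_4 : u0_5 * s 4 = s 3 * u0_5 := by
  simpa only [one_mul, mul_one] using ded3 r_4_3 e0_5_3 e0_4_4 e0_3_3 e0_3_4 e0_4_3
theorem e0_4_6 : u0_4 * s 6 = s 5 * u0_4 := by
  simpa only [one_mul, mul_one] using ded2 r_6_4 e0_4_4 e0_3_6 e0_3_4
theorem e0_4_7 : u0_4 * s 7 = s 6 * u0_4 := by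
  simpa only [one_mul, mul_one] using ded2 r_7_4 e0_4_4 e0_3_7 e0_3_4
theorem e0_5_0 : u0_5 * s 0 = s 0 * u0_5 := by
  simpa only [one_mul, mul_one] using ded2 r_0_3 e0_5_3 e0_4_0 e0_4_3
theorem e0_6_3 : u0_6 * s 3 = s 1 * u0_6 := by
  simpa only [one_mul, mul_one] using ded3 r_3_1 e0_6_1 e0_5_3 e0_4_1 e0_4_3 e0_5_1
theorem e0_7_3 : u0_7 * s 3 = s 2 * u0_7 := by
  simpa only [one_mul, mul_one] using ded3 r_3_2 e0_7_2 e0_5_3 e0_4_2 e0_4_3 e0_5_2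
theorem e0_5_5 : u0_5 * s 5 = s 4 * u0_5 := by
  simpa only [one_mul, mul_one] using ded2 r_5_3 e0_5_3 e0_4_5 e0_4_3
theorem e0_5_6 : u0_5 * s 6 = s 5 * u0_5 := by
  simpa only [one_mul, mul_one] using ded2 r_6_3 e0_5_3 e0_4_6 e0_4_3
theorem e0_5_7 : u0_5 * s 7 = s 6 * u0_5 := by
  simpa only [one_mul, mul_one] using ded2 r_7_3 e0_5_3 e0_4_7 e0_4_3
theorem e0_6_0 : u0_6 * s 0 = s 0 * u0_6 := by
  simpa only [one_mul, mul_one] using ded2 r_0_1 e0_6_1 e0_5_0 e0_5_1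
theorem e0_9_2 : u0_9 * s 2 = s 0 * u0_9 := by
  simpa only [one_mul, mul_one] using ded3 r_2_0 e0_9_0 e0_7_2 e0_5_0 e0_5_2 e0_7_0
theorem e0_8_1 : u0_8 * s 1 = 1 * u0_7 := by
  simpa only [one_mul, mul_one] using ded2 r_1_2 e0_8_2 e0_6_1 e0_5_2
theorem e0_7_1 : u0_7 * s 1 = 1 * u0_8 := rev_edge (s_sq 1) e0_8_1
theorem e0_6_4 : u0_6 * s 4 = s 3 * u0_6 := by
  simpa only [one_mul, mul_one] using ded2 r_4_1 e0_6_1 e0_5_4 e0_5_1
theorem e0_6_5 : u0_6 * s 5 = s 4 * u0_6 := by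
  simpa only [one_mul, mul_one] using ded2 r_5_1 e0_6_1 e0_5_5 e0_5_1
theorem e0_6_6 : u0_6 * s 6 = s 5 * u0_6 := by
  simpa only [one_mul, mul_one] using ded2 r_6_1 e0_6_1 e0_5_6 e0_5_1
theorem e0_6_7 : u0_6 * s 7 = s 6 * u0_6 := by
  simpa only [one_mul, mul_one] using ded2 r_7_1 e0_6_1 e0_5_7 e0_5_1
theorem e0_7_4 : u0_7 * s 4 = s 3 * u0_7 := by
  simpa only [one_mul, mul_one] using ded2 r_4_2 e0_7_2 e0_5_4 e0_5_2
theorem e0_7_5 : u0_7 * s 5 = s 4 * u0_7 := by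
  simpa only [one_mul, mul_one] using ded2 r_5_2 e0_7_2 e0_5_5 e0_5_2
theorem e0_7_6 : u0_7 * s 6 = s 5 * u0_7 := by
  simpa only [one_mul, mul_one] using ded2 r_6_2 e0_7_2 e0_5_6 e0_5_2
theorem e0_7_7 : u0_7 * s 7 = s 6 * u0_7 := by
  simpa only [one_mul, mul_one] using ded2 r_7_2 e0_7_2 e0_5_7 e0_5_2
theorem e0_10_2 : u0_10 * s 2 = s 0 * u0_10 := by
  simpa only [one_mul, mul_one] using ded3 r_2_0 e0_10_0 e0_8_2 e0_6_0 e0_6_2 e0_8_0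
theorem e0_11_2 : u0_11 * s 2 = s 1 * u0_11 := by
  simpa only [one_mul, mul_one] using ded3 r_2_3 e0_11_3 e0_8_2 e0_6_3 e0_6_2 e0_8_3
theorem e0_8_4 : u0_8 * s 4 = s 3 * u0_8 := by
  simpa only [one_mul, mul_one] using ded2 r_4_2 e0_8_2 e0_6_4 e0_6_2
theorem e0_8_5 : u0_8 * s 5 = s 4 * u0_8 := by
  simpa only [one_mul, mul_one] using ded2 r_5_2 e0_8_2 e0_6_5 e0_6_2
theorem e0_8_6 : u0_8 * s 6 = s 5 * u0_8 := by
  simpa only [one_mul, mul_one] using ded2 r_6_2 e0_8_2 e0_6_6 e0_6_2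
theorem e0_8_7 : u0_8 * s 7 = s 6 * u0_8 := by
  simpa only [one_mul, mul_one] using ded2 r_7_2 e0_8_2 e0_6_7 e0_6_2
theorem e0_9_1 : u0_9 * s 1 = 1 * u0_10 := by
  simpa only [one_mul, mul_one] using ded2 r_1_0 e0_9_0 e0_7_1 e0_8_0
theorem e0_10_1 : u0_10 * s 1 = 1 * u0_9 := rev_edge (s_sq 1) e0_9_1
theorem e0_9_3 : u0_9 * s 3 = s 2 * u0_9 := by
  simpa only [one_mul, mul_one] using ded2 r_3_0 e0_9_0 e0_7_3 e0_7_0
theorem e0_9_4 : u0_9 * s 4 = s 3 * u0_9 := by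
  simpa only [one_mul, mul_one] using ded2 r_4_0 e0_9_0 e0_7_4 e0_7_0
theorem e0_9_5 : u0_9 * s 5 = s 4 * u0_9 := by
  simpa only [one_mul, mul_one] using ded2 r_5_0 e0_9_0 e0_7_5 e0_7_0
theorem e0_9_6 : u0_9 * s 6 = s 5 * u0_9 := by
  simpa only [one_mul, mul_one] using ded2 r_6_0 e0_9_0 e0_7_6 e0_7_0
theorem e0_9_7 : u0_9 * s 7 = s 6 * u0_9 := by
  simpa only [one_mul, mul_one] using ded2 r_7_0 e0_9_0 e0_7_7 e0_7_0
theorem e0_11_1 : u0_11 * s 1 = s 2 * u0_11 := by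
  simpa only [one_mul, mul_one] using ded3 r_1_3 e0_11_3 e0_8_1 e0_7_3 e0_7_1 e0_8_3
theorem e0_12_0 : u0_12 * s 0 = 1 * u0_11 := by
  simpa only [one_mul, mul_one] using ded2 r_0_3 e0_12_3 e0_10_0 e0_8_3
theorem e0_11_0 : u0_11 * s 0 = 1 * u0_12 := rev_edge (s_sq 0) e0_12_0
theorem e0_10_4 : u0_10 * s 4 = s 3 * u0_10 := by
  simpa only [one_mul, mul_one] using ded2 r_4_0 e0_10_0 e0_8_4 e0_8_0
theorem e0_10_5 : u0_10 * s 5 = s 4 * u0_10 := by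
  simpa only [one_mul, mul_one] using ded2 r_5_0 e0_10_0 e0_8_5 e0_8_0
theorem e0_10_6 : u0_10 * s 6 = s 5 * u0_10 := by
  simpa only [one_mul, mul_one] using ded2 r_6_0 e0_10_0 e0_8_6 e0_8_0
theorem e0_10_7 : u0_10 * s 7 = s 6 * u0_10 := by
  simpa only [one_mul, mul_one] using ded2 r_7_0 e0_10_0 e0_8_7 e0_8_0
theorem e0_13_3 : u0_13 * s 3 = s 3 * u0_13 := by
  simpa only [one_mul, mul_one] using ded3 r_3_4 e0_13_4 e0_11_3 e0_8_4 e0_8_3 e0_11_4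
theorem e0_11_5 : u0_11 * s 5 = s 4 * u0_11 := by
  simpa only [one_mul, mul_one] using ded2 r_5_3 e0_11_3 e0_8_5 e0_8_3
theorem e0_11_6 : u0_11 * s 6 = s 5 * u0_11 := by
  simpa only [one_mul, mul_one] using ded2 r_6_3 e0_11_3 e0_8_6 e0_8_3
theorem e0_11_7 : u0_11 * s 7 = s 6 * u0_11 := by
  simpa only [one_mul, mul_one] using ded2 r_7_3 e0_11_3 e0_8_7 e0_8_3
theorem e0_12_1 : u0_12 * s 1 = s 2 * u0_12 := by
  simpa only [one_mul, mul_one] using ded3 r_1_3 e0_12_3 e0_10_1 e0_9_3 e0_9_1 e0_10_3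
theorem e0_14_3 : u0_14 * s 3 = s 0 * u0_14 := by
  simpa only [one_mul, mul_one] using ded3 r_3_2 e0_14_2 e0_12_3 e0_10_2 e0_10_3 e0_12_2
theorem e0_15_3 : u0_15 * s 3 = s 3 * u0_15 := by
  simpa only [one_mul, mul_one] using ded3 r_3_4 e0_15_4 e0_12_3 e0_10_4 e0_10_3 e0_12_4
theorem e0_12_5 : u0_12 * s 5 = s 4 * u0_12 := by
  simpa only [one_mul, mul_one] using ded2 r_5_3 e0_12_3 e0_10_5 e0_10_3
theorem e0_12_6 : u0_12 * s 6 = s 5 * u0_12 := by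
  simpa only [one_mul, mul_one] using ded2 r_6_3 e0_12_3 e0_10_6 e0_10_3
theorem e0_12_7 : u0_12 * s 7 = s 6 * u0_12 := by
  simpa only [one_mul, mul_one] using ded2 r_7_3 e0_12_3 e0_10_7 e0_10_3
theorem e0_14_0 : u0_14 * s 0 = s 1 * u0_14 := by
  simpa only [one_mul, mul_one] using ded3 r_0_2 e0_14_2 e0_12_0 e0_11_2 e0_11_0 e0_12_2
theorem e0_15_0 : u0_15 * s 0 = 1 * u0_13 := by
  simpa only [one_mul, mul_one] using ded2 r_0_4 e0_15_4 e0_12_0 e0_11_4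
theorem e0_13_0 : u0_13 * s 0 = 1 * u0_15 := rev_edge (s_sq 0) e0_15_0
theorem e0_13_1 : u0_13 * s 1 = s 2 * u0_13 := by
  simpa only [one_mul, mul_one] using ded2 r_1_4 e0_13_4 e0_11_1 e0_11_4
theorem e0_13_2 : u0_13 * s 2 = s 1 * u0_13 := by
  simpa only [one_mul, mul_one] using ded2 r_2_4 e0_13_4 e0_11_2 e0_11_4
theorem e0_16_4 : u0_16 * s 4 = s 4 * u0_16 := by
  simpa only [one_mul, mul_one] using ded3 r_4_5 e0_16_5 e0_13_4 e0_11_5 e0_11_4 e0_13_5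
theorem e0_13_6 : u0_13 * s 6 = s 5 * u0_13 := by
  simpa only [one_mul, mul_one] using ded2 r_6_4 e0_13_4 e0_11_6 e0_11_4
theorem e0_13_7 : u0_13 * s 7 = s 6 * u0_13 := by
  simpa only [one_mul, mul_one] using ded2 r_7_4 e0_13_4 e0_11_7 e0_11_4
theorem e0_14_1 : u0_14 * s 1 = s 2 * u0_14 := by
  simpa only [one_mul, mul_one] using ded2 r_1_2 e0_14_2 e0_12_1 e0_12_2
theorem e0_15_1 : u0_15 * s 1 = s 2 * u0_15 := by
  simpa only [one_mul, mul_one] using ded2 r_1_4 e0_15_4 e0_12_1 e0_12_4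
theorem e0_17_2 : u0_17 * s 2 = 1 * u0_15 := by
  simpa only [one_mul, mul_one] using ded2 r_2_4 e0_17_4 e0_14_2 e0_12_4
theorem e0_15_2 : u0_15 * s 2 = 1 * u0_17 := rev_edge (s_sq 2) e0_17_2
theorem e0_14_5 : u0_14 * s 5 = s 4 * u0_14 := by
  simpa only [one_mul, mul_one] using ded2 r_5_2 e0_14_2 e0_12_5 e0_12_2
theorem e0_14_6 : u0_14 * s 6 = s 5 * u0_14 := by
  simpa only [one_mul, mul_one] using ded2 r_6_2 e0_14_2 e0_12_6 e0_12_2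
theorem e0_14_7 : u0_14 * s 7 = s 6 * u0_14 := by
  simpa only [one_mul, mul_one] using ded2 r_7_2 e0_14_2 e0_12_7 e0_12_2
theorem e0_18_4 : u0_18 * s 4 = s 4 * u0_18 := by
  simpa only [one_mul, mul_one] using ded3 r_4_5 e0_18_5 e0_15_4 e0_12_5 e0_12_4 e0_15_5
theorem e0_15_6 : u0_15 * s 6 = s 5 * u0_15 := by
  simpa only [one_mul, mul_one] using ded2 r_6_4 e0_15_4 e0_12_6 e0_12_4
theorem e0_15_7 : u0_15 * s 7 = s 6 * u0_15 := by
  simpa only [one_mul, mul_one] using ded2 r_7_4 e0_15_4 e0_12_7 e0_12_4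
theorem e0_17_0 : u0_17 * s 0 = s 1 * u0_17 := by
  simpa only [one_mul, mul_one] using ded3 r_0_2 e0_17_2 e0_15_0 e0_13_2 e0_13_0 e0_15_2
theorem e0_18_0 : u0_18 * s 0 = 1 * u0_16 := by
  simpa only [one_mul, mul_one] using ded2 r_0_5 e0_18_5 e0_15_0 e0_13_5
theorem e0_16_0 : u0_16 * s 0 = 1 * u0_18 := rev_edge (s_sq 0) e0_18_0
theorem e0_16_1 : u0_16 * s 1 = s 2 * u0_16 := by
  simpa only [one_mul, mul_one] using ded2 r_1_5 e0_16_5 e0_13_1 e0_13_5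
theorem e0_16_2 : u0_16 * s 2 = s 1 * u0_16 := by
  simpa only [one_mul, mul_one] using ded2 r_2_5 e0_16_5 e0_13_2 e0_13_5
theorem e0_16_3 : u0_16 * s 3 = s 3 * u0_16 := by
  simpa only [one_mul, mul_one] using ded2 r_3_5 e0_16_5 e0_13_3 e0_13_5
theorem e0_19_5 : u0_19 * s 5 = s 5 * u0_19 := by
  simpa only [one_mul, mul_one] using ded3 r_5_6 e0_19_6 e0_16_5 e0_13_6 e0_13_5 e0_16_6
theorem e0_16_7 : u0_16 * s 7 = s 6 * u0_16 := by
  simpa only [one_mul, mul_one] using ded2 r_7_5 e0_16_5 e0_13_7 e0_13_5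
theorem e0_17_1 : u0_17 * s 1 = s 2 * u0_17 := by
  simpa only [one_mul, mul_one] using ded2 r_1_4 e0_17_4 e0_14_1 e0_14_4
theorem e0_20_4 : u0_20 * s 4 = s 0 * u0_20 := by
  simpa only [one_mul, mul_one] using ded3 r_4_3 e0_20_3 e0_17_4 e0_14_3 e0_14_4 e0_17_3
theorem e0_21_4 : u0_21 * s 4 = s 4 * u0_21 := by
  simpa only [one_mul, mul_one] using ded3 r_4_5 e0_21_5 e0_17_4 e0_14_5 e0_14_4 e0_17_5
theorem e0_17_6 : u0_17 * s 6 = s 5 * u0_17 := by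
  simpa only [one_mul, mul_one] using ded2 r_6_4 e0_17_4 e0_14_6 e0_14_4
theorem e0_17_7 : u0_17 * s 7 = s 6 * u0_17 := by
  simpa only [one_mul, mul_one] using ded2 r_7_4 e0_17_4 e0_14_7 e0_14_4
theorem e0_18_1 : u0_18 * s 1 = s 2 * u0_18 := by
  simpa only [one_mul, mul_one] using ded2 r_1_5 e0_18_5 e0_15_1 e0_15_5
theorem e0_20_2 : u0_20 * s 2 = s 3 * u0_20 := by
  simpa only [one_mul, mul_one] using ded3 r_2_3 e0_20_3 e0_17_2 e0_15_3 e0_15_2 e0_17_3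
theorem e0_21_2 : u0_21 * s 2 = 1 * u0_18 := by
  simpa only [one_mul, mul_one] using ded2 r_2_5 e0_21_5 e0_17_2 e0_15_5
theorem e0_18_2 : u0_18 * s 2 = 1 * u0_21 := rev_edge (s_sq 2) e0_21_2
theorem e0_18_3 : u0_18 * s 3 = s 3 * u0_18 := by
  simpa only [one_mul, mul_one] using ded2 r_3_5 e0_18_5 e0_15_3 e0_15_5
theorem e0_22_5 : u0_22 * s 5 = s 5 * u0_22 := by
  simpa only [one_mul, mul_one] using ded3 r_5_6 e0_22_6 e0_18_5 e0_15_6 e0_15_5 e0_18_6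
theorem e0_18_7 : u0_18 * s 7 = s 6 * u0_18 := by
  simpa only [one_mul, mul_one] using ded2 r_7_5 e0_18_5 e0_15_7 e0_15_5
theorem e0_21_0 : u0_21 * s 0 = s 1 * u0_21 := by
  simpa only [one_mul, mul_one] using ded3 r_0_2 e0_21_2 e0_18_0 e0_16_2 e0_16_0 e0_18_2
theorem e0_22_0 : u0_22 * s 0 = 1 * u0_19 := by
  simpa only [one_mul, mul_one] using ded2 r_0_6 e0_22_6 e0_18_0 e0_16_6
theorem e0_19_0 : u0_19 * s 0 = 1 * u0_22 := rev_edge (s_sq 0) e0_22_0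
theorem e0_19_1 : u0_19 * s 1 = s 2 * u0_19 := by
  simpa only [one_mul, mul_one] using ded2 r_1_6 e0_19_6 e0_16_1 e0_16_6
theorem e0_19_2 : u0_19 * s 2 = s 1 * u0_19 := by
  simpa only [one_mul, mul_one] using ded2 r_2_6 e0_19_6 e0_16_2 e0_16_6
theorem e0_19_3 : u0_19 * s 3 = s 3 * u0_19 := by
  simpa only [one_mul, mul_one] using ded2 r_3_6 e0_19_6 e0_16_3 e0_16_6
theorem e0_19_4 : u0_19 * s 4 = s 4 * u0_19 := by
  simpa only [one_mul, mul_one] using ded2 r_4_6 e0_19_6 e0_16_4 e0_16_6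
theorem e0_23_6 : u0_23 * s 6 = s 6 * u0_23 := by
  simpa only [one_mul, mul_one] using ded3 r_6_7 e0_23_7 e0_19_6 e0_16_7 e0_16_6 e0_19_7
theorem e0_20_0 : u0_20 * s 0 = s 1 * u0_20 := by
  simpa only [one_mul, mul_one] using ded2 r_0_3 e0_20_3 e0_17_0 e0_17_3
theorem e0_24_3 : u0_24 * s 3 = s 2 * u0_24 := by
  simpa only [one_mul, mul_one] using ded3 r_3_1 e0_24_1 e0_20_3 e0_17_1 e0_17_3 e0_20_1
theorem e0_21_1 : u0_21 * s 1 = s 2 * u0_21 := by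
  simpa only [one_mul, mul_one] using ded2 r_1_5 e0_21_5 e0_17_1 e0_17_5
theorem e0_25_3 : u0_25 * s 3 = 1 * u0_21 := by
  simpa only [one_mul, mul_one] using ded2 r_3_5 e0_25_5 e0_20_3 e0_17_5
theorem e0_21_3 : u0_21 * s 3 = 1 * u0_25 := rev_edge (s_sq 3) e0_25_3
theorem e0_20_6 : u0_20 * s 6 = s 5 * u0_20 := by
  simpa only [one_mul, mul_one] using ded2 r_6_3 e0_20_3 e0_17_6 e0_17_3
theorem e0_20_7 : u0_20 * s 7 = s 6 * u0_20 := by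
  simpa only [one_mul, mul_one] using ded2 r_7_3 e0_20_3 e0_17_7 e0_17_3
theorem e0_26_5 : u0_26 * s 5 = s 5 * u0_26 := by
  simpa only [one_mul, mul_one] using ded3 r_5_6 e0_26_6 e0_21_5 e0_17_6 e0_17_5 e0_21_6
theorem e0_21_7 : u0_21 * s 7 = s 6 * u0_21 := by
  simpa only [one_mul, mul_one] using ded2 r_7_5 e0_21_5 e0_17_7 e0_17_5
theorem e0_22_1 : u0_22 * s 1 = s 2 * u0_22 := by
  simpa only [one_mul, mul_one] using ded2 r_1_6 e0_22_6 e0_18_1 e0_18_6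
theorem e0_25_2 : u0_25 * s 2 = s 3 * u0_25 := by
  simpa only [one_mul, mul_one] using ded3 r_2_3 e0_25_3 e0_21_2 e0_18_3 e0_18_2 e0_21_3
theorem e0_26_2 : u0_26 * s 2 = 1 * u0_22 := by
  simpa only [one_mul, mul_one] using ded2 r_2_6 e0_26_6 e0_21_2 e0_18_6
theorem e0_22_2 : u0_22 * s 2 = 1 * u0_26 := rev_edge (s_sq 2) e0_26_2
theorem e0_22_3 : u0_22 * s 3 = s 3 * u0_22 := by
  simpa only [one_mul, mul_one] using ded2 r_3_6 e0_22_6 e0_18_3 e0_18_6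
theorem e0_22_4 : u0_22 * s 4 = s 4 * u0_22 := by
  simpa only [one_mul, mul_one] using ded2 r_4_6 e0_22_6 e0_18_4 e0_18_6
theorem e0_27_6 : u0_27 * s 6 = s 6 * u0_27 := by
  simpa only [one_mul, mul_one] using ded3 r_6_7 e0_27_7 e0_22_6 e0_18_7 e0_18_6 e0_22_7
theorem e0_26_0 : u0_26 * s 0 = s 1 * u0_26 := by
  simpa only [one_mul, mul_one] using ded3 r_0_2 e0_26_2 e0_22_0 e0_19_2 e0_19_0 e0_22_2
theorem e0_27_0 : u0_27 * s 0 = 1 * u0_23 := by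
  simpa only [one_mul, mul_one] using ded2 r_0_7 e0_27_7 e0_22_0 e0_19_7
theorem e0_23_0 : u0_23 * s 0 = 1 * u0_27 := rev_edge (s_sq 0) e0_27_0
theorem e0_23_1 : u0_23 * s 1 = s 2 * u0_23 := by
  simpa only [one_mul, mul_one] using ded2 r_1_7 e0_23_7 e0_19_1 e0_19_7
theorem e0_23_2 : u0_23 * s 2 = s 1 * u0_23 := by
  simpa only [one_mul, mul_one] using ded2 r_2_7 e0_23_7 e0_19_2 e0_19_7
theorem e0_23_3 : u0_23 * s 3 = s 3 * u0_23 := by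
  simpa only [one_mul, mul_one] using ded2 r_3_7 e0_23_7 e0_19_3 e0_19_7
theorem e0_23_4 : u0_23 * s 4 = s 4 * u0_23 := by
  simpa only [one_mul, mul_one] using ded2 r_4_7 e0_23_7 e0_19_4 e0_19_7
theorem e0_23_5 : u0_23 * s 5 = s 5 * u0_23 := by
  simpa only [one_mul, mul_one] using ded2 r_5_7 e0_23_7 e0_19_5 e0_19_7
theorem e0_24_0 : u0_24 * s 0 = s 1 * u0_24 := by
  simpa only [one_mul, mul_one] using ded2 r_0_1 e0_24_1 e0_20_0 e0_20_1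
theorem e0_25_0 : u0_25 * s 0 = s 1 * u0_25 := by
  simpa only [one_mul, mul_one] using ded2 r_0_5 e0_25_5 e0_20_0 e0_20_5
theorem e0_24_2 : u0_24 * s 2 = s 3 * u0_24 := by
  simpa only [one_mul, mul_one] using ded2 r_2_1 e0_24_1 e0_20_2 e0_20_1
theorem e0_24_4 : u0_24 * s 4 = s 0 * u0_24 := by
  simpa only [one_mul, mul_one] using ded2 r_4_1 e0_24_1 e0_20_4 e0_20_1
theorem e0_28_1 : u0_28 * s 1 = 1 * u0_25 := by
  simpa only [one_mul, mul_one] using ded2 r_1_5 e0_28_5 e0_24_1 e0_20_5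
theorem e0_25_1 : u0_25 * s 1 = 1 * u0_28 := rev_edge (s_sq 1) e0_28_1
theorem e0_24_6 : u0_24 * s 6 = s 5 * u0_24 := by
  simpa only [one_mul, mul_one] using ded2 r_6_1 e0_24_1 e0_20_6 e0_20_1
theorem e0_24_7 : u0_24 * s 7 = s 6 * u0_24 := by
  simpa only [one_mul, mul_one] using ded2 r_7_1 e0_24_1 e0_20_7 e0_20_1
theorem e0_29_5 : u0_29 * s 5 = s 0 * u0_29 := by
  simpa only [one_mul, mul_one] using ded3 r_5_4 e0_29_4 e0_25_5 e0_20_4 e0_20_5 e0_25_4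
theorem e0_30_5 : u0_30 * s 5 = s 5 * u0_30 := by
  simpa only [one_mul, mul_one] using ded3 r_5_6 e0_30_6 e0_25_5 e0_20_6 e0_20_5 e0_25_6
theorem e0_25_7 : u0_25 * s 7 = s 6 * u0_25 := by
  simpa only [one_mul, mul_one] using ded2 r_7_5 e0_25_5 e0_20_7 e0_20_5
theorem e0_28_3 : u0_28 * s 3 = s 2 * u0_28 := by
  simpa only [one_mul, mul_one] using ded3 r_3_1 e0_28_1 e0_25_3 e0_21_1 e0_21_3 e0_25_1
theorem e0_26_1 : u0_26 * s 1 = s 2 * u0_26 := by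
  simpa only [one_mul, mul_one] using ded2 r_1_6 e0_26_6 e0_21_1 e0_21_6
theorem e0_29_3 : u0_29 * s 3 = s 4 * u0_29 := by
  simpa only [one_mul, mul_one] using ded3 r_3_4 e0_29_4 e0_25_3 e0_21_4 e0_21_3 e0_25_4
theorem e0_30_3 : u0_30 * s 3 = 1 * u0_26 := by
  simpa only [one_mul, mul_one] using ded2 r_3_6 e0_30_6 e0_25_3 e0_21_6
theorem e0_26_3 : u0_26 * s 3 = 1 * u0_30 := rev_edge (s_sq 3) e0_30_3
theorem e0_26_4 : u0_26 * s 4 = s 4 * u0_26 := by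
  simpa only [one_mul, mul_one] using ded2 r_4_6 e0_26_6 e0_21_4 e0_21_6
theorem e0_31_6 : u0_31 * s 6 = s 6 * u0_31 := by
  simpa only [one_mul, mul_one] using ded3 r_6_7 e0_31_7 e0_26_6 e0_21_7 e0_21_6 e0_26_7
theorem e0_27_1 : u0_27 * s 1 = s 2 * u0_27 := by
  simpa only [one_mul, mul_one] using ded2 r_1_7 e0_27_7 e0_22_1 e0_22_7
theorem e0_30_2 : u0_30 * s 2 = s 3 * u0_30 := by
  simpa only [one_mul, mul_one] using ded3 r_2_3 e0_30_3 e0_26_2 e0_22_3 e0_22_2 e0_26_3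
theorem e0_31_2 : u0_31 * s 2 = 1 * u0_27 := by
  simpa only [one_mul, mul_one] using ded2 r_2_7 e0_31_7 e0_26_2 e0_22_7
theorem e0_27_2 : u0_27 * s 2 = 1 * u0_31 := rev_edge (s_sq 2) e0_31_2
theorem e0_27_3 : u0_27 * s 3 = s 3 * u0_27 := by
  simpa only [one_mul, mul_one] using ded2 r_3_7 e0_27_7 e0_22_3 e0_22_7
theorem e0_27_4 : u0_27 * s 4 = s 4 * u0_27 := by
  simpa only [one_mul, mul_one] using ded2 r_4_7 e0_27_7 e0_22_4 e0_22_7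
theorem e0_27_5 : u0_27 * s 5 = s 5 * u0_27 := by
  simpa only [one_mul, mul_one] using ded2 r_5_7 e0_27_7 e0_22_5 e0_22_7
theorem e0_31_0 : u0_31 * s 0 = s 1 * u0_31 := by
  simpa only [one_mul, mul_one] using ded3 r_0_2 e0_31_2 e0_27_0 e0_23_2 e0_23_0 e0_27_2
theorem e0_28_0 : u0_28 * s 0 = s 1 * u0_28 := by
  simpa only [one_mul, mul_one] using ded2 r_0_5 e0_28_5 e0_24_0 e0_24_5
theorem e0_28_2 : u0_28 * s 2 = s 3 * u0_28 := by
  simpa only [one_mul, mul_one] using ded2 r_2_5 e0_28_5 e0_24_2 e0_24_5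
theorem e0_32_5 : u0_32 * s 5 = s 0 * u0_32 := by
  simpa only [one_mul, mul_one] using ded3 r_5_4 e0_32_4 e0_28_5 e0_24_4 e0_24_5 e0_28_4
theorem e0_33_5 : u0_33 * s 5 = s 5 * u0_33 := by
  simpa only [one_mul, mul_one] using ded3 r_5_6 e0_33_6 e0_28_5 e0_24_6 e0_24_5 e0_28_6
theorem e0_28_7 : u0_28 * s 7 = s 6 * u0_28 := by
  simpa only [one_mul, mul_one] using ded2 r_7_5 e0_28_5 e0_24_7 e0_24_5
theorem e0_29_0 : u0_29 * s 0 = s 1 * u0_29 := by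
  simpa only [one_mul, mul_one] using ded2 r_0_4 e0_29_4 e0_25_0 e0_25_4
theorem e0_30_0 : u0_30 * s 0 = s 1 * u0_30 := by
  simpa only [one_mul, mul_one] using ded2 r_0_6 e0_30_6 e0_25_0 e0_25_6
theorem e0_32_1 : u0_32 * s 1 = 1 * u0_29 := by
  simpa only [one_mul, mul_one] using ded2 r_1_4 e0_32_4 e0_28_1 e0_25_4
theorem e0_29_1 : u0_29 * s 1 = 1 * u0_32 := rev_edge (s_sq 1) e0_32_1
theorem e0_33_1 : u0_33 * s 1 = 1 * u0_30 := by
  simpa only [one_mul, mul_one] using ded2 r_1_6 e0_33_6 e0_28_1 e0_25_6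
theorem e0_30_1 : u0_30 * s 1 = 1 * u0_33 := rev_edge (s_sq 1) e0_33_1
theorem e0_29_2 : u0_29 * s 2 = s 3 * u0_29 := by
  simpa only [one_mul, mul_one] using ded2 r_2_4 e0_29_4 e0_25_2 e0_25_4
theorem e0_34_4 : u0_34 * s 4 = 1 * u0_30 := by
  simpa only [one_mul, mul_one] using ded2 r_4_6 e0_34_6 e0_29_4 e0_25_6
theorem e0_30_4 : u0_30 * s 4 = 1 * u0_34 := rev_edge (s_sq 4) e0_34_4
theorem e0_29_7 : u0_29 * s 7 = s 6 * u0_29 := by
  simpa only [one_mul, mul_one] using ded2 r_7_4 e0_29_4 e0_25_7 e0_25_4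
theorem e0_35_6 : u0_35 * s 6 = s 6 * u0_35 := by
  simpa only [one_mul, mul_one] using ded3 r_6_7 e0_35_7 e0_30_6 e0_25_7 e0_25_6 e0_30_7
theorem e0_33_3 : u0_33 * s 3 = s 2 * u0_33 := by
  simpa only [one_mul, mul_one] using ded3 r_3_1 e0_33_1 e0_30_3 e0_26_1 e0_26_3 e0_30_1
theorem e0_31_1 : u0_31 * s 1 = s 2 * u0_31 := by
  simpa only [one_mul, mul_one] using ded2 r_1_7 e0_31_7 e0_26_1 e0_26_7
theorem e0_34_3 : u0_34 * s 3 = s 4 * u0_34 := by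
  simpa only [one_mul, mul_one] using ded3 r_3_4 e0_34_4 e0_30_3 e0_26_4 e0_26_3 e0_30_4
theorem e0_35_3 : u0_35 * s 3 = 1 * u0_31 := by
  simpa only [one_mul, mul_one] using ded2 r_3_7 e0_35_7 e0_30_3 e0_26_7
theorem e0_31_3 : u0_31 * s 3 = 1 * u0_35 := rev_edge (s_sq 3) e0_35_3
theorem e0_31_4 : u0_31 * s 4 = s 4 * u0_31 := by
  simpa only [one_mul, mul_one] using ded2 r_4_7 e0_31_7 e0_26_4 e0_26_7
theorem e0_31_5 : u0_31 * s 5 = s 5 * u0_31 := by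
  simpa only [one_mul, mul_one] using ded2 r_5_7 e0_31_7 e0_26_5 e0_26_7
theorem e0_35_2 : u0_35 * s 2 = s 3 * u0_35 := by
  simpa only [one_mul, mul_one] using ded3 r_2_3 e0_35_3 e0_31_2 e0_27_3 e0_27_2 e0_31_3
theorem e0_32_0 : u0_32 * s 0 = s 1 * u0_32 := by
  simpa only [one_mul, mul_one] using ded2 r_0_4 e0_32_4 e0_28_0 e0_28_4
theorem e0_33_0 : u0_33 * s 0 = s 1 * u0_33 := by
  simpa only [one_mul, mul_one] using ded2 r_0_6 e0_33_6 e0_28_0 e0_28_6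
theorem e0_32_2 : u0_32 * s 2 = s 3 * u0_32 := by
  simpa only [one_mul, mul_one] using ded2 r_2_4 e0_32_4 e0_28_2 e0_28_4
theorem e0_33_2 : u0_33 * s 2 = s 3 * u0_33 := by
  simpa only [one_mul, mul_one] using ded2 r_2_6 e0_33_6 e0_28_2 e0_28_6
theorem e0_36_4 : u0_36 * s 4 = s 2 * u0_36 := by
  simpa only [one_mul, mul_one] using ded3 r_4_3 e0_36_3 e0_32_4 e0_28_3 e0_28_4 e0_32_3
theorem e0_37_4 : u0_37 * s 4 = 1 * u0_33 := by
  simpa only [one_mul, mul_one] using ded2 r_4_6 e0_37_6 e0_32_4 e0_28_6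
theorem e0_33_4 : u0_33 * s 4 = 1 * u0_37 := rev_edge (s_sq 4) e0_37_4
theorem e0_32_7 : u0_32 * s 7 = s 6 * u0_32 := by
  simpa only [one_mul, mul_one] using ded2 r_7_4 e0_32_4 e0_28_7 e0_28_4
theorem e0_38_6 : u0_38 * s 6 = s 6 * u0_38 := by
  simpa only [one_mul, mul_one] using ded3 r_6_7 e0_38_7 e0_33_6 e0_28_7 e0_28_6 e0_33_7
theorem e0_34_0 : u0_34 * s 0 = s 1 * u0_34 := by
  simpa only [one_mul, mul_one] using ded2 r_0_6 e0_34_6 e0_29_0 e0_29_6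
theorem e0_36_1 : u0_36 * s 1 = s 4 * u0_36 := by
  simpa only [one_mul, mul_one] using ded3 r_1_3 e0_36_3 e0_32_1 e0_29_3 e0_29_1 e0_32_3
theorem e0_37_1 : u0_37 * s 1 = 1 * u0_34 := by
  simpa only [one_mul, mul_one] using ded2 r_1_6 e0_37_6 e0_32_1 e0_29_6
theorem e0_34_1 : u0_34 * s 1 = 1 * u0_37 := rev_edge (s_sq 1) e0_37_1
theorem e0_34_2 : u0_34 * s 2 = s 3 * u0_34 := by
  simpa only [one_mul, mul_one] using ded2 r_2_6 e0_34_6 e0_29_2 e0_29_6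
theorem e0_39_6 : u0_39 * s 6 = s 0 * u0_39 := by
  simpa only [one_mul, mul_one] using ded3 r_6_5 e0_39_5 e0_34_6 e0_29_5 e0_29_6 e0_34_5
theorem e0_40_6 : u0_40 * s 6 = s 6 * u0_40 := by
  simpa only [one_mul, mul_one] using ded3 r_6_7 e0_40_7 e0_34_6 e0_29_7 e0_29_6 e0_34_7
theorem e0_35_0 : u0_35 * s 0 = s 1 * u0_35 := by
  simpa only [one_mul, mul_one] using ded2 r_0_7 e0_35_7 e0_30_0 e0_30_7
theorem e0_38_1 : u0_38 * s 1 = 1 * u0_35 := by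
  simpa only [one_mul, mul_one] using ded2 r_1_7 e0_38_7 e0_33_1 e0_30_7
theorem e0_35_1 : u0_35 * s 1 = 1 * u0_38 := rev_edge (s_sq 1) e0_38_1
theorem e0_39_4 : u0_39 * s 4 = s 5 * u0_39 := by
  simpa only [one_mul, mul_one] using ded3 r_4_5 e0_39_5 e0_34_4 e0_30_5 e0_30_4 e0_34_5
theorem e0_40_4 : u0_40 * s 4 = 1 * u0_35 := by
  simpa only [one_mul, mul_one] using ded2 r_4_7 e0_40_7 e0_34_4 e0_30_7
theorem e0_35_4 : u0_35 * s 4 = 1 * u0_40 := rev_edge (s_sq 4) e0_40_4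
theorem e0_35_5 : u0_35 * s 5 = s 5 * u0_35 := by
  simpa only [one_mul, mul_one] using ded2 r_5_7 e0_35_7 e0_30_5 e0_30_7
theorem e0_38_3 : u0_38 * s 3 = s 2 * u0_38 := by
  simpa only [one_mul, mul_one] using ded3 r_3_1 e0_38_1 e0_35_3 e0_31_1 e0_31_3 e0_35_1
theorem e0_40_3 : u0_40 * s 3 = s 4 * u0_40 := by
  simpa only [one_mul, mul_one] using ded3 r_3_4 e0_40_4 e0_35_3 e0_31_4 e0_31_3 e0_35_4
theorem e0_36_0 : u0_36 * s 0 = s 1 * u0_36 := by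
  simpa only [one_mul, mul_one] using ded2 r_0_3 e0_36_3 e0_32_0 e0_32_3
theorem e0_37_0 : u0_37 * s 0 = s 1 * u0_37 := by
  simpa only [one_mul, mul_one] using ded2 r_0_6 e0_37_6 e0_32_0 e0_32_6
theorem e0_41_3 : u0_41 * s 3 = s 3 * u0_41 := by
  simpa only [one_mul, mul_one] using ded3 r_3_2 e0_41_2 e0_36_3 e0_32_2 e0_32_3 e0_36_2
theorem e0_37_2 : u0_37 * s 2 = s 3 * u0_37 := by
  simpa only [one_mul, mul_one] using ded2 r_2_6 e0_37_6 e0_32_2 e0_32_6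
theorem e0_36_5 : u0_36 * s 5 = s 0 * u0_36 := by
  simpa only [one_mul, mul_one] using ded2 r_5_3 e0_36_3 e0_32_5 e0_32_3
theorem e0_42_3 : u0_42 * s 3 = 1 * u0_37 := by
  simpa only [one_mul, mul_one] using ded2 r_3_6 e0_42_6 e0_36_3 e0_32_6
theorem e0_37_3 : u0_37 * s 3 = 1 * u0_42 := rev_edge (s_sq 3) e0_42_3
theorem e0_36_7 : u0_36 * s 7 = s 6 * u0_36 := by
  simpa only [one_mul, mul_one] using ded2 r_7_3 e0_36_3 e0_32_7 e0_32_3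
theorem e0_43_6 : u0_43 * s 6 = s 0 * u0_43 := by
  simpa only [one_mul, mul_one] using ded3 r_6_5 e0_43_5 e0_37_6 e0_32_5 e0_32_6 e0_37_5
theorem e0_44_6 : u0_44 * s 6 = s 6 * u0_44 := by
  simpa only [one_mul, mul_one] using ded3 r_6_7 e0_44_7 e0_37_6 e0_32_7 e0_32_6 e0_37_7
theorem e0_38_0 : u0_38 * s 0 = s 1 * u0_38 := by
  simpa only [one_mul, mul_one] using ded2 r_0_7 e0_38_7 e0_33_0 e0_33_7
theorem e0_38_2 : u0_38 * s 2 = s 3 * u0_38 := by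
  simpa only [one_mul, mul_one] using ded2 r_2_7 e0_38_7 e0_33_2 e0_33_7
theorem e0_42_4 : u0_42 * s 4 = s 2 * u0_42 := by
  simpa only [one_mul, mul_one] using ded3 r_4_3 e0_42_3 e0_37_4 e0_33_3 e0_33_4 e0_37_3
theorem e0_43_4 : u0_43 * s 4 = s 5 * u0_43 := by
  simpa only [one_mul, mul_one] using ded3 r_4_5 e0_43_5 e0_37_4 e0_33_5 e0_33_4 e0_37_5
theorem e0_44_4 : u0_44 * s 4 = 1 * u0_38 := by
  simpa only [one_mul, mul_one] using ded2 r_4_7 e0_44_7 e0_37_4 e0_33_7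
theorem e0_38_4 : u0_38 * s 4 = 1 * u0_44 := rev_edge (s_sq 4) e0_44_4
theorem e0_38_5 : u0_38 * s 5 = s 5 * u0_38 := by
  simpa only [one_mul, mul_one] using ded2 r_5_7 e0_38_7 e0_33_5 e0_33_7
theorem e0_39_0 : u0_39 * s 0 = s 1 * u0_39 := by
  simpa only [one_mul, mul_one] using ded2 r_0_5 e0_39_5 e0_34_0 e0_34_5
theorem e0_40_0 : u0_40 * s 0 = s 1 * u0_40 := by
  simpa only [one_mul, mul_one] using ded2 r_0_7 e0_40_7 e0_34_0 e0_34_7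
theorem e0_42_1 : u0_42 * s 1 = s 4 * u0_42 := by
  simpa only [one_mul, mul_one] using ded3 r_1_3 e0_42_3 e0_37_1 e0_34_3 e0_34_1 e0_37_3
theorem e0_43_1 : u0_43 * s 1 = 1 * u0_39 := by
  simpa only [one_mul, mul_one] using ded2 r_1_5 e0_43_5 e0_37_1 e0_34_5
theorem e0_39_1 : u0_39 * s 1 = 1 * u0_43 := rev_edge (s_sq 1) e0_43_1
theorem e0_44_1 : u0_44 * s 1 = 1 * u0_40 := by
  simpa only [one_mul, mul_one] using ded2 r_1_7 e0_44_7 e0_37_1 e0_34_7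
theorem e0_40_1 : u0_40 * s 1 = 1 * u0_44 := rev_edge (s_sq 1) e0_44_1
theorem e0_39_2 : u0_39 * s 2 = s 3 * u0_39 := by
  simpa only [one_mul, mul_one] using ded2 r_2_5 e0_39_5 e0_34_2 e0_34_5
theorem e0_40_2 : u0_40 * s 2 = s 3 * u0_40 := by
  simpa only [one_mul, mul_one] using ded2 r_2_7 e0_40_7 e0_34_2 e0_34_7
theorem e0_39_3 : u0_39 * s 3 = s 4 * u0_39 := by
  simpa only [one_mul, mul_one] using ded2 r_3_5 e0_39_5 e0_34_3 e0_34_5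
theorem e0_45_5 : u0_45 * s 5 = 1 * u0_40 := by
  simpa only [one_mul, mul_one] using ded2 r_5_7 e0_45_7 e0_39_5 e0_34_7
theorem e0_40_5 : u0_40 * s 5 = 1 * u0_45 := rev_edge (s_sq 5) e0_45_5
theorem e0_45_4 : u0_45 * s 4 = s 5 * u0_45 := by
  simpa only [one_mul, mul_one] using ded3 r_4_5 e0_45_5 e0_40_4 e0_35_5 e0_35_4 e0_40_5
theorem e0_46_2 : u0_46 * s 2 = s 1 * u0_46 := by
  simpa only [one_mul, mul_one] using ded3 r_2_0 e0_46_0 e0_41_2 e0_36_0 e0_36_2 e0_41_0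
theorem e0_42_0 : u0_42 * s 0 = s 1 * u0_42 := by
  simpa only [one_mul, mul_one] using ded2 r_0_6 e0_42_6 e0_36_0 e0_36_6
theorem e0_41_1 : u0_41 * s 1 = s 4 * u0_41 := by
  simpa only [one_mul, mul_one] using ded2 r_1_2 e0_41_2 e0_36_1 e0_36_2
theorem e0_41_4 : u0_41 * s 4 = s 2 * u0_41 := by
  simpa only [one_mul, mul_one] using ded2 r_4_2 e0_41_2 e0_36_4 e0_36_2
theorem e0_41_5 : u0_41 * s 5 = s 0 * u0_41 := by
  simpa only [one_mul, mul_one] using ded2 r_5_2 e0_41_2 e0_36_5 e0_36_2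
theorem e0_47_2 : u0_47 * s 2 = 1 * u0_42 := by
  simpa only [one_mul, mul_one] using ded2 r_2_6 e0_47_6 e0_41_2 e0_36_6
theorem e0_42_2 : u0_42 * s 2 = 1 * u0_47 := rev_edge (s_sq 2) e0_47_2
theorem e0_41_7 : u0_41 * s 7 = s 6 * u0_41 := by
  simpa only [one_mul, mul_one] using ded2 r_7_2 e0_41_2 e0_36_7 e0_36_2
theorem e0_48_6 : u0_48 * s 6 = s 0 * u0_48 := by
  simpa only [one_mul, mul_one] using ded3 r_6_5 e0_48_5 e0_42_6 e0_36_5 e0_36_6 e0_42_5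
theorem e0_49_6 : u0_49 * s 6 = s 6 * u0_49 := by
  simpa only [one_mul, mul_one] using ded3 r_6_7 e0_49_7 e0_42_6 e0_36_7 e0_36_6 e0_42_7
theorem e0_43_0 : u0_43 * s 0 = s 1 * u0_43 := by
  simpa only [one_mul, mul_one] using ded2 r_0_5 e0_43_5 e0_37_0 e0_37_5
theorem e0_44_0 : u0_44 * s 0 = s 1 * u0_44 := by
  simpa only [one_mul, mul_one] using ded2 r_0_7 e0_44_7 e0_37_0 e0_37_7
theorem e0_47_3 : u0_47 * s 3 = s 3 * u0_47 := by
  simpa only [one_mul, mul_one] using ded3 r_3_2 e0_47_2 e0_42_3 e0_37_2 e0_37_3 e0_42_2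
theorem e0_43_2 : u0_43 * s 2 = s 3 * u0_43 := by
  simpa only [one_mul, mul_one] using ded2 r_2_5 e0_43_5 e0_37_2 e0_37_5
theorem e0_44_2 : u0_44 * s 2 = s 3 * u0_44 := by
  simpa only [one_mul, mul_one] using ded2 r_2_7 e0_44_7 e0_37_2 e0_37_7
theorem e0_48_3 : u0_48 * s 3 = 1 * u0_43 := by
  simpa only [one_mul, mul_one] using ded2 r_3_5 e0_48_5 e0_42_3 e0_37_5
theorem e0_43_3 : u0_43 * s 3 = 1 * u0_48 := rev_edge (s_sq 3) e0_48_3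
theorem e0_49_3 : u0_49 * s 3 = 1 * u0_44 := by
  simpa only [one_mul, mul_one] using ded2 r_3_7 e0_49_7 e0_42_3 e0_37_7
theorem e0_44_3 : u0_44 * s 3 = 1 * u0_49 := rev_edge (s_sq 3) e0_49_3
theorem e0_50_5 : u0_50 * s 5 = 1 * u0_44 := by
  simpa only [one_mul, mul_one] using ded2 r_5_7 e0_50_7 e0_43_5 e0_37_7
theorem e0_44_5 : u0_44 * s 5 = 1 * u0_50 := rev_edge (s_sq 5) e0_50_5
theorem e0_49_4 : u0_49 * s 4 = s 2 * u0_49 := by
  simpa only [one_mul, mul_one] using ded3 r_4_3 e0_49_3 e0_44_4 e0_38_3 e0_38_4 e0_44_3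
theorem e0_50_4 : u0_50 * s 4 = s 5 * u0_50 := by
  simpa only [one_mul, mul_one] using ded3 r_4_5 e0_50_5 e0_44_4 e0_38_5 e0_38_4 e0_44_5
theorem e0_45_0 : u0_45 * s 0 = s 1 * u0_45 := by
  simpa only [one_mul, mul_one] using ded2 r_0_7 e0_45_7 e0_39_0 e0_39_7
theorem e0_48_1 : u0_48 * s 1 = s 4 * u0_48 := by
  simpa only [one_mul, mul_one] using ded3 r_1_3 e0_48_3 e0_43_1 e0_39_3 e0_39_1 e0_43_3
theorem e0_50_1 : u0_50 * s 1 = 1 * u0_45 := by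
  simpa only [one_mul, mul_one] using ded2 r_1_7 e0_50_7 e0_43_1 e0_39_7
theorem e0_45_1 : u0_45 * s 1 = 1 * u0_50 := rev_edge (s_sq 1) e0_50_1
theorem e0_45_2 : u0_45 * s 2 = s 3 * u0_45 := by
  simpa only [one_mul, mul_one] using ded2 r_2_7 e0_45_7 e0_39_2 e0_39_7
theorem e0_45_3 : u0_45 * s 3 = s 4 * u0_45 := by
  simpa only [one_mul, mul_one] using ded2 r_3_7 e0_45_7 e0_39_3 e0_39_7
theorem e0_51_7 : u0_51 * s 7 = s 0 * u0_51 := by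
  simpa only [one_mul, mul_one] using ded3 r_7_6 e0_51_6 e0_45_7 e0_39_6 e0_39_7 e0_45_6
theorem e0_49_1 : u0_49 * s 1 = s 4 * u0_49 := by
  simpa only [one_mul, mul_one] using ded3 r_1_3 e0_49_3 e0_44_1 e0_40_3 e0_40_1 e0_44_3
theorem e0_51_5 : u0_51 * s 5 = s 6 * u0_51 := by
  simpa only [one_mul, mul_one] using ded3 r_5_6 e0_51_6 e0_45_5 e0_40_6 e0_40_5 e0_45_6
theorem e0_46_1 : u0_46 * s 1 = s 4 * u0_46 := by
  simpa only [one_mul, mul_one] using ded2 r_1_0 e0_46_0 e0_41_1 e0_41_0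
theorem e0_46_3 : u0_46 * s 3 = s 3 * u0_46 := by
  simpa only [one_mul, mul_one] using ded2 r_3_0 e0_46_0 e0_41_3 e0_41_0
theorem e0_46_4 : u0_46 * s 4 = s 2 * u0_46 := by
  simpa only [one_mul, mul_one] using ded2 r_4_0 e0_46_0 e0_41_4 e0_41_0
theorem e0_46_5 : u0_46 * s 5 = s 0 * u0_46 := by
  simpa only [one_mul, mul_one] using ded2 r_5_0 e0_46_0 e0_41_5 e0_41_0
theorem e0_52_0 : u0_52 * s 0 = 1 * u0_47 := by
  simpa only [one_mul, mul_one] using ded2 r_0_6 e0_52_6 e0_46_0 e0_41_6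
theorem e0_47_0 : u0_47 * s 0 = 1 * u0_52 := rev_edge (s_sq 0) e0_52_0
theorem e0_46_7 : u0_46 * s 7 = s 6 * u0_46 := by
  simpa only [one_mul, mul_one] using ded2 r_7_0 e0_46_0 e0_41_7 e0_41_0
theorem e0_47_1 : u0_47 * s 1 = s 4 * u0_47 := by
  simpa only [one_mul, mul_one] using ded2 r_1_6 e0_47_6 e0_41_1 e0_41_6
theorem e0_47_4 : u0_47 * s 4 = s 2 * u0_47 := by
  simpa only [one_mul, mul_one] using ded2 r_4_6 e0_47_6 e0_41_4 e0_41_6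
theorem e0_53_6 : u0_53 * s 6 = s 0 * u0_53 := by
  simpa only [one_mul, mul_one] using ded3 r_6_5 e0_53_5 e0_47_6 e0_41_5 e0_41_6 e0_47_5
theorem e0_54_6 : u0_54 * s 6 = s 6 * u0_54 := by
  simpa only [one_mul, mul_one] using ded3 r_6_7 e0_54_7 e0_47_6 e0_41_7 e0_41_6 e0_47_7
theorem e0_52_2 : u0_52 * s 2 = s 1 * u0_52 := by
  simpa only [one_mul, mul_one] using ded3 r_2_0 e0_52_0 e0_47_2 e0_42_0 e0_42_2 e0_47_0
theorem e0_48_0 : u0_48 * s 0 = s 1 * u0_48 := by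
  simpa only [one_mul, mul_one] using ded2 r_0_5 e0_48_5 e0_42_0 e0_42_5
theorem e0_49_0 : u0_49 * s 0 = s 1 * u0_49 := by
  simpa only [one_mul, mul_one] using ded2 r_0_7 e0_49_7 e0_42_0 e0_42_7
theorem e0_53_2 : u0_53 * s 2 = 1 * u0_48 := by
  simpa only [one_mul, mul_one] using ded2 r_2_5 e0_53_5 e0_47_2 e0_42_5
theorem e0_48_2 : u0_48 * s 2 = 1 * u0_53 := rev_edge (s_sq 2) e0_53_2
theorem e0_54_2 : u0_54 * s 2 = 1 * u0_49 := by
  simpa only [one_mul, mul_one] using ded2 r_2_7 e0_54_7 e0_47_2 e0_42_7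
theorem e0_49_2 : u0_49 * s 2 = 1 * u0_54 := rev_edge (s_sq 2) e0_54_2
theorem e0_55_5 : u0_55 * s 5 = s 2 * u0_55 := by
  simpa only [one_mul, mul_one] using ded3 r_5_4 e0_55_4 e0_48_5 e0_42_4 e0_42_5 e0_48_4
theorem e0_56_5 : u0_56 * s 5 = 1 * u0_49 := by
  simpa only [one_mul, mul_one] using ded2 r_5_7 e0_56_7 e0_48_5 e0_42_7
theorem e0_49_5 : u0_49 * s 5 = 1 * u0_56 := rev_edge (s_sq 5) e0_56_5
theorem e0_50_0 : u0_50 * s 0 = s 1 * u0_50 := by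
  simpa only [one_mul, mul_one] using ded2 r_0_7 e0_50_7 e0_43_0 e0_43_7
theorem e0_53_3 : u0_53 * s 3 = s 3 * u0_53 := by
  simpa only [one_mul, mul_one] using ded3 r_3_2 e0_53_2 e0_48_3 e0_43_2 e0_43_3 e0_48_2
theorem e0_50_2 : u0_50 * s 2 = s 3 * u0_50 := by
  simpa only [one_mul, mul_one] using ded2 r_2_7 e0_50_7 e0_43_2 e0_43_7
theorem e0_55_3 : u0_55 * s 3 = s 5 * u0_55 := by
  simpa only [one_mul, mul_one] using ded3 r_3_4 e0_55_4 e0_48_3 e0_43_4 e0_43_3 e0_48_4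
theorem e0_56_3 : u0_56 * s 3 = 1 * u0_50 := by
  simpa only [one_mul, mul_one] using ded2 r_3_7 e0_56_7 e0_48_3 e0_43_7
theorem e0_50_3 : u0_50 * s 3 = 1 * u0_56 := rev_edge (s_sq 3) e0_56_3
theorem e0_57_7 : u0_57 * s 7 = s 0 * u0_57 := by
  simpa only [one_mul, mul_one] using ded3 r_7_6 e0_57_6 e0_50_7 e0_43_6 e0_43_7 e0_50_6
theorem e0_54_3 : u0_54 * s 3 = s 3 * u0_54 := by
  simpa only [one_mul, mul_one] using ded3 r_3_2 e0_54_2 e0_49_3 e0_44_2 e0_44_3 e0_49_2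
theorem e0_57_5 : u0_57 * s 5 = s 6 * u0_57 := by
  simpa only [one_mul, mul_one] using ded3 r_5_6 e0_57_6 e0_50_5 e0_44_6 e0_44_5 e0_50_6
theorem e0_51_0 : u0_51 * s 0 = s 1 * u0_51 := by
  simpa only [one_mul, mul_one] using ded2 r_0_6 e0_51_6 e0_45_0 e0_45_6
theorem e0_56_1 : u0_56 * s 1 = s 4 * u0_56 := by
  simpa only [one_mul, mul_one] using ded3 r_1_3 e0_56_3 e0_50_1 e0_45_3 e0_45_1 e0_50_3
theorem e0_57_1 : u0_57 * s 1 = 1 * u0_51 := by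
  simpa only [one_mul, mul_one] using ded2 r_1_6 e0_57_6 e0_50_1 e0_45_6
theorem e0_51_1 : u0_51 * s 1 = 1 * u0_57 := rev_edge (s_sq 1) e0_57_1
theorem e0_51_2 : u0_51 * s 2 = s 3 * u0_51 := by
  simpa only [one_mul, mul_one] using ded2 r_2_6 e0_51_6 e0_45_2 e0_45_6
theorem e0_51_3 : u0_51 * s 3 = s 4 * u0_51 := by
  simpa only [one_mul, mul_one] using ded2 r_3_6 e0_51_6 e0_45_3 e0_45_6
theorem e0_51_4 : u0_51 * s 4 = s 5 * u0_51 := by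
  simpa only [one_mul, mul_one] using ded2 r_4_6 e0_51_6 e0_45_4 e0_45_6
theorem e0_52_1 : u0_52 * s 1 = s 4 * u0_52 := by
  simpa only [one_mul, mul_one] using ded2 r_1_6 e0_52_6 e0_46_1 e0_46_6
theorem e0_52_3 : u0_52 * s 3 = s 3 * u0_52 := by
  simpa only [one_mul, mul_one] using ded2 r_3_6 e0_52_6 e0_46_3 e0_46_6
theorem e0_52_4 : u0_52 * s 4 = s 2 * u0_52 := by
  simpa only [one_mul, mul_one] using ded2 r_4_6 e0_52_6 e0_46_4 e0_46_6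
theorem e0_58_6 : u0_58 * s 6 = s 0 * u0_58 := by
  simpa only [one_mul, mul_one] using ded3 r_6_5 e0_58_5 e0_52_6 e0_46_5 e0_46_6 e0_52_5
theorem e0_59_6 : u0_59 * s 6 = s 6 * u0_59 := by
  simpa only [one_mul, mul_one] using ded3 r_6_7 e0_59_7 e0_52_6 e0_46_7 e0_46_6 e0_52_7
theorem e0_58_0 : u0_58 * s 0 = 1 * u0_53 := by
  simpa only [one_mul, mul_one] using ded2 r_0_5 e0_58_5 e0_52_0 e0_47_5
theorem e0_53_0 : u0_53 * s 0 = 1 * u0_58 := rev_edge (s_sq 0) e0_58_0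
theorem e0_59_0 : u0_59 * s 0 = 1 * u0_54 := by
  simpa only [one_mul, mul_one] using ded2 r_0_7 e0_59_7 e0_52_0 e0_47_7
theorem e0_54_0 : u0_54 * s 0 = 1 * u0_59 := rev_edge (s_sq 0) e0_59_0
theorem e0_53_1 : u0_53 * s 1 = s 4 * u0_53 := by
  simpa only [one_mul, mul_one] using ded2 r_1_5 e0_53_5 e0_47_1 e0_47_5
theorem e0_54_1 : u0_54 * s 1 = s 4 * u0_54 := by
  simpa only [one_mul, mul_one] using ded2 r_1_7 e0_54_7 e0_47_1 e0_47_7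
theorem e0_60_5 : u0_60 * s 5 = s 2 * u0_60 := by
  simpa only [one_mul, mul_one] using ded3 r_5_4 e0_60_4 e0_53_5 e0_47_4 e0_47_5 e0_53_4
theorem e0_54_4 : u0_54 * s 4 = s 2 * u0_54 := by
  simpa only [one_mul, mul_one] using ded2 r_4_7 e0_54_7 e0_47_4 e0_47_7
theorem e0_61_5 : u0_61 * s 5 = 1 * u0_54 := by
  simpa only [one_mul, mul_one] using ded2 r_5_7 e0_61_7 e0_53_5 e0_47_7
theorem e0_54_5 : u0_54 * s 5 = 1 * u0_61 := rev_edge (s_sq 5) e0_61_5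
theorem e0_58_2 : u0_58 * s 2 = s 1 * u0_58 := by
  simpa only [one_mul, mul_one] using ded3 r_2_0 e0_58_0 e0_53_2 e0_48_0 e0_48_2 e0_53_0
theorem e0_55_0 : u0_55 * s 0 = s 1 * u0_55 := by
  simpa only [one_mul, mul_one] using ded2 r_0_4 e0_55_4 e0_48_0 e0_48_4
theorem e0_56_0 : u0_56 * s 0 = s 1 * u0_56 := by
  simpa only [one_mul, mul_one] using ded2 r_0_7 e0_56_7 e0_48_0 e0_48_7
theorem e0_55_1 : u0_55 * s 1 = s 4 * u0_55 := by
  simpa only [one_mul, mul_one] using ded2 r_1_4 e0_55_4 e0_48_1 e0_48_4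
theorem e0_60_2 : u0_60 * s 2 = 1 * u0_55 := by
  simpa only [one_mul, mul_one] using ded2 r_2_4 e0_60_4 e0_53_2 e0_48_4
theorem e0_55_2 : u0_55 * s 2 = 1 * u0_60 := rev_edge (s_sq 2) e0_60_2
theorem e0_61_2 : u0_61 * s 2 = 1 * u0_56 := by
  simpa only [one_mul, mul_one] using ded2 r_2_7 e0_61_7 e0_53_2 e0_48_7
theorem e0_56_2 : u0_56 * s 2 = 1 * u0_61 := rev_edge (s_sq 2) e0_61_2
theorem e0_55_6 : u0_55 * s 6 = s 0 * u0_55 := by
  simpa only [one_mul, mul_one] using ded2 r_6_4 e0_55_4 e0_48_6 e0_48_4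
theorem e0_62_4 : u0_62 * s 4 = 1 * u0_56 := by
  simpa only [one_mul, mul_one] using ded2 r_4_7 e0_62_7 e0_55_4 e0_48_7
theorem e0_56_4 : u0_56 * s 4 = 1 * u0_62 := rev_edge (s_sq 4) e0_62_4
theorem e0_63_7 : u0_63 * s 7 = s 0 * u0_63 := by
  simpa only [one_mul, mul_one] using ded3 r_7_6 e0_63_6 e0_56_7 e0_48_6 e0_48_7 e0_56_6
theorem e0_59_2 : u0_59 * s 2 = s 1 * u0_59 := by
  simpa only [one_mul, mul_one] using ded3 r_2_0 e0_59_0 e0_54_2 e0_49_0 e0_49_2 e0_54_0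
theorem e0_62_5 : u0_62 * s 5 = s 2 * u0_62 := by
  simpa only [one_mul, mul_one] using ded3 r_5_4 e0_62_4 e0_56_5 e0_49_4 e0_49_5 e0_56_4
theorem e0_63_5 : u0_63 * s 5 = s 6 * u0_63 := by
  simpa only [one_mul, mul_one] using ded3 r_5_6 e0_63_6 e0_56_5 e0_49_6 e0_49_5 e0_56_6
theorem e0_57_0 : u0_57 * s 0 = s 1 * u0_57 := by
  simpa only [one_mul, mul_one] using ded2 r_0_6 e0_57_6 e0_50_0 e0_50_6
theorem e0_61_3 : u0_61 * s 3 = s 3 * u0_61 := by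
  simpa only [one_mul, mul_one] using ded3 r_3_2 e0_61_2 e0_56_3 e0_50_2 e0_50_3 e0_56_2
theorem e0_57_2 : u0_57 * s 2 = s 3 * u0_57 := by
  simpa only [one_mul, mul_one] using ded2 r_2_6 e0_57_6 e0_50_2 e0_50_6
theorem e0_62_3 : u0_62 * s 3 = s 5 * u0_62 := by
  simpa only [one_mul, mul_one] using ded3 r_3_4 e0_62_4 e0_56_3 e0_50_4 e0_50_3 e0_56_4
theorem e0_63_3 : u0_63 * s 3 = 1 * u0_57 := by
  simpa only [one_mul, mul_one] using ded2 r_3_6 e0_63_6 e0_56_3 e0_50_6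
theorem e0_57_3 : u0_57 * s 3 = 1 * u0_63 := rev_edge (s_sq 3) e0_63_3
theorem e0_57_4 : u0_57 * s 4 = s 5 * u0_57 := by
  simpa only [one_mul, mul_one] using ded2 r_4_6 e0_57_6 e0_50_4 e0_50_6
theorem e0_63_1 : u0_63 * s 1 = s 4 * u0_63 := by
  simpa only [one_mul, mul_one] using ded3 r_1_3 e0_63_3 e0_57_1 e0_51_3 e0_51_1 e0_57_3
theorem e0_58_1 : u0_58 * s 1 = s 4 * u0_58 := by
  simpa only [one_mul, mul_one] using ded2 r_1_5 e0_58_5 e0_52_1 e0_52_5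
theorem e0_59_1 : u0_59 * s 1 = s 4 * u0_59 := by
  simpa only [one_mul, mul_one] using ded2 r_1_7 e0_59_7 e0_52_1 e0_52_7
theorem e0_58_3 : u0_58 * s 3 = s 3 * u0_58 := by
  simpa only [one_mul, mul_one] using ded2 r_3_5 e0_58_5 e0_52_3 e0_52_5
theorem e0_59_3 : u0_59 * s 3 = s 3 * u0_59 := by
  simpa only [one_mul, mul_one] using ded2 r_3_7 e0_59_7 e0_52_3 e0_52_7
theorem e0_64_5 : u0_64 * s 5 = s 2 * u0_64 := by
  simpa only [one_mul, mul_one] using ded3 r_5_4 e0_64_4 e0_58_5 e0_52_4 e0_52_5 e0_58_4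
theorem e0_59_4 : u0_59 * s 4 = s 2 * u0_59 := by
  simpa only [one_mul, mul_one] using ded2 r_4_7 e0_59_7 e0_52_4 e0_52_7
theorem e0_65_5 : u0_65 * s 5 = 1 * u0_59 := by
  simpa only [one_mul, mul_one] using ded2 r_5_7 e0_65_7 e0_58_5 e0_52_7
theorem e0_59_5 : u0_59 * s 5 = 1 * u0_65 := rev_edge (s_sq 5) e0_65_5
theorem e0_64_0 : u0_64 * s 0 = 1 * u0_60 := by
  simpa only [one_mul, mul_one] using ded2 r_0_4 e0_64_4 e0_58_0 e0_53_4
theorem e0_60_0 : u0_60 * s 0 = 1 * u0_64 := rev_edge (s_sq 0) e0_64_0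
theorem e0_65_0 : u0_65 * s 0 = 1 * u0_61 := by
  simpa only [one_mul, mul_one] using ded2 r_0_7 e0_65_7 e0_58_0 e0_53_7
theorem e0_61_0 : u0_61 * s 0 = 1 * u0_65 := rev_edge (s_sq 0) e0_65_0
theorem e0_60_1 : u0_60 * s 1 = s 4 * u0_60 := by
  simpa only [one_mul, mul_one] using ded2 r_1_4 e0_60_4 e0_53_1 e0_53_4
theorem e0_61_1 : u0_61 * s 1 = s 4 * u0_61 := by
  simpa only [one_mul, mul_one] using ded2 r_1_7 e0_61_7 e0_53_1 e0_53_7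
theorem e0_66_4 : u0_66 * s 4 = s 3 * u0_66 := by
  simpa only [one_mul, mul_one] using ded3 r_4_3 e0_66_3 e0_60_4 e0_53_3 e0_53_4 e0_60_3
theorem e0_60_6 : u0_60 * s 6 = s 0 * u0_60 := by
  simpa only [one_mul, mul_one] using ded2 r_6_4 e0_60_4 e0_53_6 e0_53_4
theorem e0_67_4 : u0_67 * s 4 = 1 * u0_61 := by
  simpa only [one_mul, mul_one] using ded2 r_4_7 e0_67_7 e0_60_4 e0_53_7
theorem e0_61_4 : u0_61 * s 4 = 1 * u0_67 := rev_edge (s_sq 4) e0_67_4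
theorem e0_68_7 : u0_68 * s 7 = s 0 * u0_68 := by
  simpa only [one_mul, mul_one] using ded3 r_7_6 e0_68_6 e0_61_7 e0_53_6 e0_53_7 e0_61_6
theorem e0_67_5 : u0_67 * s 5 = s 2 * u0_67 := by
  simpa only [one_mul, mul_one] using ded3 r_5_4 e0_67_4 e0_61_5 e0_54_4 e0_54_5 e0_61_4
theorem e0_68_5 : u0_68 * s 5 = s 6 * u0_68 := by
  simpa only [one_mul, mul_one] using ded3 r_5_6 e0_68_6 e0_61_5 e0_54_6 e0_54_5 e0_61_6
theorem e0_64_2 : u0_64 * s 2 = s 1 * u0_64 := by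
  simpa only [one_mul, mul_one] using ded3 r_2_0 e0_64_0 e0_60_2 e0_55_0 e0_55_2 e0_60_0
theorem e0_62_0 : u0_62 * s 0 = s 1 * u0_62 := by
  simpa only [one_mul, mul_one] using ded2 r_0_7 e0_62_7 e0_55_0 e0_55_7
theorem e0_62_1 : u0_62 * s 1 = s 4 * u0_62 := by
  simpa only [one_mul, mul_one] using ded2 r_1_7 e0_62_7 e0_55_1 e0_55_7
theorem e0_66_2 : u0_66 * s 2 = s 5 * u0_66 := by
  simpa only [one_mul, mul_one] using ded3 r_2_3 e0_66_3 e0_60_2 e0_55_3 e0_55_2 e0_60_3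
theorem e0_67_2 : u0_67 * s 2 = 1 * u0_62 := by
  simpa only [one_mul, mul_one] using ded2 r_2_7 e0_67_7 e0_60_2 e0_55_7
theorem e0_62_2 : u0_62 * s 2 = 1 * u0_67 := rev_edge (s_sq 2) e0_67_2
theorem e0_69_7 : u0_69 * s 7 = s 0 * u0_69 := by
  simpa only [one_mul, mul_one] using ded3 r_7_6 e0_69_6 e0_62_7 e0_55_6 e0_55_7 e0_62_6
theorem e0_65_2 : u0_65 * s 2 = s 1 * u0_65 := by
  simpa only [one_mul, mul_one] using ded3 r_2_0 e0_65_0 e0_61_2 e0_56_0 e0_56_2 e0_61_0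
theorem e0_63_0 : u0_63 * s 0 = s 1 * u0_63 := by
  simpa only [one_mul, mul_one] using ded2 r_0_6 e0_63_6 e0_56_0 e0_56_6
theorem e0_68_2 : u0_68 * s 2 = 1 * u0_63 := by
  simpa only [one_mul, mul_one] using ded2 r_2_6 e0_68_6 e0_61_2 e0_56_6
theorem e0_63_2 : u0_63 * s 2 = 1 * u0_68 := rev_edge (s_sq 2) e0_68_2
theorem e0_69_4 : u0_69 * s 4 = 1 * u0_63 := by
  simpa only [one_mul, mul_one] using ded2 r_4_6 e0_69_6 e0_62_4 e0_56_6
theorem e0_63_4 : u0_63 * s 4 = 1 * u0_69 := rev_edge (s_sq 4) e0_69_4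
theorem e0_68_3 : u0_68 * s 3 = s 3 * u0_68 := by
  simpa only [one_mul, mul_one] using ded3 r_3_2 e0_68_2 e0_63_3 e0_57_2 e0_57_3 e0_63_2
theorem e0_69_3 : u0_69 * s 3 = s 5 * u0_69 := by
  simpa only [one_mul, mul_one] using ded3 r_3_4 e0_69_4 e0_63_3 e0_57_4 e0_57_3 e0_63_4
theorem e0_64_1 : u0_64 * s 1 = s 4 * u0_64 := by
  simpa only [one_mul, mul_one] using ded2 r_1_4 e0_64_4 e0_58_1 e0_58_4
theorem e0_65_1 : u0_65 * s 1 = s 4 * u0_65 := by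
  simpa only [one_mul, mul_one] using ded2 r_1_7 e0_65_7 e0_58_1 e0_58_7
theorem e0_70_4 : u0_70 * s 4 = s 3 * u0_70 := by
  simpa only [one_mul, mul_one] using ded3 r_4_3 e0_70_3 e0_64_4 e0_58_3 e0_58_4 e0_64_3
theorem e0_65_3 : u0_65 * s 3 = s 3 * u0_65 := by
  simpa only [one_mul, mul_one] using ded2 r_3_7 e0_65_7 e0_58_3 e0_58_7
theorem e0_64_6 : u0_64 * s 6 = s 0 * u0_64 := by
  simpa only [one_mul, mul_one] using ded2 r_6_4 e0_64_4 e0_58_6 e0_58_4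
theorem e0_71_4 : u0_71 * s 4 = 1 * u0_65 := by
  simpa only [one_mul, mul_one] using ded2 r_4_7 e0_71_7 e0_64_4 e0_58_7
theorem e0_65_4 : u0_65 * s 4 = 1 * u0_71 := rev_edge (s_sq 4) e0_71_4
theorem e0_72_7 : u0_72 * s 7 = s 0 * u0_72 := by
  simpa only [one_mul, mul_one] using ded3 r_7_6 e0_72_6 e0_65_7 e0_58_6 e0_58_7 e0_65_6
theorem e0_71_5 : u0_71 * s 5 = s 2 * u0_71 := by
  simpa only [one_mul, mul_one] using ded3 r_5_4 e0_71_4 e0_65_5 e0_59_4 e0_59_5 e0_65_4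
theorem e0_72_5 : u0_72 * s 5 = s 6 * u0_72 := by
  simpa only [one_mul, mul_one] using ded3 r_5_6 e0_72_6 e0_65_5 e0_59_6 e0_59_5 e0_65_6
theorem e0_70_0 : u0_70 * s 0 = 1 * u0_66 := by
  simpa only [one_mul, mul_one] using ded2 r_0_3 e0_70_3 e0_64_0 e0_60_3
theorem e0_66_0 : u0_66 * s 0 = 1 * u0_70 := rev_edge (s_sq 0) e0_70_0
theorem e0_71_0 : u0_71 * s 0 = 1 * u0_67 := by
  simpa only [one_mul, mul_one] using ded2 r_0_7 e0_71_7 e0_64_0 e0_60_7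
theorem e0_67_0 : u0_67 * s 0 = 1 * u0_71 := rev_edge (s_sq 0) e0_71_0
theorem e0_73_3 : u0_73 * s 3 = s 4 * u0_73 := by
  simpa only [one_mul, mul_one] using ded3 r_3_1 e0_73_1 e0_66_3 e0_60_1 e0_60_3 e0_66_1
theorem e0_67_1 : u0_67 * s 1 = s 4 * u0_67 := by
  simpa only [one_mul, mul_one] using ded2 r_1_7 e0_67_7 e0_60_1 e0_60_7
theorem e0_66_5 : u0_66 * s 5 = s 2 * u0_66 := by
  simpa only [one_mul, mul_one] using ded2 r_5_3 e0_66_3 e0_60_5 e0_60_3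
theorem e0_66_6 : u0_66 * s 6 = s 0 * u0_66 := by
  simpa only [one_mul, mul_one] using ded2 r_6_3 e0_66_3 e0_60_6 e0_60_3
theorem e0_74_3 : u0_74 * s 3 = 1 * u0_67 := by
  simpa only [one_mul, mul_one] using ded2 r_3_7 e0_74_7 e0_66_3 e0_60_7
theorem e0_67_3 : u0_67 * s 3 = 1 * u0_74 := rev_edge (s_sq 3) e0_74_3
theorem e0_75_7 : u0_75 * s 7 = s 0 * u0_75 := by
  simpa only [one_mul, mul_one] using ded3 r_7_6 e0_75_6 e0_67_7 e0_60_6 e0_60_7 e0_67_6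
theorem e0_72_0 : u0_72 * s 0 = 1 * u0_68 := by
  simpa only [one_mul, mul_one] using ded2 r_0_6 e0_72_6 e0_65_0 e0_61_6
theorem e0_68_0 : u0_68 * s 0 = 1 * u0_72 := rev_edge (s_sq 0) e0_72_0
theorem e0_68_1 : u0_68 * s 1 = s 4 * u0_68 := by
  simpa only [one_mul, mul_one] using ded2 r_1_6 e0_68_6 e0_61_1 e0_61_6
theorem e0_74_4 : u0_74 * s 4 = s 3 * u0_74 := by
  simpa only [one_mul, mul_one] using ded3 r_4_3 e0_74_3 e0_67_4 e0_61_3 e0_61_4 e0_67_3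
theorem e0_75_4 : u0_75 * s 4 = 1 * u0_68 := by
  simpa only [one_mul, mul_one] using ded2 r_4_6 e0_75_6 e0_67_4 e0_61_6
theorem e0_68_4 : u0_68 * s 4 = 1 * u0_75 := rev_edge (s_sq 4) e0_75_4
theorem e0_71_2 : u0_71 * s 2 = s 1 * u0_71 := by
  simpa only [one_mul, mul_one] using ded3 r_2_0 e0_71_0 e0_67_2 e0_62_0 e0_62_2 e0_67_0
theorem e0_69_0 : u0_69 * s 0 = s 1 * u0_69 := by
  simpa only [one_mul, mul_one] using ded2 r_0_6 e0_69_6 e0_62_0 e0_62_6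
theorem e0_69_1 : u0_69 * s 1 = s 4 * u0_69 := by
  simpa only [one_mul, mul_one] using ded2 r_1_6 e0_69_6 e0_62_1 e0_62_6
theorem e0_74_2 : u0_74 * s 2 = s 5 * u0_74 := by
  simpa only [one_mul, mul_one] using ded3 r_2_3 e0_74_3 e0_67_2 e0_62_3 e0_62_2 e0_67_3
theorem e0_75_2 : u0_75 * s 2 = 1 * u0_69 := by
  simpa only [one_mul, mul_one] using ded2 r_2_6 e0_75_6 e0_67_2 e0_62_6
theorem e0_69_2 : u0_69 * s 2 = 1 * u0_75 := rev_edge (s_sq 2) e0_75_2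
theorem e0_76_6 : u0_76 * s 6 = s 2 * u0_76 := by
  simpa only [one_mul, mul_one] using ded3 r_6_5 e0_76_5 e0_69_6 e0_62_5 e0_62_6 e0_69_5
theorem e0_72_2 : u0_72 * s 2 = s 1 * u0_72 := by
  simpa only [one_mul, mul_one] using ded3 r_2_0 e0_72_0 e0_68_2 e0_63_0 e0_63_2 e0_68_0
theorem e0_76_4 : u0_76 * s 4 = s 6 * u0_76 := by
  simpa only [one_mul, mul_one] using ded3 r_4_5 e0_76_5 e0_69_4 e0_63_5 e0_63_4 e0_69_5
theorem e0_77_3 : u0_77 * s 3 = s 4 * u0_77 := by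
  simpa only [one_mul, mul_one] using ded3 r_3_1 e0_77_1 e0_70_3 e0_64_1 e0_64_3 e0_70_1
theorem e0_71_1 : u0_71 * s 1 = s 4 * u0_71 := by
  simpa only [one_mul, mul_one] using ded2 r_1_7 e0_71_7 e0_64_1 e0_64_7
theorem e0_78_3 : u0_78 * s 3 = s 1 * u0_78 := by
  simpa only [one_mul, mul_one] using ded3 r_3_2 e0_78_2 e0_70_3 e0_64_2 e0_64_3 e0_70_2
theorem e0_70_5 : u0_70 * s 5 = s 2 * u0_70 := by
  simpa only [one_mul, mul_one] using ded2 r_5_3 e0_70_3 e0_64_5 e0_64_3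
theorem e0_70_6 : u0_70 * s 6 = s 0 * u0_70 := by
  simpa only [one_mul, mul_one] using ded2 r_6_3 e0_70_3 e0_64_6 e0_64_3
theorem e0_79_3 : u0_79 * s 3 = 1 * u0_71 := by
  simpa only [one_mul, mul_one] using ded2 r_3_7 e0_79_7 e0_70_3 e0_64_7
theorem e0_71_3 : u0_71 * s 3 = 1 * u0_79 := rev_edge (s_sq 3) e0_79_3
theorem e0_80_7 : u0_80 * s 7 = s 0 * u0_80 := by
  simpa only [one_mul, mul_one] using ded3 r_7_6 e0_80_6 e0_71_7 e0_64_6 e0_64_7 e0_71_6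
theorem e0_72_1 : u0_72 * s 1 = s 4 * u0_72 := by
  simpa only [one_mul, mul_one] using ded2 r_1_6 e0_72_6 e0_65_1 e0_65_6
theorem e0_79_4 : u0_79 * s 4 = s 3 * u0_79 := by
  simpa only [one_mul, mul_one] using ded3 r_4_3 e0_79_3 e0_71_4 e0_65_3 e0_65_4 e0_71_3
theorem e0_72_3 : u0_72 * s 3 = s 3 * u0_72 := by
  simpa only [one_mul, mul_one] using ded2 r_3_6 e0_72_6 e0_65_3 e0_65_6
theorem e0_80_4 : u0_80 * s 4 = 1 * u0_72 := by
  simpa only [one_mul, mul_one] using ded2 r_4_6 e0_80_6 e0_71_4 e0_65_6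
theorem e0_72_4 : u0_72 * s 4 = 1 * u0_80 := rev_edge (s_sq 4) e0_80_4
theorem e0_77_0 : u0_77 * s 0 = 1 * u0_73 := by
  simpa only [one_mul, mul_one] using ded2 r_0_1 e0_77_1 e0_70_0 e0_66_1
theorem e0_73_0 : u0_73 * s 0 = 1 * u0_77 := rev_edge (s_sq 0) e0_77_0
theorem e0_78_0 : u0_78 * s 0 = s 5 * u0_78 := by
  simpa only [one_mul, mul_one] using ded3 r_0_2 e0_78_2 e0_70_0 e0_66_2 e0_66_0 e0_70_2
theorem e0_79_0 : u0_79 * s 0 = 1 * u0_74 := by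
  simpa only [one_mul, mul_one] using ded2 r_0_7 e0_79_7 e0_70_0 e0_66_7
theorem e0_74_0 : u0_74 * s 0 = 1 * u0_79 := rev_edge (s_sq 0) e0_79_0
theorem e0_73_2 : u0_73 * s 2 = s 5 * u0_73 := by
  simpa only [one_mul, mul_one] using ded2 r_2_1 e0_73_1 e0_66_2 e0_66_1
theorem e0_73_4 : u0_73 * s 4 = s 3 * u0_73 := by
  simpa only [one_mul, mul_one] using ded2 r_4_1 e0_73_1 e0_66_4 e0_66_1
theorem e0_73_5 : u0_73 * s 5 = s 2 * u0_73 := by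
  simpa only [one_mul, mul_one] using ded2 r_5_1 e0_73_1 e0_66_5 e0_66_1
theorem e0_73_6 : u0_73 * s 6 = s 0 * u0_73 := by
  simpa only [one_mul, mul_one] using ded2 r_6_1 e0_73_1 e0_66_6 e0_66_1
theorem e0_81_1 : u0_81 * s 1 = 1 * u0_74 := by
  simpa only [one_mul, mul_one] using ded2 r_1_7 e0_81_7 e0_73_1 e0_66_7
theorem e0_74_1 : u0_74 * s 1 = 1 * u0_81 := rev_edge (s_sq 1) e0_81_1
theorem e0_74_5 : u0_74 * s 5 = s 2 * u0_74 := by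
  simpa only [one_mul, mul_one] using ded2 r_5_7 e0_74_7 e0_66_5 e0_66_7
theorem e0_82_7 : u0_82 * s 7 = s 0 * u0_82 := by
  simpa only [one_mul, mul_one] using ded3 r_7_6 e0_82_6 e0_74_7 e0_66_6 e0_66_7 e0_74_6
theorem e0_80_0 : u0_80 * s 0 = 1 * u0_75 := by
  simpa only [one_mul, mul_one] using ded2 r_0_6 e0_80_6 e0_71_0 e0_67_6
theorem e0_75_0 : u0_75 * s 0 = 1 * u0_80 := rev_edge (s_sq 0) e0_80_0
theorem e0_81_3 : u0_81 * s 3 = s 4 * u0_81 := by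
  simpa only [one_mul, mul_one] using ded3 r_3_1 e0_81_1 e0_74_3 e0_67_1 e0_67_3 e0_74_1
theorem e0_75_1 : u0_75 * s 1 = s 4 * u0_75 := by
  simpa only [one_mul, mul_one] using ded2 r_1_6 e0_75_6 e0_67_1 e0_67_6
theorem e0_82_3 : u0_82 * s 3 = 1 * u0_75 := by
  simpa only [one_mul, mul_one] using ded2 r_3_6 e0_82_6 e0_74_3 e0_67_6
theorem e0_75_3 : u0_75 * s 3 = 1 * u0_82 := rev_edge (s_sq 3) e0_82_3
theorem e0_83_6 : u0_83 * s 6 = s 2 * u0_83 := by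
  simpa only [one_mul, mul_one] using ded3 r_6_5 e0_83_5 e0_75_6 e0_67_5 e0_67_6 e0_75_5
theorem e0_82_4 : u0_82 * s 4 = s 3 * u0_82 := by
  simpa only [one_mul, mul_one] using ded3 r_4_3 e0_82_3 e0_75_4 e0_68_3 e0_68_4 e0_75_3
theorem e0_83_4 : u0_83 * s 4 = s 6 * u0_83 := by
  simpa only [one_mul, mul_one] using ded3 r_4_5 e0_83_5 e0_75_4 e0_68_5 e0_68_4 e0_75_5
theorem e0_80_2 : u0_80 * s 2 = s 1 * u0_80 := by
  simpa only [one_mul, mul_one] using ded3 r_2_0 e0_80_0 e0_75_2 e0_69_0 e0_69_2 e0_75_0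
theorem e0_76_0 : u0_76 * s 0 = s 1 * u0_76 := by
  simpa only [one_mul, mul_one] using ded2 r_0_5 e0_76_5 e0_69_0 e0_69_5
theorem e0_76_1 : u0_76 * s 1 = s 4 * u0_76 := by
  simpa only [one_mul, mul_one] using ded2 r_1_5 e0_76_5 e0_69_1 e0_69_5
theorem e0_82_2 : u0_82 * s 2 = s 5 * u0_82 := by
  simpa only [one_mul, mul_one] using ded3 r_2_3 e0_82_3 e0_75_2 e0_69_3 e0_69_2 e0_75_3
theorem e0_83_2 : u0_83 * s 2 = 1 * u0_76 := by
  simpa only [one_mul, mul_one] using ded2 r_2_5 e0_83_5 e0_75_2 e0_69_5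
theorem e0_76_2 : u0_76 * s 2 = 1 * u0_83 := rev_edge (s_sq 2) e0_83_2
theorem e0_76_3 : u0_76 * s 3 = s 5 * u0_76 := by
  simpa only [one_mul, mul_one] using ded2 r_3_5 e0_76_5 e0_69_3 e0_69_5
theorem e0_76_7 : u0_76 * s 7 = s 0 * u0_76 := by
  simpa only [one_mul, mul_one] using ded2 r_7_5 e0_76_5 e0_69_7 e0_69_5
theorem e0_84_1 : u0_84 * s 1 = 1 * u0_78 := by
  simpa only [one_mul, mul_one] using ded2 r_1_2 e0_84_2 e0_77_1 e0_70_2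
theorem e0_78_1 : u0_78 * s 1 = 1 * u0_84 := rev_edge (s_sq 1) e0_84_1
theorem e0_77_4 : u0_77 * s 4 = s 3 * u0_77 := by
  simpa only [one_mul, mul_one] using ded2 r_4_1 e0_77_1 e0_70_4 e0_70_1
theorem e0_77_5 : u0_77 * s 5 = s 2 * u0_77 := by
  simpa only [one_mul, mul_one] using ded2 r_5_1 e0_77_1 e0_70_5 e0_70_1
theorem e0_77_6 : u0_77 * s 6 = s 0 * u0_77 := by
  simpa only [one_mul, mul_one] using ded2 r_6_1 e0_77_1 e0_70_6 e0_70_1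
theorem e0_85_1 : u0_85 * s 1 = 1 * u0_79 := by
  simpa only [one_mul, mul_one] using ded2 r_1_7 e0_85_7 e0_77_1 e0_70_7
theorem e0_79_1 : u0_79 * s 1 = 1 * u0_85 := rev_edge (s_sq 1) e0_85_1
theorem e0_78_4 : u0_78 * s 4 = s 3 * u0_78 := by
  simpa only [one_mul, mul_one] using ded2 r_4_2 e0_78_2 e0_70_4 e0_70_2
theorem e0_78_5 : u0_78 * s 5 = s 2 * u0_78 := by
  simpa only [one_mul, mul_one] using ded2 r_5_2 e0_78_2 e0_70_5 e0_70_2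
theorem e0_78_6 : u0_78 * s 6 = s 0 * u0_78 := by
  simpa only [one_mul, mul_one] using ded2 r_6_2 e0_78_2 e0_70_6 e0_70_2
theorem e0_86_2 : u0_86 * s 2 = 1 * u0_79 := by
  simpa only [one_mul, mul_one] using ded2 r_2_7 e0_86_7 e0_78_2 e0_70_7
theorem e0_79_2 : u0_79 * s 2 = 1 * u0_86 := rev_edge (s_sq 2) e0_86_2
theorem e0_79_5 : u0_79 * s 5 = s 2 * u0_79 := by
  simpa only [one_mul, mul_one] using ded2 r_5_7 e0_79_7 e0_70_5 e0_70_7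
theorem e0_87_7 : u0_87 * s 7 = s 0 * u0_87 := by
  simpa only [one_mul, mul_one] using ded3 r_7_6 e0_87_6 e0_79_7 e0_70_6 e0_70_7 e0_79_6
theorem e0_85_3 : u0_85 * s 3 = s 4 * u0_85 := by
  simpa only [one_mul, mul_one] using ded3 r_3_1 e0_85_1 e0_79_3 e0_71_1 e0_71_3 e0_79_1
theorem e0_80_1 : u0_80 * s 1 = s 4 * u0_80 := by
  simpa only [one_mul, mul_one] using ded2 r_1_6 e0_80_6 e0_71_1 e0_71_6
theorem e0_86_3 : u0_86 * s 3 = s 1 * u0_86 := by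
  simpa only [one_mul, mul_one] using ded3 r_3_2 e0_86_2 e0_79_3 e0_71_2 e0_71_3 e0_79_2
theorem e0_87_3 : u0_87 * s 3 = 1 * u0_80 := by
  simpa only [one_mul, mul_one] using ded2 r_3_6 e0_87_6 e0_79_3 e0_71_6
theorem e0_80_3 : u0_80 * s 3 = 1 * u0_87 := rev_edge (s_sq 3) e0_87_3
theorem e0_88_6 : u0_88 * s 6 = s 2 * u0_88 := by
  simpa only [one_mul, mul_one] using ded3 r_6_5 e0_88_5 e0_80_6 e0_71_5 e0_71_6 e0_80_5
theorem e0_87_4 : u0_87 * s 4 = s 3 * u0_87 := by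
  simpa only [one_mul, mul_one] using ded3 r_4_3 e0_87_3 e0_80_4 e0_72_3 e0_72_4 e0_80_3
theorem e0_88_4 : u0_88 * s 4 = s 6 * u0_88 := by
  simpa only [one_mul, mul_one] using ded3 r_4_5 e0_88_5 e0_80_4 e0_72_5 e0_72_4 e0_80_5
theorem e0_84_0 : u0_84 * s 0 = s 5 * u0_84 := by
  simpa only [one_mul, mul_one] using ded3 r_0_2 e0_84_2 e0_77_0 e0_73_2 e0_73_0 e0_77_2
theorem e0_85_0 : u0_85 * s 0 = 1 * u0_81 := by
  simpa only [one_mul, mul_one] using ded2 r_0_7 e0_85_7 e0_77_0 e0_73_7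
theorem e0_81_0 : u0_81 * s 0 = 1 * u0_85 := rev_edge (s_sq 0) e0_85_0
theorem e0_81_2 : u0_81 * s 2 = s 5 * u0_81 := by
  simpa only [one_mul, mul_one] using ded2 r_2_7 e0_81_7 e0_73_2 e0_73_7
theorem e0_81_4 : u0_81 * s 4 = s 3 * u0_81 := by
  simpa only [one_mul, mul_one] using ded2 r_4_7 e0_81_7 e0_73_4 e0_73_7
theorem e0_81_5 : u0_81 * s 5 = s 2 * u0_81 := by
  simpa only [one_mul, mul_one] using ded2 r_5_7 e0_81_7 e0_73_5 e0_73_7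
theorem e0_89_7 : u0_89 * s 7 = s 0 * u0_89 := by
  simpa only [one_mul, mul_one] using ded3 r_7_6 e0_89_6 e0_81_7 e0_73_6 e0_73_7 e0_81_6
theorem e0_86_0 : u0_86 * s 0 = s 5 * u0_86 := by
  simpa only [one_mul, mul_one] using ded3 r_0_2 e0_86_2 e0_79_0 e0_74_2 e0_74_0 e0_79_2
theorem e0_87_0 : u0_87 * s 0 = 1 * u0_82 := by
  simpa only [one_mul, mul_one] using ded2 r_0_6 e0_87_6 e0_79_0 e0_74_6
theorem e0_82_0 : u0_82 * s 0 = 1 * u0_87 := rev_edge (s_sq 0) e0_87_0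
theorem e0_89_1 : u0_89 * s 1 = 1 * u0_82 := by
  simpa only [one_mul, mul_one] using ded2 r_1_6 e0_89_6 e0_81_1 e0_74_6
theorem e0_82_1 : u0_82 * s 1 = 1 * u0_89 := rev_edge (s_sq 1) e0_89_1
theorem e0_90_6 : u0_90 * s 6 = s 2 * u0_90 := by
  simpa only [one_mul, mul_one] using ded3 r_6_5 e0_90_5 e0_82_6 e0_74_5 e0_74_6 e0_82_5
theorem e0_88_0 : u0_88 * s 0 = 1 * u0_83 := by
  simpa only [one_mul, mul_one] using ded2 r_0_5 e0_88_5 e0_80_0 e0_75_5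
theorem e0_83_0 : u0_83 * s 0 = 1 * u0_88 := rev_edge (s_sq 0) e0_88_0
theorem e0_89_3 : u0_89 * s 3 = s 4 * u0_89 := by
  simpa only [one_mul, mul_one] using ded3 r_3_1 e0_89_1 e0_82_3 e0_75_1 e0_75_3 e0_82_1
theorem e0_83_1 : u0_83 * s 1 = s 4 * u0_83 := by
  simpa only [one_mul, mul_one] using ded2 r_1_5 e0_83_5 e0_75_1 e0_75_5
theorem e0_90_3 : u0_90 * s 3 = 1 * u0_83 := by
  simpa only [one_mul, mul_one] using ded2 r_3_5 e0_90_5 e0_82_3 e0_75_5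
theorem e0_83_3 : u0_83 * s 3 = 1 * u0_90 := rev_edge (s_sq 3) e0_90_3
theorem e0_83_7 : u0_83 * s 7 = s 0 * u0_83 := by
  simpa only [one_mul, mul_one] using ded2 r_7_5 e0_83_5 e0_75_7 e0_75_5
theorem e0_88_2 : u0_88 * s 2 = s 1 * u0_88 := by
  simpa only [one_mul, mul_one] using ded3 r_2_0 e0_88_0 e0_83_2 e0_76_0 e0_76_2 e0_83_0
theorem e0_90_2 : u0_90 * s 2 = s 5 * u0_90 := by
  simpa only [one_mul, mul_one] using ded3 r_2_3 e0_90_3 e0_83_2 e0_76_3 e0_76_2 e0_83_3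
theorem e0_91_2 : u0_91 * s 2 = s 4 * u0_91 := by
  simpa only [one_mul, mul_one] using ded3 r_2_3 e0_91_3 e0_84_2 e0_77_3 e0_77_2 e0_84_3
theorem e0_84_4 : u0_84 * s 4 = s 3 * u0_84 := by
  simpa only [one_mul, mul_one] using ded2 r_4_2 e0_84_2 e0_77_4 e0_77_2
theorem e0_84_5 : u0_84 * s 5 = s 2 * u0_84 := by
  simpa only [one_mul, mul_one] using ded2 r_5_2 e0_84_2 e0_77_5 e0_77_2
theorem e0_84_6 : u0_84 * s 6 = s 0 * u0_84 := by
  simpa only [one_mul, mul_one] using ded2 r_6_2 e0_84_2 e0_77_6 e0_77_2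
theorem e0_92_2 : u0_92 * s 2 = 1 * u0_85 := by
  simpa only [one_mul, mul_one] using ded2 r_2_7 e0_92_7 e0_84_2 e0_77_7
theorem e0_85_2 : u0_85 * s 2 = 1 * u0_92 := rev_edge (s_sq 2) e0_92_2
theorem e0_85_4 : u0_85 * s 4 = s 3 * u0_85 := by
  simpa only [one_mul, mul_one] using ded2 r_4_7 e0_85_7 e0_77_4 e0_77_7
theorem e0_85_5 : u0_85 * s 5 = s 2 * u0_85 := by
  simpa only [one_mul, mul_one] using ded2 r_5_7 e0_85_7 e0_77_5 e0_77_7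
theorem e0_93_7 : u0_93 * s 7 = s 0 * u0_93 := by
  simpa only [one_mul, mul_one] using ded3 r_7_6 e0_93_6 e0_85_7 e0_77_6 e0_77_7 e0_85_6
theorem e0_91_1 : u0_91 * s 1 = s 1 * u0_91 := by
  simpa only [one_mul, mul_one] using ded3 r_1_3 e0_91_3 e0_84_1 e0_78_3 e0_78_1 e0_84_3
theorem e0_92_1 : u0_92 * s 1 = 1 * u0_86 := by
  simpa only [one_mul, mul_one] using ded2 r_1_7 e0_92_7 e0_84_1 e0_78_7
theorem e0_86_1 : u0_86 * s 1 = 1 * u0_92 := rev_edge (s_sq 1) e0_92_1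
theorem e0_86_4 : u0_86 * s 4 = s 3 * u0_86 := by
  simpa only [one_mul, mul_one] using ded2 r_4_7 e0_86_7 e0_78_4 e0_78_7
theorem e0_86_5 : u0_86 * s 5 = s 2 * u0_86 := by
  simpa only [one_mul, mul_one] using ded2 r_5_7 e0_86_7 e0_78_5 e0_78_7
theorem e0_94_7 : u0_94 * s 7 = s 0 * u0_94 := by
  simpa only [one_mul, mul_one] using ded3 r_7_6 e0_94_6 e0_86_7 e0_78_6 e0_78_7 e0_86_6
theorem e0_93_1 : u0_93 * s 1 = 1 * u0_87 := by
  simpa only [one_mul, mul_one] using ded2 r_1_6 e0_93_6 e0_85_1 e0_79_6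
theorem e0_87_1 : u0_87 * s 1 = 1 * u0_93 := rev_edge (s_sq 1) e0_93_1
theorem e0_94_2 : u0_94 * s 2 = 1 * u0_87 := by
  simpa only [one_mul, mul_one] using ded2 r_2_6 e0_94_6 e0_86_2 e0_79_6
theorem e0_87_2 : u0_87 * s 2 = 1 * u0_94 := rev_edge (s_sq 2) e0_94_2
theorem e0_95_6 : u0_95 * s 6 = s 2 * u0_95 := by
  simpa only [one_mul, mul_one] using ded3 r_6_5 e0_95_5 e0_87_6 e0_79_5 e0_79_6 e0_87_5
theorem e0_93_3 : u0_93 * s 3 = s 4 * u0_93 := by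
  simpa only [one_mul, mul_one] using ded3 r_3_1 e0_93_1 e0_87_3 e0_80_1 e0_80_3 e0_87_1
theorem e0_88_1 : u0_88 * s 1 = s 4 * u0_88 := by
  simpa only [one_mul, mul_one] using ded2 r_1_5 e0_88_5 e0_80_1 e0_80_5
theorem e0_94_3 : u0_94 * s 3 = s 1 * u0_94 := by
  simpa only [one_mul, mul_one] using ded3 r_3_2 e0_94_2 e0_87_3 e0_80_2 e0_80_3 e0_87_2
theorem e0_95_3 : u0_95 * s 3 = 1 * u0_88 := by
  simpa only [one_mul, mul_one] using ded2 r_3_5 e0_95_5 e0_87_3 e0_80_5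
theorem e0_88_3 : u0_88 * s 3 = 1 * u0_95 := rev_edge (s_sq 3) e0_95_3
theorem e0_88_7 : u0_88 * s 7 = s 0 * u0_88 := by
  simpa only [one_mul, mul_one] using ded2 r_7_5 e0_88_5 e0_80_7 e0_80_5
theorem e0_92_0 : u0_92 * s 0 = s 5 * u0_92 := by
  simpa only [one_mul, mul_one] using ded3 r_0_2 e0_92_2 e0_85_0 e0_81_2 e0_81_0 e0_85_2
theorem e0_93_0 : u0_93 * s 0 = 1 * u0_89 := by
  simpa only [one_mul, mul_one] using ded2 r_0_6 e0_93_6 e0_85_0 e0_81_6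
theorem e0_89_0 : u0_89 * s 0 = 1 * u0_93 := rev_edge (s_sq 0) e0_93_0
theorem e0_89_2 : u0_89 * s 2 = s 5 * u0_89 := by
  simpa only [one_mul, mul_one] using ded2 r_2_6 e0_89_6 e0_81_2 e0_81_6
theorem e0_89_4 : u0_89 * s 4 = s 3 * u0_89 := by
  simpa only [one_mul, mul_one] using ded2 r_4_6 e0_89_6 e0_81_4 e0_81_6
theorem e0_96_6 : u0_96 * s 6 = s 2 * u0_96 := by
  simpa only [one_mul, mul_one] using ded3 r_6_5 e0_96_5 e0_89_6 e0_81_5 e0_81_6 e0_89_5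
theorem e0_94_0 : u0_94 * s 0 = s 5 * u0_94 := by
  simpa only [one_mul, mul_one] using ded3 r_0_2 e0_94_2 e0_87_0 e0_82_2 e0_82_0 e0_87_2
theorem e0_95_0 : u0_95 * s 0 = 1 * u0_90 := by
  simpa only [one_mul, mul_one] using ded2 r_0_5 e0_95_5 e0_87_0 e0_82_5
theorem e0_90_0 : u0_90 * s 0 = 1 * u0_95 := rev_edge (s_sq 0) e0_95_0
theorem e0_96_1 : u0_96 * s 1 = 1 * u0_90 := by
  simpa only [one_mul, mul_one] using ded2 r_1_5 e0_96_5 e0_89_1 e0_82_5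
theorem e0_90_1 : u0_90 * s 1 = 1 * u0_96 := rev_edge (s_sq 1) e0_96_1
theorem e0_97_5 : u0_97 * s 5 = s 3 * u0_97 := by
  simpa only [one_mul, mul_one] using ded3 r_5_4 e0_97_4 e0_90_5 e0_82_4 e0_82_5 e0_90_4
theorem e0_90_7 : u0_90 * s 7 = s 0 * u0_90 := by
  simpa only [one_mul, mul_one] using ded2 r_7_5 e0_90_5 e0_82_7 e0_82_5
theorem e0_96_3 : u0_96 * s 3 = s 4 * u0_96 := by
  simpa only [one_mul, mul_one] using ded3 r_3_1 e0_96_1 e0_90_3 e0_83_1 e0_83_3 e0_90_1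
theorem e0_97_3 : u0_97 * s 3 = s 6 * u0_97 := by
  simpa only [one_mul, mul_one] using ded3 r_3_4 e0_97_4 e0_90_3 e0_83_4 e0_83_3 e0_90_4
theorem e0_91_0 : u0_91 * s 0 = s 5 * u0_91 := by
  simpa only [one_mul, mul_one] using ded2 r_0_3 e0_91_3 e0_84_0 e0_84_3
theorem e0_98_3 : u0_98 * s 3 = s 3 * u0_98 := by
  simpa only [one_mul, mul_one] using ded3 r_3_4 e0_98_4 e0_91_3 e0_84_4 e0_84_3 e0_91_4
theorem e0_91_5 : u0_91 * s 5 = s 2 * u0_91 := by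
  simpa only [one_mul, mul_one] using ded2 r_5_3 e0_91_3 e0_84_5 e0_84_3
theorem e0_91_6 : u0_91 * s 6 = s 0 * u0_91 := by
  simpa only [one_mul, mul_one] using ded2 r_6_3 e0_91_3 e0_84_6 e0_84_3
theorem e0_99_3 : u0_99 * s 3 = 1 * u0_92 := by
  simpa only [one_mul, mul_one] using ded2 r_3_7 e0_99_7 e0_91_3 e0_84_7
theorem e0_92_3 : u0_92 * s 3 = 1 * u0_99 := rev_edge (s_sq 3) e0_99_3
theorem e0_92_4 : u0_92 * s 4 = s 3 * u0_92 := by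
  simpa only [one_mul, mul_one] using ded2 r_4_7 e0_92_7 e0_84_4 e0_84_7
theorem e0_92_5 : u0_92 * s 5 = s 2 * u0_92 := by
  simpa only [one_mul, mul_one] using ded2 r_5_7 e0_92_7 e0_84_5 e0_84_7
theorem e0_100_7 : u0_100 * s 7 = s 0 * u0_100 := by
  simpa only [one_mul, mul_one] using ded3 r_7_6 e0_100_6 e0_92_7 e0_84_6 e0_84_7 e0_92_6
theorem e0_99_2 : u0_99 * s 2 = s 4 * u0_99 := by
  simpa only [one_mul, mul_one] using ded3 r_2_3 e0_99_3 e0_92_2 e0_85_3 e0_85_2 e0_92_3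
theorem e0_100_2 : u0_100 * s 2 = 1 * u0_93 := by
  simpa only [one_mul, mul_one] using ded2 r_2_6 e0_100_6 e0_92_2 e0_85_6
theorem e0_93_2 : u0_93 * s 2 = 1 * u0_100 := rev_edge (s_sq 2) e0_100_2
theorem e0_93_4 : u0_93 * s 4 = s 3 * u0_93 := by
  simpa only [one_mul, mul_one] using ded2 r_4_6 e0_93_6 e0_85_4 e0_85_6
theorem e0_101_6 : u0_101 * s 6 = s 2 * u0_101 := by
  simpa only [one_mul, mul_one] using ded3 r_6_5 e0_101_5 e0_93_6 e0_85_5 e0_85_6 e0_93_5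
theorem e0_99_1 : u0_99 * s 1 = s 1 * u0_99 := by
  simpa only [one_mul, mul_one] using ded3 r_1_3 e0_99_3 e0_92_1 e0_86_3 e0_86_1 e0_92_3
theorem e0_100_1 : u0_100 * s 1 = 1 * u0_94 := by
  simpa only [one_mul, mul_one] using ded2 r_1_6 e0_100_6 e0_92_1 e0_86_6
theorem e0_94_1 : u0_94 * s 1 = 1 * u0_100 := rev_edge (s_sq 1) e0_100_1
theorem e0_94_4 : u0_94 * s 4 = s 3 * u0_94 := by
  simpa only [one_mul, mul_one] using ded2 r_4_6 e0_94_6 e0_86_4 e0_86_6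
theorem e0_102_6 : u0_102 * s 6 = s 2 * u0_102 := by
  simpa only [one_mul, mul_one] using ded3 r_6_5 e0_102_5 e0_94_6 e0_86_5 e0_86_6 e0_94_5
theorem e0_101_1 : u0_101 * s 1 = 1 * u0_95 := by
  simpa only [one_mul, mul_one] using ded2 r_1_5 e0_101_5 e0_93_1 e0_87_5
theorem e0_95_1 : u0_95 * s 1 = 1 * u0_101 := rev_edge (s_sq 1) e0_101_1
theorem e0_102_2 : u0_102 * s 2 = 1 * u0_95 := by
  simpa only [one_mul, mul_one] using ded2 r_2_5 e0_102_5 e0_94_2 e0_87_5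
theorem e0_95_2 : u0_95 * s 2 = 1 * u0_102 := rev_edge (s_sq 2) e0_102_2
theorem e0_103_5 : u0_103 * s 5 = s 3 * u0_103 := by
  simpa only [one_mul, mul_one] using ded3 r_5_4 e0_103_4 e0_95_5 e0_87_4 e0_87_5 e0_95_4
theorem e0_95_7 : u0_95 * s 7 = s 0 * u0_95 := by
  simpa only [one_mul, mul_one] using ded2 r_7_5 e0_95_5 e0_87_7 e0_87_5
theorem e0_101_3 : u0_101 * s 3 = s 4 * u0_101 := by
  simpa only [one_mul, mul_one] using ded3 r_3_1 e0_101_1 e0_95_3 e0_88_1 e0_88_3 e0_95_1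
theorem e0_102_3 : u0_102 * s 3 = s 1 * u0_102 := by
  simpa only [one_mul, mul_one] using ded3 r_3_2 e0_102_2 e0_95_3 e0_88_2 e0_88_3 e0_95_2
theorem e0_103_3 : u0_103 * s 3 = s 6 * u0_103 := by
  simpa only [one_mul, mul_one] using ded3 r_3_4 e0_103_4 e0_95_3 e0_88_4 e0_88_3 e0_95_4
theorem e0_100_0 : u0_100 * s 0 = s 5 * u0_100 := by
  simpa only [one_mul, mul_one] using ded3 r_0_2 e0_100_2 e0_93_0 e0_89_2 e0_89_0 e0_93_2
theorem e0_101_0 : u0_101 * s 0 = 1 * u0_96 := by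
  simpa only [one_mul, mul_one] using ded2 r_0_5 e0_101_5 e0_93_0 e0_89_5
theorem e0_96_0 : u0_96 * s 0 = 1 * u0_101 := rev_edge (s_sq 0) e0_101_0
theorem e0_96_2 : u0_96 * s 2 = s 5 * u0_96 := by
  simpa only [one_mul, mul_one] using ded2 r_2_5 e0_96_5 e0_89_2 e0_89_5
theorem e0_104_5 : u0_104 * s 5 = s 3 * u0_104 := by
  simpa only [one_mul, mul_one] using ded3 r_5_4 e0_104_4 e0_96_5 e0_89_4 e0_89_5 e0_96_4
theorem e0_96_7 : u0_96 * s 7 = s 0 * u0_96 := by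
  simpa only [one_mul, mul_one] using ded2 r_7_5 e0_96_5 e0_89_7 e0_89_5
theorem e0_102_0 : u0_102 * s 0 = s 5 * u0_102 := by
  simpa only [one_mul, mul_one] using ded3 r_0_2 e0_102_2 e0_95_0 e0_90_2 e0_90_0 e0_95_2
theorem e0_103_0 : u0_103 * s 0 = 1 * u0_97 := by
  simpa only [one_mul, mul_one] using ded2 r_0_4 e0_103_4 e0_95_0 e0_90_4
theorem e0_97_0 : u0_97 * s 0 = 1 * u0_103 := rev_edge (s_sq 0) e0_103_0
theorem e0_104_1 : u0_104 * s 1 = 1 * u0_97 := by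
  simpa only [one_mul, mul_one] using ded2 r_1_4 e0_104_4 e0_96_1 e0_90_4
theorem e0_97_1 : u0_97 * s 1 = 1 * u0_104 := rev_edge (s_sq 1) e0_104_1
theorem e0_97_2 : u0_97 * s 2 = s 5 * u0_97 := by
  simpa only [one_mul, mul_one] using ded2 r_2_4 e0_97_4 e0_90_2 e0_90_4
theorem e0_97_6 : u0_97 * s 6 = s 2 * u0_97 := by
  simpa only [one_mul, mul_one] using ded2 r_6_4 e0_97_4 e0_90_6 e0_90_4
theorem e0_97_7 : u0_97 * s 7 = s 0 * u0_97 := by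
  simpa only [one_mul, mul_one] using ded2 r_7_4 e0_97_4 e0_90_7 e0_90_4
theorem e0_98_0 : u0_98 * s 0 = s 5 * u0_98 := by
  simpa only [one_mul, mul_one] using ded2 r_0_4 e0_98_4 e0_91_0 e0_91_4
theorem e0_99_0 : u0_99 * s 0 = s 5 * u0_99 := by
  simpa only [one_mul, mul_one] using ded2 r_0_7 e0_99_7 e0_91_0 e0_91_7
theorem e0_98_1 : u0_98 * s 1 = s 1 * u0_98 := by
  simpa only [one_mul, mul_one] using ded2 r_1_4 e0_98_4 e0_91_1 e0_91_4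
theorem e0_98_2 : u0_98 * s 2 = s 4 * u0_98 := by
  simpa only [one_mul, mul_one] using ded2 r_2_4 e0_98_4 e0_91_2 e0_91_4
theorem e0_105_4 : u0_105 * s 4 = s 2 * u0_105 := by
  simpa only [one_mul, mul_one] using ded3 r_4_5 e0_105_5 e0_98_4 e0_91_5 e0_91_4 e0_98_5
theorem e0_98_6 : u0_98 * s 6 = s 0 * u0_98 := by
  simpa only [one_mul, mul_one] using ded2 r_6_4 e0_98_4 e0_91_6 e0_91_4
theorem e0_106_4 : u0_106 * s 4 = 1 * u0_99 := by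
  simpa only [one_mul, mul_one] using ded2 r_4_7 e0_106_7 e0_98_4 e0_91_7
theorem e0_99_4 : u0_99 * s 4 = 1 * u0_106 := rev_edge (s_sq 4) e0_106_4
theorem e0_99_5 : u0_99 * s 5 = s 2 * u0_99 := by
  simpa only [one_mul, mul_one] using ded2 r_5_7 e0_99_7 e0_91_5 e0_91_7
theorem e0_107_7 : u0_107 * s 7 = s 0 * u0_107 := by
  simpa only [one_mul, mul_one] using ded3 r_7_6 e0_107_6 e0_99_7 e0_91_6 e0_91_7 e0_99_6
theorem e0_106_3 : u0_106 * s 3 = s 3 * u0_106 := by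
  simpa only [one_mul, mul_one] using ded3 r_3_4 e0_106_4 e0_99_3 e0_92_4 e0_92_3 e0_99_4
theorem e0_107_3 : u0_107 * s 3 = 1 * u0_100 := by
  simpa only [one_mul, mul_one] using ded2 r_3_6 e0_107_6 e0_99_3 e0_92_6
theorem e0_100_3 : u0_100 * s 3 = 1 * u0_107 := rev_edge (s_sq 3) e0_107_3
theorem e0_100_4 : u0_100 * s 4 = s 3 * u0_100 := by
  simpa only [one_mul, mul_one] using ded2 r_4_6 e0_100_6 e0_92_4 e0_92_6
theorem e0_108_6 : u0_108 * s 6 = s 2 * u0_108 := by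
  simpa only [one_mul, mul_one] using ded3 r_6_5 e0_108_5 e0_100_6 e0_92_5 e0_92_6 e0_100_5
theorem e0_107_2 : u0_107 * s 2 = s 4 * u0_107 := by
  simpa only [one_mul, mul_one] using ded3 r_2_3 e0_107_3 e0_100_2 e0_93_3 e0_93_2 e0_100_3
theorem e0_108_2 : u0_108 * s 2 = 1 * u0_101 := by
  simpa only [one_mul, mul_one] using ded2 r_2_5 e0_108_5 e0_100_2 e0_93_5
theorem e0_101_2 : u0_101 * s 2 = 1 * u0_108 := rev_edge (s_sq 2) e0_108_2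
theorem e0_109_5 : u0_109 * s 5 = s 3 * u0_109 := by
  simpa only [one_mul, mul_one] using ded3 r_5_4 e0_109_4 e0_101_5 e0_93_4 e0_93_5 e0_101_4
theorem e0_101_7 : u0_101 * s 7 = s 0 * u0_101 := by
  simpa only [one_mul, mul_one] using ded2 r_7_5 e0_101_5 e0_93_7 e0_93_5
theorem e0_107_1 : u0_107 * s 1 = s 1 * u0_107 := by
  simpa only [one_mul, mul_one] using ded3 r_1_3 e0_107_3 e0_100_1 e0_94_3 e0_94_1 e0_100_3
theorem e0_108_1 : u0_108 * s 1 = 1 * u0_102 := by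
  simpa only [one_mul, mul_one] using ded2 r_1_5 e0_108_5 e0_100_1 e0_94_5
theorem e0_102_1 : u0_102 * s 1 = 1 * u0_108 := rev_edge (s_sq 1) e0_108_1
theorem e0_110_5 : u0_110 * s 5 = s 3 * u0_110 := by
  simpa only [one_mul, mul_one] using ded3 r_5_4 e0_110_4 e0_102_5 e0_94_4 e0_94_5 e0_102_4
theorem e0_102_7 : u0_102 * s 7 = s 0 * u0_102 := by
  simpa only [one_mul, mul_one] using ded2 r_7_5 e0_102_5 e0_94_7 e0_94_5
theorem e0_109_1 : u0_109 * s 1 = 1 * u0_103 := by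
  simpa only [one_mul, mul_one] using ded2 r_1_4 e0_109_4 e0_101_1 e0_95_4
theorem e0_103_1 : u0_103 * s 1 = 1 * u0_109 := rev_edge (s_sq 1) e0_109_1
theorem e0_110_2 : u0_110 * s 2 = 1 * u0_103 := by
  simpa only [one_mul, mul_one] using ded2 r_2_4 e0_110_4 e0_102_2 e0_95_4
theorem e0_103_2 : u0_103 * s 2 = 1 * u0_110 := rev_edge (s_sq 2) e0_110_2
theorem e0_103_6 : u0_103 * s 6 = s 2 * u0_103 := by
  simpa only [one_mul, mul_one] using ded2 r_6_4 e0_103_4 e0_95_6 e0_95_4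
theorem e0_103_7 : u0_103 * s 7 = s 0 * u0_103 := by
  simpa only [one_mul, mul_one] using ded2 r_7_4 e0_103_4 e0_95_7 e0_95_4
theorem e0_108_0 : u0_108 * s 0 = s 5 * u0_108 := by
  simpa only [one_mul, mul_one] using ded3 r_0_2 e0_108_2 e0_101_0 e0_96_2 e0_96_0 e0_101_2
theorem e0_109_0 : u0_109 * s 0 = 1 * u0_104 := by
  simpa only [one_mul, mul_one] using ded2 r_0_4 e0_109_4 e0_101_0 e0_96_4
theorem e0_104_0 : u0_104 * s 0 = 1 * u0_109 := rev_edge (s_sq 0) e0_109_0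
theorem e0_104_2 : u0_104 * s 2 = s 5 * u0_104 := by
  simpa only [one_mul, mul_one] using ded2 r_2_4 e0_104_4 e0_96_2 e0_96_4
theorem e0_111_4 : u0_111 * s 4 = s 4 * u0_111 := by
  simpa only [one_mul, mul_one] using ded3 r_4_3 e0_111_3 e0_104_4 e0_96_3 e0_96_4 e0_104_3
theorem e0_104_6 : u0_104 * s 6 = s 2 * u0_104 := by
  simpa only [one_mul, mul_one] using ded2 r_6_4 e0_104_4 e0_96_6 e0_96_4
theorem e0_104_7 : u0_104 * s 7 = s 0 * u0_104 := by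
  simpa only [one_mul, mul_one] using ded2 r_7_4 e0_104_4 e0_96_7 e0_96_4
theorem e0_110_0 : u0_110 * s 0 = s 5 * u0_110 := by
  simpa only [one_mul, mul_one] using ded3 r_0_2 e0_110_2 e0_103_0 e0_97_2 e0_97_0 e0_103_2
theorem e0_111_1 : u0_111 * s 1 = s 6 * u0_111 := by
  simpa only [one_mul, mul_one] using ded3 r_1_3 e0_111_3 e0_104_1 e0_97_3 e0_97_1 e0_104_3
theorem e0_105_0 : u0_105 * s 0 = s 5 * u0_105 := by
  simpa only [one_mul, mul_one] using ded2 r_0_5 e0_105_5 e0_98_0 e0_98_5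
theorem e0_106_0 : u0_106 * s 0 = s 5 * u0_106 := by
  simpa only [one_mul, mul_one] using ded2 r_0_7 e0_106_7 e0_98_0 e0_98_7
theorem e0_105_1 : u0_105 * s 1 = s 1 * u0_105 := by
  simpa only [one_mul, mul_one] using ded2 r_1_5 e0_105_5 e0_98_1 e0_98_5
theorem e0_106_1 : u0_106 * s 1 = s 1 * u0_106 := by
  simpa only [one_mul, mul_one] using ded2 r_1_7 e0_106_7 e0_98_1 e0_98_7
theorem e0_105_2 : u0_105 * s 2 = s 4 * u0_105 := by
  simpa only [one_mul, mul_one] using ded2 r_2_5 e0_105_5 e0_98_2 e0_98_5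
theorem e0_106_2 : u0_106 * s 2 = s 4 * u0_106 := by
  simpa only [one_mul, mul_one] using ded2 r_2_7 e0_106_7 e0_98_2 e0_98_7
theorem e0_105_3 : u0_105 * s 3 = s 3 * u0_105 := by
  simpa only [one_mul, mul_one] using ded2 r_3_5 e0_105_5 e0_98_3 e0_98_5
theorem e0_112_5 : u0_112 * s 5 = s 0 * u0_112 := by
  simpa only [one_mul, mul_one] using ded3 r_5_6 e0_112_6 e0_105_5 e0_98_6 e0_98_5 e0_105_6
theorem e0_113_5 : u0_113 * s 5 = 1 * u0_106 := by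
  simpa only [one_mul, mul_one] using ded2 r_5_7 e0_113_7 e0_105_5 e0_98_7
theorem e0_106_5 : u0_106 * s 5 = 1 * u0_113 := rev_edge (s_sq 5) e0_113_5
theorem e0_114_7 : u0_114 * s 7 = s 0 * u0_114 := by
  simpa only [one_mul, mul_one] using ded3 r_7_6 e0_114_6 e0_106_7 e0_98_6 e0_98_7 e0_106_6
theorem e0_107_0 : u0_107 * s 0 = s 5 * u0_107 := by
  simpa only [one_mul, mul_one] using ded2 r_0_6 e0_107_6 e0_99_0 e0_99_6
theorem e0_113_4 : u0_113 * s 4 = s 2 * u0_113 := by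
  simpa only [one_mul, mul_one] using ded3 r_4_5 e0_113_5 e0_106_4 e0_99_5 e0_99_4 e0_106_5
theorem e0_114_4 : u0_114 * s 4 = 1 * u0_107 := by
  simpa only [one_mul, mul_one] using ded2 r_4_6 e0_114_6 e0_106_4 e0_99_6
theorem e0_107_4 : u0_107 * s 4 = 1 * u0_114 := rev_edge (s_sq 4) e0_114_4
theorem e0_115_6 : u0_115 * s 6 = s 2 * u0_115 := by
  simpa only [one_mul, mul_one] using ded3 r_6_5 e0_115_5 e0_107_6 e0_99_5 e0_99_6 e0_107_5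
theorem e0_114_3 : u0_114 * s 3 = s 3 * u0_114 := by
  simpa only [one_mul, mul_one] using ded3 r_3_4 e0_114_4 e0_107_3 e0_100_4 e0_100_3 e0_107_4
theorem e0_115_3 : u0_115 * s 3 = 1 * u0_108 := by
  simpa only [one_mul, mul_one] using ded2 r_3_5 e0_115_5 e0_107_3 e0_100_5
theorem e0_108_3 : u0_108 * s 3 = 1 * u0_115 := rev_edge (s_sq 3) e0_115_3
theorem e0_116_5 : u0_116 * s 5 = s 3 * u0_116 := by
  simpa only [one_mul, mul_one] using ded3 r_5_4 e0_116_4 e0_108_5 e0_100_4 e0_100_5 e0_108_4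
theorem e0_108_7 : u0_108 * s 7 = s 0 * u0_108 := by
  simpa only [one_mul, mul_one] using ded2 r_7_5 e0_108_5 e0_100_7 e0_100_5
theorem e0_115_2 : u0_115 * s 2 = s 4 * u0_115 := by
  simpa only [one_mul, mul_one] using ded3 r_2_3 e0_115_3 e0_108_2 e0_101_3 e0_101_2 e0_108_3
theorem e0_116_2 : u0_116 * s 2 = 1 * u0_109 := by
  simpa only [one_mul, mul_one] using ded2 r_2_4 e0_116_4 e0_108_2 e0_101_4
theorem e0_109_2 : u0_109 * s 2 = 1 * u0_116 := rev_edge (s_sq 2) e0_116_2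
theorem e0_117_4 : u0_117 * s 4 = s 4 * u0_117 := by
  simpa only [one_mul, mul_one] using ded3 r_4_3 e0_117_3 e0_109_4 e0_101_3 e0_101_4 e0_109_3
theorem e0_109_6 : u0_109 * s 6 = s 2 * u0_109 := by
  simpa only [one_mul, mul_one] using ded2 r_6_4 e0_109_4 e0_101_6 e0_101_4
theorem e0_109_7 : u0_109 * s 7 = s 0 * u0_109 := by
  simpa only [one_mul, mul_one] using ded2 r_7_4 e0_109_4 e0_101_7 e0_101_4
theorem e0_115_1 : u0_115 * s 1 = s 1 * u0_115 := by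
  simpa only [one_mul, mul_one] using ded3 r_1_3 e0_115_3 e0_108_1 e0_102_3 e0_102_1 e0_108_3
theorem e0_116_1 : u0_116 * s 1 = 1 * u0_110 := by
  simpa only [one_mul, mul_one] using ded2 r_1_4 e0_116_4 e0_108_1 e0_102_4
theorem e0_110_1 : u0_110 * s 1 = 1 * u0_116 := rev_edge (s_sq 1) e0_116_1
theorem e0_118_4 : u0_118 * s 4 = s 1 * u0_118 := by
  simpa only [one_mul, mul_one] using ded3 r_4_3 e0_118_3 e0_110_4 e0_102_3 e0_102_4 e0_110_3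
theorem e0_110_6 : u0_110 * s 6 = s 2 * u0_110 := by
  simpa only [one_mul, mul_one] using ded2 r_6_4 e0_110_4 e0_102_6 e0_102_4
theorem e0_110_7 : u0_110 * s 7 = s 0 * u0_110 := by
  simpa only [one_mul, mul_one] using ded2 r_7_4 e0_110_4 e0_102_7 e0_102_4
theorem e0_117_1 : u0_117 * s 1 = s 6 * u0_117 := by
  simpa only [one_mul, mul_one] using ded3 r_1_3 e0_117_3 e0_109_1 e0_103_3 e0_103_1 e0_109_3
theorem e0_118_2 : u0_118 * s 2 = s 6 * u0_118 := by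
  simpa only [one_mul, mul_one] using ded3 r_2_3 e0_118_3 e0_110_2 e0_103_3 e0_103_2 e0_110_3
theorem e0_116_0 : u0_116 * s 0 = s 5 * u0_116 := by
  simpa only [one_mul, mul_one] using ded3 r_0_2 e0_116_2 e0_109_0 e0_104_2 e0_104_0 e0_109_2
theorem e0_117_0 : u0_117 * s 0 = 1 * u0_111 := by
  simpa only [one_mul, mul_one] using ded2 r_0_3 e0_117_3 e0_109_0 e0_104_3
theorem e0_111_0 : u0_111 * s 0 = 1 * u0_117 := rev_edge (s_sq 0) e0_117_0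
theorem e0_119_3 : u0_119 * s 3 = s 5 * u0_119 := by
  simpa only [one_mul, mul_one] using ded3 r_3_2 e0_119_2 e0_111_3 e0_104_2 e0_104_3 e0_111_2
theorem e0_111_5 : u0_111 * s 5 = s 3 * u0_111 := by
  simpa only [one_mul, mul_one] using ded2 r_5_3 e0_111_3 e0_104_5 e0_104_3
theorem e0_111_6 : u0_111 * s 6 = s 2 * u0_111 := by
  simpa only [one_mul, mul_one] using ded2 r_6_3 e0_111_3 e0_104_6 e0_104_3
theorem e0_111_7 : u0_111 * s 7 = s 0 * u0_111 := by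
  simpa only [one_mul, mul_one] using ded2 r_7_3 e0_111_3 e0_104_7 e0_104_3
theorem e0_112_0 : u0_112 * s 0 = s 5 * u0_112 := by
  simpa only [one_mul, mul_one] using ded2 r_0_6 e0_112_6 e0_105_0 e0_105_6
theorem e0_113_0 : u0_113 * s 0 = s 5 * u0_113 := by
  simpa only [one_mul, mul_one] using ded2 r_0_7 e0_113_7 e0_105_0 e0_105_7
theorem e0_112_1 : u0_112 * s 1 = s 1 * u0_112 := by
  simpa only [one_mul, mul_one] using ded2 r_1_6 e0_112_6 e0_105_1 e0_105_6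
theorem e0_113_1 : u0_113 * s 1 = s 1 * u0_113 := by
  simpa only [one_mul, mul_one] using ded2 r_1_7 e0_113_7 e0_105_1 e0_105_7
theorem e0_112_2 : u0_112 * s 2 = s 4 * u0_112 := by
  simpa only [one_mul, mul_one] using ded2 r_2_6 e0_112_6 e0_105_2 e0_105_6
theorem e0_113_2 : u0_113 * s 2 = s 4 * u0_113 := by
  simpa only [one_mul, mul_one] using ded2 r_2_7 e0_113_7 e0_105_2 e0_105_7
theorem e0_112_3 : u0_112 * s 3 = s 3 * u0_112 := by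
  simpa only [one_mul, mul_one] using ded2 r_3_6 e0_112_6 e0_105_3 e0_105_6
theorem e0_113_3 : u0_113 * s 3 = s 3 * u0_113 := by
  simpa only [one_mul, mul_one] using ded2 r_3_7 e0_113_7 e0_105_3 e0_105_7
theorem e0_112_4 : u0_112 * s 4 = s 2 * u0_112 := by
  simpa only [one_mul, mul_one] using ded2 r_4_6 e0_112_6 e0_105_4 e0_105_6
theorem e0_128_7 : u0_128 * s 7 = 1 * u0_121 := by
  simpa only [one_mul, mul_one] using ded3 r_7_6 e0_128_6 e0_120_7 e0_112_6 e0_105_7 e0_113_6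
theorem e0_121_7 : u0_121 * s 7 = 1 * u0_128 := rev_edge (s_sq 7) e0_128_7
theorem e0_114_0 : u0_114 * s 0 = s 5 * u0_114 := by
  simpa only [one_mul, mul_one] using ded2 r_0_6 e0_114_6 e0_106_0 e0_106_6
theorem e0_114_1 : u0_114 * s 1 = s 1 * u0_114 := by
  simpa only [one_mul, mul_one] using ded2 r_1_6 e0_114_6 e0_106_1 e0_106_6
theorem e0_114_2 : u0_114 * s 2 = s 4 * u0_114 := by
  simpa only [one_mul, mul_one] using ded2 r_2_6 e0_114_6 e0_106_2 e0_106_6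
theorem e0_129_6 : u0_129 * s 6 = 1 * u0_122 := by
  simpa only [one_mul, mul_one] using ded3 r_6_5 e0_129_5 e0_121_6 e0_113_5 e0_106_6 e0_114_5
theorem e0_122_6 : u0_122 * s 6 = 1 * u0_129 := rev_edge (s_sq 6) e0_129_6
theorem e0_115_0 : u0_115 * s 0 = s 5 * u0_115 := by
  simpa only [one_mul, mul_one] using ded2 r_0_5 e0_115_5 e0_107_0 e0_107_5
theorem e0_130_5 : u0_130 * s 5 = 1 * u0_123 := by
  simpa only [one_mul, mul_one] using ded3 r_5_4 e0_130_4 e0_122_5 e0_114_4 e0_107_5 e0_115_4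
theorem e0_123_5 : u0_123 * s 5 = 1 * u0_130 := rev_edge (s_sq 5) e0_130_5
theorem e0_115_7 : u0_115 * s 7 = s 0 * u0_115 := by
  simpa only [one_mul, mul_one] using ded2 r_7_5 e0_115_5 e0_107_7 e0_107_5
theorem e0_131_4 : u0_131 * s 4 = 1 * u0_124 := by
  simpa only [one_mul, mul_one] using ded3 r_4_3 e0_131_3 e0_123_4 e0_115_3 e0_108_4 e0_116_3
theorem e0_124_4 : u0_124 * s 4 = 1 * u0_131 := rev_edge (s_sq 4) e0_131_4
theorem e0_116_6 : u0_116 * s 6 = s 2 * u0_116 := by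
  simpa only [one_mul, mul_one] using ded2 r_6_4 e0_116_4 e0_108_6 e0_108_4
theorem e0_116_7 : u0_116 * s 7 = s 0 * u0_116 := by
  simpa only [one_mul, mul_one] using ded2 r_7_4 e0_116_4 e0_108_7 e0_108_4
theorem e0_133_3 : u0_133 * s 3 = 1 * u0_125 := by
  simpa only [one_mul, mul_one] using ded3 r_3_2 e0_133_2 e0_124_3 e0_116_2 e0_109_3 e0_117_2
theorem e0_125_3 : u0_125 * s 3 = 1 * u0_133 := rev_edge (s_sq 3) e0_133_3
theorem e0_117_5 : u0_117 * s 5 = s 3 * u0_117 := by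
  simpa only [one_mul, mul_one] using ded2 r_5_3 e0_117_3 e0_109_5 e0_109_3
theorem e0_117_6 : u0_117 * s 6 = s 2 * u0_117 := by
  simpa only [one_mul, mul_one] using ded2 r_6_3 e0_117_3 e0_109_6 e0_109_3
theorem e0_117_7 : u0_117 * s 7 = s 0 * u0_117 := by
  simpa only [one_mul, mul_one] using ded2 r_7_3 e0_117_3 e0_109_7 e0_109_3
theorem e0_118_0 : u0_118 * s 0 = s 5 * u0_118 := by
  simpa only [one_mul, mul_one] using ded2 r_0_3 e0_118_3 e0_110_0 e0_110_3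
theorem e0_132_3 : u0_132 * s 3 = 1 * u0_126 := by
  simpa only [one_mul, mul_one] using ded3 r_3_1 e0_132_1 e0_124_3 e0_116_1 e0_110_3 e0_118_1
theorem e0_126_3 : u0_126 * s 3 = 1 * u0_132 := rev_edge (s_sq 3) e0_132_3
theorem e0_118_5 : u0_118 * s 5 = s 3 * u0_118 := by
  simpa only [one_mul, mul_one] using ded2 r_5_3 e0_118_3 e0_110_5 e0_110_3
theorem e0_118_6 : u0_118 * s 6 = s 2 * u0_118 := by
  simpa only [one_mul, mul_one] using ded2 r_6_3 e0_118_3 e0_110_6 e0_110_3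
theorem e0_118_7 : u0_118 * s 7 = s 0 * u0_118 := by
  simpa only [one_mul, mul_one] using ded2 r_7_3 e0_118_3 e0_110_7 e0_110_3
theorem e0_134_2 : u0_134 * s 2 = 1 * u0_127 := by
  simpa only [one_mul, mul_one] using ded3 r_2_0 e0_134_0 e0_125_2 e0_117_0 e0_111_2 e0_119_0
theorem e0_127_2 : u0_127 * s 2 = 1 * u0_134 := rev_edge (s_sq 2) e0_134_2
theorem e0_119_1 : u0_119 * s 1 = s 6 * u0_119 := by
  simpa only [one_mul, mul_one] using ded2 r_1_2 e0_119_2 e0_111_1 e0_111_2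
theorem e0_119_4 : u0_119 * s 4 = s 4 * u0_119 := by
  simpa only [one_mul, mul_one] using ded2 r_4_2 e0_119_2 e0_111_4 e0_111_2
theorem e0_119_5 : u0_119 * s 5 = s 3 * u0_119 := by
  simpa only [one_mul, mul_one] using ded2 r_5_2 e0_119_2 e0_111_5 e0_111_2
theorem e0_119_6 : u0_119 * s 6 = s 2 * u0_119 := by
  simpa only [one_mul, mul_one] using ded2 r_6_2 e0_119_2 e0_111_6 e0_111_2
theorem e0_119_7 : u0_119 * s 7 = s 0 * u0_119 := by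
  simpa only [one_mul, mul_one] using ded2 r_7_2 e0_119_2 e0_111_7 e0_111_2
theorem e0_120_0 : u0_120 * s 0 = s 5 * u0_120 := by
  simpa only [one_mul, mul_one] using ded2 r_0_7 e0_120_7 e0_112_0 e0_112_7
theorem e0_120_1 : u0_120 * s 1 = s 1 * u0_120 := by
  simpa only [one_mul, mul_one] using ded2 r_1_7 e0_120_7 e0_112_1 e0_112_7
theorem e0_120_2 : u0_120 * s 2 = s 4 * u0_120 := by
  simpa only [one_mul, mul_one] using ded2 r_2_7 e0_120_7 e0_112_2 e0_112_7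
theorem e0_120_3 : u0_120 * s 3 = s 3 * u0_120 := by
  simpa only [one_mul, mul_one] using ded2 r_3_7 e0_120_7 e0_112_3 e0_112_7
theorem e0_120_4 : u0_120 * s 4 = s 2 * u0_120 := by
  simpa only [one_mul, mul_one] using ded2 r_4_7 e0_120_7 e0_112_4 e0_112_7
theorem e0_120_5 : u0_120 * s 5 = s 0 * u0_120 := by
  simpa only [one_mul, mul_one] using ded2 r_5_7 e0_120_7 e0_112_5 e0_112_7
theorem e0_121_0 : u0_121 * s 0 = s 5 * u0_121 := by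
  simpa only [one_mul, mul_one] using ded2 r_0_6 e0_121_6 e0_113_0 e0_113_6
theorem e0_121_1 : u0_121 * s 1 = s 1 * u0_121 := by
  simpa only [one_mul, mul_one] using ded2 r_1_6 e0_121_6 e0_113_1 e0_113_6
theorem e0_121_2 : u0_121 * s 2 = s 4 * u0_121 := by
  simpa only [one_mul, mul_one] using ded2 r_2_6 e0_121_6 e0_113_2 e0_113_6
theorem e0_121_3 : u0_121 * s 3 = s 3 * u0_121 := by
  simpa only [one_mul, mul_one] using ded2 r_3_6 e0_121_6 e0_113_3 e0_113_6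
theorem e0_121_4 : u0_121 * s 4 = s 2 * u0_121 := by
  simpa only [one_mul, mul_one] using ded2 r_4_6 e0_121_6 e0_113_4 e0_113_6
theorem e0_122_0 : u0_122 * s 0 = s 5 * u0_122 := by
  simpa only [one_mul, mul_one] using ded2 r_0_5 e0_122_5 e0_114_0 e0_114_5
theorem e0_122_1 : u0_122 * s 1 = s 1 * u0_122 := by
  simpa only [one_mul, mul_one] using ded2 r_1_5 e0_122_5 e0_114_1 e0_114_5
theorem e0_122_2 : u0_122 * s 2 = s 4 * u0_122 := by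
  simpa only [one_mul, mul_one] using ded2 r_2_5 e0_122_5 e0_114_2 e0_114_5
theorem e0_122_3 : u0_122 * s 3 = s 3 * u0_122 := by
  simpa only [one_mul, mul_one] using ded2 r_3_5 e0_122_5 e0_114_3 e0_114_5
theorem e0_122_7 : u0_122 * s 7 = s 0 * u0_122 := by
  simpa only [one_mul, mul_one] using ded2 r_7_5 e0_122_5 e0_114_7 e0_114_5
theorem e0_123_0 : u0_123 * s 0 = s 5 * u0_123 := by
  simpa only [one_mul, mul_one] using ded2 r_0_4 e0_123_4 e0_115_0 e0_115_4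
theorem e0_123_1 : u0_123 * s 1 = s 1 * u0_123 := by
  simpa only [one_mul, mul_one] using ded2 r_1_4 e0_123_4 e0_115_1 e0_115_4
theorem e0_123_2 : u0_123 * s 2 = s 4 * u0_123 := by
  simpa only [one_mul, mul_one] using ded2 r_2_4 e0_123_4 e0_115_2 e0_115_4
theorem e0_123_6 : u0_123 * s 6 = s 2 * u0_123 := by
  simpa only [one_mul, mul_one] using ded2 r_6_4 e0_123_4 e0_115_6 e0_115_4
theorem e0_123_7 : u0_123 * s 7 = s 0 * u0_123 := by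
  simpa only [one_mul, mul_one] using ded2 r_7_4 e0_123_4 e0_115_7 e0_115_4
theorem e0_124_0 : u0_124 * s 0 = s 5 * u0_124 := by
  simpa only [one_mul, mul_one] using ded2 r_0_3 e0_124_3 e0_116_0 e0_116_3
theorem e0_124_5 : u0_124 * s 5 = s 3 * u0_124 := by
  simpa only [one_mul, mul_one] using ded2 r_5_3 e0_124_3 e0_116_5 e0_116_3
theorem e0_124_6 : u0_124 * s 6 = s 2 * u0_124 := by
  simpa only [one_mul, mul_one] using ded2 r_6_3 e0_124_3 e0_116_6 e0_116_3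
theorem e0_124_7 : u0_124 * s 7 = s 0 * u0_124 := by
  simpa only [one_mul, mul_one] using ded2 r_7_3 e0_124_3 e0_116_7 e0_116_3
theorem e0_125_1 : u0_125 * s 1 = s 6 * u0_125 := by
  simpa only [one_mul, mul_one] using ded2 r_1_2 e0_125_2 e0_117_1 e0_117_2
theorem e0_125_4 : u0_125 * s 4 = s 4 * u0_125 := by
  simpa only [one_mul, mul_one] using ded2 r_4_2 e0_125_2 e0_117_4 e0_117_2
theorem e0_125_5 : u0_125 * s 5 = s 3 * u0_125 := by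
  simpa only [one_mul, mul_one] using ded2 r_5_2 e0_125_2 e0_117_5 e0_117_2
theorem e0_125_6 : u0_125 * s 6 = s 2 * u0_125 := by
  simpa only [one_mul, mul_one] using ded2 r_6_2 e0_125_2 e0_117_6 e0_117_2
theorem e0_125_7 : u0_125 * s 7 = s 0 * u0_125 := by
  simpa only [one_mul, mul_one] using ded2 r_7_2 e0_125_2 e0_117_7 e0_117_2
theorem e0_126_0 : u0_126 * s 0 = s 5 * u0_126 := by
  simpa only [one_mul, mul_one] using ded2 r_0_1 e0_126_1 e0_118_0 e0_118_1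
theorem e0_126_2 : u0_126 * s 2 = s 6 * u0_126 := by
  simpa only [one_mul, mul_one] using ded2 r_2_1 e0_126_1 e0_118_2 e0_118_1
theorem e0_126_4 : u0_126 * s 4 = s 1 * u0_126 := by
  simpa only [one_mul, mul_one] using ded2 r_4_1 e0_126_1 e0_118_4 e0_118_1
theorem e0_126_5 : u0_126 * s 5 = s 3 * u0_126 := by
  simpa only [one_mul, mul_one] using ded2 r_5_1 e0_126_1 e0_118_5 e0_118_1
theorem e0_126_6 : u0_126 * s 6 = s 2 * u0_126 := by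
  simpa only [one_mul, mul_one] using ded2 r_6_1 e0_126_1 e0_118_6 e0_118_1
theorem e0_126_7 : u0_126 * s 7 = s 0 * u0_126 := by
  simpa only [one_mul, mul_one] using ded2 r_7_1 e0_126_1 e0_118_7 e0_118_1
theorem e0_127_1 : u0_127 * s 1 = s 6 * u0_127 := by
  simpa only [one_mul, mul_one] using ded2 r_1_0 e0_127_0 e0_119_1 e0_119_0
theorem e0_127_3 : u0_127 * s 3 = s 5 * u0_127 := by
  simpa only [one_mul, mul_one] using ded2 r_3_0 e0_127_0 e0_119_3 e0_119_0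
theorem e0_127_4 : u0_127 * s 4 = s 4 * u0_127 := by
  simpa only [one_mul, mul_one] using ded2 r_4_0 e0_127_0 e0_119_4 e0_119_0
theorem e0_127_5 : u0_127 * s 5 = s 3 * u0_127 := by
  simpa only [one_mul, mul_one] using ded2 r_5_0 e0_127_0 e0_119_5 e0_119_0
theorem e0_127_6 : u0_127 * s 6 = s 2 * u0_127 := by
  simpa only [one_mul, mul_one] using ded2 r_6_0 e0_127_0 e0_119_6 e0_119_0
theorem e0_127_7 : u0_127 * s 7 = s 0 * u0_127 := by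
  simpa only [one_mul, mul_one] using ded2 r_7_0 e0_127_0 e0_119_7 e0_119_0
theorem e0_128_0 : u0_128 * s 0 = s 5 * u0_128 := by
  simpa only [one_mul, mul_one] using ded2 r_0_6 e0_128_6 e0_120_0 e0_120_6
theorem e0_128_1 : u0_128 * s 1 = s 1 * u0_128 := by
  simpa only [one_mul, mul_one] using ded2 r_1_6 e0_128_6 e0_120_1 e0_120_6
theorem e0_128_2 : u0_128 * s 2 = s 4 * u0_128 := by
  simpa only [one_mul, mul_one] using ded2 r_2_6 e0_128_6 e0_120_2 e0_120_6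
theorem e0_128_3 : u0_128 * s 3 = s 3 * u0_128 := by
  simpa only [one_mul, mul_one] using ded2 r_3_6 e0_128_6 e0_120_3 e0_120_6
theorem e0_128_4 : u0_128 * s 4 = s 2 * u0_128 := by
  simpa only [one_mul, mul_one] using ded2 r_4_6 e0_128_6 e0_120_4 e0_120_6
theorem e0_135_6 : u0_135 * s 6 = s 0 * u0_135 := by
  simpa only [one_mul, mul_one] using ded3 r_6_5 e0_135_5 e0_128_6 e0_120_5 e0_120_6 e0_128_5
theorem e0_129_0 : u0_129 * s 0 = s 5 * u0_129 := by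
  simpa only [one_mul, mul_one] using ded2 r_0_5 e0_129_5 e0_121_0 e0_121_5
theorem e0_129_1 : u0_129 * s 1 = s 1 * u0_129 := by
  simpa only [one_mul, mul_one] using ded2 r_1_5 e0_129_5 e0_121_1 e0_121_5
theorem e0_129_2 : u0_129 * s 2 = s 4 * u0_129 := by
  simpa only [one_mul, mul_one] using ded2 r_2_5 e0_129_5 e0_121_2 e0_121_5
theorem e0_129_3 : u0_129 * s 3 = s 3 * u0_129 := by
  simpa only [one_mul, mul_one] using ded2 r_3_5 e0_129_5 e0_121_3 e0_121_5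
theorem e0_136_5 : u0_136 * s 5 = s 2 * u0_136 := by
  simpa only [one_mul, mul_one] using ded3 r_5_4 e0_136_4 e0_129_5 e0_121_4 e0_121_5 e0_129_4
theorem e0_129_7 : u0_129 * s 7 = 1 * u0_135 := by
  simpa only [one_mul, mul_one] using ded2 r_7_5 e0_129_5 e0_121_7 e0_128_5
theorem e0_135_7 : u0_135 * s 7 = 1 * u0_129 := rev_edge (s_sq 7) e0_129_7
theorem e0_130_0 : u0_130 * s 0 = s 5 * u0_130 := by
  simpa only [one_mul, mul_one] using ded2 r_0_4 e0_130_4 e0_122_0 e0_122_4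
theorem e0_130_1 : u0_130 * s 1 = s 1 * u0_130 := by
  simpa only [one_mul, mul_one] using ded2 r_1_4 e0_130_4 e0_122_1 e0_122_4
theorem e0_130_2 : u0_130 * s 2 = s 4 * u0_130 := by
  simpa only [one_mul, mul_one] using ded2 r_2_4 e0_130_4 e0_122_2 e0_122_4
theorem e0_137_4 : u0_137 * s 4 = s 3 * u0_137 := by
  simpa only [one_mul, mul_one] using ded3 r_4_3 e0_137_3 e0_130_4 e0_122_3 e0_122_4 e0_130_3
theorem e0_130_6 : u0_130 * s 6 = 1 * u0_136 := by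
  simpa only [one_mul, mul_one] using ded2 r_6_4 e0_130_4 e0_122_6 e0_129_4
theorem e0_136_6 : u0_136 * s 6 = 1 * u0_130 := rev_edge (s_sq 6) e0_130_6
theorem e0_130_7 : u0_130 * s 7 = s 0 * u0_130 := by
  simpa only [one_mul, mul_one] using ded2 r_7_4 e0_130_4 e0_122_7 e0_122_4
theorem e0_131_0 : u0_131 * s 0 = s 5 * u0_131 := by
  simpa only [one_mul, mul_one] using ded2 r_0_3 e0_131_3 e0_123_0 e0_123_3
theorem e0_138_3 : u0_138 * s 3 = s 1 * u0_138 := by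
  simpa only [one_mul, mul_one] using ded3 r_3_1 e0_138_1 e0_131_3 e0_123_1 e0_123_3 e0_131_1
theorem e0_139_3 : u0_139 * s 3 = s 4 * u0_139 := by
  simpa only [one_mul, mul_one] using ded3 r_3_2 e0_139_2 e0_131_3 e0_123_2 e0_123_3 e0_131_2
theorem e0_131_5 : u0_131 * s 5 = 1 * u0_137 := by
  simpa only [one_mul, mul_one] using ded2 r_5_3 e0_131_3 e0_123_5 e0_130_3
theorem e0_137_5 : u0_137 * s 5 = 1 * u0_131 := rev_edge (s_sq 5) e0_131_5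
theorem e0_131_6 : u0_131 * s 6 = s 2 * u0_131 := by
  simpa only [one_mul, mul_one] using ded2 r_6_3 e0_131_3 e0_123_6 e0_123_3
theorem e0_131_7 : u0_131 * s 7 = s 0 * u0_131 := by
  simpa only [one_mul, mul_one] using ded2 r_7_3 e0_131_3 e0_123_7 e0_123_3
theorem e0_132_0 : u0_132 * s 0 = s 5 * u0_132 := by
  simpa only [one_mul, mul_one] using ded2 r_0_1 e0_132_1 e0_124_0 e0_124_1
theorem e0_141_2 : u0_141 * s 2 = s 5 * u0_141 := by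
  simpa only [one_mul, mul_one] using ded3 r_2_0 e0_141_0 e0_133_2 e0_124_0 e0_124_2 e0_133_0
theorem e0_140_1 : u0_140 * s 1 = 1 * u0_133 := by
  simpa only [one_mul, mul_one] using ded2 r_1_2 e0_140_2 e0_132_1 e0_124_2
theorem e0_133_1 : u0_133 * s 1 = 1 * u0_140 := rev_edge (s_sq 1) e0_140_1
theorem e0_132_4 : u0_132 * s 4 = 1 * u0_138 := by
  simpa only [one_mul, mul_one] using ded2 r_4_1 e0_132_1 e0_124_4 e0_131_1
theorem e0_138_4 : u0_138 * s 4 = 1 * u0_132 := rev_edge (s_sq 4) e0_132_4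
theorem e0_132_5 : u0_132 * s 5 = s 3 * u0_132 := by
  simpa only [one_mul, mul_one] using ded2 r_5_1 e0_132_1 e0_124_5 e0_124_1
theorem e0_132_6 : u0_132 * s 6 = s 2 * u0_132 := by
  simpa only [one_mul, mul_one] using ded2 r_6_1 e0_132_1 e0_124_6 e0_124_1
theorem e0_132_7 : u0_132 * s 7 = s 0 * u0_132 := by
  simpa only [one_mul, mul_one] using ded2 r_7_1 e0_132_1 e0_124_7 e0_124_1
theorem e0_133_4 : u0_133 * s 4 = 1 * u0_139 := by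
  simpa only [one_mul, mul_one] using ded2 r_4_2 e0_133_2 e0_124_4 e0_131_2
theorem e0_139_4 : u0_139 * s 4 = 1 * u0_133 := rev_edge (s_sq 4) e0_133_4
theorem e0_133_5 : u0_133 * s 5 = s 3 * u0_133 := by
  simpa only [one_mul, mul_one] using ded2 r_5_2 e0_133_2 e0_124_5 e0_124_2
theorem e0_133_6 : u0_133 * s 6 = s 2 * u0_133 := by
  simpa only [one_mul, mul_one] using ded2 r_6_2 e0_133_2 e0_124_6 e0_124_2
theorem e0_133_7 : u0_133 * s 7 = s 0 * u0_133 := by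
  simpa only [one_mul, mul_one] using ded2 r_7_2 e0_133_2 e0_124_7 e0_124_2
theorem e0_134_1 : u0_134 * s 1 = s 6 * u0_134 := by
  simpa only [one_mul, mul_one] using ded2 r_1_0 e0_134_0 e0_125_1 e0_125_0
theorem e0_134_3 : u0_134 * s 3 = 1 * u0_141 := by
  simpa only [one_mul, mul_one] using ded2 r_3_0 e0_134_0 e0_125_3 e0_133_0
theorem e0_141_3 : u0_141 * s 3 = 1 * u0_134 := rev_edge (s_sq 3) e0_134_3
theorem e0_134_4 : u0_134 * s 4 = s 4 * u0_134 := by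
  simpa only [one_mul, mul_one] using ded2 r_4_0 e0_134_0 e0_125_4 e0_125_0
theorem e0_134_5 : u0_134 * s 5 = s 3 * u0_134 := by
  simpa only [one_mul, mul_one] using ded2 r_5_0 e0_134_0 e0_125_5 e0_125_0
theorem e0_134_6 : u0_134 * s 6 = s 2 * u0_134 := by
  simpa only [one_mul, mul_one] using ded2 r_6_0 e0_134_0 e0_125_6 e0_125_0
theorem e0_134_7 : u0_134 * s 7 = s 0 * u0_134 := by
  simpa only [one_mul, mul_one] using ded2 r_7_0 e0_134_0 e0_125_7 e0_125_0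
theorem e0_140_3 : u0_140 * s 3 = s 6 * u0_140 := by
  simpa only [one_mul, mul_one] using ded3 r_3_1 e0_140_1 e0_133_3 e0_125_1 e0_125_3 e0_133_1
theorem e0_135_0 : u0_135 * s 0 = s 5 * u0_135 := by
  simpa only [one_mul, mul_one] using ded2 r_0_5 e0_135_5 e0_128_0 e0_128_5
theorem e0_135_1 : u0_135 * s 1 = s 1 * u0_135 := by
  simpa only [one_mul, mul_one] using ded2 r_1_5 e0_135_5 e0_128_1 e0_128_5
theorem e0_135_2 : u0_135 * s 2 = s 4 * u0_135 := by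
  simpa only [one_mul, mul_one] using ded2 r_2_5 e0_135_5 e0_128_2 e0_128_5
theorem e0_135_3 : u0_135 * s 3 = s 3 * u0_135 := by
  simpa only [one_mul, mul_one] using ded2 r_3_5 e0_135_5 e0_128_3 e0_128_5
theorem e0_142_5 : u0_142 * s 5 = s 2 * u0_142 := by
  simpa only [one_mul, mul_one] using ded3 r_5_4 e0_142_4 e0_135_5 e0_128_4 e0_128_5 e0_135_4
theorem e0_136_0 : u0_136 * s 0 = s 5 * u0_136 := by
  simpa only [one_mul, mul_one] using ded2 r_0_4 e0_136_4 e0_129_0 e0_129_4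
theorem e0_136_1 : u0_136 * s 1 = s 1 * u0_136 := by
  simpa only [one_mul, mul_one] using ded2 r_1_4 e0_136_4 e0_129_1 e0_129_4
theorem e0_136_2 : u0_136 * s 2 = s 4 * u0_136 := by
  simpa only [one_mul, mul_one] using ded2 r_2_4 e0_136_4 e0_129_2 e0_129_4
theorem e0_143_4 : u0_143 * s 4 = s 3 * u0_143 := by
  simpa only [one_mul, mul_one] using ded3 r_4_3 e0_143_3 e0_136_4 e0_129_3 e0_129_4 e0_136_3
theorem e0_136_7 : u0_136 * s 7 = 1 * u0_142 := by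
  simpa only [one_mul, mul_one] using ded2 r_7_4 e0_136_4 e0_129_7 e0_135_4
theorem e0_142_7 : u0_142 * s 7 = 1 * u0_136 := rev_edge (s_sq 7) e0_136_7
theorem e0_137_0 : u0_137 * s 0 = s 5 * u0_137 := by
  simpa only [one_mul, mul_one] using ded2 r_0_3 e0_137_3 e0_130_0 e0_130_3
theorem e0_144_3 : u0_144 * s 3 = s 1 * u0_144 := by
  simpa only [one_mul, mul_one] using ded3 r_3_1 e0_144_1 e0_137_3 e0_130_1 e0_130_3 e0_137_1
theorem e0_145_3 : u0_145 * s 3 = s 4 * u0_145 := by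
  simpa only [one_mul, mul_one] using ded3 r_3_2 e0_145_2 e0_137_3 e0_130_2 e0_130_3 e0_137_2
theorem e0_137_6 : u0_137 * s 6 = 1 * u0_143 := by
  simpa only [one_mul, mul_one] using ded2 r_6_3 e0_137_3 e0_130_6 e0_136_3
theorem e0_143_6 : u0_143 * s 6 = 1 * u0_137 := rev_edge (s_sq 6) e0_137_6
theorem e0_137_7 : u0_137 * s 7 = s 0 * u0_137 := by
  simpa only [one_mul, mul_one] using ded2 r_7_3 e0_137_3 e0_130_7 e0_130_3
theorem e0_142_6 : u0_142 * s 6 = s 0 * u0_142 := by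
  simpa only [one_mul, mul_one] using ded3 r_6_7 e0_142_7 e0_136_6 e0_130_7 e0_130_6 e0_136_7
theorem e0_138_0 : u0_138 * s 0 = s 5 * u0_138 := by
  simpa only [one_mul, mul_one] using ded2 r_0_1 e0_138_1 e0_131_0 e0_131_1
theorem e0_147_2 : u0_147 * s 2 = s 5 * u0_147 := by
  simpa only [one_mul, mul_one] using ded3 r_2_0 e0_147_0 e0_139_2 e0_131_0 e0_131_2 e0_139_0
theorem e0_146_1 : u0_146 * s 1 = 1 * u0_139 := by
  simpa only [one_mul, mul_one] using ded2 r_1_2 e0_146_2 e0_138_1 e0_131_2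
theorem e0_139_1 : u0_139 * s 1 = 1 * u0_146 := rev_edge (s_sq 1) e0_146_1
theorem e0_138_5 : u0_138 * s 5 = 1 * u0_144 := by
  simpa only [one_mul, mul_one] using ded2 r_5_1 e0_138_1 e0_131_5 e0_137_1
theorem e0_144_5 : u0_144 * s 5 = 1 * u0_138 := rev_edge (s_sq 5) e0_138_5
theorem e0_138_6 : u0_138 * s 6 = s 2 * u0_138 := by
  simpa only [one_mul, mul_one] using ded2 r_6_1 e0_138_1 e0_131_6 e0_131_1
theorem e0_138_7 : u0_138 * s 7 = s 0 * u0_138 := by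
  simpa only [one_mul, mul_one] using ded2 r_7_1 e0_138_1 e0_131_7 e0_131_1
theorem e0_139_5 : u0_139 * s 5 = 1 * u0_145 := by
  simpa only [one_mul, mul_one] using ded2 r_5_2 e0_139_2 e0_131_5 e0_137_2
theorem e0_145_5 : u0_145 * s 5 = 1 * u0_139 := rev_edge (s_sq 5) e0_139_5
theorem e0_139_6 : u0_139 * s 6 = s 2 * u0_139 := by
  simpa only [one_mul, mul_one] using ded2 r_6_2 e0_139_2 e0_131_6 e0_131_2
theorem e0_139_7 : u0_139 * s 7 = s 0 * u0_139 := by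
  simpa only [one_mul, mul_one] using ded2 r_7_2 e0_139_2 e0_131_7 e0_131_2
theorem e0_143_5 : u0_143 * s 5 = s 2 * u0_143 := by
  simpa only [one_mul, mul_one] using ded3 r_5_6 e0_143_6 e0_137_5 e0_131_6 e0_131_5 e0_137_6
theorem e0_148_2 : u0_148 * s 2 = s 5 * u0_148 := by
  simpa only [one_mul, mul_one] using ded3 r_2_0 e0_148_0 e0_140_2 e0_132_0 e0_132_2 e0_140_0
theorem e0_140_4 : u0_140 * s 4 = 1 * u0_146 := by
  simpa only [one_mul, mul_one] using ded2 r_4_2 e0_140_2 e0_132_4 e0_138_2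
theorem e0_146_4 : u0_146 * s 4 = 1 * u0_140 := rev_edge (s_sq 4) e0_140_4
theorem e0_140_5 : u0_140 * s 5 = s 3 * u0_140 := by
  simpa only [one_mul, mul_one] using ded2 r_5_2 e0_140_2 e0_132_5 e0_132_2
theorem e0_140_6 : u0_140 * s 6 = s 2 * u0_140 := by
  simpa only [one_mul, mul_one] using ded2 r_6_2 e0_140_2 e0_132_6 e0_132_2
theorem e0_140_7 : u0_140 * s 7 = s 0 * u0_140 := by
  simpa only [one_mul, mul_one] using ded2 r_7_2 e0_140_2 e0_132_7 e0_132_2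
theorem e0_144_4 : u0_144 * s 4 = s 3 * u0_144 := by
  simpa only [one_mul, mul_one] using ded3 r_4_5 e0_144_5 e0_138_4 e0_132_5 e0_132_4 e0_138_5
theorem e0_141_1 : u0_141 * s 1 = 1 * u0_148 := by
  simpa only [one_mul, mul_one] using ded2 r_1_0 e0_141_0 e0_133_1 e0_140_0
theorem e0_148_1 : u0_148 * s 1 = 1 * u0_141 := rev_edge (s_sq 1) e0_141_1
theorem e0_141_4 : u0_141 * s 4 = 1 * u0_147 := by
  simpa only [one_mul, mul_one] using ded2 r_4_0 e0_141_0 e0_133_4 e0_139_0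
theorem e0_147_4 : u0_147 * s 4 = 1 * u0_141 := rev_edge (s_sq 4) e0_141_4
theorem e0_141_5 : u0_141 * s 5 = s 3 * u0_141 := by
  simpa only [one_mul, mul_one] using ded2 r_5_0 e0_141_0 e0_133_5 e0_133_0
theorem e0_141_6 : u0_141 * s 6 = s 2 * u0_141 := by
  simpa only [one_mul, mul_one] using ded2 r_6_0 e0_141_0 e0_133_6 e0_133_0
theorem e0_141_7 : u0_141 * s 7 = s 0 * u0_141 := by
  simpa only [one_mul, mul_one] using ded2 r_7_0 e0_141_0 e0_133_7 e0_133_0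
theorem e0_145_4 : u0_145 * s 4 = s 3 * u0_145 := by
  simpa only [one_mul, mul_one] using ded3 r_4_5 e0_145_5 e0_139_4 e0_133_5 e0_133_4 e0_139_5
theorem e0_148_3 : u0_148 * s 3 = s 6 * u0_148 := by
  simpa only [one_mul, mul_one] using ded3 r_3_1 e0_148_1 e0_141_3 e0_134_1 e0_134_3 e0_141_1
theorem e0_147_3 : u0_147 * s 3 = s 4 * u0_147 := by
  simpa only [one_mul, mul_one] using ded3 r_3_4 e0_147_4 e0_141_3 e0_134_4 e0_134_3 e0_141_4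
theorem e0_142_0 : u0_142 * s 0 = s 5 * u0_142 := by
  simpa only [one_mul, mul_one] using ded2 r_0_4 e0_142_4 e0_135_0 e0_135_4
theorem e0_142_1 : u0_142 * s 1 = s 1 * u0_142 := by
  simpa only [one_mul, mul_one] using ded2 r_1_4 e0_142_4 e0_135_1 e0_135_4
theorem e0_142_2 : u0_142 * s 2 = s 4 * u0_142 := by
  simpa only [one_mul, mul_one] using ded2 r_2_4 e0_142_4 e0_135_2 e0_135_4
theorem e0_149_4 : u0_149 * s 4 = s 3 * u0_149 := by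
  simpa only [one_mul, mul_one] using ded3 r_4_3 e0_149_3 e0_142_4 e0_135_3 e0_135_4 e0_142_3
theorem e0_143_0 : u0_143 * s 0 = s 5 * u0_143 := by
  simpa only [one_mul, mul_one] using ded2 r_0_3 e0_143_3 e0_136_0 e0_136_3
theorem e0_150_3 : u0_150 * s 3 = s 1 * u0_150 := by
  simpa only [one_mul, mul_one] using ded3 r_3_1 e0_150_1 e0_143_3 e0_136_1 e0_136_3 e0_143_1
theorem e0_151_3 : u0_151 * s 3 = s 4 * u0_151 := by
  simpa only [one_mul, mul_one] using ded3 r_3_2 e0_151_2 e0_143_3 e0_136_2 e0_136_3 e0_143_2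
theorem e0_143_7 : u0_143 * s 7 = 1 * u0_149 := by
  simpa only [one_mul, mul_one] using ded2 r_7_3 e0_143_3 e0_136_7 e0_142_3
theorem e0_149_7 : u0_149 * s 7 = 1 * u0_143 := rev_edge (s_sq 7) e0_143_7
theorem e0_144_0 : u0_144 * s 0 = s 5 * u0_144 := by
  simpa only [one_mul, mul_one] using ded2 r_0_1 e0_144_1 e0_137_0 e0_137_1
theorem e0_153_2 : u0_153 * s 2 = s 5 * u0_153 := by
  simpa only [one_mul, mul_one] using ded3 r_2_0 e0_153_0 e0_145_2 e0_137_0 e0_137_2 e0_145_0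
theorem e0_152_1 : u0_152 * s 1 = 1 * u0_145 := by
  simpa only [one_mul, mul_one] using ded2 r_1_2 e0_152_2 e0_144_1 e0_137_2
theorem e0_145_1 : u0_145 * s 1 = 1 * u0_152 := rev_edge (s_sq 1) e0_152_1
theorem e0_144_6 : u0_144 * s 6 = 1 * u0_150 := by
  simpa only [one_mul, mul_one] using ded2 r_6_1 e0_144_1 e0_137_6 e0_143_1
theorem e0_150_6 : u0_150 * s 6 = 1 * u0_144 := rev_edge (s_sq 6) e0_144_6
theorem e0_144_7 : u0_144 * s 7 = s 0 * u0_144 := by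
  simpa only [one_mul, mul_one] using ded2 r_7_1 e0_144_1 e0_137_7 e0_137_1
theorem e0_145_6 : u0_145 * s 6 = 1 * u0_151 := by
  simpa only [one_mul, mul_one] using ded2 r_6_2 e0_145_2 e0_137_6 e0_143_2
theorem e0_151_6 : u0_151 * s 6 = 1 * u0_145 := rev_edge (s_sq 6) e0_145_6
theorem e0_145_7 : u0_145 * s 7 = s 0 * u0_145 := by
  simpa only [one_mul, mul_one] using ded2 r_7_2 e0_145_2 e0_137_7 e0_137_2
theorem e0_149_6 : u0_149 * s 6 = s 0 * u0_149 := by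
  simpa only [one_mul, mul_one] using ded3 r_6_7 e0_149_7 e0_143_6 e0_137_7 e0_137_6 e0_143_7
theorem e0_154_2 : u0_154 * s 2 = s 5 * u0_154 := by
  simpa only [one_mul, mul_one] using ded3 r_2_0 e0_154_0 e0_146_2 e0_138_0 e0_138_2 e0_146_0
theorem e0_155_2 : u0_155 * s 2 = s 1 * u0_155 := by
  simpa only [one_mul, mul_one] using ded3 r_2_3 e0_155_3 e0_146_2 e0_138_3 e0_138_2 e0_146_3
theorem e0_146_5 : u0_146 * s 5 = 1 * u0_152 := by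
  simpa only [one_mul, mul_one] using ded2 r_5_2 e0_146_2 e0_138_5 e0_144_2
theorem e0_152_5 : u0_152 * s 5 = 1 * u0_146 := rev_edge (s_sq 5) e0_146_5
theorem e0_146_6 : u0_146 * s 6 = s 2 * u0_146 := by
  simpa only [one_mul, mul_one] using ded2 r_6_2 e0_146_2 e0_138_6 e0_138_2
theorem e0_146_7 : u0_146 * s 7 = s 0 * u0_146 := by
  simpa only [one_mul, mul_one] using ded2 r_7_2 e0_146_2 e0_138_7 e0_138_2
theorem e0_150_5 : u0_150 * s 5 = s 2 * u0_150 := by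
  simpa only [one_mul, mul_one] using ded3 r_5_6 e0_150_6 e0_144_5 e0_138_6 e0_138_5 e0_144_6
theorem e0_147_1 : u0_147 * s 1 = 1 * u0_154 := by
  simpa only [one_mul, mul_one] using ded2 r_1_0 e0_147_0 e0_139_1 e0_146_0
theorem e0_154_1 : u0_154 * s 1 = 1 * u0_147 := rev_edge (s_sq 1) e0_147_1
theorem e0_147_5 : u0_147 * s 5 = 1 * u0_153 := by
  simpa only [one_mul, mul_one] using ded2 r_5_0 e0_147_0 e0_139_5 e0_145_0
theorem e0_153_5 : u0_153 * s 5 = 1 * u0_147 := rev_edge (s_sq 5) e0_147_5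
theorem e0_147_6 : u0_147 * s 6 = s 2 * u0_147 := by
  simpa only [one_mul, mul_one] using ded2 r_6_0 e0_147_0 e0_139_6 e0_139_0
theorem e0_147_7 : u0_147 * s 7 = s 0 * u0_147 := by
  simpa only [one_mul, mul_one] using ded2 r_7_0 e0_147_0 e0_139_7 e0_139_0
theorem e0_155_1 : u0_155 * s 1 = s 4 * u0_155 := by
  simpa only [one_mul, mul_one] using ded3 r_1_3 e0_155_3 e0_146_1 e0_139_3 e0_139_1 e0_146_3
theorem e0_151_5 : u0_151 * s 5 = s 2 * u0_151 := by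
  simpa only [one_mul, mul_one] using ded3 r_5_6 e0_151_6 e0_145_5 e0_139_6 e0_139_5 e0_145_6
theorem e0_148_4 : u0_148 * s 4 = 1 * u0_154 := by
  simpa only [one_mul, mul_one] using ded2 r_4_0 e0_148_0 e0_140_4 e0_146_0
theorem e0_154_4 : u0_154 * s 4 = 1 * u0_148 := rev_edge (s_sq 4) e0_148_4
theorem e0_148_5 : u0_148 * s 5 = s 3 * u0_148 := by
  simpa only [one_mul, mul_one] using ded2 r_5_0 e0_148_0 e0_140_5 e0_140_0
theorem e0_148_6 : u0_148 * s 6 = s 2 * u0_148 := by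
  simpa only [one_mul, mul_one] using ded2 r_6_0 e0_148_0 e0_140_6 e0_140_0
theorem e0_148_7 : u0_148 * s 7 = s 0 * u0_148 := by
  simpa only [one_mul, mul_one] using ded2 r_7_0 e0_148_0 e0_140_7 e0_140_0
theorem e0_155_4 : u0_155 * s 4 = s 6 * u0_155 := by
  simpa only [one_mul, mul_one] using ded3 r_4_3 e0_155_3 e0_146_4 e0_140_3 e0_140_4 e0_146_3
theorem e0_152_4 : u0_152 * s 4 = s 3 * u0_152 := by
  simpa only [one_mul, mul_one] using ded3 r_4_5 e0_152_5 e0_146_4 e0_140_5 e0_140_4 e0_146_5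
theorem e0_153_4 : u0_153 * s 4 = s 3 * u0_153 := by
  simpa only [one_mul, mul_one] using ded3 r_4_5 e0_153_5 e0_147_4 e0_141_5 e0_141_4 e0_147_5
theorem e0_149_0 : u0_149 * s 0 = s 5 * u0_149 := by
  simpa only [one_mul, mul_one] using ded2 r_0_3 e0_149_3 e0_142_0 e0_142_3
theorem e0_156_3 : u0_156 * s 3 = s 1 * u0_156 := by
  simpa only [one_mul, mul_one] using ded3 r_3_1 e0_156_1 e0_149_3 e0_142_1 e0_142_3 e0_149_1
theorem e0_157_3 : u0_157 * s 3 = s 4 * u0_157 := by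
  simpa only [one_mul, mul_one] using ded3 r_3_2 e0_157_2 e0_149_3 e0_142_2 e0_142_3 e0_149_2
theorem e0_149_5 : u0_149 * s 5 = s 2 * u0_149 := by
  simpa only [one_mul, mul_one] using ded2 r_5_3 e0_149_3 e0_142_5 e0_142_3
theorem e0_150_0 : u0_150 * s 0 = s 5 * u0_150 := by
  simpa only [one_mul, mul_one] using ded2 r_0_1 e0_150_1 e0_143_0 e0_143_1
theorem e0_159_2 : u0_159 * s 2 = s 5 * u0_159 := by
  simpa only [one_mul, mul_one] using ded3 r_2_0 e0_159_0 e0_151_2 e0_143_0 e0_143_2 e0_151_0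
theorem e0_158_1 : u0_158 * s 1 = 1 * u0_151 := by
  simpa only [one_mul, mul_one] using ded2 r_1_2 e0_158_2 e0_150_1 e0_143_2
theorem e0_151_1 : u0_151 * s 1 = 1 * u0_158 := rev_edge (s_sq 1) e0_158_1
theorem e0_150_4 : u0_150 * s 4 = s 3 * u0_150 := by
  simpa only [one_mul, mul_one] using ded2 r_4_1 e0_150_1 e0_143_4 e0_143_1
theorem e0_150_7 : u0_150 * s 7 = 1 * u0_156 := by
  simpa only [one_mul, mul_one] using ded2 r_7_1 e0_150_1 e0_143_7 e0_149_1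
theorem e0_156_7 : u0_156 * s 7 = 1 * u0_150 := rev_edge (s_sq 7) e0_150_7
theorem e0_151_4 : u0_151 * s 4 = s 3 * u0_151 := by
  simpa only [one_mul, mul_one] using ded2 r_4_2 e0_151_2 e0_143_4 e0_143_2
theorem e0_151_7 : u0_151 * s 7 = 1 * u0_157 := by
  simpa only [one_mul, mul_one] using ded2 r_7_2 e0_151_2 e0_143_7 e0_149_2
theorem e0_157_7 : u0_157 * s 7 = 1 * u0_151 := rev_edge (s_sq 7) e0_151_7
theorem e0_160_2 : u0_160 * s 2 = s 5 * u0_160 := by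
  simpa only [one_mul, mul_one] using ded3 r_2_0 e0_160_0 e0_152_2 e0_144_0 e0_144_2 e0_152_0
theorem e0_161_2 : u0_161 * s 2 = s 1 * u0_161 := by
  simpa only [one_mul, mul_one] using ded3 r_2_3 e0_161_3 e0_152_2 e0_144_3 e0_144_2 e0_152_3
theorem e0_152_6 : u0_152 * s 6 = 1 * u0_158 := by
  simpa only [one_mul, mul_one] using ded2 r_6_2 e0_152_2 e0_144_6 e0_150_2
theorem e0_158_6 : u0_158 * s 6 = 1 * u0_152 := rev_edge (s_sq 6) e0_152_6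
theorem e0_152_7 : u0_152 * s 7 = s 0 * u0_152 := by
  simpa only [one_mul, mul_one] using ded2 r_7_2 e0_152_2 e0_144_7 e0_144_2
theorem e0_156_6 : u0_156 * s 6 = s 0 * u0_156 := by
  simpa only [one_mul, mul_one] using ded3 r_6_7 e0_156_7 e0_150_6 e0_144_7 e0_144_6 e0_150_7
theorem e0_153_1 : u0_153 * s 1 = 1 * u0_160 := by
  simpa only [one_mul, mul_one] using ded2 r_1_0 e0_153_0 e0_145_1 e0_152_0
theorem e0_160_1 : u0_160 * s 1 = 1 * u0_153 := rev_edge (s_sq 1) e0_153_1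
theorem e0_153_3 : u0_153 * s 3 = s 4 * u0_153 := by
  simpa only [one_mul, mul_one] using ded2 r_3_0 e0_153_0 e0_145_3 e0_145_0
theorem e0_153_6 : u0_153 * s 6 = 1 * u0_159 := by
  simpa only [one_mul, mul_one] using ded2 r_6_0 e0_153_0 e0_145_6 e0_151_0
theorem e0_159_6 : u0_159 * s 6 = 1 * u0_153 := rev_edge (s_sq 6) e0_153_6
theorem e0_153_7 : u0_153 * s 7 = s 0 * u0_153 := by
  simpa only [one_mul, mul_one] using ded2 r_7_0 e0_153_0 e0_145_7 e0_145_0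
theorem e0_161_1 : u0_161 * s 1 = s 4 * u0_161 := by
  simpa only [one_mul, mul_one] using ded3 r_1_3 e0_161_3 e0_152_1 e0_145_3 e0_145_1 e0_152_3
theorem e0_157_6 : u0_157 * s 6 = s 0 * u0_157 := by
  simpa only [one_mul, mul_one] using ded3 r_6_7 e0_157_7 e0_151_6 e0_145_7 e0_145_6 e0_151_7
theorem e0_162_0 : u0_162 * s 0 = 1 * u0_155 := by
  simpa only [one_mul, mul_one] using ded2 r_0_3 e0_162_3 e0_154_0 e0_146_3
theorem e0_155_0 : u0_155 * s 0 = 1 * u0_162 := rev_edge (s_sq 0) e0_162_0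
theorem e0_154_5 : u0_154 * s 5 = 1 * u0_160 := by
  simpa only [one_mul, mul_one] using ded2 r_5_0 e0_154_0 e0_146_5 e0_152_0
theorem e0_160_5 : u0_160 * s 5 = 1 * u0_154 := rev_edge (s_sq 5) e0_154_5
theorem e0_154_6 : u0_154 * s 6 = s 2 * u0_154 := by
  simpa only [one_mul, mul_one] using ded2 r_6_0 e0_154_0 e0_146_6 e0_146_0
theorem e0_154_7 : u0_154 * s 7 = s 0 * u0_154 := by
  simpa only [one_mul, mul_one] using ded2 r_7_0 e0_154_0 e0_146_7 e0_146_0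
theorem e0_155_5 : u0_155 * s 5 = 1 * u0_161 := by
  simpa only [one_mul, mul_one] using ded2 r_5_3 e0_155_3 e0_146_5 e0_152_3
theorem e0_161_5 : u0_161 * s 5 = 1 * u0_155 := rev_edge (s_sq 5) e0_155_5
theorem e0_155_6 : u0_155 * s 6 = s 2 * u0_155 := by
  simpa only [one_mul, mul_one] using ded2 r_6_3 e0_155_3 e0_146_6 e0_146_3
theorem e0_155_7 : u0_155 * s 7 = s 0 * u0_155 := by
  simpa only [one_mul, mul_one] using ded2 r_7_3 e0_155_3 e0_146_7 e0_146_3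
theorem e0_158_5 : u0_158 * s 5 = s 2 * u0_158 := by
  simpa only [one_mul, mul_one] using ded3 r_5_6 e0_158_6 e0_152_5 e0_146_6 e0_146_5 e0_152_6
theorem e0_162_1 : u0_162 * s 1 = s 4 * u0_162 := by
  simpa only [one_mul, mul_one] using ded3 r_1_3 e0_162_3 e0_154_1 e0_147_3 e0_147_1 e0_154_3
theorem e0_159_5 : u0_159 * s 5 = s 2 * u0_159 := by
  simpa only [one_mul, mul_one] using ded3 r_5_6 e0_159_6 e0_153_5 e0_147_6 e0_147_5 e0_153_6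
theorem e0_162_4 : u0_162 * s 4 = s 6 * u0_162 := by
  simpa only [one_mul, mul_one] using ded3 r_4_3 e0_162_3 e0_154_4 e0_148_3 e0_148_4 e0_154_3
theorem e0_160_4 : u0_160 * s 4 = s 3 * u0_160 := by
  simpa only [one_mul, mul_one] using ded3 r_4_5 e0_160_5 e0_154_4 e0_148_5 e0_148_4 e0_154_5
theorem e0_156_0 : u0_156 * s 0 = s 5 * u0_156 := by
  simpa only [one_mul, mul_one] using ded2 r_0_1 e0_156_1 e0_149_0 e0_149_1
theorem e0_164_2 : u0_164 * s 2 = s 5 * u0_164 := by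
  simpa only [one_mul, mul_one] using ded3 r_2_0 e0_164_0 e0_157_2 e0_149_0 e0_149_2 e0_157_0
theorem e0_163_1 : u0_163 * s 1 = 1 * u0_157 := by
  simpa only [one_mul, mul_one] using ded2 r_1_2 e0_163_2 e0_156_1 e0_149_2
theorem e0_157_1 : u0_157 * s 1 = 1 * u0_163 := rev_edge (s_sq 1) e0_163_1
theorem e0_156_4 : u0_156 * s 4 = s 3 * u0_156 := by
  simpa only [one_mul, mul_one] using ded2 r_4_1 e0_156_1 e0_149_4 e0_149_1
theorem e0_156_5 : u0_156 * s 5 = s 2 * u0_156 := by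
  simpa only [one_mul, mul_one] using ded2 r_5_1 e0_156_1 e0_149_5 e0_149_1
theorem e0_157_4 : u0_157 * s 4 = s 3 * u0_157 := by
  simpa only [one_mul, mul_one] using ded2 r_4_2 e0_157_2 e0_149_4 e0_149_2
theorem e0_157_5 : u0_157 * s 5 = s 2 * u0_157 := by
  simpa only [one_mul, mul_one] using ded2 r_5_2 e0_157_2 e0_149_5 e0_149_2
theorem e0_165_2 : u0_165 * s 2 = s 5 * u0_165 := by
  simpa only [one_mul, mul_one] using ded3 r_2_0 e0_165_0 e0_158_2 e0_150_0 e0_150_2 e0_158_0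
theorem e0_166_2 : u0_166 * s 2 = s 1 * u0_166 := by
  simpa only [one_mul, mul_one] using ded3 r_2_3 e0_166_3 e0_158_2 e0_150_3 e0_150_2 e0_158_3
theorem e0_158_4 : u0_158 * s 4 = s 3 * u0_158 := by
  simpa only [one_mul, mul_one] using ded2 r_4_2 e0_158_2 e0_150_4 e0_150_2
theorem e0_158_7 : u0_158 * s 7 = 1 * u0_163 := by
  simpa only [one_mul, mul_one] using ded2 r_7_2 e0_158_2 e0_150_7 e0_156_2
theorem e0_163_7 : u0_163 * s 7 = 1 * u0_158 := rev_edge (s_sq 7) e0_158_7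
theorem e0_159_1 : u0_159 * s 1 = 1 * u0_165 := by
  simpa only [one_mul, mul_one] using ded2 r_1_0 e0_159_0 e0_151_1 e0_158_0
theorem e0_165_1 : u0_165 * s 1 = 1 * u0_159 := rev_edge (s_sq 1) e0_159_1
theorem e0_159_3 : u0_159 * s 3 = s 4 * u0_159 := by
  simpa only [one_mul, mul_one] using ded2 r_3_0 e0_159_0 e0_151_3 e0_151_0
theorem e0_159_4 : u0_159 * s 4 = s 3 * u0_159 := by
  simpa only [one_mul, mul_one] using ded2 r_4_0 e0_159_0 e0_151_4 e0_151_0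
theorem e0_159_7 : u0_159 * s 7 = 1 * u0_164 := by
  simpa only [one_mul, mul_one] using ded2 r_7_0 e0_159_0 e0_151_7 e0_157_0
theorem e0_164_7 : u0_164 * s 7 = 1 * u0_159 := rev_edge (s_sq 7) e0_159_7
theorem e0_166_1 : u0_166 * s 1 = s 4 * u0_166 := by
  simpa only [one_mul, mul_one] using ded3 r_1_3 e0_166_3 e0_158_1 e0_151_3 e0_151_1 e0_158_3
theorem e0_167_0 : u0_167 * s 0 = 1 * u0_161 := by
  simpa only [one_mul, mul_one] using ded2 r_0_3 e0_167_3 e0_160_0 e0_152_3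
theorem e0_161_0 : u0_161 * s 0 = 1 * u0_167 := rev_edge (s_sq 0) e0_167_0
theorem e0_160_6 : u0_160 * s 6 = 1 * u0_165 := by
  simpa only [one_mul, mul_one] using ded2 r_6_0 e0_160_0 e0_152_6 e0_158_0
theorem e0_165_6 : u0_165 * s 6 = 1 * u0_160 := rev_edge (s_sq 6) e0_160_6
theorem e0_160_7 : u0_160 * s 7 = s 0 * u0_160 := by
  simpa only [one_mul, mul_one] using ded2 r_7_0 e0_160_0 e0_152_7 e0_152_0
theorem e0_168_3 : u0_168 * s 3 = s 3 * u0_168 := by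
  simpa only [one_mul, mul_one] using ded3 r_3_4 e0_168_4 e0_161_3 e0_152_4 e0_152_3 e0_161_4
theorem e0_161_6 : u0_161 * s 6 = 1 * u0_166 := by
  simpa only [one_mul, mul_one] using ded2 r_6_3 e0_161_3 e0_152_6 e0_158_3
theorem e0_166_6 : u0_166 * s 6 = 1 * u0_161 := rev_edge (s_sq 6) e0_161_6
theorem e0_161_7 : u0_161 * s 7 = s 0 * u0_161 := by
  simpa only [one_mul, mul_one] using ded2 r_7_3 e0_161_3 e0_152_7 e0_152_3
theorem e0_163_6 : u0_163 * s 6 = s 0 * u0_163 := by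
  simpa only [one_mul, mul_one] using ded3 r_6_7 e0_163_7 e0_158_6 e0_152_7 e0_152_6 e0_158_7
theorem e0_167_1 : u0_167 * s 1 = s 4 * u0_167 := by
  simpa only [one_mul, mul_one] using ded3 r_1_3 e0_167_3 e0_160_1 e0_153_3 e0_153_1 e0_160_3
theorem e0_164_6 : u0_164 * s 6 = s 0 * u0_164 := by
  simpa only [one_mul, mul_one] using ded3 r_6_7 e0_164_7 e0_159_6 e0_153_7 e0_153_6 e0_159_7
theorem e0_169_3 : u0_169 * s 3 = s 5 * u0_169 := by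
  simpa only [one_mul, mul_one] using ded3 r_3_2 e0_169_2 e0_162_3 e0_154_2 e0_154_3 e0_162_2
theorem e0_162_5 : u0_162 * s 5 = 1 * u0_167 := by
  simpa only [one_mul, mul_one] using ded2 r_5_3 e0_162_3 e0_154_5 e0_160_3
theorem e0_167_5 : u0_167 * s 5 = 1 * u0_162 := rev_edge (s_sq 5) e0_162_5
theorem e0_162_6 : u0_162 * s 6 = s 2 * u0_162 := by
  simpa only [one_mul, mul_one] using ded2 r_6_3 e0_162_3 e0_154_6 e0_154_3
theorem e0_162_7 : u0_162 * s 7 = s 0 * u0_162 := by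
  simpa only [one_mul, mul_one] using ded2 r_7_3 e0_162_3 e0_154_7 e0_154_3
theorem e0_165_5 : u0_165 * s 5 = s 2 * u0_165 := by
  simpa only [one_mul, mul_one] using ded3 r_5_6 e0_165_6 e0_160_5 e0_154_6 e0_154_5 e0_160_6
theorem e0_169_0 : u0_169 * s 0 = s 1 * u0_169 := by
  simpa only [one_mul, mul_one] using ded3 r_0_2 e0_169_2 e0_162_0 e0_155_2 e0_155_0 e0_162_2
theorem e0_168_5 : u0_168 * s 5 = s 6 * u0_168 := by
  simpa only [one_mul, mul_one] using ded3 r_5_4 e0_168_4 e0_161_5 e0_155_4 e0_155_5 e0_161_4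
theorem e0_166_5 : u0_166 * s 5 = s 2 * u0_166 := by
  simpa only [one_mul, mul_one] using ded3 r_5_6 e0_166_6 e0_161_5 e0_155_6 e0_155_5 e0_161_6
theorem e0_170_2 : u0_170 * s 2 = s 5 * u0_170 := by
  simpa only [one_mul, mul_one] using ded3 r_2_0 e0_170_0 e0_163_2 e0_156_0 e0_156_2 e0_163_0
theorem e0_171_2 : u0_171 * s 2 = s 1 * u0_171 := by
  simpa only [one_mul, mul_one] using ded3 r_2_3 e0_171_3 e0_163_2 e0_156_3 e0_156_2 e0_163_3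
theorem e0_163_4 : u0_163 * s 4 = s 3 * u0_163 := by
  simpa only [one_mul, mul_one] using ded2 r_4_2 e0_163_2 e0_156_4 e0_156_2
theorem e0_163_5 : u0_163 * s 5 = s 2 * u0_163 := by
  simpa only [one_mul, mul_one] using ded2 r_5_2 e0_163_2 e0_156_5 e0_156_2
theorem e0_164_1 : u0_164 * s 1 = 1 * u0_170 := by
  simpa only [one_mul, mul_one] using ded2 r_1_0 e0_164_0 e0_157_1 e0_163_0
theorem e0_170_1 : u0_170 * s 1 = 1 * u0_164 := rev_edge (s_sq 1) e0_164_1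
theorem e0_164_3 : u0_164 * s 3 = s 4 * u0_164 := by
  simpa only [one_mul, mul_one] using ded2 r_3_0 e0_164_0 e0_157_3 e0_157_0
theorem e0_164_4 : u0_164 * s 4 = s 3 * u0_164 := by
  simpa only [one_mul, mul_one] using ded2 r_4_0 e0_164_0 e0_157_4 e0_157_0
theorem e0_164_5 : u0_164 * s 5 = s 2 * u0_164 := by
  simpa only [one_mul, mul_one] using ded2 r_5_0 e0_164_0 e0_157_5 e0_157_0
theorem e0_171_1 : u0_171 * s 1 = s 4 * u0_171 := by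
  simpa only [one_mul, mul_one] using ded3 r_1_3 e0_171_3 e0_163_1 e0_157_3 e0_157_1 e0_163_3
theorem e0_172_0 : u0_172 * s 0 = 1 * u0_166 := by
  simpa only [one_mul, mul_one] using ded2 r_0_3 e0_172_3 e0_165_0 e0_158_3
theorem e0_166_0 : u0_166 * s 0 = 1 * u0_172 := rev_edge (s_sq 0) e0_172_0
theorem e0_165_4 : u0_165 * s 4 = s 3 * u0_165 := by
  simpa only [one_mul, mul_one] using ded2 r_4_0 e0_165_0 e0_158_4 e0_158_0
theorem e0_165_7 : u0_165 * s 7 = 1 * u0_170 := by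
  simpa only [one_mul, mul_one] using ded2 r_7_0 e0_165_0 e0_158_7 e0_163_0
theorem e0_170_7 : u0_170 * s 7 = 1 * u0_165 := rev_edge (s_sq 7) e0_165_7
theorem e0_173_3 : u0_173 * s 3 = s 3 * u0_173 := by
  simpa only [one_mul, mul_one] using ded3 r_3_4 e0_173_4 e0_166_3 e0_158_4 e0_158_3 e0_166_4
theorem e0_166_7 : u0_166 * s 7 = 1 * u0_171 := by
  simpa only [one_mul, mul_one] using ded2 r_7_3 e0_166_3 e0_158_7 e0_163_3
theorem e0_171_7 : u0_171 * s 7 = 1 * u0_166 := rev_edge (s_sq 7) e0_166_7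
theorem e0_172_1 : u0_172 * s 1 = s 4 * u0_172 := by
  simpa only [one_mul, mul_one] using ded3 r_1_3 e0_172_3 e0_165_1 e0_159_3 e0_159_1 e0_165_3
theorem e0_174_3 : u0_174 * s 3 = s 5 * u0_174 := by
  simpa only [one_mul, mul_one] using ded3 r_3_2 e0_174_2 e0_167_3 e0_160_2 e0_160_3 e0_167_2
theorem e0_175_3 : u0_175 * s 3 = s 3 * u0_175 := by
  simpa only [one_mul, mul_one] using ded3 r_3_4 e0_175_4 e0_167_3 e0_160_4 e0_160_3 e0_167_4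
theorem e0_167_6 : u0_167 * s 6 = 1 * u0_172 := by
  simpa only [one_mul, mul_one] using ded2 r_6_3 e0_167_3 e0_160_6 e0_165_3
theorem e0_172_6 : u0_172 * s 6 = 1 * u0_167 := rev_edge (s_sq 6) e0_167_6
theorem e0_167_7 : u0_167 * s 7 = s 0 * u0_167 := by
  simpa only [one_mul, mul_one] using ded2 r_7_3 e0_167_3 e0_160_7 e0_160_3
theorem e0_170_6 : u0_170 * s 6 = s 0 * u0_170 := by
  simpa only [one_mul, mul_one] using ded3 r_6_7 e0_170_7 e0_165_6 e0_160_7 e0_160_6 e0_165_7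
theorem e0_174_0 : u0_174 * s 0 = s 1 * u0_174 := by
  simpa only [one_mul, mul_one] using ded3 r_0_2 e0_174_2 e0_167_0 e0_161_2 e0_161_0 e0_167_2
theorem e0_175_0 : u0_175 * s 0 = 1 * u0_168 := by
  simpa only [one_mul, mul_one] using ded2 r_0_4 e0_175_4 e0_167_0 e0_161_4
theorem e0_168_0 : u0_168 * s 0 = 1 * u0_175 := rev_edge (s_sq 0) e0_175_0
theorem e0_168_1 : u0_168 * s 1 = s 4 * u0_168 := by
  simpa only [one_mul, mul_one] using ded2 r_1_4 e0_168_4 e0_161_1 e0_161_4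
theorem e0_168_2 : u0_168 * s 2 = s 1 * u0_168 := by
  simpa only [one_mul, mul_one] using ded2 r_2_4 e0_168_4 e0_161_2 e0_161_4
theorem e0_168_6 : u0_168 * s 6 = 1 * u0_173 := by
  simpa only [one_mul, mul_one] using ded2 r_6_4 e0_168_4 e0_161_6 e0_166_4
theorem e0_173_6 : u0_173 * s 6 = 1 * u0_168 := rev_edge (s_sq 6) e0_168_6
theorem e0_168_7 : u0_168 * s 7 = s 0 * u0_168 := by
  simpa only [one_mul, mul_one] using ded2 r_7_4 e0_168_4 e0_161_7 e0_161_4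
theorem e0_171_6 : u0_171 * s 6 = s 0 * u0_171 := by
  simpa only [one_mul, mul_one] using ded3 r_6_7 e0_171_7 e0_166_6 e0_161_7 e0_161_6 e0_166_7
theorem e0_169_1 : u0_169 * s 1 = s 4 * u0_169 := by
  simpa only [one_mul, mul_one] using ded2 r_1_2 e0_169_2 e0_162_1 e0_162_2
theorem e0_169_4 : u0_169 * s 4 = s 6 * u0_169 := by
  simpa only [one_mul, mul_one] using ded2 r_4_2 e0_169_2 e0_162_4 e0_162_2
theorem e0_169_5 : u0_169 * s 5 = 1 * u0_174 := by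
  simpa only [one_mul, mul_one] using ded2 r_5_2 e0_169_2 e0_162_5 e0_167_2
theorem e0_174_5 : u0_174 * s 5 = 1 * u0_169 := rev_edge (s_sq 5) e0_169_5
theorem e0_169_6 : u0_169 * s 6 = s 2 * u0_169 := by
  simpa only [one_mul, mul_one] using ded2 r_6_2 e0_169_2 e0_162_6 e0_162_2
theorem e0_169_7 : u0_169 * s 7 = s 0 * u0_169 := by
  simpa only [one_mul, mul_one] using ded2 r_7_2 e0_169_2 e0_162_7 e0_162_2
theorem e0_175_5 : u0_175 * s 5 = s 6 * u0_175 := by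
  simpa only [one_mul, mul_one] using ded3 r_5_4 e0_175_4 e0_167_5 e0_162_4 e0_162_5 e0_167_4
theorem e0_172_5 : u0_172 * s 5 = s 2 * u0_172 := by
  simpa only [one_mul, mul_one] using ded3 r_5_6 e0_172_6 e0_167_5 e0_162_6 e0_162_5 e0_167_6
theorem e0_176_0 : u0_176 * s 0 = 1 * u0_171 := by
  simpa only [one_mul, mul_one] using ded2 r_0_3 e0_176_3 e0_170_0 e0_163_3
theorem e0_171_0 : u0_171 * s 0 = 1 * u0_176 := rev_edge (s_sq 0) e0_176_0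
theorem e0_170_4 : u0_170 * s 4 = s 3 * u0_170 := by
  simpa only [one_mul, mul_one] using ded2 r_4_0 e0_170_0 e0_163_4 e0_163_0
theorem e0_170_5 : u0_170 * s 5 = s 2 * u0_170 := by
  simpa only [one_mul, mul_one] using ded2 r_5_0 e0_170_0 e0_163_5 e0_163_0
theorem e0_177_3 : u0_177 * s 3 = s 3 * u0_177 := by
  simpa only [one_mul, mul_one] using ded3 r_3_4 e0_177_4 e0_171_3 e0_163_4 e0_163_3 e0_171_4
theorem e0_171_5 : u0_171 * s 5 = s 2 * u0_171 := by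
  simpa only [one_mul, mul_one] using ded2 r_5_3 e0_171_3 e0_163_5 e0_163_3
theorem e0_176_1 : u0_176 * s 1 = s 4 * u0_176 := by
  simpa only [one_mul, mul_one] using ded3 r_1_3 e0_176_3 e0_170_1 e0_164_3 e0_164_1 e0_170_3
theorem e0_178_3 : u0_178 * s 3 = s 5 * u0_178 := by
  simpa only [one_mul, mul_one] using ded3 r_3_2 e0_178_2 e0_172_3 e0_165_2 e0_165_3 e0_172_2
theorem e0_179_3 : u0_179 * s 3 = s 3 * u0_179 := by
  simpa only [one_mul, mul_one] using ded3 r_3_4 e0_179_4 e0_172_3 e0_165_4 e0_165_3 e0_172_4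
theorem e0_172_7 : u0_172 * s 7 = 1 * u0_176 := by
  simpa only [one_mul, mul_one] using ded2 r_7_3 e0_172_3 e0_165_7 e0_170_3
theorem e0_176_7 : u0_176 * s 7 = 1 * u0_172 := rev_edge (s_sq 7) e0_172_7
theorem e0_178_0 : u0_178 * s 0 = s 1 * u0_178 := by
  simpa only [one_mul, mul_one] using ded3 r_0_2 e0_178_2 e0_172_0 e0_166_2 e0_166_0 e0_172_2
theorem e0_179_0 : u0_179 * s 0 = 1 * u0_173 := by
  simpa only [one_mul, mul_one] using ded2 r_0_4 e0_179_4 e0_172_0 e0_166_4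
theorem e0_173_0 : u0_173 * s 0 = 1 * u0_179 := rev_edge (s_sq 0) e0_179_0
theorem e0_173_1 : u0_173 * s 1 = s 4 * u0_173 := by
  simpa only [one_mul, mul_one] using ded2 r_1_4 e0_173_4 e0_166_1 e0_166_4
theorem e0_173_2 : u0_173 * s 2 = s 1 * u0_173 := by
  simpa only [one_mul, mul_one] using ded2 r_2_4 e0_173_4 e0_166_2 e0_166_4
theorem e0_180_4 : u0_180 * s 4 = s 2 * u0_180 := by
  simpa only [one_mul, mul_one] using ded3 r_4_5 e0_180_5 e0_173_4 e0_166_5 e0_166_4 e0_173_5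
theorem e0_173_7 : u0_173 * s 7 = 1 * u0_177 := by
  simpa only [one_mul, mul_one] using ded2 r_7_4 e0_173_4 e0_166_7 e0_171_4
theorem e0_177_7 : u0_177 * s 7 = 1 * u0_173 := rev_edge (s_sq 7) e0_173_7
theorem e0_174_1 : u0_174 * s 1 = s 4 * u0_174 := by
  simpa only [one_mul, mul_one] using ded2 r_1_2 e0_174_2 e0_167_1 e0_167_2
theorem e0_175_1 : u0_175 * s 1 = s 4 * u0_175 := by
  simpa only [one_mul, mul_one] using ded2 r_1_4 e0_175_4 e0_167_1 e0_167_4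
theorem e0_181_2 : u0_181 * s 2 = 1 * u0_175 := by
  simpa only [one_mul, mul_one] using ded2 r_2_4 e0_181_4 e0_174_2 e0_167_4
theorem e0_175_2 : u0_175 * s 2 = 1 * u0_181 := rev_edge (s_sq 2) e0_181_2
theorem e0_174_6 : u0_174 * s 6 = 1 * u0_178 := by
  simpa only [one_mul, mul_one] using ded2 r_6_2 e0_174_2 e0_167_6 e0_172_2
theorem e0_178_6 : u0_178 * s 6 = 1 * u0_174 := rev_edge (s_sq 6) e0_174_6
theorem e0_174_7 : u0_174 * s 7 = s 0 * u0_174 := by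
  simpa only [one_mul, mul_one] using ded2 r_7_2 e0_174_2 e0_167_7 e0_167_2
theorem e0_175_6 : u0_175 * s 6 = 1 * u0_179 := by
  simpa only [one_mul, mul_one] using ded2 r_6_4 e0_175_4 e0_167_6 e0_172_4
theorem e0_179_6 : u0_179 * s 6 = 1 * u0_175 := rev_edge (s_sq 6) e0_175_6
theorem e0_175_7 : u0_175 * s 7 = s 0 * u0_175 := by
  simpa only [one_mul, mul_one] using ded2 r_7_4 e0_175_4 e0_167_7 e0_167_4
theorem e0_176_6 : u0_176 * s 6 = s 0 * u0_176 := by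
  simpa only [one_mul, mul_one] using ded3 r_6_7 e0_176_7 e0_172_6 e0_167_7 e0_167_6 e0_172_7
theorem e0_181_0 : u0_181 * s 0 = s 1 * u0_181 := by
  simpa only [one_mul, mul_one] using ded3 r_0_2 e0_181_2 e0_175_0 e0_168_2 e0_168_0 e0_175_2
theorem e0_180_6 : u0_180 * s 6 = s 6 * u0_180 := by
  simpa only [one_mul, mul_one] using ded3 r_6_5 e0_180_5 e0_173_6 e0_168_5 e0_168_6 e0_173_5
theorem e0_177_6 : u0_177 * s 6 = s 0 * u0_177 := by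
  simpa only [one_mul, mul_one] using ded3 r_6_7 e0_177_7 e0_173_6 e0_168_7 e0_168_6 e0_173_7
theorem e0_181_5 : u0_181 * s 5 = s 6 * u0_181 := by
  simpa only [one_mul, mul_one] using ded3 r_5_4 e0_181_4 e0_174_5 e0_169_4 e0_169_5 e0_174_4
theorem e0_178_5 : u0_178 * s 5 = s 2 * u0_178 := by
  simpa only [one_mul, mul_one] using ded3 r_5_6 e0_178_6 e0_174_5 e0_169_6 e0_169_5 e0_174_6
theorem e0_182_3 : u0_182 * s 3 = s 5 * u0_182 := by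
  simpa only [one_mul, mul_one] using ded3 r_3_2 e0_182_2 e0_176_3 e0_170_2 e0_170_3 e0_176_2
theorem e0_183_3 : u0_183 * s 3 = s 3 * u0_183 := by
  simpa only [one_mul, mul_one] using ded3 r_3_4 e0_183_4 e0_176_3 e0_170_4 e0_170_3 e0_176_4
theorem e0_176_5 : u0_176 * s 5 = s 2 * u0_176 := by
  simpa only [one_mul, mul_one] using ded2 r_5_3 e0_176_3 e0_170_5 e0_170_3
theorem e0_182_0 : u0_182 * s 0 = s 1 * u0_182 := by
  simpa only [one_mul, mul_one] using ded3 r_0_2 e0_182_2 e0_176_0 e0_171_2 e0_171_0 e0_176_2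
theorem e0_183_0 : u0_183 * s 0 = 1 * u0_177 := by
  simpa only [one_mul, mul_one] using ded2 r_0_4 e0_183_4 e0_176_0 e0_171_4
theorem e0_177_0 : u0_177 * s 0 = 1 * u0_183 := rev_edge (s_sq 0) e0_183_0
theorem e0_177_1 : u0_177 * s 1 = s 4 * u0_177 := by
  simpa only [one_mul, mul_one] using ded2 r_1_4 e0_177_4 e0_171_1 e0_171_4
theorem e0_177_2 : u0_177 * s 2 = s 1 * u0_177 := by
  simpa only [one_mul, mul_one] using ded2 r_2_4 e0_177_4 e0_171_2 e0_171_4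
theorem e0_184_4 : u0_184 * s 4 = s 2 * u0_184 := by
  simpa only [one_mul, mul_one] using ded3 r_4_5 e0_184_5 e0_177_4 e0_171_5 e0_171_4 e0_177_5
theorem e0_178_1 : u0_178 * s 1 = s 4 * u0_178 := by
  simpa only [one_mul, mul_one] using ded2 r_1_2 e0_178_2 e0_172_1 e0_172_2
theorem e0_179_1 : u0_179 * s 1 = s 4 * u0_179 := by
  simpa only [one_mul, mul_one] using ded2 r_1_4 e0_179_4 e0_172_1 e0_172_4
theorem e0_185_2 : u0_185 * s 2 = 1 * u0_179 := by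
  simpa only [one_mul, mul_one] using ded2 r_2_4 e0_185_4 e0_178_2 e0_172_4
theorem e0_179_2 : u0_179 * s 2 = 1 * u0_185 := rev_edge (s_sq 2) e0_185_2
theorem e0_178_7 : u0_178 * s 7 = 1 * u0_182 := by
  simpa only [one_mul, mul_one] using ded2 r_7_2 e0_178_2 e0_172_7 e0_176_2
theorem e0_182_7 : u0_182 * s 7 = 1 * u0_178 := rev_edge (s_sq 7) e0_178_7
theorem e0_186_4 : u0_186 * s 4 = s 2 * u0_186 := by
  simpa only [one_mul, mul_one] using ded3 r_4_5 e0_186_5 e0_179_4 e0_172_5 e0_172_4 e0_179_5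
theorem e0_179_7 : u0_179 * s 7 = 1 * u0_183 := by
  simpa only [one_mul, mul_one] using ded2 r_7_4 e0_179_4 e0_172_7 e0_176_4
theorem e0_183_7 : u0_183 * s 7 = 1 * u0_179 := rev_edge (s_sq 7) e0_179_7
theorem e0_185_0 : u0_185 * s 0 = s 1 * u0_185 := by
  simpa only [one_mul, mul_one] using ded3 r_0_2 e0_185_2 e0_179_0 e0_173_2 e0_173_0 e0_179_2
theorem e0_186_0 : u0_186 * s 0 = 1 * u0_180 := by
  simpa only [one_mul, mul_one] using ded2 r_0_5 e0_186_5 e0_179_0 e0_173_5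
theorem e0_180_0 : u0_180 * s 0 = 1 * u0_186 := rev_edge (s_sq 0) e0_186_0
theorem e0_180_1 : u0_180 * s 1 = s 4 * u0_180 := by
  simpa only [one_mul, mul_one] using ded2 r_1_5 e0_180_5 e0_173_1 e0_173_5
theorem e0_180_2 : u0_180 * s 2 = s 1 * u0_180 := by
  simpa only [one_mul, mul_one] using ded2 r_2_5 e0_180_5 e0_173_2 e0_173_5
theorem e0_180_3 : u0_180 * s 3 = s 3 * u0_180 := by
  simpa only [one_mul, mul_one] using ded2 r_3_5 e0_180_5 e0_173_3 e0_173_5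
theorem e0_180_7 : u0_180 * s 7 = 1 * u0_184 := by
  simpa only [one_mul, mul_one] using ded2 r_7_5 e0_180_5 e0_173_7 e0_177_5
theorem e0_184_7 : u0_184 * s 7 = 1 * u0_180 := rev_edge (s_sq 7) e0_180_7
theorem e0_181_1 : u0_181 * s 1 = s 4 * u0_181 := by
  simpa only [one_mul, mul_one] using ded2 r_1_4 e0_181_4 e0_174_1 e0_174_4
theorem e0_187_4 : u0_187 * s 4 = s 5 * u0_187 := by
  simpa only [one_mul, mul_one] using ded3 r_4_3 e0_187_3 e0_181_4 e0_174_3 e0_174_4 e0_181_3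
theorem e0_181_6 : u0_181 * s 6 = 1 * u0_185 := by
  simpa only [one_mul, mul_one] using ded2 r_6_4 e0_181_4 e0_174_6 e0_178_4
theorem e0_185_6 : u0_185 * s 6 = 1 * u0_181 := rev_edge (s_sq 6) e0_181_6
theorem e0_181_7 : u0_181 * s 7 = s 0 * u0_181 := by
  simpa only [one_mul, mul_one] using ded2 r_7_4 e0_181_4 e0_174_7 e0_174_4
theorem e0_182_6 : u0_182 * s 6 = s 0 * u0_182 := by
  simpa only [one_mul, mul_one] using ded3 r_6_7 e0_182_7 e0_178_6 e0_174_7 e0_174_6 e0_178_7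
theorem e0_187_2 : u0_187 * s 2 = s 3 * u0_187 := by
  simpa only [one_mul, mul_one] using ded3 r_2_3 e0_187_3 e0_181_2 e0_175_3 e0_175_2 e0_181_3
theorem e0_186_6 : u0_186 * s 6 = s 6 * u0_186 := by
  simpa only [one_mul, mul_one] using ded3 r_6_5 e0_186_5 e0_179_6 e0_175_5 e0_175_6 e0_179_5
theorem e0_183_6 : u0_183 * s 6 = s 0 * u0_183 := by
  simpa only [one_mul, mul_one] using ded3 r_6_7 e0_183_7 e0_179_6 e0_175_7 e0_175_6 e0_179_7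
theorem e0_182_1 : u0_182 * s 1 = s 4 * u0_182 := by
  simpa only [one_mul, mul_one] using ded2 r_1_2 e0_182_2 e0_176_1 e0_176_2
theorem e0_183_1 : u0_183 * s 1 = s 4 * u0_183 := by
  simpa only [one_mul, mul_one] using ded2 r_1_4 e0_183_4 e0_176_1 e0_176_4
theorem e0_188_2 : u0_188 * s 2 = 1 * u0_183 := by
  simpa only [one_mul, mul_one] using ded2 r_2_4 e0_188_4 e0_182_2 e0_176_4
theorem e0_183_2 : u0_183 * s 2 = 1 * u0_188 := rev_edge (s_sq 2) e0_188_2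
theorem e0_182_5 : u0_182 * s 5 = s 2 * u0_182 := by
  simpa only [one_mul, mul_one] using ded2 r_5_2 e0_182_2 e0_176_5 e0_176_2
theorem e0_189_4 : u0_189 * s 4 = s 2 * u0_189 := by
  simpa only [one_mul, mul_one] using ded3 r_4_5 e0_189_5 e0_183_4 e0_176_5 e0_176_4 e0_183_5
theorem e0_188_0 : u0_188 * s 0 = s 1 * u0_188 := by
  simpa only [one_mul, mul_one] using ded3 r_0_2 e0_188_2 e0_183_0 e0_177_2 e0_177_0 e0_183_2
theorem e0_189_0 : u0_189 * s 0 = 1 * u0_184 := by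
  simpa only [one_mul, mul_one] using ded2 r_0_5 e0_189_5 e0_183_0 e0_177_5
theorem e0_184_0 : u0_184 * s 0 = 1 * u0_189 := rev_edge (s_sq 0) e0_189_0
theorem e0_184_1 : u0_184 * s 1 = s 4 * u0_184 := by
  simpa only [one_mul, mul_one] using ded2 r_1_5 e0_184_5 e0_177_1 e0_177_5
theorem e0_184_2 : u0_184 * s 2 = s 1 * u0_184 := by
  simpa only [one_mul, mul_one] using ded2 r_2_5 e0_184_5 e0_177_2 e0_177_5
theorem e0_184_3 : u0_184 * s 3 = s 3 * u0_184 := by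
  simpa only [one_mul, mul_one] using ded2 r_3_5 e0_184_5 e0_177_3 e0_177_5
theorem e0_190_5 : u0_190 * s 5 = s 0 * u0_190 := by
  simpa only [one_mul, mul_one] using ded3 r_5_6 e0_190_6 e0_184_5 e0_177_6 e0_177_5 e0_184_6
theorem e0_185_1 : u0_185 * s 1 = s 4 * u0_185 := by
  simpa only [one_mul, mul_one] using ded2 r_1_4 e0_185_4 e0_178_1 e0_178_4
theorem e0_191_4 : u0_191 * s 4 = s 5 * u0_191 := by
  simpa only [one_mul, mul_one] using ded3 r_4_3 e0_191_3 e0_185_4 e0_178_3 e0_178_4 e0_185_3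
theorem e0_192_4 : u0_192 * s 4 = s 2 * u0_192 := by
  simpa only [one_mul, mul_one] using ded3 r_4_5 e0_192_5 e0_185_4 e0_178_5 e0_178_4 e0_185_5
theorem e0_185_7 : u0_185 * s 7 = 1 * u0_188 := by
  simpa only [one_mul, mul_one] using ded2 r_7_4 e0_185_4 e0_178_7 e0_182_4
theorem e0_188_7 : u0_188 * s 7 = 1 * u0_185 := rev_edge (s_sq 7) e0_185_7
theorem e0_186_1 : u0_186 * s 1 = s 4 * u0_186 := by
  simpa only [one_mul, mul_one] using ded2 r_1_5 e0_186_5 e0_179_1 e0_179_5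
theorem e0_191_2 : u0_191 * s 2 = s 3 * u0_191 := by
  simpa only [one_mul, mul_one] using ded3 r_2_3 e0_191_3 e0_185_2 e0_179_3 e0_179_2 e0_185_3
theorem e0_192_2 : u0_192 * s 2 = 1 * u0_186 := by
  simpa only [one_mul, mul_one] using ded2 r_2_5 e0_192_5 e0_185_2 e0_179_5
theorem e0_186_2 : u0_186 * s 2 = 1 * u0_192 := rev_edge (s_sq 2) e0_192_2
theorem e0_186_3 : u0_186 * s 3 = s 3 * u0_186 := by
  simpa only [one_mul, mul_one] using ded2 r_3_5 e0_186_5 e0_179_3 e0_179_5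
theorem e0_186_7 : u0_186 * s 7 = 1 * u0_189 := by
  simpa only [one_mul, mul_one] using ded2 r_7_5 e0_186_5 e0_179_7 e0_183_5
theorem e0_189_7 : u0_189 * s 7 = 1 * u0_186 := rev_edge (s_sq 7) e0_186_7
theorem e0_192_0 : u0_192 * s 0 = s 1 * u0_192 := by
  simpa only [one_mul, mul_one] using ded3 r_0_2 e0_192_2 e0_186_0 e0_180_2 e0_180_0 e0_186_2
theorem e0_190_7 : u0_190 * s 7 = s 6 * u0_190 := by
  simpa only [one_mul, mul_one] using ded3 r_7_6 e0_190_6 e0_184_7 e0_180_6 e0_180_7 e0_184_6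
theorem e0_187_0 : u0_187 * s 0 = s 1 * u0_187 := by
  simpa only [one_mul, mul_one] using ded2 r_0_3 e0_187_3 e0_181_0 e0_181_3
theorem e0_193_3 : u0_193 * s 3 = s 4 * u0_193 := by
  simpa only [one_mul, mul_one] using ded3 r_3_1 e0_193_1 e0_187_3 e0_181_1 e0_181_3 e0_187_1
theorem e0_187_5 : u0_187 * s 5 = s 6 * u0_187 := by
  simpa only [one_mul, mul_one] using ded2 r_5_3 e0_187_3 e0_181_5 e0_181_3
theorem e0_187_6 : u0_187 * s 6 = 1 * u0_191 := by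
  simpa only [one_mul, mul_one] using ded2 r_6_3 e0_187_3 e0_181_6 e0_185_3
theorem e0_191_6 : u0_191 * s 6 = 1 * u0_187 := rev_edge (s_sq 6) e0_187_6
theorem e0_187_7 : u0_187 * s 7 = s 0 * u0_187 := by
  simpa only [one_mul, mul_one] using ded2 r_7_3 e0_187_3 e0_181_7 e0_181_3
theorem e0_192_6 : u0_192 * s 6 = s 6 * u0_192 := by
  simpa only [one_mul, mul_one] using ded3 r_6_5 e0_192_5 e0_185_6 e0_181_5 e0_181_6 e0_185_5
theorem e0_188_6 : u0_188 * s 6 = s 0 * u0_188 := by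
  simpa only [one_mul, mul_one] using ded3 r_6_7 e0_188_7 e0_185_6 e0_181_7 e0_181_6 e0_185_7
theorem e0_188_1 : u0_188 * s 1 = s 4 * u0_188 := by
  simpa only [one_mul, mul_one] using ded2 r_1_4 e0_188_4 e0_182_1 e0_182_4
theorem e0_194_4 : u0_194 * s 4 = s 5 * u0_194 := by
  simpa only [one_mul, mul_one] using ded3 r_4_3 e0_194_3 e0_188_4 e0_182_3 e0_182_4 e0_188_3
theorem e0_195_4 : u0_195 * s 4 = s 2 * u0_195 := by
  simpa only [one_mul, mul_one] using ded3 r_4_5 e0_195_5 e0_188_4 e0_182_5 e0_182_4 e0_188_5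
theorem e0_189_1 : u0_189 * s 1 = s 4 * u0_189 := by
  simpa only [one_mul, mul_one] using ded2 r_1_5 e0_189_5 e0_183_1 e0_183_5
theorem e0_194_2 : u0_194 * s 2 = s 3 * u0_194 := by
  simpa only [one_mul, mul_one] using ded3 r_2_3 e0_194_3 e0_188_2 e0_183_3 e0_183_2 e0_188_3
theorem e0_195_2 : u0_195 * s 2 = 1 * u0_189 := by
  simpa only [one_mul, mul_one] using ded2 r_2_5 e0_195_5 e0_188_2 e0_183_5
theorem e0_189_2 : u0_189 * s 2 = 1 * u0_195 := rev_edge (s_sq 2) e0_195_2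
theorem e0_189_3 : u0_189 * s 3 = s 3 * u0_189 := by
  simpa only [one_mul, mul_one] using ded2 r_3_5 e0_189_5 e0_183_3 e0_183_5
theorem e0_196_5 : u0_196 * s 5 = s 0 * u0_196 := by
  simpa only [one_mul, mul_one] using ded3 r_5_6 e0_196_6 e0_189_5 e0_183_6 e0_183_5 e0_189_6
theorem e0_195_0 : u0_195 * s 0 = s 1 * u0_195 := by
  simpa only [one_mul, mul_one] using ded3 r_0_2 e0_195_2 e0_189_0 e0_184_2 e0_184_0 e0_189_2
theorem e0_196_0 : u0_196 * s 0 = 1 * u0_190 := by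
  simpa only [one_mul, mul_one] using ded2 r_0_6 e0_196_6 e0_189_0 e0_184_6
theorem e0_190_0 : u0_190 * s 0 = 1 * u0_196 := rev_edge (s_sq 0) e0_196_0
theorem e0_190_1 : u0_190 * s 1 = s 4 * u0_190 := by
  simpa only [one_mul, mul_one] using ded2 r_1_6 e0_190_6 e0_184_1 e0_184_6
theorem e0_190_2 : u0_190 * s 2 = s 1 * u0_190 := by
  simpa only [one_mul, mul_one] using ded2 r_2_6 e0_190_6 e0_184_2 e0_184_6
theorem e0_190_3 : u0_190 * s 3 = s 3 * u0_190 := by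
  simpa only [one_mul, mul_one] using ded2 r_3_6 e0_190_6 e0_184_3 e0_184_6
theorem e0_190_4 : u0_190 * s 4 = s 2 * u0_190 := by
  simpa only [one_mul, mul_one] using ded2 r_4_6 e0_190_6 e0_184_4 e0_184_6
theorem e0_191_0 : u0_191 * s 0 = s 1 * u0_191 := by
  simpa only [one_mul, mul_one] using ded2 r_0_3 e0_191_3 e0_185_0 e0_185_3
theorem e0_197_3 : u0_197 * s 3 = s 4 * u0_197 := by
  simpa only [one_mul, mul_one] using ded3 r_3_1 e0_197_1 e0_191_3 e0_185_1 e0_185_3 e0_191_1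
theorem e0_192_1 : u0_192 * s 1 = s 4 * u0_192 := by
  simpa only [one_mul, mul_one] using ded2 r_1_5 e0_192_5 e0_185_1 e0_185_5
theorem e0_198_3 : u0_198 * s 3 = 1 * u0_192 := by
  simpa only [one_mul, mul_one] using ded2 r_3_5 e0_198_5 e0_191_3 e0_185_5
theorem e0_192_3 : u0_192 * s 3 = 1 * u0_198 := rev_edge (s_sq 3) e0_198_3
theorem e0_191_7 : u0_191 * s 7 = 1 * u0_194 := by
  simpa only [one_mul, mul_one] using ded2 r_7_3 e0_191_3 e0_185_7 e0_188_3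
theorem e0_194_7 : u0_194 * s 7 = 1 * u0_191 := rev_edge (s_sq 7) e0_191_7
theorem e0_192_7 : u0_192 * s 7 = 1 * u0_195 := by
  simpa only [one_mul, mul_one] using ded2 r_7_5 e0_192_5 e0_185_7 e0_188_5
theorem e0_195_7 : u0_195 * s 7 = 1 * u0_192 := rev_edge (s_sq 7) e0_192_7
theorem e0_198_2 : u0_198 * s 2 = s 3 * u0_198 := by
  simpa only [one_mul, mul_one] using ded3 r_2_3 e0_198_3 e0_192_2 e0_186_3 e0_186_2 e0_192_3
theorem e0_196_7 : u0_196 * s 7 = s 6 * u0_196 := by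
  simpa only [one_mul, mul_one] using ded3 r_7_6 e0_196_6 e0_189_7 e0_186_6 e0_186_7 e0_189_6
theorem e0_193_0 : u0_193 * s 0 = s 1 * u0_193 := by
  simpa only [one_mul, mul_one] using ded2 r_0_1 e0_193_1 e0_187_0 e0_187_1
theorem e0_193_2 : u0_193 * s 2 = s 3 * u0_193 := by
  simpa only [one_mul, mul_one] using ded2 r_2_1 e0_193_1 e0_187_2 e0_187_1
theorem e0_193_4 : u0_193 * s 4 = s 5 * u0_193 := by
  simpa only [one_mul, mul_one] using ded2 r_4_1 e0_193_1 e0_187_4 e0_187_1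
theorem e0_193_5 : u0_193 * s 5 = s 6 * u0_193 := by
  simpa only [one_mul, mul_one] using ded2 r_5_1 e0_193_1 e0_187_5 e0_187_1
theorem e0_193_6 : u0_193 * s 6 = 1 * u0_197 := by
  simpa only [one_mul, mul_one] using ded2 r_6_1 e0_193_1 e0_187_6 e0_191_1
theorem e0_197_6 : u0_197 * s 6 = 1 * u0_193 := rev_edge (s_sq 6) e0_193_6
theorem e0_193_7 : u0_193 * s 7 = s 0 * u0_193 := by
  simpa only [one_mul, mul_one] using ded2 r_7_1 e0_193_1 e0_187_7 e0_187_1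
theorem e0_198_6 : u0_198 * s 6 = s 6 * u0_198 := by
  simpa only [one_mul, mul_one] using ded3 r_6_5 e0_198_5 e0_191_6 e0_187_5 e0_187_6 e0_191_5
theorem e0_194_6 : u0_194 * s 6 = s 0 * u0_194 := by
  simpa only [one_mul, mul_one] using ded3 r_6_7 e0_194_7 e0_191_6 e0_187_7 e0_187_6 e0_191_7
theorem e0_194_0 : u0_194 * s 0 = s 1 * u0_194 := by
  simpa only [one_mul, mul_one] using ded2 r_0_3 e0_194_3 e0_188_0 e0_188_3
theorem e0_199_3 : u0_199 * s 3 = s 4 * u0_199 := by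
  simpa only [one_mul, mul_one] using ded3 r_3_1 e0_199_1 e0_194_3 e0_188_1 e0_188_3 e0_194_1
theorem e0_195_1 : u0_195 * s 1 = s 4 * u0_195 := by
  simpa only [one_mul, mul_one] using ded2 r_1_5 e0_195_5 e0_188_1 e0_188_5
theorem e0_200_3 : u0_200 * s 3 = 1 * u0_195 := by
  simpa only [one_mul, mul_one] using ded2 r_3_5 e0_200_5 e0_194_3 e0_188_5
theorem e0_195_3 : u0_195 * s 3 = 1 * u0_200 := rev_edge (s_sq 3) e0_200_3
theorem e0_201_5 : u0_201 * s 5 = s 0 * u0_201 := by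
  simpa only [one_mul, mul_one] using ded3 r_5_6 e0_201_6 e0_195_5 e0_188_6 e0_188_5 e0_195_6
theorem e0_196_1 : u0_196 * s 1 = s 4 * u0_196 := by
  simpa only [one_mul, mul_one] using ded2 r_1_6 e0_196_6 e0_189_1 e0_189_6
theorem e0_200_2 : u0_200 * s 2 = s 3 * u0_200 := by
  simpa only [one_mul, mul_one] using ded3 r_2_3 e0_200_3 e0_195_2 e0_189_3 e0_189_2 e0_195_3
theorem e0_201_2 : u0_201 * s 2 = 1 * u0_196 := by
  simpa only [one_mul, mul_one] using ded2 r_2_6 e0_201_6 e0_195_2 e0_189_6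
theorem e0_196_2 : u0_196 * s 2 = 1 * u0_201 := rev_edge (s_sq 2) e0_201_2
theorem e0_196_3 : u0_196 * s 3 = s 3 * u0_196 := by
  simpa only [one_mul, mul_one] using ded2 r_3_6 e0_196_6 e0_189_3 e0_189_6
theorem e0_196_4 : u0_196 * s 4 = s 2 * u0_196 := by
  simpa only [one_mul, mul_one] using ded2 r_4_6 e0_196_6 e0_189_4 e0_189_6
theorem e0_201_0 : u0_201 * s 0 = s 1 * u0_201 := by
  simpa only [one_mul, mul_one] using ded3 r_0_2 e0_201_2 e0_196_0 e0_190_2 e0_190_0 e0_196_2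
theorem e0_197_0 : u0_197 * s 0 = s 1 * u0_197 := by
  simpa only [one_mul, mul_one] using ded2 r_0_1 e0_197_1 e0_191_0 e0_191_1
theorem e0_198_0 : u0_198 * s 0 = s 1 * u0_198 := by
  simpa only [one_mul, mul_one] using ded2 r_0_5 e0_198_5 e0_191_0 e0_191_5
theorem e0_197_2 : u0_197 * s 2 = s 3 * u0_197 := by
  simpa only [one_mul, mul_one] using ded2 r_2_1 e0_197_1 e0_191_2 e0_191_1
theorem e0_197_4 : u0_197 * s 4 = s 5 * u0_197 := by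
  simpa only [one_mul, mul_one] using ded2 r_4_1 e0_197_1 e0_191_4 e0_191_1
theorem e0_202_1 : u0_202 * s 1 = 1 * u0_198 := by
  simpa only [one_mul, mul_one] using ded2 r_1_5 e0_202_5 e0_197_1 e0_191_5
theorem e0_198_1 : u0_198 * s 1 = 1 * u0_202 := rev_edge (s_sq 1) e0_202_1
theorem e0_197_7 : u0_197 * s 7 = 1 * u0_199 := by
  simpa only [one_mul, mul_one] using ded2 r_7_1 e0_197_1 e0_191_7 e0_194_1
theorem e0_199_7 : u0_199 * s 7 = 1 * u0_197 := rev_edge (s_sq 7) e0_197_7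
theorem e0_203_5 : u0_203 * s 5 = s 5 * u0_203 := by
  simpa only [one_mul, mul_one] using ded3 r_5_4 e0_203_4 e0_198_5 e0_191_4 e0_191_5 e0_198_4
theorem e0_198_7 : u0_198 * s 7 = 1 * u0_200 := by
  simpa only [one_mul, mul_one] using ded2 r_7_5 e0_198_5 e0_191_7 e0_194_5
theorem e0_200_7 : u0_200 * s 7 = 1 * u0_198 := rev_edge (s_sq 7) e0_198_7
theorem e0_202_3 : u0_202 * s 3 = s 4 * u0_202 := by
  simpa only [one_mul, mul_one] using ded3 r_3_1 e0_202_1 e0_198_3 e0_192_1 e0_192_3 e0_198_1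
theorem e0_203_3 : u0_203 * s 3 = s 2 * u0_203 := by
  simpa only [one_mul, mul_one] using ded3 r_3_4 e0_203_4 e0_198_3 e0_192_4 e0_192_3 e0_198_4
theorem e0_201_7 : u0_201 * s 7 = s 6 * u0_201 := by
  simpa only [one_mul, mul_one] using ded3 r_7_6 e0_201_6 e0_195_7 e0_192_6 e0_192_7 e0_195_6
theorem e0_202_6 : u0_202 * s 6 = s 6 * u0_202 := by
  simpa only [one_mul, mul_one] using ded3 r_6_5 e0_202_5 e0_197_6 e0_193_5 e0_193_6 e0_197_5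
theorem e0_199_6 : u0_199 * s 6 = s 0 * u0_199 := by
  simpa only [one_mul, mul_one] using ded3 r_6_7 e0_199_7 e0_197_6 e0_193_7 e0_193_6 e0_197_7
theorem e0_199_0 : u0_199 * s 0 = s 1 * u0_199 := by
  simpa only [one_mul, mul_one] using ded2 r_0_1 e0_199_1 e0_194_0 e0_194_1
theorem e0_200_0 : u0_200 * s 0 = s 1 * u0_200 := by
  simpa only [one_mul, mul_one] using ded2 r_0_5 e0_200_5 e0_194_0 e0_194_5
theorem e0_199_2 : u0_199 * s 2 = s 3 * u0_199 := by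
  simpa only [one_mul, mul_one] using ded2 r_2_1 e0_199_1 e0_194_2 e0_194_1
theorem e0_199_4 : u0_199 * s 4 = s 5 * u0_199 := by
  simpa only [one_mul, mul_one] using ded2 r_4_1 e0_199_1 e0_194_4 e0_194_1
theorem e0_204_1 : u0_204 * s 1 = 1 * u0_200 := by
  simpa only [one_mul, mul_one] using ded2 r_1_5 e0_204_5 e0_199_1 e0_194_5
theorem e0_200_1 : u0_200 * s 1 = 1 * u0_204 := rev_edge (s_sq 1) e0_204_1
theorem e0_205_5 : u0_205 * s 5 = s 5 * u0_205 := by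
  simpa only [one_mul, mul_one] using ded3 r_5_4 e0_205_4 e0_200_5 e0_194_4 e0_194_5 e0_200_4
theorem e0_206_5 : u0_206 * s 5 = s 0 * u0_206 := by
  simpa only [one_mul, mul_one] using ded3 r_5_6 e0_206_6 e0_200_5 e0_194_6 e0_194_5 e0_200_6
theorem e0_204_3 : u0_204 * s 3 = s 4 * u0_204 := by
  simpa only [one_mul, mul_one] using ded3 r_3_1 e0_204_1 e0_200_3 e0_195_1 e0_195_3 e0_200_1
theorem e0_201_1 : u0_201 * s 1 = s 4 * u0_201 := by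
  simpa only [one_mul, mul_one] using ded2 r_1_6 e0_201_6 e0_195_1 e0_195_6
theorem e0_205_3 : u0_205 * s 3 = s 2 * u0_205 := by
  simpa only [one_mul, mul_one] using ded3 r_3_4 e0_205_4 e0_200_3 e0_195_4 e0_195_3 e0_200_4
theorem e0_206_3 : u0_206 * s 3 = 1 * u0_201 := by
  simpa only [one_mul, mul_one] using ded2 r_3_6 e0_206_6 e0_200_3 e0_195_6
theorem e0_201_3 : u0_201 * s 3 = 1 * u0_206 := rev_edge (s_sq 3) e0_206_3
theorem e0_201_4 : u0_201 * s 4 = s 2 * u0_201 := by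
  simpa only [one_mul, mul_one] using ded2 r_4_6 e0_201_6 e0_195_4 e0_195_6
theorem e0_206_2 : u0_206 * s 2 = s 3 * u0_206 := by
  simpa only [one_mul, mul_one] using ded3 r_2_3 e0_206_3 e0_201_2 e0_196_3 e0_196_2 e0_201_3
theorem e0_202_0 : u0_202 * s 0 = s 1 * u0_202 := by
  simpa only [one_mul, mul_one] using ded2 r_0_5 e0_202_5 e0_197_0 e0_197_5
theorem e0_202_2 : u0_202 * s 2 = s 3 * u0_202 := by
  simpa only [one_mul, mul_one] using ded2 r_2_5 e0_202_5 e0_197_2 e0_197_5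
theorem e0_207_5 : u0_207 * s 5 = s 5 * u0_207 := by
  simpa only [one_mul, mul_one] using ded3 r_5_4 e0_207_4 e0_202_5 e0_197_4 e0_197_5 e0_202_4
theorem e0_202_7 : u0_202 * s 7 = 1 * u0_204 := by
  simpa only [one_mul, mul_one] using ded2 r_7_5 e0_202_5 e0_197_7 e0_199_5
theorem e0_204_7 : u0_204 * s 7 = 1 * u0_202 := rev_edge (s_sq 7) e0_202_7
theorem e0_203_0 : u0_203 * s 0 = s 1 * u0_203 := by
  simpa only [one_mul, mul_one] using ded2 r_0_4 e0_203_4 e0_198_0 e0_198_4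
theorem e0_207_1 : u0_207 * s 1 = 1 * u0_203 := by
  simpa only [one_mul, mul_one] using ded2 r_1_4 e0_207_4 e0_202_1 e0_198_4
theorem e0_203_1 : u0_203 * s 1 = 1 * u0_207 := rev_edge (s_sq 1) e0_207_1
theorem e0_203_2 : u0_203 * s 2 = s 3 * u0_203 := by
  simpa only [one_mul, mul_one] using ded2 r_2_4 e0_203_4 e0_198_2 e0_198_4
theorem e0_203_6 : u0_203 * s 6 = s 6 * u0_203 := by
  simpa only [one_mul, mul_one] using ded2 r_6_4 e0_203_4 e0_198_6 e0_198_4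
theorem e0_203_7 : u0_203 * s 7 = 1 * u0_205 := by
  simpa only [one_mul, mul_one] using ded2 r_7_4 e0_203_4 e0_198_7 e0_200_4
theorem e0_205_7 : u0_205 * s 7 = 1 * u0_203 := rev_edge (s_sq 7) e0_203_7
theorem e0_206_7 : u0_206 * s 7 = s 6 * u0_206 := by
  simpa only [one_mul, mul_one] using ded3 r_7_6 e0_206_6 e0_200_7 e0_198_6 e0_198_7 e0_200_6
theorem e0_204_0 : u0_204 * s 0 = s 1 * u0_204 := by
  simpa only [one_mul, mul_one] using ded2 r_0_5 e0_204_5 e0_199_0 e0_199_5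
theorem e0_204_2 : u0_204 * s 2 = s 3 * u0_204 := by
  simpa only [one_mul, mul_one] using ded2 r_2_5 e0_204_5 e0_199_2 e0_199_5
theorem e0_208_5 : u0_208 * s 5 = s 5 * u0_208 := by
  simpa only [one_mul, mul_one] using ded3 r_5_4 e0_208_4 e0_204_5 e0_199_4 e0_199_5 e0_204_4
theorem e0_209_5 : u0_209 * s 5 = s 0 * u0_209 := by
  simpa only [one_mul, mul_one] using ded3 r_5_6 e0_209_6 e0_204_5 e0_199_6 e0_199_5 e0_204_6
theorem e0_205_0 : u0_205 * s 0 = s 1 * u0_205 := by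
  simpa only [one_mul, mul_one] using ded2 r_0_4 e0_205_4 e0_200_0 e0_200_4
theorem e0_206_0 : u0_206 * s 0 = s 1 * u0_206 := by
  simpa only [one_mul, mul_one] using ded2 r_0_6 e0_206_6 e0_200_0 e0_200_6
theorem e0_208_1 : u0_208 * s 1 = 1 * u0_205 := by
  simpa only [one_mul, mul_one] using ded2 r_1_4 e0_208_4 e0_204_1 e0_200_4
theorem e0_205_1 : u0_205 * s 1 = 1 * u0_208 := rev_edge (s_sq 1) e0_208_1
theorem e0_209_1 : u0_209 * s 1 = 1 * u0_206 := by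
  simpa only [one_mul, mul_one] using ded2 r_1_6 e0_209_6 e0_204_1 e0_200_6
theorem e0_206_1 : u0_206 * s 1 = 1 * u0_209 := rev_edge (s_sq 1) e0_209_1
theorem e0_205_2 : u0_205 * s 2 = s 3 * u0_205 := by
  simpa only [one_mul, mul_one] using ded2 r_2_4 e0_205_4 e0_200_2 e0_200_4
theorem e0_210_4 : u0_210 * s 4 = 1 * u0_206 := by
  simpa only [one_mul, mul_one] using ded2 r_4_6 e0_210_6 e0_205_4 e0_200_6
theorem e0_206_4 : u0_206 * s 4 = 1 * u0_210 := rev_edge (s_sq 4) e0_210_4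
theorem e0_209_3 : u0_209 * s 3 = s 4 * u0_209 := by
  simpa only [one_mul, mul_one] using ded3 r_3_1 e0_209_1 e0_206_3 e0_201_1 e0_201_3 e0_206_1
theorem e0_210_3 : u0_210 * s 3 = s 2 * u0_210 := by
  simpa only [one_mul, mul_one] using ded3 r_3_4 e0_210_4 e0_206_3 e0_201_4 e0_201_3 e0_206_4
theorem e0_207_0 : u0_207 * s 0 = s 1 * u0_207 := by
  simpa only [one_mul, mul_one] using ded2 r_0_4 e0_207_4 e0_202_0 e0_202_4
theorem e0_207_2 : u0_207 * s 2 = s 3 * u0_207 := by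
  simpa only [one_mul, mul_one] using ded2 r_2_4 e0_207_4 e0_202_2 e0_202_4
theorem e0_211_4 : u0_211 * s 4 = s 4 * u0_211 := by
  simpa only [one_mul, mul_one] using ded3 r_4_3 e0_211_3 e0_207_4 e0_202_3 e0_202_4 e0_207_3
theorem e0_207_6 : u0_207 * s 6 = s 6 * u0_207 := by
  simpa only [one_mul, mul_one] using ded2 r_6_4 e0_207_4 e0_202_6 e0_202_4
theorem e0_207_7 : u0_207 * s 7 = 1 * u0_208 := by
  simpa only [one_mul, mul_one] using ded2 r_7_4 e0_207_4 e0_202_7 e0_204_4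
theorem e0_208_7 : u0_208 * s 7 = 1 * u0_207 := rev_edge (s_sq 7) e0_207_7
theorem e0_209_7 : u0_209 * s 7 = s 6 * u0_209 := by
  simpa only [one_mul, mul_one] using ded3 r_7_6 e0_209_6 e0_204_7 e0_202_6 e0_202_7 e0_204_6
theorem e0_211_1 : u0_211 * s 1 = s 2 * u0_211 := by
  simpa only [one_mul, mul_one] using ded3 r_1_3 e0_211_3 e0_207_1 e0_203_3 e0_203_1 e0_207_3
theorem e0_210_7 : u0_210 * s 7 = s 6 * u0_210 := by
  simpa only [one_mul, mul_one] using ded3 r_7_6 e0_210_6 e0_205_7 e0_203_6 e0_203_7 e0_205_6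
theorem e0_208_0 : u0_208 * s 0 = s 1 * u0_208 := by
  simpa only [one_mul, mul_one] using ded2 r_0_4 e0_208_4 e0_204_0 e0_204_4
theorem e0_209_0 : u0_209 * s 0 = s 1 * u0_209 := by
  simpa only [one_mul, mul_one] using ded2 r_0_6 e0_209_6 e0_204_0 e0_204_6
theorem e0_208_2 : u0_208 * s 2 = s 3 * u0_208 := by
  simpa only [one_mul, mul_one] using ded2 r_2_4 e0_208_4 e0_204_2 e0_204_4
theorem e0_209_2 : u0_209 * s 2 = s 3 * u0_209 := by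
  simpa only [one_mul, mul_one] using ded2 r_2_6 e0_209_6 e0_204_2 e0_204_6
theorem e0_212_4 : u0_212 * s 4 = s 4 * u0_212 := by
  simpa only [one_mul, mul_one] using ded3 r_4_3 e0_212_3 e0_208_4 e0_204_3 e0_204_4 e0_208_3
theorem e0_213_4 : u0_213 * s 4 = 1 * u0_209 := by
  simpa only [one_mul, mul_one] using ded2 r_4_6 e0_213_6 e0_208_4 e0_204_6
theorem e0_209_4 : u0_209 * s 4 = 1 * u0_213 := rev_edge (s_sq 4) e0_213_4
theorem e0_210_0 : u0_210 * s 0 = s 1 * u0_210 := by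
  simpa only [one_mul, mul_one] using ded2 r_0_6 e0_210_6 e0_205_0 e0_205_6
theorem e0_212_1 : u0_212 * s 1 = s 2 * u0_212 := by
  simpa only [one_mul, mul_one] using ded3 r_1_3 e0_212_3 e0_208_1 e0_205_3 e0_205_1 e0_208_3
theorem e0_213_1 : u0_213 * s 1 = 1 * u0_210 := by
  simpa only [one_mul, mul_one] using ded2 r_1_6 e0_213_6 e0_208_1 e0_205_6
theorem e0_210_1 : u0_210 * s 1 = 1 * u0_213 := rev_edge (s_sq 1) e0_213_1
theorem e0_210_2 : u0_210 * s 2 = s 3 * u0_210 := by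
  simpa only [one_mul, mul_one] using ded2 r_2_6 e0_210_6 e0_205_2 e0_205_6
theorem e0_214_6 : u0_214 * s 6 = s 5 * u0_214 := by
  simpa only [one_mul, mul_one] using ded3 r_6_5 e0_214_5 e0_210_6 e0_205_5 e0_205_6 e0_210_5
theorem e0_214_4 : u0_214 * s 4 = s 0 * u0_214 := by
  simpa only [one_mul, mul_one] using ded3 r_4_5 e0_214_5 e0_210_4 e0_206_5 e0_206_4 e0_210_5
theorem e0_211_0 : u0_211 * s 0 = s 1 * u0_211 := by
  simpa only [one_mul, mul_one] using ded2 r_0_3 e0_211_3 e0_207_0 e0_207_3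
theorem e0_215_3 : u0_215 * s 3 = s 3 * u0_215 := by
  simpa only [one_mul, mul_one] using ded3 r_3_2 e0_215_2 e0_211_3 e0_207_2 e0_207_3 e0_211_2
theorem e0_211_5 : u0_211 * s 5 = s 5 * u0_211 := by
  simpa only [one_mul, mul_one] using ded2 r_5_3 e0_211_3 e0_207_5 e0_207_3
theorem e0_211_6 : u0_211 * s 6 = s 6 * u0_211 := by
  simpa only [one_mul, mul_one] using ded2 r_6_3 e0_211_3 e0_207_6 e0_207_3
theorem e0_211_7 : u0_211 * s 7 = 1 * u0_212 := by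
  simpa only [one_mul, mul_one] using ded2 r_7_3 e0_211_3 e0_207_7 e0_208_3
theorem e0_212_7 : u0_212 * s 7 = 1 * u0_211 := rev_edge (s_sq 7) e0_211_7
theorem e0_213_7 : u0_213 * s 7 = s 6 * u0_213 := by
  simpa only [one_mul, mul_one] using ded3 r_7_6 e0_213_6 e0_208_7 e0_207_6 e0_207_7 e0_208_6
theorem e0_212_0 : u0_212 * s 0 = s 1 * u0_212 := by
  simpa only [one_mul, mul_one] using ded2 r_0_3 e0_212_3 e0_208_0 e0_208_3
theorem e0_213_0 : u0_213 * s 0 = s 1 * u0_213 := by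
  simpa only [one_mul, mul_one] using ded2 r_0_6 e0_213_6 e0_208_0 e0_208_6
theorem e0_216_3 : u0_216 * s 3 = s 3 * u0_216 := by
  simpa only [one_mul, mul_one] using ded3 r_3_2 e0_216_2 e0_212_3 e0_208_2 e0_208_3 e0_212_2
theorem e0_213_2 : u0_213 * s 2 = s 3 * u0_213 := by
  simpa only [one_mul, mul_one] using ded2 r_2_6 e0_213_6 e0_208_2 e0_208_6
theorem e0_212_5 : u0_212 * s 5 = s 5 * u0_212 := by
  simpa only [one_mul, mul_one] using ded2 r_5_3 e0_212_3 e0_208_5 e0_208_3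
theorem e0_217_3 : u0_217 * s 3 = 1 * u0_213 := by
  simpa only [one_mul, mul_one] using ded2 r_3_6 e0_217_6 e0_212_3 e0_208_6
theorem e0_213_3 : u0_213 * s 3 = 1 * u0_217 := rev_edge (s_sq 3) e0_217_3
theorem e0_218_6 : u0_218 * s 6 = s 5 * u0_218 := by
  simpa only [one_mul, mul_one] using ded3 r_6_5 e0_218_5 e0_213_6 e0_208_5 e0_208_6 e0_213_5
theorem e0_217_4 : u0_217 * s 4 = s 4 * u0_217 := by
  simpa only [one_mul, mul_one] using ded3 r_4_3 e0_217_3 e0_213_4 e0_209_3 e0_209_4 e0_213_3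
theorem e0_218_4 : u0_218 * s 4 = s 0 * u0_218 := by
  simpa only [one_mul, mul_one] using ded3 r_4_5 e0_218_5 e0_213_4 e0_209_5 e0_209_4 e0_213_5
theorem e0_214_0 : u0_214 * s 0 = s 1 * u0_214 := by
  simpa only [one_mul, mul_one] using ded2 r_0_5 e0_214_5 e0_210_0 e0_210_5
theorem e0_217_1 : u0_217 * s 1 = s 2 * u0_217 := by
  simpa only [one_mul, mul_one] using ded3 r_1_3 e0_217_3 e0_213_1 e0_210_3 e0_210_1 e0_213_3
theorem e0_218_1 : u0_218 * s 1 = 1 * u0_214 := by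
  simpa only [one_mul, mul_one] using ded2 r_1_5 e0_218_5 e0_213_1 e0_210_5
theorem e0_214_1 : u0_214 * s 1 = 1 * u0_218 := rev_edge (s_sq 1) e0_218_1
theorem e0_214_2 : u0_214 * s 2 = s 3 * u0_214 := by
  simpa only [one_mul, mul_one] using ded2 r_2_5 e0_214_5 e0_210_2 e0_210_5
theorem e0_214_3 : u0_214 * s 3 = s 2 * u0_214 := by
  simpa only [one_mul, mul_one] using ded2 r_3_5 e0_214_5 e0_210_3 e0_210_5
theorem e0_214_7 : u0_214 * s 7 = s 6 * u0_214 := by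
  simpa only [one_mul, mul_one] using ded2 r_7_5 e0_214_5 e0_210_7 e0_210_5
theorem e0_219_2 : u0_219 * s 2 = s 1 * u0_219 := by
  simpa only [one_mul, mul_one] using ded3 r_2_0 e0_219_0 e0_215_2 e0_211_0 e0_211_2 e0_215_0
theorem e0_215_1 : u0_215 * s 1 = s 2 * u0_215 := by
  simpa only [one_mul, mul_one] using ded2 r_1_2 e0_215_2 e0_211_1 e0_211_2
theorem e0_215_4 : u0_215 * s 4 = s 4 * u0_215 := by
  simpa only [one_mul, mul_one] using ded2 r_4_2 e0_215_2 e0_211_4 e0_211_2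
theorem e0_215_5 : u0_215 * s 5 = s 5 * u0_215 := by
  simpa only [one_mul, mul_one] using ded2 r_5_2 e0_215_2 e0_211_5 e0_211_2
theorem e0_215_6 : u0_215 * s 6 = s 6 * u0_215 := by
  simpa only [one_mul, mul_one] using ded2 r_6_2 e0_215_2 e0_211_6 e0_211_2
theorem e0_215_7 : u0_215 * s 7 = 1 * u0_216 := by
  simpa only [one_mul, mul_one] using ded2 r_7_2 e0_215_2 e0_211_7 e0_212_2
theorem e0_216_7 : u0_216 * s 7 = 1 * u0_215 := rev_edge (s_sq 7) e0_215_7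
theorem e0_217_7 : u0_217 * s 7 = s 6 * u0_217 := by
  simpa only [one_mul, mul_one] using ded3 r_7_6 e0_217_6 e0_212_7 e0_211_6 e0_211_7 e0_212_6
theorem e0_220_2 : u0_220 * s 2 = s 1 * u0_220 := by
  simpa only [one_mul, mul_one] using ded3 r_2_0 e0_220_0 e0_216_2 e0_212_0 e0_212_2 e0_216_0
theorem e0_217_0 : u0_217 * s 0 = s 1 * u0_217 := by
  simpa only [one_mul, mul_one] using ded2 r_0_6 e0_217_6 e0_212_0 e0_212_6
theorem e0_216_1 : u0_216 * s 1 = s 2 * u0_216 := by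
  simpa only [one_mul, mul_one] using ded2 r_1_2 e0_216_2 e0_212_1 e0_212_2
theorem e0_216_4 : u0_216 * s 4 = s 4 * u0_216 := by
  simpa only [one_mul, mul_one] using ded2 r_4_2 e0_216_2 e0_212_4 e0_212_2
theorem e0_216_5 : u0_216 * s 5 = s 5 * u0_216 := by
  simpa only [one_mul, mul_one] using ded2 r_5_2 e0_216_2 e0_212_5 e0_212_2
theorem e0_221_2 : u0_221 * s 2 = 1 * u0_217 := by
  simpa only [one_mul, mul_one] using ded2 r_2_6 e0_221_6 e0_216_2 e0_212_6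
theorem e0_217_2 : u0_217 * s 2 = 1 * u0_221 := rev_edge (s_sq 2) e0_221_2
theorem e0_222_6 : u0_222 * s 6 = s 5 * u0_222 := by
  simpa only [one_mul, mul_one] using ded3 r_6_5 e0_222_5 e0_217_6 e0_212_5 e0_212_6 e0_217_5
theorem e0_218_0 : u0_218 * s 0 = s 1 * u0_218 := by
  simpa only [one_mul, mul_one] using ded2 r_0_5 e0_218_5 e0_213_0 e0_213_5
theorem e0_221_3 : u0_221 * s 3 = s 3 * u0_221 := by
  simpa only [one_mul, mul_one] using ded3 r_3_2 e0_221_2 e0_217_3 e0_213_2 e0_213_3 e0_217_2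
theorem e0_218_2 : u0_218 * s 2 = s 3 * u0_218 := by
  simpa only [one_mul, mul_one] using ded2 r_2_5 e0_218_5 e0_213_2 e0_213_5
theorem e0_222_3 : u0_222 * s 3 = 1 * u0_218 := by
  simpa only [one_mul, mul_one] using ded2 r_3_5 e0_222_5 e0_217_3 e0_213_5
theorem e0_218_3 : u0_218 * s 3 = 1 * u0_222 := rev_edge (s_sq 3) e0_222_3
theorem e0_218_7 : u0_218 * s 7 = s 6 * u0_218 := by
  simpa only [one_mul, mul_one] using ded2 r_7_5 e0_218_5 e0_213_7 e0_213_5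
theorem e0_222_1 : u0_222 * s 1 = s 2 * u0_222 := by
  simpa only [one_mul, mul_one] using ded3 r_1_3 e0_222_3 e0_218_1 e0_214_3 e0_214_1 e0_218_3
theorem e0_219_1 : u0_219 * s 1 = s 2 * u0_219 := by
  simpa only [one_mul, mul_one] using ded2 r_1_0 e0_219_0 e0_215_1 e0_215_0
theorem e0_219_3 : u0_219 * s 3 = s 3 * u0_219 := by
  simpa only [one_mul, mul_one] using ded2 r_3_0 e0_219_0 e0_215_3 e0_215_0
theorem e0_219_4 : u0_219 * s 4 = s 4 * u0_219 := by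
  simpa only [one_mul, mul_one] using ded2 r_4_0 e0_219_0 e0_215_4 e0_215_0
theorem e0_219_5 : u0_219 * s 5 = s 5 * u0_219 := by
  simpa only [one_mul, mul_one] using ded2 r_5_0 e0_219_0 e0_215_5 e0_215_0
theorem e0_219_6 : u0_219 * s 6 = s 6 * u0_219 := by
  simpa only [one_mul, mul_one] using ded2 r_6_0 e0_219_0 e0_215_6 e0_215_0
theorem e0_219_7 : u0_219 * s 7 = 1 * u0_220 := by
  simpa only [one_mul, mul_one] using ded2 r_7_0 e0_219_0 e0_215_7 e0_216_0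
theorem e0_220_7 : u0_220 * s 7 = 1 * u0_219 := rev_edge (s_sq 7) e0_219_7
theorem e0_221_7 : u0_221 * s 7 = s 6 * u0_221 := by
  simpa only [one_mul, mul_one] using ded3 r_7_6 e0_221_6 e0_216_7 e0_215_6 e0_215_7 e0_216_6
theorem e0_220_1 : u0_220 * s 1 = s 2 * u0_220 := by
  simpa only [one_mul, mul_one] using ded2 r_1_0 e0_220_0 e0_216_1 e0_216_0
theorem e0_220_3 : u0_220 * s 3 = s 3 * u0_220 := by
  simpa only [one_mul, mul_one] using ded2 r_3_0 e0_220_0 e0_216_3 e0_216_0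
theorem e0_220_4 : u0_220 * s 4 = s 4 * u0_220 := by
  simpa only [one_mul, mul_one] using ded2 r_4_0 e0_220_0 e0_216_4 e0_216_0
theorem e0_220_5 : u0_220 * s 5 = s 5 * u0_220 := by
  simpa only [one_mul, mul_one] using ded2 r_5_0 e0_220_0 e0_216_5 e0_216_0
theorem e0_223_0 : u0_223 * s 0 = 1 * u0_221 := by
  simpa only [one_mul, mul_one] using ded2 r_0_6 e0_223_6 e0_220_0 e0_216_6
theorem e0_221_0 : u0_221 * s 0 = 1 * u0_223 := rev_edge (s_sq 0) e0_223_0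
theorem e0_221_1 : u0_221 * s 1 = s 2 * u0_221 := by
  simpa only [one_mul, mul_one] using ded2 r_1_6 e0_221_6 e0_216_1 e0_216_6
theorem e0_221_4 : u0_221 * s 4 = s 4 * u0_221 := by
  simpa only [one_mul, mul_one] using ded2 r_4_6 e0_221_6 e0_216_4 e0_216_6
theorem e0_224_6 : u0_224 * s 6 = s 5 * u0_224 := by
  simpa only [one_mul, mul_one] using ded3 r_6_5 e0_224_5 e0_221_6 e0_216_5 e0_216_6 e0_221_5
theorem e0_223_2 : u0_223 * s 2 = s 1 * u0_223 := by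
  simpa only [one_mul, mul_one] using ded3 r_2_0 e0_223_0 e0_221_2 e0_217_0 e0_217_2 e0_221_0
theorem e0_222_0 : u0_222 * s 0 = s 1 * u0_222 := by
  simpa only [one_mul, mul_one] using ded2 r_0_5 e0_222_5 e0_217_0 e0_217_5
theorem e0_224_2 : u0_224 * s 2 = 1 * u0_222 := by
  simpa only [one_mul, mul_one] using ded2 r_2_5 e0_224_5 e0_221_2 e0_217_5
theorem e0_222_2 : u0_222 * s 2 = 1 * u0_224 := rev_edge (s_sq 2) e0_224_2
theorem e0_225_5 : u0_225 * s 5 = s 4 * u0_225 := by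
  simpa only [one_mul, mul_one] using ded3 r_5_4 e0_225_4 e0_222_5 e0_217_4 e0_217_5 e0_222_4
theorem e0_222_7 : u0_222 * s 7 = s 6 * u0_222 := by
  simpa only [one_mul, mul_one] using ded2 r_7_5 e0_222_5 e0_217_7 e0_217_5
theorem e0_224_3 : u0_224 * s 3 = s 3 * u0_224 := by
  simpa only [one_mul, mul_one] using ded3 r_3_2 e0_224_2 e0_222_3 e0_218_2 e0_218_3 e0_222_2
theorem e0_225_3 : u0_225 * s 3 = s 0 * u0_225 := by
  simpa only [one_mul, mul_one] using ded3 r_3_4 e0_225_4 e0_222_3 e0_218_4 e0_218_3 e0_222_4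
theorem e0_223_7 : u0_223 * s 7 = s 6 * u0_223 := by
  simpa only [one_mul, mul_one] using ded3 r_7_6 e0_223_6 e0_220_7 e0_219_6 e0_219_7 e0_220_6
theorem e0_223_1 : u0_223 * s 1 = s 2 * u0_223 := by
  simpa only [one_mul, mul_one] using ded2 r_1_6 e0_223_6 e0_220_1 e0_220_6
theorem e0_223_3 : u0_223 * s 3 = s 3 * u0_223 := by
  simpa only [one_mul, mul_one] using ded2 r_3_6 e0_223_6 e0_220_3 e0_220_6
theorem e0_223_4 : u0_223 * s 4 = s 4 * u0_223 := by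
  simpa only [one_mul, mul_one] using ded2 r_4_6 e0_223_6 e0_220_4 e0_220_6
theorem e0_226_6 : u0_226 * s 6 = s 5 * u0_226 := by
  simpa only [one_mul, mul_one] using ded3 r_6_5 e0_226_5 e0_223_6 e0_220_5 e0_220_6 e0_223_5
theorem e0_226_0 : u0_226 * s 0 = 1 * u0_224 := by
  simpa only [one_mul, mul_one] using ded2 r_0_5 e0_226_5 e0_223_0 e0_221_5
theorem e0_224_0 : u0_224 * s 0 = 1 * u0_226 := rev_edge (s_sq 0) e0_226_0
theorem e0_224_1 : u0_224 * s 1 = s 2 * u0_224 := by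
  simpa only [one_mul, mul_one] using ded2 r_1_5 e0_224_5 e0_221_1 e0_221_5
theorem e0_227_5 : u0_227 * s 5 = s 4 * u0_227 := by
  simpa only [one_mul, mul_one] using ded3 r_5_4 e0_227_4 e0_224_5 e0_221_4 e0_221_5 e0_224_4
theorem e0_224_7 : u0_224 * s 7 = s 6 * u0_224 := by
  simpa only [one_mul, mul_one] using ded2 r_7_5 e0_224_5 e0_221_7 e0_221_5
theorem e0_226_2 : u0_226 * s 2 = s 1 * u0_226 := by
  simpa only [one_mul, mul_one] using ded3 r_2_0 e0_226_0 e0_224_2 e0_222_0 e0_222_2 e0_224_0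
theorem e0_225_0 : u0_225 * s 0 = s 1 * u0_225 := by
  simpa only [one_mul, mul_one] using ded2 r_0_4 e0_225_4 e0_222_0 e0_222_4
theorem e0_225_1 : u0_225 * s 1 = s 2 * u0_225 := by
  simpa only [one_mul, mul_one] using ded2 r_1_4 e0_225_4 e0_222_1 e0_222_4
theorem e0_227_2 : u0_227 * s 2 = 1 * u0_225 := by
  simpa only [one_mul, mul_one] using ded2 r_2_4 e0_227_4 e0_224_2 e0_222_4
theorem e0_225_2 : u0_225 * s 2 = 1 * u0_227 := rev_edge (s_sq 2) e0_227_2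
theorem e0_225_6 : u0_225 * s 6 = s 5 * u0_225 := by
  simpa only [one_mul, mul_one] using ded2 r_6_4 e0_225_4 e0_222_6 e0_222_4
theorem e0_225_7 : u0_225 * s 7 = s 6 * u0_225 := by
  simpa only [one_mul, mul_one] using ded2 r_7_4 e0_225_4 e0_222_7 e0_222_4
theorem e0_226_1 : u0_226 * s 1 = s 2 * u0_226 := by
  simpa only [one_mul, mul_one] using ded2 r_1_5 e0_226_5 e0_223_1 e0_223_5
theorem e0_226_3 : u0_226 * s 3 = s 3 * u0_226 := by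
  simpa only [one_mul, mul_one] using ded2 r_3_5 e0_226_5 e0_223_3 e0_223_5
theorem e0_228_5 : u0_228 * s 5 = s 4 * u0_228 := by
  simpa only [one_mul, mul_one] using ded3 r_5_4 e0_228_4 e0_226_5 e0_223_4 e0_223_5 e0_226_4
theorem e0_226_7 : u0_226 * s 7 = s 6 * u0_226 := by
  simpa only [one_mul, mul_one] using ded2 r_7_5 e0_226_5 e0_223_7 e0_223_5
theorem e0_228_0 : u0_228 * s 0 = 1 * u0_227 := by
  simpa only [one_mul, mul_one] using ded2 r_0_4 e0_228_4 e0_226_0 e0_224_4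
theorem e0_227_0 : u0_227 * s 0 = 1 * u0_228 := rev_edge (s_sq 0) e0_228_0
theorem e0_227_1 : u0_227 * s 1 = s 2 * u0_227 := by
  simpa only [one_mul, mul_one] using ded2 r_1_4 e0_227_4 e0_224_1 e0_224_4
theorem e0_229_4 : u0_229 * s 4 = s 3 * u0_229 := by
  simpa only [one_mul, mul_one] using ded3 r_4_3 e0_229_3 e0_227_4 e0_224_3 e0_224_4 e0_227_3
theorem e0_227_6 : u0_227 * s 6 = s 5 * u0_227 := by
  simpa only [one_mul, mul_one] using ded2 r_6_4 e0_227_4 e0_224_6 e0_224_4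
theorem e0_227_7 : u0_227 * s 7 = s 6 * u0_227 := by
  simpa only [one_mul, mul_one] using ded2 r_7_4 e0_227_4 e0_224_7 e0_224_4
theorem e0_228_2 : u0_228 * s 2 = s 1 * u0_228 := by
  simpa only [one_mul, mul_one] using ded3 r_2_0 e0_228_0 e0_227_2 e0_225_0 e0_225_2 e0_227_0
theorem e0_229_2 : u0_229 * s 2 = s 0 * u0_229 := by
  simpa only [one_mul, mul_one] using ded3 r_2_3 e0_229_3 e0_227_2 e0_225_3 e0_225_2 e0_227_3
theorem e0_228_1 : u0_228 * s 1 = s 2 * u0_228 := by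
  simpa only [one_mul, mul_one] using ded2 r_1_4 e0_228_4 e0_226_1 e0_226_4
theorem e0_230_4 : u0_230 * s 4 = s 3 * u0_230 := by
  simpa only [one_mul, mul_one] using ded3 r_4_3 e0_230_3 e0_228_4 e0_226_3 e0_226_4 e0_228_3
theorem e0_228_6 : u0_228 * s 6 = s 5 * u0_228 := by
  simpa only [one_mul, mul_one] using ded2 r_6_4 e0_228_4 e0_226_6 e0_226_4
theorem e0_228_7 : u0_228 * s 7 = s 6 * u0_228 := by
  simpa only [one_mul, mul_one] using ded2 r_7_4 e0_228_4 e0_226_7 e0_226_4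
theorem e0_230_0 : u0_230 * s 0 = 1 * u0_229 := by
  simpa only [one_mul, mul_one] using ded2 r_0_3 e0_230_3 e0_228_0 e0_227_3
theorem e0_229_0 : u0_229 * s 0 = 1 * u0_230 := rev_edge (s_sq 0) e0_230_0
theorem e0_231_3 : u0_231 * s 3 = s 2 * u0_231 := by
  simpa only [one_mul, mul_one] using ded3 r_3_1 e0_231_1 e0_229_3 e0_227_1 e0_227_3 e0_229_1
theorem e0_229_5 : u0_229 * s 5 = s 4 * u0_229 := by
  simpa only [one_mul, mul_one] using ded2 r_5_3 e0_229_3 e0_227_5 e0_227_3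
theorem e0_229_6 : u0_229 * s 6 = s 5 * u0_229 := by
  simpa only [one_mul, mul_one] using ded2 r_6_3 e0_229_3 e0_227_6 e0_227_3
theorem e0_229_7 : u0_229 * s 7 = s 6 * u0_229 := by
  simpa only [one_mul, mul_one] using ded2 r_7_3 e0_229_3 e0_227_7 e0_227_3
theorem e0_232_3 : u0_232 * s 3 = s 2 * u0_232 := by
  simpa only [one_mul, mul_one] using ded3 r_3_1 e0_232_1 e0_230_3 e0_228_1 e0_228_3 e0_230_1
theorem e0_233_3 : u0_233 * s 3 = s 1 * u0_233 := by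
  simpa only [one_mul, mul_one] using ded3 r_3_2 e0_233_2 e0_230_3 e0_228_2 e0_228_3 e0_230_2
theorem e0_230_5 : u0_230 * s 5 = s 4 * u0_230 := by
  simpa only [one_mul, mul_one] using ded2 r_5_3 e0_230_3 e0_228_5 e0_228_3
theorem e0_230_6 : u0_230 * s 6 = s 5 * u0_230 := by
  simpa only [one_mul, mul_one] using ded2 r_6_3 e0_230_3 e0_228_6 e0_228_3
theorem e0_230_7 : u0_230 * s 7 = s 6 * u0_230 := by
  simpa only [one_mul, mul_one] using ded2 r_7_3 e0_230_3 e0_228_7 e0_228_3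
theorem e0_232_0 : u0_232 * s 0 = 1 * u0_231 := by
  simpa only [one_mul, mul_one] using ded2 r_0_1 e0_232_1 e0_230_0 e0_229_1
theorem e0_231_0 : u0_231 * s 0 = 1 * u0_232 := rev_edge (s_sq 0) e0_232_0
theorem e0_233_0 : u0_233 * s 0 = s 0 * u0_233 := by
  simpa only [one_mul, mul_one] using ded3 r_0_2 e0_233_2 e0_230_0 e0_229_2 e0_229_0 e0_230_2
theorem e0_231_2 : u0_231 * s 2 = s 0 * u0_231 := by
  simpa only [one_mul, mul_one] using ded2 r_2_1 e0_231_1 e0_229_2 e0_229_1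
theorem e0_231_4 : u0_231 * s 4 = s 3 * u0_231 := by
  simpa only [one_mul, mul_one] using ded2 r_4_1 e0_231_1 e0_229_4 e0_229_1
theorem e0_231_5 : u0_231 * s 5 = s 4 * u0_231 := by
  simpa only [one_mul, mul_one] using ded2 r_5_1 e0_231_1 e0_229_5 e0_229_1
theorem e0_231_6 : u0_231 * s 6 = s 5 * u0_231 := by
  simpa only [one_mul, mul_one] using ded2 r_6_1 e0_231_1 e0_229_6 e0_229_1
theorem e0_231_7 : u0_231 * s 7 = s 6 * u0_231 := by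
  simpa only [one_mul, mul_one] using ded2 r_7_1 e0_231_1 e0_229_7 e0_229_1
theorem e0_234_1 : u0_234 * s 1 = 1 * u0_233 := by
  simpa only [one_mul, mul_one] using ded2 r_1_2 e0_234_2 e0_232_1 e0_230_2
theorem e0_233_1 : u0_233 * s 1 = 1 * u0_234 := rev_edge (s_sq 1) e0_234_1
theorem e0_232_4 : u0_232 * s 4 = s 3 * u0_232 := by
  simpa only [one_mul, mul_one] using ded2 r_4_1 e0_232_1 e0_230_4 e0_230_1
theorem e0_232_5 : u0_232 * s 5 = s 4 * u0_232 := by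
  simpa only [one_mul, mul_one] using ded2 r_5_1 e0_232_1 e0_230_5 e0_230_1
theorem e0_232_6 : u0_232 * s 6 = s 5 * u0_232 := by
  simpa only [one_mul, mul_one] using ded2 r_6_1 e0_232_1 e0_230_6 e0_230_1
theorem e0_232_7 : u0_232 * s 7 = s 6 * u0_232 := by
  simpa only [one_mul, mul_one] using ded2 r_7_1 e0_232_1 e0_230_7 e0_230_1
theorem e0_233_4 : u0_233 * s 4 = s 3 * u0_233 := by
  simpa only [one_mul, mul_one] using ded2 r_4_2 e0_233_2 e0_230_4 e0_230_2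
theorem e0_233_5 : u0_233 * s 5 = s 4 * u0_233 := by
  simpa only [one_mul, mul_one] using ded2 r_5_2 e0_233_2 e0_230_5 e0_230_2
theorem e0_233_6 : u0_233 * s 6 = s 5 * u0_233 := by
  simpa only [one_mul, mul_one] using ded2 r_6_2 e0_233_2 e0_230_6 e0_230_2
theorem e0_233_7 : u0_233 * s 7 = s 6 * u0_233 := by
  simpa only [one_mul, mul_one] using ded2 r_7_2 e0_233_2 e0_230_7 e0_230_2
theorem e0_234_0 : u0_234 * s 0 = s 0 * u0_234 := by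
  simpa only [one_mul, mul_one] using ded3 r_0_2 e0_234_2 e0_232_0 e0_231_2 e0_231_0 e0_232_2
theorem e0_235_2 : u0_235 * s 2 = s 2 * u0_235 := by
  simpa only [one_mul, mul_one] using ded3 r_2_3 e0_235_3 e0_234_2 e0_232_3 e0_232_2 e0_234_3
theorem e0_234_4 : u0_234 * s 4 = s 3 * u0_234 := by
  simpa only [one_mul, mul_one] using ded2 r_4_2 e0_234_2 e0_232_4 e0_232_2
theorem e0_234_5 : u0_234 * s 5 = s 4 * u0_234 := by
  simpa only [one_mul, mul_one] using ded2 r_5_2 e0_234_2 e0_232_5 e0_232_2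
theorem e0_234_6 : u0_234 * s 6 = s 5 * u0_234 := by
  simpa only [one_mul, mul_one] using ded2 r_6_2 e0_234_2 e0_232_6 e0_232_2
theorem e0_234_7 : u0_234 * s 7 = s 6 * u0_234 := by
  simpa only [one_mul, mul_one] using ded2 r_7_2 e0_234_2 e0_232_7 e0_232_2
theorem e0_235_1 : u0_235 * s 1 = s 1 * u0_235 := by
  simpa only [one_mul, mul_one] using ded3 r_1_3 e0_235_3 e0_234_1 e0_233_3 e0_233_1 e0_234_3
theorem e0_235_0 : u0_235 * s 0 = s 0 * u0_235 := by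
  simpa only [one_mul, mul_one] using ded2 r_0_3 e0_235_3 e0_234_0 e0_234_3
theorem e0_236_3 : u0_236 * s 3 = s 3 * u0_236 := by
  simpa only [one_mul, mul_one] using ded3 r_3_4 e0_236_4 e0_235_3 e0_234_4 e0_234_3 e0_235_4
theorem e0_235_5 : u0_235 * s 5 = s 4 * u0_235 := by
  simpa only [one_mul, mul_one] using ded2 r_5_3 e0_235_3 e0_234_5 e0_234_3
theorem e0_235_6 : u0_235 * s 6 = s 5 * u0_235 := by
  simpa only [one_mul, mul_one] using ded2 r_6_3 e0_235_3 e0_234_6 e0_234_3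
theorem e0_235_7 : u0_235 * s 7 = s 6 * u0_235 := by
  simpa only [one_mul, mul_one] using ded2 r_7_3 e0_235_3 e0_234_7 e0_234_3
theorem e0_236_0 : u0_236 * s 0 = s 0 * u0_236 := by
  simpa only [one_mul, mul_one] using ded2 r_0_4 e0_236_4 e0_235_0 e0_235_4
theorem e0_236_1 : u0_236 * s 1 = s 1 * u0_236 := by
  simpa only [one_mul, mul_one] using ded2 r_1_4 e0_236_4 e0_235_1 e0_235_4
theorem e0_236_2 : u0_236 * s 2 = s 2 * u0_236 := by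
  simpa only [one_mul, mul_one] using ded2 r_2_4 e0_236_4 e0_235_2 e0_235_4
theorem e0_237_4 : u0_237 * s 4 = s 4 * u0_237 := by
  simpa only [one_mul, mul_one] using ded3 r_4_5 e0_237_5 e0_236_4 e0_235_5 e0_235_4 e0_236_5
theorem e0_236_6 : u0_236 * s 6 = s 5 * u0_236 := by
  simpa only [one_mul, mul_one] using ded2 r_6_4 e0_236_4 e0_235_6 e0_235_4
theorem e0_236_7 : u0_236 * s 7 = s 6 * u0_236 := by
  simpa only [one_mul, mul_one] using ded2 r_7_4 e0_236_4 e0_235_7 e0_235_4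
theorem e0_237_0 : u0_237 * s 0 = s 0 * u0_237 := by
  simpa only [one_mul, mul_one] using ded2 r_0_5 e0_237_5 e0_236_0 e0_236_5
theorem e0_237_1 : u0_237 * s 1 = s 1 * u0_237 := by
  simpa only [one_mul, mul_one] using ded2 r_1_5 e0_237_5 e0_236_1 e0_236_5
theorem e0_237_2 : u0_237 * s 2 = s 2 * u0_237 := by
  simpa only [one_mul, mul_one] using ded2 r_2_5 e0_237_5 e0_236_2 e0_236_5
theorem e0_237_3 : u0_237 * s 3 = s 3 * u0_237 := by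
  simpa only [one_mul, mul_one] using ded2 r_3_5 e0_237_5 e0_236_3 e0_236_5
theorem e0_238_5 : u0_238 * s 5 = s 5 * u0_238 := by
  simpa only [one_mul, mul_one] using ded3 r_5_6 e0_238_6 e0_237_5 e0_236_6 e0_236_5 e0_237_6
theorem e0_237_7 : u0_237 * s 7 = s 6 * u0_237 := by
  simpa only [one_mul, mul_one] using ded2 r_7_5 e0_237_5 e0_236_7 e0_236_5
theorem e0_238_0 : u0_238 * s 0 = s 0 * u0_238 := by
  simpa only [one_mul, mul_one] using ded2 r_0_6 e0_238_6 e0_237_0 e0_237_6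
theorem e0_238_1 : u0_238 * s 1 = s 1 * u0_238 := by
  simpa only [one_mul, mul_one] using ded2 r_1_6 e0_238_6 e0_237_1 e0_237_6
theorem e0_238_2 : u0_238 * s 2 = s 2 * u0_238 := by
  simpa only [one_mul, mul_one] using ded2 r_2_6 e0_238_6 e0_237_2 e0_237_6
theorem e0_238_3 : u0_238 * s 3 = s 3 * u0_238 := by
  simpa only [one_mul, mul_one] using ded2 r_3_6 e0_238_6 e0_237_3 e0_237_6
theorem e0_238_4 : u0_238 * s 4 = s 4 * u0_238 := by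
  simpa only [one_mul, mul_one] using ded2 r_4_6 e0_238_6 e0_237_4 e0_237_6
theorem e0_239_6 : u0_239 * s 6 = s 6 * u0_239 := by
  simpa only [one_mul, mul_one] using ded3 r_6_7 e0_239_7 e0_238_6 e0_237_7 e0_237_6 e0_238_7
theorem e0_239_0 : u0_239 * s 0 = s 0 * u0_239 := by
  simpa only [one_mul, mul_one] using ded2 r_0_7 e0_239_7 e0_238_0 e0_238_7
theorem e0_239_1 : u0_239 * s 1 = s 1 * u0_239 := by
  simpa only [one_mul, mul_one] using ded2 r_1_7 e0_239_7 e0_238_1 e0_238_7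
theorem e0_239_2 : u0_239 * s 2 = s 2 * u0_239 := by
  simpa only [one_mul, mul_one] using ded2 r_2_7 e0_239_7 e0_238_2 e0_238_7
theorem e0_239_3 : u0_239 * s 3 = s 3 * u0_239 := by
  simpa only [one_mul, mul_one] using ded2 r_3_7 e0_239_7 e0_238_3 e0_238_7
theorem e0_239_4 : u0_239 * s 4 = s 4 * u0_239 := by
  simpa only [one_mul, mul_one] using ded2 r_4_7 e0_239_7 e0_238_4 e0_238_7
theorem e0_239_5 : u0_239 * s 5 = s 5 * u0_239 := by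
  simpa only [one_mul, mul_one] using ded2 r_5_7 e0_239_7 e0_238_5 e0_238_7
def P0 (u : W) : Prop := u ∈ Subgroup.closure (gens M J0) ∧ ∀ x ∈ gens M J0, ∃ h ∈ Subgroup.closure (gens M J1), ∃ u' ∈ reps0, u * x = h * u'
theorem mr0_0 : u0_0 ∈ reps0 := List.getElem_mem (l := reps0) (n := 0) (by decide)
theorem mr0_1 : u0_1 ∈ reps0 := List.getElem_mem (l := reps0) (n := 1) (by decide)
theorem mr0_2 : u0_2 ∈ reps0 := List.getElem_mem (l := reps0) (n := 2) (by decide)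
theorem mr0_3 : u0_3 ∈ reps0 := List.getElem_mem (l := reps0) (n := 3) (by decide)
theorem mr0_4 : u0_4 ∈ reps0 := List.getElem_mem (l := reps0) (n := 4) (by decide)
theorem mr0_5 : u0_5 ∈ reps0 := List.getElem_mem (l := reps0) (n := 5) (by decide)
theorem mr0_6 : u0_6 ∈ reps0 := List.getElem_mem (l := reps0) (n := 6) (by decide)
theorem mr0_7 : u0_7 ∈ reps0 := List.getElem_mem (l := reps0) (n := 7) (by decide)
theorem mr0_8 : u0_8 ∈ reps0 := List.getElem_mem (l := reps0) (n := 8) (by decide)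
theorem mr0_9 : u0_9 ∈ reps0 := List.getElem_mem (l := reps0) (n := 9) (by decide)
theorem mr0_10 : u0_10 ∈ reps0 := List.getElem_mem (l := reps0) (n := 10) (by decide)
theorem mr0_11 : u0_11 ∈ reps0 := List.getElem_mem (l := reps0) (n := 11) (by decide)
theorem mr0_12 : u0_12 ∈ reps0 := List.getElem_mem (l := reps0) (n := 12) (by decide)
theorem mr0_13 : u0_13 ∈ reps0 := List.getElem_mem (l := reps0) (n := 13) (by decide)
theorem mr0_14 : u0_14 ∈ reps0 := List.getElem_mem (l := reps0) (n := 14) (by decide)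
theorem mr0_15 : u0_15 ∈ reps0 := List.getElem_mem (l := reps0) (n := 15) (by decide)
theorem mr0_16 : u0_16 ∈ reps0 := List.getElem_mem (l := reps0) (n := 16) (by decide)
theorem mr0_17 : u0_17 ∈ reps0 := List.getElem_mem (l := reps0) (n := 17) (by decide)
theorem mr0_18 : u0_18 ∈ reps0 := List.getElem_mem (l := reps0) (n := 18) (by decide)
theorem mr0_19 : u0_19 ∈ reps0 := List.getElem_mem (l := reps0) (n := 19) (by decide)
theorem mr0_20 : u0_20 ∈ reps0 := List.getElem_mem (l := reps0) (n := 20) (by decide)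
theorem mr0_21 : u0_21 ∈ reps0 := List.getElem_mem (l := reps0) (n := 21) (by decide)
theorem mr0_22 : u0_22 ∈ reps0 := List.getElem_mem (l := reps0) (n := 22) (by decide)
theorem mr0_23 : u0_23 ∈ reps0 := List.getElem_mem (l := reps0) (n := 23) (by decide)
theorem mr0_24 : u0_24 ∈ reps0 := List.getElem_mem (l := reps0) (n := 24) (by decide)
theorem mr0_25 : u0_25 ∈ reps0 := List.getElem_mem (l := reps0) (n := 25) (by decide)
theorem mr0_26 : u0_26 ∈ reps0 := List.getElem_mem (l := reps0) (n := 26) (by decide)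
theorem mr0_27 : u0_27 ∈ reps0 := List.getElem_mem (l := reps0) (n := 27) (by decide)
theorem mr0_28 : u0_28 ∈ reps0 := List.getElem_mem (l := reps0) (n := 28) (by decide)
theorem mr0_29 : u0_29 ∈ reps0 := List.getElem_mem (l := reps0) (n := 29) (by decide)
theorem mr0_30 : u0_30 ∈ reps0 := List.getElem_mem (l := reps0) (n := 30) (by decide)
theorem mr0_31 : u0_31 ∈ reps0 := List.getElem_mem (l := reps0) (n := 31) (by decide)
theorem mr0_32 : u0_32 ∈ reps0 := List.getElem_mem (l := reps0) (n := 32) (by decide)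
theorem mr0_33 : u0_33 ∈ reps0 := List.getElem_mem (l := reps0) (n := 33) (by decide)
theorem mr0_34 : u0_34 ∈ reps0 := List.getElem_mem (l := reps0) (n := 34) (by decide)
theorem mr0_35 : u0_35 ∈ reps0 := List.getElem_mem (l := reps0) (n := 35) (by decide)
theorem mr0_36 : u0_36 ∈ reps0 := List.getElem_mem (l := reps0) (n := 36) (by decide)
theorem mr0_37 : u0_37 ∈ reps0 := List.getElem_mem (l := reps0) (n := 37) (by decide)
theorem mr0_38 : u0_38 ∈ reps0 := List.getElem_mem (l := reps0) (n := 38) (by decide)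
theorem mr0_39 : u0_39 ∈ reps0 := List.getElem_mem (l := reps0) (n := 39) (by decide)
theorem mr0_40 : u0_40 ∈ reps0 := List.getElem_mem (l := reps0) (n := 40) (by decide)
theorem mr0_41 : u0_41 ∈ reps0 := List.getElem_mem (l := reps0) (n := 41) (by decide)
theorem mr0_42 : u0_42 ∈ reps0 := List.getElem_mem (l := reps0) (n := 42) (by decide)
theorem mr0_43 : u0_43 ∈ reps0 := List.getElem_mem (l := reps0) (n := 43) (by decide)
theorem mr0_44 : u0_44 ∈ reps0 := List.getElem_mem (l := reps0) (n := 44) (by decide)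
theorem mr0_45 : u0_45 ∈ reps0 := List.getElem_mem (l := reps0) (n := 45) (by decide)
theorem mr0_46 : u0_46 ∈ reps0 := List.getElem_mem (l := reps0) (n := 46) (by decide)
theorem mr0_47 : u0_47 ∈ reps0 := List.getElem_mem (l := reps0) (n := 47) (by decide)
theorem mr0_48 : u0_48 ∈ reps0 := List.getElem_mem (l := reps0) (n := 48) (by decide)
theorem mr0_49 : u0_49 ∈ reps0 := List.getElem_mem (l := reps0) (n := 49) (by decide)
theorem mr0_50 : u0_50 ∈ reps0 := List.getElem_mem (l := reps0) (n := 50) (by decide)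
theorem mr0_51 : u0_51 ∈ reps0 := List.getElem_mem (l := reps0) (n := 51) (by decide)
theorem mr0_52 : u0_52 ∈ reps0 := List.getElem_mem (l := reps0) (n := 52) (by decide)
theorem mr0_53 : u0_53 ∈ reps0 := List.getElem_mem (l := reps0) (n := 53) (by decide)
theorem mr0_54 : u0_54 ∈ reps0 := List.getElem_mem (l := reps0) (n := 54) (by decide)
theorem mr0_55 : u0_55 ∈ reps0 := List.getElem_mem (l := reps0) (n := 55) (by decide)
theorem mr0_56 : u0_56 ∈ reps0 := List.getElem_mem (l := reps0) (n := 56) (by decide)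
theorem mr0_57 : u0_57 ∈ reps0 := List.getElem_mem (l := reps0) (n := 57) (by decide)
theorem mr0_58 : u0_58 ∈ reps0 := List.getElem_mem (l := reps0) (n := 58) (by decide)
theorem mr0_59 : u0_59 ∈ reps0 := List.getElem_mem (l := reps0) (n := 59) (by decide)
theorem mr0_60 : u0_60 ∈ reps0 := List.getElem_mem (l := reps0) (n := 60) (by decide)
theorem mr0_61 : u0_61 ∈ reps0 := List.getElem_mem (l := reps0) (n := 61) (by decide)
theorem mr0_62 : u0_62 ∈ reps0 := List.getElem_mem (l := reps0) (n := 62) (by decide)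
theorem mr0_63 : u0_63 ∈ reps0 := List.getElem_mem (l := reps0) (n := 63) (by decide)
theorem mr0_64 : u0_64 ∈ reps0 := List.getElem_mem (l := reps0) (n := 64) (by decide)
theorem mr0_65 : u0_65 ∈ reps0 := List.getElem_mem (l := reps0) (n := 65) (by decide)
theorem mr0_66 : u0_66 ∈ reps0 := List.getElem_mem (l := reps0) (n := 66) (by decide)
theorem mr0_67 : u0_67 ∈ reps0 := List.getElem_mem (l := reps0) (n := 67) (by decide)
theorem mr0_68 : u0_68 ∈ reps0 := List.getElem_mem (l := reps0) (n := 68) (by decide)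
theorem mr0_69 : u0_69 ∈ reps0 := List.getElem_mem (l := reps0) (n := 69) (by decide)
theorem mr0_70 : u0_70 ∈ reps0 := List.getElem_mem (l := reps0) (n := 70) (by decide)
theorem mr0_71 : u0_71 ∈ reps0 := List.getElem_mem (l := reps0) (n := 71) (by decide)
theorem mr0_72 : u0_72 ∈ reps0 := List.getElem_mem (l := reps0) (n := 72) (by decide)
theorem mr0_73 : u0_73 ∈ reps0 := List.getElem_mem (l := reps0) (n := 73) (by decide)
theorem mr0_74 : u0_74 ∈ reps0 := List.getElem_mem (l := reps0) (n := 74) (by decide)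
theorem mr0_75 : u0_75 ∈ reps0 := List.getElem_mem (l := reps0) (n := 75) (by decide)
theorem mr0_76 : u0_76 ∈ reps0 := List.getElem_mem (l := reps0) (n := 76) (by decide)
theorem mr0_77 : u0_77 ∈ reps0 := List.getElem_mem (l := reps0) (n := 77) (by decide)
theorem mr0_78 : u0_78 ∈ reps0 := List.getElem_mem (l := reps0) (n := 78) (by decide)
theorem mr0_79 : u0_79 ∈ reps0 := List.getElem_mem (l := reps0) (n := 79) (by decide)
theorem mr0_80 : u0_80 ∈ reps0 := List.getElem_mem (l := reps0) (n := 80) (by decide)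
theorem mr0_81 : u0_81 ∈ reps0 := List.getElem_mem (l := reps0) (n := 81) (by decide)
theorem mr0_82 : u0_82 ∈ reps0 := List.getElem_mem (l := reps0) (n := 82) (by decide)
theorem mr0_83 : u0_83 ∈ reps0 := List.getElem_mem (l := reps0) (n := 83) (by decide)
theorem mr0_84 : u0_84 ∈ reps0 := List.getElem_mem (l := reps0) (n := 84) (by decide)
theorem mr0_85 : u0_85 ∈ reps0 := List.getElem_mem (l := reps0) (n := 85) (by decide)
theorem mr0_86 : u0_86 ∈ reps0 := List.getElem_mem (l := reps0) (n := 86) (by decide)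
theorem mr0_87 : u0_87 ∈ reps0 := List.getElem_mem (l := reps0) (n := 87) (by decide)
theorem mr0_88 : u0_88 ∈ reps0 := List.getElem_mem (l := reps0) (n := 88) (by decide)
theorem mr0_89 : u0_89 ∈ reps0 := List.getElem_mem (l := reps0) (n := 89) (by decide)
theorem mr0_90 : u0_90 ∈ reps0 := List.getElem_mem (l := reps0) (n := 90) (by decide)
theorem mr0_91 : u0_91 ∈ reps0 := List.getElem_mem (l := reps0) (n := 91) (by decide)
theorem mr0_92 : u0_92 ∈ reps0 := List.getElem_mem (l := reps0) (n := 92) (by decide)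
theorem mr0_93 : u0_93 ∈ reps0 := List.getElem_mem (l := reps0) (n := 93) (by decide)
theorem mr0_94 : u0_94 ∈ reps0 := List.getElem_mem (l := reps0) (n := 94) (by decide)
theorem mr0_95 : u0_95 ∈ reps0 := List.getElem_mem (l := reps0) (n := 95) (by decide)
theorem mr0_96 : u0_96 ∈ reps0 := List.getElem_mem (l := reps0) (n := 96) (by decide)
theorem mr0_97 : u0_97 ∈ reps0 := List.getElem_mem (l := reps0) (n := 97) (by decide)
theorem mr0_98 : u0_98 ∈ reps0 := List.getElem_mem (l := reps0) (n := 98) (by decide)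
theorem mr0_99 : u0_99 ∈ reps0 := List.getElem_mem (l := reps0) (n := 99) (by decide)
theorem mr0_100 : u0_100 ∈ reps0 := List.getElem_mem (l := reps0) (n := 100) (by decide)
theorem mr0_101 : u0_101 ∈ reps0 := List.getElem_mem (l := reps0) (n := 101) (by decide)
theorem mr0_102 : u0_102 ∈ reps0 := List.getElem_mem (l := reps0) (n := 102) (by decide)
theorem mr0_103 : u0_103 ∈ reps0 := List.getElem_mem (l := reps0) (n := 103) (by decide)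
theorem mr0_104 : u0_104 ∈ reps0 := List.getElem_mem (l := reps0) (n := 104) (by decide)
theorem mr0_105 : u0_105 ∈ reps0 := List.getElem_mem (l := reps0) (n := 105) (by decide)
theorem mr0_106 : u0_106 ∈ reps0 := List.getElem_mem (l := reps0) (n := 106) (by decide)
theorem mr0_107 : u0_107 ∈ reps0 := List.getElem_mem (l := reps0) (n := 107) (by decide)
theorem mr0_108 : u0_108 ∈ reps0 := List.getElem_mem (l := reps0) (n := 108) (by decide)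
theorem mr0_109 : u0_109 ∈ reps0 := List.getElem_mem (l := reps0) (n := 109) (by decide)
theorem mr0_110 : u0_110 ∈ reps0 := List.getElem_mem (l := reps0) (n := 110) (by decide)
theorem mr0_111 : u0_111 ∈ reps0 := List.getElem_mem (l := reps0) (n := 111) (by decide)
theorem mr0_112 : u0_112 ∈ reps0 := List.getElem_mem (l := reps0) (n := 112) (by decide)
theorem mr0_113 : u0_113 ∈ reps0 := List.getElem_mem (l := reps0) (n := 113) (by decide)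
theorem mr0_114 : u0_114 ∈ reps0 := List.getElem_mem (l := reps0) (n := 114) (by decide)
theorem mr0_115 : u0_115 ∈ reps0 := List.getElem_mem (l := reps0) (n := 115) (by decide)
theorem mr0_116 : u0_116 ∈ reps0 := List.getElem_mem (l := reps0) (n := 116) (by decide)
theorem mr0_117 : u0_117 ∈ reps0 := List.getElem_mem (l := reps0) (n := 117) (by decide)
theorem mr0_118 : u0_118 ∈ reps0 := List.getElem_mem (l := reps0) (n := 118) (by decide)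
theorem mr0_119 : u0_119 ∈ reps0 := List.getElem_mem (l := reps0) (n := 119) (by decide)
theorem mr0_120 : u0_120 ∈ reps0 := List.getElem_mem (l := reps0) (n := 120) (by decide)
theorem mr0_121 : u0_121 ∈ reps0 := List.getElem_mem (l := reps0) (n := 121) (by decide)
theorem mr0_122 : u0_122 ∈ reps0 := List.getElem_mem (l := reps0) (n := 122) (by decide)
theorem mr0_123 : u0_123 ∈ reps0 := List.getElem_mem (l := reps0) (n := 123) (by decide)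
theorem mr0_124 : u0_124 ∈ reps0 := List.getElem_mem (l := reps0) (n := 124) (by decide)
theorem mr0_125 : u0_125 ∈ reps0 := List.getElem_mem (l := reps0) (n := 125) (by decide)
theorem mr0_126 : u0_126 ∈ reps0 := List.getElem_mem (l := reps0) (n := 126) (by decide)
theorem mr0_127 : u0_127 ∈ reps0 := List.getElem_mem (l := reps0) (n := 127) (by decide)
theorem mr0_128 : u0_128 ∈ reps0 := List.getElem_mem (l := reps0) (n := 128) (by decide)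
theorem mr0_129 : u0_129 ∈ reps0 := List.getElem_mem (l := reps0) (n := 129) (by decide)
theorem mr0_130 : u0_130 ∈ reps0 := List.getElem_mem (l := reps0) (n := 130) (by decide)
theorem mr0_131 : u0_131 ∈ reps0 := List.getElem_mem (l := reps0) (n := 131) (by decide)
theorem mr0_132 : u0_132 ∈ reps0 := List.getElem_mem (l := reps0) (n := 132) (by decide)
theorem mr0_133 : u0_133 ∈ reps0 := List.getElem_mem (l := reps0) (n := 133) (by decide)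
theorem mr0_134 : u0_134 ∈ reps0 := List.getElem_mem (l := reps0) (n := 134) (by decide)
theorem mr0_135 : u0_135 ∈ reps0 := List.getElem_mem (l := reps0) (n := 135) (by decide)
theorem mr0_136 : u0_136 ∈ reps0 := List.getElem_mem (l := reps0) (n := 136) (by decide)
theorem mr0_137 : u0_137 ∈ reps0 := List.getElem_mem (l := reps0) (n := 137) (by decide)
theorem mr0_138 : u0_138 ∈ reps0 := List.getElem_mem (l := reps0) (n := 138) (by decide)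
theorem mr0_139 : u0_139 ∈ reps0 := List.getElem_mem (l := reps0) (n := 139) (by decide)
theorem mr0_140 : u0_140 ∈ reps0 := List.getElem_mem (l := reps0) (n := 140) (by decide)
theorem mr0_141 : u0_141 ∈ reps0 := List.getElem_mem (l := reps0) (n := 141) (by decide)
theorem mr0_142 : u0_142 ∈ reps0 := List.getElem_mem (l := reps0) (n := 142) (by decide)
theorem mr0_143 : u0_143 ∈ reps0 := List.getElem_mem (l := reps0) (n := 143) (by decide)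
theorem mr0_144 : u0_144 ∈ reps0 := List.getElem_mem (l := reps0) (n := 144) (by decide)
theorem mr0_145 : u0_145 ∈ reps0 := List.getElem_mem (l := reps0) (n := 145) (by decide)
theorem mr0_146 : u0_146 ∈ reps0 := List.getElem_mem (l := reps0) (n := 146) (by decide)
theorem mr0_147 : u0_147 ∈ reps0 := List.getElem_mem (l := reps0) (n := 147) (by decide)
theorem mr0_148 : u0_148 ∈ reps0 := List.getElem_mem (l := reps0) (n := 148) (by decide)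
theorem mr0_149 : u0_149 ∈ reps0 := List.getElem_mem (l := reps0) (n := 149) (by decide)
theorem mr0_150 : u0_150 ∈ reps0 := List.getElem_mem (l := reps0) (n := 150) (by decide)
theorem mr0_151 : u0_151 ∈ reps0 := List.getElem_mem (l := reps0) (n := 151) (by decide)
theorem mr0_152 : u0_152 ∈ reps0 := List.getElem_mem (l := reps0) (n := 152) (by decide)
theorem mr0_153 : u0_153 ∈ reps0 := List.getElem_mem (l := reps0) (n := 153) (by decide)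
theorem mr0_154 : u0_154 ∈ reps0 := List.getElem_mem (l := reps0) (n := 154) (by decide)
theorem mr0_155 : u0_155 ∈ reps0 := List.getElem_mem (l := reps0) (n := 155) (by decide)
theorem mr0_156 : u0_156 ∈ reps0 := List.getElem_mem (l := reps0) (n := 156) (by decide)
theorem mr0_157 : u0_157 ∈ reps0 := List.getElem_mem (l := reps0) (n := 157) (by decide)
theorem mr0_158 : u0_158 ∈ reps0 := List.getElem_mem (l := reps0) (n := 158) (by decide)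
theorem mr0_159 : u0_159 ∈ reps0 := List.getElem_mem (l := reps0) (n := 159) (by decide)
theorem mr0_160 : u0_160 ∈ reps0 := List.getElem_mem (l := reps0) (n := 160) (by decide)
theorem mr0_161 : u0_161 ∈ reps0 := List.getElem_mem (l := reps0) (n := 161) (by decide)
theorem mr0_162 : u0_162 ∈ reps0 := List.getElem_mem (l := reps0) (n := 162) (by decide)
theorem mr0_163 : u0_163 ∈ reps0 := List.getElem_mem (l := reps0) (n := 163) (by decide)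
theorem mr0_164 : u0_164 ∈ reps0 := List.getElem_mem (l := reps0) (n := 164) (by decide)
theorem mr0_165 : u0_165 ∈ reps0 := List.getElem_mem (l := reps0) (n := 165) (by decide)
theorem mr0_166 : u0_166 ∈ reps0 := List.getElem_mem (l := reps0) (n := 166) (by decide)
theorem mr0_167 : u0_167 ∈ reps0 := List.getElem_mem (l := reps0) (n := 167) (by decide)
theorem mr0_168 : u0_168 ∈ reps0 := List.getElem_mem (l := reps0) (n := 168) (by decide)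
theorem mr0_169 : u0_169 ∈ reps0 := List.getElem_mem (l := reps0) (n := 169) (by decide)
theorem mr0_170 : u0_170 ∈ reps0 := List.getElem_mem (l := reps0) (n := 170) (by decide)
theorem mr0_171 : u0_171 ∈ reps0 := List.getElem_mem (l := reps0) (n := 171) (by decide)
theorem mr0_172 : u0_172 ∈ reps0 := List.getElem_mem (l := reps0) (n := 172) (by decide)
theorem mr0_173 : u0_173 ∈ reps0 := List.getElem_mem (l := reps0) (n := 173) (by decide)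
theorem mr0_174 : u0_174 ∈ reps0 := List.getElem_mem (l := reps0) (n := 174) (by decide)
theorem mr0_175 : u0_175 ∈ reps0 := List.getElem_mem (l := reps0) (n := 175) (by decide)
theorem mr0_176 : u0_176 ∈ reps0 := List.getElem_mem (l := reps0) (n := 176) (by decide)
theorem mr0_177 : u0_177 ∈ reps0 := List.getElem_mem (l := reps0) (n := 177) (by decide)
theorem mr0_178 : u0_178 ∈ reps0 := List.getElem_mem (l := reps0) (n := 178) (by decide)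
theorem mr0_179 : u0_179 ∈ reps0 := List.getElem_mem (l := reps0) (n := 179) (by decide)
theorem mr0_180 : u0_180 ∈ reps0 := List.getElem_mem (l := reps0) (n := 180) (by decide)
theorem mr0_181 : u0_181 ∈ reps0 := List.getElem_mem (l := reps0) (n := 181) (by decide)
theorem mr0_182 : u0_182 ∈ reps0 := List.getElem_mem (l := reps0) (n := 182) (by decide)
theorem mr0_183 : u0_183 ∈ reps0 := List.getElem_mem (l := reps0) (n := 183) (by decide)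
theorem mr0_184 : u0_184 ∈ reps0 := List.getElem_mem (l := reps0) (n := 184) (by decide)
theorem mr0_185 : u0_185 ∈ reps0 := List.getElem_mem (l := reps0) (n := 185) (by decide)
theorem mr0_186 : u0_186 ∈ reps0 := List.getElem_mem (l := reps0) (n := 186) (by decide)
theorem mr0_187 : u0_187 ∈ reps0 := List.getElem_mem (l := reps0) (n := 187) (by decide)
theorem mr0_188 : u0_188 ∈ reps0 := List.getElem_mem (l := reps0) (n := 188) (by decide)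
theorem mr0_189 : u0_189 ∈ reps0 := List.getElem_mem (l := reps0) (n := 189) (by decide)
theorem mr0_190 : u0_190 ∈ reps0 := List.getElem_mem (l := reps0) (n := 190) (by decide)
theorem mr0_191 : u0_191 ∈ reps0 := List.getElem_mem (l := reps0) (n := 191) (by decide)
theorem mr0_192 : u0_192 ∈ reps0 := List.getElem_mem (l := reps0) (n := 192) (by decide)
theorem mr0_193 : u0_193 ∈ reps0 := List.getElem_mem (l := reps0) (n := 193) (by decide)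
theorem mr0_194 : u0_194 ∈ reps0 := List.getElem_mem (l := reps0) (n := 194) (by decide)
theorem mr0_195 : u0_195 ∈ reps0 := List.getElem_mem (l := reps0) (n := 195) (by decide)
theorem mr0_196 : u0_196 ∈ reps0 := List.getElem_mem (l := reps0) (n := 196) (by decide)
theorem mr0_197 : u0_197 ∈ reps0 := List.getElem_mem (l := reps0) (n := 197) (by decide)
theorem mr0_198 : u0_198 ∈ reps0 := List.getElem_mem (l := reps0) (n := 198) (by decide)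
theorem mr0_199 : u0_199 ∈ reps0 := List.getElem_mem (l := reps0) (n := 199) (by decide)
theorem mr0_200 : u0_200 ∈ reps0 := List.getElem_mem (l := reps0) (n := 200) (by decide)
theorem mr0_201 : u0_201 ∈ reps0 := List.getElem_mem (l := reps0) (n := 201) (by decide)
theorem mr0_202 : u0_202 ∈ reps0 := List.getElem_mem (l := reps0) (n := 202) (by decide)
theorem mr0_203 : u0_203 ∈ reps0 := List.getElem_mem (l := reps0) (n := 203) (by decide)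
theorem mr0_204 : u0_204 ∈ reps0 := List.getElem_mem (l := reps0) (n := 204) (by decide)
theorem mr0_205 : u0_205 ∈ reps0 := List.getElem_mem (l := reps0) (n := 205) (by decide)
theorem mr0_206 : u0_206 ∈ reps0 := List.getElem_mem (l := reps0) (n := 206) (by decide)
theorem mr0_207 : u0_207 ∈ reps0 := List.getElem_mem (l := reps0) (n := 207) (by decide)
theorem mr0_208 : u0_208 ∈ reps0 := List.getElem_mem (l := reps0) (n := 208) (by decide)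
theorem mr0_209 : u0_209 ∈ reps0 := List.getElem_mem (l := reps0) (n := 209) (by decide)
theorem mr0_210 : u0_210 ∈ reps0 := List.getElem_mem (l := reps0) (n := 210) (by decide)
theorem mr0_211 : u0_211 ∈ reps0 := List.getElem_mem (l := reps0) (n := 211) (by decide)
theorem mr0_212 : u0_212 ∈ reps0 := List.getElem_mem (l := reps0) (n := 212) (by decide)
theorem mr0_213 : u0_213 ∈ reps0 := List.getElem_mem (l := reps0) (n := 213) (by decide)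
theorem mr0_214 : u0_214 ∈ reps0 := List.getElem_mem (l := reps0) (n := 214) (by decide)
theorem mr0_215 : u0_215 ∈ reps0 := List.getElem_mem (l := reps0) (n := 215) (by decide)
theorem mr0_216 : u0_216 ∈ reps0 := List.getElem_mem (l := reps0) (n := 216) (by decide)
theorem mr0_217 : u0_217 ∈ reps0 := List.getElem_mem (l := reps0) (n := 217) (by decide)
theorem mr0_218 : u0_218 ∈ reps0 := List.getElem_mem (l := reps0) (n := 218) (by decide)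
theorem mr0_219 : u0_219 ∈ reps0 := List.getElem_mem (l := reps0) (n := 219) (by decide)
theorem mr0_220 : u0_220 ∈ reps0 := List.getElem_mem (l := reps0) (n := 220) (by decide)
theorem mr0_221 : u0_221 ∈ reps0 := List.getElem_mem (l := reps0) (n := 221) (by decide)
theorem mr0_222 : u0_222 ∈ reps0 := List.getElem_mem (l := reps0) (n := 222) (by decide)
theorem mr0_223 : u0_223 ∈ reps0 := List.getElem_mem (l := reps0) (n := 223) (by decide)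
theorem mr0_224 : u0_224 ∈ reps0 := List.getElem_mem (l := reps0) (n := 224) (by decide)
theorem mr0_225 : u0_225 ∈ reps0 := List.getElem_mem (l := reps0) (n := 225) (by decide)
theorem mr0_226 : u0_226 ∈ reps0 := List.getElem_mem (l := reps0) (n := 226) (by decide)
theorem mr0_227 : u0_227 ∈ reps0 := List.getElem_mem (l := reps0) (n := 227) (by decide)
theorem mr0_228 : u0_228 ∈ reps0 := List.getElem_mem (l := reps0) (n := 228) (by decide)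
theorem mr0_229 : u0_229 ∈ reps0 := List.getElem_mem (l := reps0) (n := 229) (by decide)
theorem mr0_230 : u0_230 ∈ reps0 := List.getElem_mem (l := reps0) (n := 230) (by decide)
theorem mr0_231 : u0_231 ∈ reps0 := List.getElem_mem (l := reps0) (n := 231) (by decide)
theorem mr0_232 : u0_232 ∈ reps0 := List.getElem_mem (l := reps0) (n := 232) (by decide)
theorem mr0_233 : u0_233 ∈ reps0 := List.getElem_mem (l := reps0) (n := 233) (by decide)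
theorem mr0_234 : u0_234 ∈ reps0 := List.getElem_mem (l := reps0) (n := 234) (by decide)
theorem mr0_235 : u0_235 ∈ reps0 := List.getElem_mem (l := reps0) (n := 235) (by decide)
theorem mr0_236 : u0_236 ∈ reps0 := List.getElem_mem (l := reps0) (n := 236) (by decide)
theorem mr0_237 : u0_237 ∈ reps0 := List.getElem_mem (l := reps0) (n := 237) (by decide)
theorem mr0_238 : u0_238 ∈ reps0 := List.getElem_mem (l := reps0) (n := 238) (by decide)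
theorem mr0_239 : u0_239 ∈ reps0 := List.getElem_mem (l := reps0) (n := 239) (by decide)
theorem mm0_0 : u0_0 ∈ Subgroup.closure (gens M J0) := one_mem _
theorem mm0_1 : u0_1 ∈ Subgroup.closure (gens M J0) := mul_mem mm0_0 (Subgroup.subset_closure ⟨7, by decide, rfl⟩)
theorem mm0_2 : u0_2 ∈ Subgroup.closure (gens M J0) := mul_mem mm0_1 (Subgroup.subset_closure ⟨6, by decide, rfl⟩)
theorem mm0_3 : u0_3 ∈ Subgroup.closure (gens M J0) := mul_mem mm0_2 (Subgroup.subset_closure ⟨5, by decide, rfl⟩)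
theorem mm0_4 : u0_4 ∈ Subgroup.closure (gens M J0) := mul_mem mm0_3 (Subgroup.subset_closure ⟨4, by decide, rfl⟩)
theorem mm0_5 : u0_5 ∈ Subgroup.closure (gens M J0) := mul_mem mm0_4 (Subgroup.subset_closure ⟨3, by decide, rfl⟩)
theorem mm0_6 : u0_6 ∈ Subgroup.closure (gens M J0) := mul_mem mm0_5 (Subgroup.subset_closure ⟨1, by decide, rfl⟩)
theorem mm0_7 : u0_7 ∈ Subgroup.closure (gens M J0) := mul_mem mm0_5 (Subgroup.subset_closure ⟨2, by decide, rfl⟩)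
theorem mm0_8 : u0_8 ∈ Subgroup.closure (gens M J0) := mul_mem mm0_6 (Subgroup.subset_closure ⟨2, by decide, rfl⟩)
theorem mm0_9 : u0_9 ∈ Subgroup.closure (gens M J0) := mul_mem mm0_7 (Subgroup.subset_closure ⟨0, by decide, rfl⟩)
theorem mm0_10 : u0_10 ∈ Subgroup.closure (gens M J0) := mul_mem mm0_8 (Subgroup.subset_closure ⟨0, by decide, rfl⟩)
theorem mm0_11 : u0_11 ∈ Subgroup.closure (gens M J0) := mul_mem mm0_8 (Subgroup.subset_closure ⟨3, by decide, rfl⟩)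
theorem mm0_12 : u0_12 ∈ Subgroup.closure (gens M J0) := mul_mem mm0_10 (Subgroup.subset_closure ⟨3, by decide, rfl⟩)
theorem mm0_13 : u0_13 ∈ Subgroup.closure (gens M J0) := mul_mem mm0_11 (Subgroup.subset_closure ⟨4, by decide, rfl⟩)
theorem mm0_14 : u0_14 ∈ Subgroup.closure (gens M J0) := mul_mem mm0_12 (Subgroup.subset_closure ⟨2, by decide, rfl⟩)
theorem mm0_15 : u0_15 ∈ Subgroup.closure (gens M J0) := mul_mem mm0_12 (Subgroup.subset_closure ⟨4, by decide, rfl⟩)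
theorem mm0_16 : u0_16 ∈ Subgroup.closure (gens M J0) := mul_mem mm0_13 (Subgroup.subset_closure ⟨5, by decide, rfl⟩)
theorem mm0_17 : u0_17 ∈ Subgroup.closure (gens M J0) := mul_mem mm0_14 (Subgroup.subset_closure ⟨4, by decide, rfl⟩)
theorem mm0_18 : u0_18 ∈ Subgroup.closure (gens M J0) := mul_mem mm0_15 (Subgroup.subset_closure ⟨5, by decide, rfl⟩)
theorem mm0_19 : u0_19 ∈ Subgroup.closure (gens M J0) := mul_mem mm0_16 (Subgroup.subset_closure ⟨6, by decide, rfl⟩)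
theorem mm0_20 : u0_20 ∈ Subgroup.closure (gens M J0) := mul_mem mm0_17 (Subgroup.subset_closure ⟨3, by decide, rfl⟩)
theorem mm0_21 : u0_21 ∈ Subgroup.closure (gens M J0) := mul_mem mm0_17 (Subgroup.subset_closure ⟨5, by decide, rfl⟩)
theorem mm0_22 : u0_22 ∈ Subgroup.closure (gens M J0) := mul_mem mm0_18 (Subgroup.subset_closure ⟨6, by decide, rfl⟩)
theorem mm0_23 : u0_23 ∈ Subgroup.closure (gens M J0) := mul_mem mm0_19 (Subgroup.subset_closure ⟨7, by decide, rfl⟩)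
theorem mm0_24 : u0_24 ∈ Subgroup.closure (gens M J0) := mul_mem mm0_20 (Subgroup.subset_closure ⟨1, by decide, rfl⟩)
theorem mm0_25 : u0_25 ∈ Subgroup.closure (gens M J0) := mul_mem mm0_20 (Subgroup.subset_closure ⟨5, by decide, rfl⟩)
theorem mm0_26 : u0_26 ∈ Subgroup.closure (gens M J0) := mul_mem mm0_21 (Subgroup.subset_closure ⟨6, by decide, rfl⟩)
theorem mm0_27 : u0_27 ∈ Subgroup.closure (gens M J0) := mul_mem mm0_22 (Subgroup.subset_closure ⟨7, by decide, rfl⟩)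
theorem mm0_28 : u0_28 ∈ Subgroup.closure (gens M J0) := mul_mem mm0_24 (Subgroup.subset_closure ⟨5, by decide, rfl⟩)
theorem mm0_29 : u0_29 ∈ Subgroup.closure (gens M J0) := mul_mem mm0_25 (Subgroup.subset_closure ⟨4, by decide, rfl⟩)
theorem mm0_30 : u0_30 ∈ Subgroup.closure (gens M J0) := mul_mem mm0_25 (Subgroup.subset_closure ⟨6, by decide, rfl⟩)
theorem mm0_31 : u0_31 ∈ Subgroup.closure (gens M J0) := mul_mem mm0_26 (Subgroup.subset_closure ⟨7, by decide, rfl⟩)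
theorem mm0_32 : u0_32 ∈ Subgroup.closure (gens M J0) := mul_mem mm0_28 (Subgroup.subset_closure ⟨4, by decide, rfl⟩)
theorem mm0_33 : u0_33 ∈ Subgroup.closure (gens M J0) := mul_mem mm0_28 (Subgroup.subset_closure ⟨6, by decide, rfl⟩)
theorem mm0_34 : u0_34 ∈ Subgroup.closure (gens M J0) := mul_mem mm0_29 (Subgroup.subset_closure ⟨6, by decide, rfl⟩)
theorem mm0_35 : u0_35 ∈ Subgroup.closure (gens M J0) := mul_mem mm0_30 (Subgroup.subset_closure ⟨7, by decide, rfl⟩)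
theorem mm0_36 : u0_36 ∈ Subgroup.closure (gens M J0) := mul_mem mm0_32 (Subgroup.subset_closure ⟨3, by decide, rfl⟩)
theorem mm0_37 : u0_37 ∈ Subgroup.closure (gens M J0) := mul_mem mm0_32 (Subgroup.subset_closure ⟨6, by decide, rfl⟩)
theorem mm0_38 : u0_38 ∈ Subgroup.closure (gens M J0) := mul_mem mm0_33 (Subgroup.subset_closure ⟨7, by decide, rfl⟩)
theorem mm0_39 : u0_39 ∈ Subgroup.closure (gens M J0) := mul_mem mm0_34 (Subgroup.subset_closure ⟨5, by decide, rfl⟩)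
theorem mm0_40 : u0_40 ∈ Subgroup.closure (gens M J0) := mul_mem mm0_34 (Subgroup.subset_closure ⟨7, by decide, rfl⟩)
theorem mm0_41 : u0_41 ∈ Subgroup.closure (gens M J0) := mul_mem mm0_36 (Subgroup.subset_closure ⟨2, by decide, rfl⟩)
theorem mm0_42 : u0_42 ∈ Subgroup.closure (gens M J0) := mul_mem mm0_36 (Subgroup.subset_closure ⟨6, by decide, rfl⟩)
theorem mm0_43 : u0_43 ∈ Subgroup.closure (gens M J0) := mul_mem mm0_37 (Subgroup.subset_closure ⟨5, by decide, rfl⟩)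
theorem mm0_44 : u0_44 ∈ Subgroup.closure (gens M J0) := mul_mem mm0_37 (Subgroup.subset_closure ⟨7, by decide, rfl⟩)
theorem mm0_45 : u0_45 ∈ Subgroup.closure (gens M J0) := mul_mem mm0_39 (Subgroup.subset_closure ⟨7, by decide, rfl⟩)
theorem mm0_46 : u0_46 ∈ Subgroup.closure (gens M J0) := mul_mem mm0_41 (Subgroup.subset_closure ⟨0, by decide, rfl⟩)
theorem mm0_47 : u0_47 ∈ Subgroup.closure (gens M J0) := mul_mem mm0_41 (Subgroup.subset_closure ⟨6, by decide, rfl⟩)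
theorem mm0_48 : u0_48 ∈ Subgroup.closure (gens M J0) := mul_mem mm0_42 (Subgroup.subset_closure ⟨5, by decide, rfl⟩)
theorem mm0_49 : u0_49 ∈ Subgroup.closure (gens M J0) := mul_mem mm0_42 (Subgroup.subset_closure ⟨7, by decide, rfl⟩)
theorem mm0_50 : u0_50 ∈ Subgroup.closure (gens M J0) := mul_mem mm0_43 (Subgroup.subset_closure ⟨7, by decide, rfl⟩)
theorem mm0_51 : u0_51 ∈ Subgroup.closure (gens M J0) := mul_mem mm0_45 (Subgroup.subset_closure ⟨6, by decide, rfl⟩)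
theorem mm0_52 : u0_52 ∈ Subgroup.closure (gens M J0) := mul_mem mm0_46 (Subgroup.subset_closure ⟨6, by decide, rfl⟩)
theorem mm0_53 : u0_53 ∈ Subgroup.closure (gens M J0) := mul_mem mm0_47 (Subgroup.subset_closure ⟨5, by decide, rfl⟩)
theorem mm0_54 : u0_54 ∈ Subgroup.closure (gens M J0) := mul_mem mm0_47 (Subgroup.subset_closure ⟨7, by decide, rfl⟩)
theorem mm0_55 : u0_55 ∈ Subgroup.closure (gens M J0) := mul_mem mm0_48 (Subgroup.subset_closure ⟨4, by decide, rfl⟩)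
theorem mm0_56 : u0_56 ∈ Subgroup.closure (gens M J0) := mul_mem mm0_48 (Subgroup.subset_closure ⟨7, by decide, rfl⟩)
theorem mm0_57 : u0_57 ∈ Subgroup.closure (gens M J0) := mul_mem mm0_50 (Subgroup.subset_closure ⟨6, by decide, rfl⟩)
theorem mm0_58 : u0_58 ∈ Subgroup.closure (gens M J0) := mul_mem mm0_52 (Subgroup.subset_closure ⟨5, by decide, rfl⟩)
theorem mm0_59 : u0_59 ∈ Subgroup.closure (gens M J0) := mul_mem mm0_52 (Subgroup.subset_closure ⟨7, by decide, rfl⟩)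
theorem mm0_60 : u0_60 ∈ Subgroup.closure (gens M J0) := mul_mem mm0_53 (Subgroup.subset_closure ⟨4, by decide, rfl⟩)
theorem mm0_61 : u0_61 ∈ Subgroup.closure (gens M J0) := mul_mem mm0_53 (Subgroup.subset_closure ⟨7, by decide, rfl⟩)
theorem mm0_62 : u0_62 ∈ Subgroup.closure (gens M J0) := mul_mem mm0_55 (Subgroup.subset_closure ⟨7, by decide, rfl⟩)
theorem mm0_63 : u0_63 ∈ Subgroup.closure (gens M J0) := mul_mem mm0_56 (Subgroup.subset_closure ⟨6, by decide, rfl⟩)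
theorem mm0_64 : u0_64 ∈ Subgroup.closure (gens M J0) := mul_mem mm0_58 (Subgroup.subset_closure ⟨4, by decide, rfl⟩)
theorem mm0_65 : u0_65 ∈ Subgroup.closure (gens M J0) := mul_mem mm0_58 (Subgroup.subset_closure ⟨7, by decide, rfl⟩)
theorem mm0_66 : u0_66 ∈ Subgroup.closure (gens M J0) := mul_mem mm0_60 (Subgroup.subset_closure ⟨3, by decide, rfl⟩)
theorem mm0_67 : u0_67 ∈ Subgroup.closure (gens M J0) := mul_mem mm0_60 (Subgroup.subset_closure ⟨7, by decide, rfl⟩)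
theorem mm0_68 : u0_68 ∈ Subgroup.closure (gens M J0) := mul_mem mm0_61 (Subgroup.subset_closure ⟨6, by decide, rfl⟩)
theorem mm0_69 : u0_69 ∈ Subgroup.closure (gens M J0) := mul_mem mm0_62 (Subgroup.subset_closure ⟨6, by decide, rfl⟩)
theorem mm0_70 : u0_70 ∈ Subgroup.closure (gens M J0) := mul_mem mm0_64 (Subgroup.subset_closure ⟨3, by decide, rfl⟩)
theorem mm0_71 : u0_71 ∈ Subgroup.closure (gens M J0) := mul_mem mm0_64 (Subgroup.subset_closure ⟨7, by decide, rfl⟩)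
theorem mm0_72 : u0_72 ∈ Subgroup.closure (gens M J0) := mul_mem mm0_65 (Subgroup.subset_closure ⟨6, by decide, rfl⟩)
theorem mm0_73 : u0_73 ∈ Subgroup.closure (gens M J0) := mul_mem mm0_66 (Subgroup.subset_closure ⟨1, by decide, rfl⟩)
theorem mm0_74 : u0_74 ∈ Subgroup.closure (gens M J0) := mul_mem mm0_66 (Subgroup.subset_closure ⟨7, by decide, rfl⟩)
theorem mm0_75 : u0_75 ∈ Subgroup.closure (gens M J0) := mul_mem mm0_67 (Subgroup.subset_closure ⟨6, by decide, rfl⟩)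
theorem mm0_76 : u0_76 ∈ Subgroup.closure (gens M J0) := mul_mem mm0_69 (Subgroup.subset_closure ⟨5, by decide, rfl⟩)
theorem mm0_77 : u0_77 ∈ Subgroup.closure (gens M J0) := mul_mem mm0_70 (Subgroup.subset_closure ⟨1, by decide, rfl⟩)
theorem mm0_78 : u0_78 ∈ Subgroup.closure (gens M J0) := mul_mem mm0_70 (Subgroup.subset_closure ⟨2, by decide, rfl⟩)
theorem mm0_79 : u0_79 ∈ Subgroup.closure (gens M J0) := mul_mem mm0_70 (Subgroup.subset_closure ⟨7, by decide, rfl⟩)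
theorem mm0_80 : u0_80 ∈ Subgroup.closure (gens M J0) := mul_mem mm0_71 (Subgroup.subset_closure ⟨6, by decide, rfl⟩)
theorem mm0_81 : u0_81 ∈ Subgroup.closure (gens M J0) := mul_mem mm0_73 (Subgroup.subset_closure ⟨7, by decide, rfl⟩)
theorem mm0_82 : u0_82 ∈ Subgroup.closure (gens M J0) := mul_mem mm0_74 (Subgroup.subset_closure ⟨6, by decide, rfl⟩)
theorem mm0_83 : u0_83 ∈ Subgroup.closure (gens M J0) := mul_mem mm0_75 (Subgroup.subset_closure ⟨5, by decide, rfl⟩)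
theorem mm0_84 : u0_84 ∈ Subgroup.closure (gens M J0) := mul_mem mm0_77 (Subgroup.subset_closure ⟨2, by decide, rfl⟩)
theorem mm0_85 : u0_85 ∈ Subgroup.closure (gens M J0) := mul_mem mm0_77 (Subgroup.subset_closure ⟨7, by decide, rfl⟩)
theorem mm0_86 : u0_86 ∈ Subgroup.closure (gens M J0) := mul_mem mm0_78 (Subgroup.subset_closure ⟨7, by decide, rfl⟩)
theorem mm0_87 : u0_87 ∈ Subgroup.closure (gens M J0) := mul_mem mm0_79 (Subgroup.subset_closure ⟨6, by decide, rfl⟩)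
theorem mm0_88 : u0_88 ∈ Subgroup.closure (gens M J0) := mul_mem mm0_80 (Subgroup.subset_closure ⟨5, by decide, rfl⟩)
theorem mm0_89 : u0_89 ∈ Subgroup.closure (gens M J0) := mul_mem mm0_81 (Subgroup.subset_closure ⟨6, by decide, rfl⟩)
theorem mm0_90 : u0_90 ∈ Subgroup.closure (gens M J0) := mul_mem mm0_82 (Subgroup.subset_closure ⟨5, by decide, rfl⟩)
theorem mm0_91 : u0_91 ∈ Subgroup.closure (gens M J0) := mul_mem mm0_84 (Subgroup.subset_closure ⟨3, by decide, rfl⟩)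
theorem mm0_92 : u0_92 ∈ Subgroup.closure (gens M J0) := mul_mem mm0_84 (Subgroup.subset_closure ⟨7, by decide, rfl⟩)
theorem mm0_93 : u0_93 ∈ Subgroup.closure (gens M J0) := mul_mem mm0_85 (Subgroup.subset_closure ⟨6, by decide, rfl⟩)
theorem mm0_94 : u0_94 ∈ Subgroup.closure (gens M J0) := mul_mem mm0_86 (Subgroup.subset_closure ⟨6, by decide, rfl⟩)
theorem mm0_95 : u0_95 ∈ Subgroup.closure (gens M J0) := mul_mem mm0_87 (Subgroup.subset_closure ⟨5, by decide, rfl⟩)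
theorem mm0_96 : u0_96 ∈ Subgroup.closure (gens M J0) := mul_mem mm0_89 (Subgroup.subset_closure ⟨5, by decide, rfl⟩)
theorem mm0_97 : u0_97 ∈ Subgroup.closure (gens M J0) := mul_mem mm0_90 (Subgroup.subset_closure ⟨4, by decide, rfl⟩)
theorem mm0_98 : u0_98 ∈ Subgroup.closure (gens M J0) := mul_mem mm0_91 (Subgroup.subset_closure ⟨4, by decide, rfl⟩)
theorem mm0_99 : u0_99 ∈ Subgroup.closure (gens M J0) := mul_mem mm0_91 (Subgroup.subset_closure ⟨7, by decide, rfl⟩)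
theorem mm0_100 : u0_100 ∈ Subgroup.closure (gens M J0) := mul_mem mm0_92 (Subgroup.subset_closure ⟨6, by decide, rfl⟩)
theorem mm0_101 : u0_101 ∈ Subgroup.closure (gens M J0) := mul_mem mm0_93 (Subgroup.subset_closure ⟨5, by decide, rfl⟩)
theorem mm0_102 : u0_102 ∈ Subgroup.closure (gens M J0) := mul_mem mm0_94 (Subgroup.subset_closure ⟨5, by decide, rfl⟩)
theorem mm0_103 : u0_103 ∈ Subgroup.closure (gens M J0) := mul_mem mm0_95 (Subgroup.subset_closure ⟨4, by decide, rfl⟩)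
theorem mm0_104 : u0_104 ∈ Subgroup.closure (gens M J0) := mul_mem mm0_96 (Subgroup.subset_closure ⟨4, by decide, rfl⟩)
theorem mm0_105 : u0_105 ∈ Subgroup.closure (gens M J0) := mul_mem mm0_98 (Subgroup.subset_closure ⟨5, by decide, rfl⟩)
theorem mm0_106 : u0_106 ∈ Subgroup.closure (gens M J0) := mul_mem mm0_98 (Subgroup.subset_closure ⟨7, by decide, rfl⟩)
theorem mm0_107 : u0_107 ∈ Subgroup.closure (gens M J0) := mul_mem mm0_99 (Subgroup.subset_closure ⟨6, by decide, rfl⟩)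
theorem mm0_108 : u0_108 ∈ Subgroup.closure (gens M J0) := mul_mem mm0_100 (Subgroup.subset_closure ⟨5, by decide, rfl⟩)
theorem mm0_109 : u0_109 ∈ Subgroup.closure (gens M J0) := mul_mem mm0_101 (Subgroup.subset_closure ⟨4, by decide, rfl⟩)
theorem mm0_110 : u0_110 ∈ Subgroup.closure (gens M J0) := mul_mem mm0_102 (Subgroup.subset_closure ⟨4, by decide, rfl⟩)
theorem mm0_111 : u0_111 ∈ Subgroup.closure (gens M J0) := mul_mem mm0_104 (Subgroup.subset_closure ⟨3, by decide, rfl⟩)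
theorem mm0_112 : u0_112 ∈ Subgroup.closure (gens M J0) := mul_mem mm0_105 (Subgroup.subset_closure ⟨6, by decide, rfl⟩)
theorem mm0_113 : u0_113 ∈ Subgroup.closure (gens M J0) := mul_mem mm0_105 (Subgroup.subset_closure ⟨7, by decide, rfl⟩)
theorem mm0_114 : u0_114 ∈ Subgroup.closure (gens M J0) := mul_mem mm0_106 (Subgroup.subset_closure ⟨6, by decide, rfl⟩)
theorem mm0_115 : u0_115 ∈ Subgroup.closure (gens M J0) := mul_mem mm0_107 (Subgroup.subset_closure ⟨5, by decide, rfl⟩)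
theorem mm0_116 : u0_116 ∈ Subgroup.closure (gens M J0) := mul_mem mm0_108 (Subgroup.subset_closure ⟨4, by decide, rfl⟩)
theorem mm0_117 : u0_117 ∈ Subgroup.closure (gens M J0) := mul_mem mm0_109 (Subgroup.subset_closure ⟨3, by decide, rfl⟩)
theorem mm0_118 : u0_118 ∈ Subgroup.closure (gens M J0) := mul_mem mm0_110 (Subgroup.subset_closure ⟨3, by decide, rfl⟩)
theorem mm0_119 : u0_119 ∈ Subgroup.closure (gens M J0) := mul_mem mm0_111 (Subgroup.subset_closure ⟨2, by decide, rfl⟩)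
theorem mm0_120 : u0_120 ∈ Subgroup.closure (gens M J0) := mul_mem mm0_112 (Subgroup.subset_closure ⟨7, by decide, rfl⟩)
theorem mm0_121 : u0_121 ∈ Subgroup.closure (gens M J0) := mul_mem mm0_113 (Subgroup.subset_closure ⟨6, by decide, rfl⟩)
theorem mm0_122 : u0_122 ∈ Subgroup.closure (gens M J0) := mul_mem mm0_114 (Subgroup.subset_closure ⟨5, by decide, rfl⟩)
theorem mm0_123 : u0_123 ∈ Subgroup.closure (gens M J0) := mul_mem mm0_115 (Subgroup.subset_closure ⟨4, by decide, rfl⟩)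
theorem mm0_124 : u0_124 ∈ Subgroup.closure (gens M J0) := mul_mem mm0_116 (Subgroup.subset_closure ⟨3, by decide, rfl⟩)
theorem mm0_125 : u0_125 ∈ Subgroup.closure (gens M J0) := mul_mem mm0_117 (Subgroup.subset_closure ⟨2, by decide, rfl⟩)
theorem mm0_126 : u0_126 ∈ Subgroup.closure (gens M J0) := mul_mem mm0_118 (Subgroup.subset_closure ⟨1, by decide, rfl⟩)
theorem mm0_127 : u0_127 ∈ Subgroup.closure (gens M J0) := mul_mem mm0_119 (Subgroup.subset_closure ⟨0, by decide, rfl⟩)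
theorem mm0_128 : u0_128 ∈ Subgroup.closure (gens M J0) := mul_mem mm0_120 (Subgroup.subset_closure ⟨6, by decide, rfl⟩)
theorem mm0_129 : u0_129 ∈ Subgroup.closure (gens M J0) := mul_mem mm0_121 (Subgroup.subset_closure ⟨5, by decide, rfl⟩)
theorem mm0_130 : u0_130 ∈ Subgroup.closure (gens M J0) := mul_mem mm0_122 (Subgroup.subset_closure ⟨4, by decide, rfl⟩)
theorem mm0_131 : u0_131 ∈ Subgroup.closure (gens M J0) := mul_mem mm0_123 (Subgroup.subset_closure ⟨3, by decide, rfl⟩)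
theorem mm0_132 : u0_132 ∈ Subgroup.closure (gens M J0) := mul_mem mm0_124 (Subgroup.subset_closure ⟨1, by decide, rfl⟩)
theorem mm0_133 : u0_133 ∈ Subgroup.closure (gens M J0) := mul_mem mm0_124 (Subgroup.subset_closure ⟨2, by decide, rfl⟩)
theorem mm0_134 : u0_134 ∈ Subgroup.closure (gens M J0) := mul_mem mm0_125 (Subgroup.subset_closure ⟨0, by decide, rfl⟩)
theorem mm0_135 : u0_135 ∈ Subgroup.closure (gens M J0) := mul_mem mm0_128 (Subgroup.subset_closure ⟨5, by decide, rfl⟩)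
theorem mm0_136 : u0_136 ∈ Subgroup.closure (gens M J0) := mul_mem mm0_129 (Subgroup.subset_closure ⟨4, by decide, rfl⟩)
theorem mm0_137 : u0_137 ∈ Subgroup.closure (gens M J0) := mul_mem mm0_130 (Subgroup.subset_closure ⟨3, by decide, rfl⟩)
theorem mm0_138 : u0_138 ∈ Subgroup.closure (gens M J0) := mul_mem mm0_131 (Subgroup.subset_closure ⟨1, by decide, rfl⟩)
theorem mm0_139 : u0_139 ∈ Subgroup.closure (gens M J0) := mul_mem mm0_131 (Subgroup.subset_closure ⟨2, by decide, rfl⟩)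
theorem mm0_140 : u0_140 ∈ Subgroup.closure (gens M J0) := mul_mem mm0_132 (Subgroup.subset_closure ⟨2, by decide, rfl⟩)
theorem mm0_141 : u0_141 ∈ Subgroup.closure (gens M J0) := mul_mem mm0_133 (Subgroup.subset_closure ⟨0, by decide, rfl⟩)
theorem mm0_142 : u0_142 ∈ Subgroup.closure (gens M J0) := mul_mem mm0_135 (Subgroup.subset_closure ⟨4, by decide, rfl⟩)
theorem mm0_143 : u0_143 ∈ Subgroup.closure (gens M J0) := mul_mem mm0_136 (Subgroup.subset_closure ⟨3, by decide, rfl⟩)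
theorem mm0_144 : u0_144 ∈ Subgroup.closure (gens M J0) := mul_mem mm0_137 (Subgroup.subset_closure ⟨1, by decide, rfl⟩)
theorem mm0_145 : u0_145 ∈ Subgroup.closure (gens M J0) := mul_mem mm0_137 (Subgroup.subset_closure ⟨2, by decide, rfl⟩)
theorem mm0_146 : u0_146 ∈ Subgroup.closure (gens M J0) := mul_mem mm0_138 (Subgroup.subset_closure ⟨2, by decide, rfl⟩)
theorem mm0_147 : u0_147 ∈ Subgroup.closure (gens M J0) := mul_mem mm0_139 (Subgroup.subset_closure ⟨0, by decide, rfl⟩)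
theorem mm0_148 : u0_148 ∈ Subgroup.closure (gens M J0) := mul_mem mm0_140 (Subgroup.subset_closure ⟨0, by decide, rfl⟩)
theorem mm0_149 : u0_149 ∈ Subgroup.closure (gens M J0) := mul_mem mm0_142 (Subgroup.subset_closure ⟨3, by decide, rfl⟩)
theorem mm0_150 : u0_150 ∈ Subgroup.closure (gens M J0) := mul_mem mm0_143 (Subgroup.subset_closure ⟨1, by decide, rfl⟩)
theorem mm0_151 : u0_151 ∈ Subgroup.closure (gens M J0) := mul_mem mm0_143 (Subgroup.subset_closure ⟨2, by decide, rfl⟩)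
theorem mm0_152 : u0_152 ∈ Subgroup.closure (gens M J0) := mul_mem mm0_144 (Subgroup.subset_closure ⟨2, by decide, rfl⟩)
theorem mm0_153 : u0_153 ∈ Subgroup.closure (gens M J0) := mul_mem mm0_145 (Subgroup.subset_closure ⟨0, by decide, rfl⟩)
theorem mm0_154 : u0_154 ∈ Subgroup.closure (gens M J0) := mul_mem mm0_146 (Subgroup.subset_closure ⟨0, by decide, rfl⟩)
theorem mm0_155 : u0_155 ∈ Subgroup.closure (gens M J0) := mul_mem mm0_146 (Subgroup.subset_closure ⟨3, by decide, rfl⟩)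
theorem mm0_156 : u0_156 ∈ Subgroup.closure (gens M J0) := mul_mem mm0_149 (Subgroup.subset_closure ⟨1, by decide, rfl⟩)
theorem mm0_157 : u0_157 ∈ Subgroup.closure (gens M J0) := mul_mem mm0_149 (Subgroup.subset_closure ⟨2, by decide, rfl⟩)
theorem mm0_158 : u0_158 ∈ Subgroup.closure (gens M J0) := mul_mem mm0_150 (Subgroup.subset_closure ⟨2, by decide, rfl⟩)
theorem mm0_159 : u0_159 ∈ Subgroup.closure (gens M J0) := mul_mem mm0_151 (Subgroup.subset_closure ⟨0, by decide, rfl⟩)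
theorem mm0_160 : u0_160 ∈ Subgroup.closure (gens M J0) := mul_mem mm0_152 (Subgroup.subset_closure ⟨0, by decide, rfl⟩)
theorem mm0_161 : u0_161 ∈ Subgroup.closure (gens M J0) := mul_mem mm0_152 (Subgroup.subset_closure ⟨3, by decide, rfl⟩)
theorem mm0_162 : u0_162 ∈ Subgroup.closure (gens M J0) := mul_mem mm0_154 (Subgroup.subset_closure ⟨3, by decide, rfl⟩)
theorem mm0_163 : u0_163 ∈ Subgroup.closure (gens M J0) := mul_mem mm0_156 (Subgroup.subset_closure ⟨2, by decide, rfl⟩)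
theorem mm0_164 : u0_164 ∈ Subgroup.closure (gens M J0) := mul_mem mm0_157 (Subgroup.subset_closure ⟨0, by decide, rfl⟩)
theorem mm0_165 : u0_165 ∈ Subgroup.closure (gens M J0) := mul_mem mm0_158 (Subgroup.subset_closure ⟨0, by decide, rfl⟩)
theorem mm0_166 : u0_166 ∈ Subgroup.closure (gens M J0) := mul_mem mm0_158 (Subgroup.subset_closure ⟨3, by decide, rfl⟩)
theorem mm0_167 : u0_167 ∈ Subgroup.closure (gens M J0) := mul_mem mm0_160 (Subgroup.subset_closure ⟨3, by decide, rfl⟩)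
theorem mm0_168 : u0_168 ∈ Subgroup.closure (gens M J0) := mul_mem mm0_161 (Subgroup.subset_closure ⟨4, by decide, rfl⟩)
theorem mm0_169 : u0_169 ∈ Subgroup.closure (gens M J0) := mul_mem mm0_162 (Subgroup.subset_closure ⟨2, by decide, rfl⟩)
theorem mm0_170 : u0_170 ∈ Subgroup.closure (gens M J0) := mul_mem mm0_163 (Subgroup.subset_closure ⟨0, by decide, rfl⟩)
theorem mm0_171 : u0_171 ∈ Subgroup.closure (gens M J0) := mul_mem mm0_163 (Subgroup.subset_closure ⟨3, by decide, rfl⟩)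
theorem mm0_172 : u0_172 ∈ Subgroup.closure (gens M J0) := mul_mem mm0_165 (Subgroup.subset_closure ⟨3, by decide, rfl⟩)
theorem mm0_173 : u0_173 ∈ Subgroup.closure (gens M J0) := mul_mem mm0_166 (Subgroup.subset_closure ⟨4, by decide, rfl⟩)
theorem mm0_174 : u0_174 ∈ Subgroup.closure (gens M J0) := mul_mem mm0_167 (Subgroup.subset_closure ⟨2, by decide, rfl⟩)
theorem mm0_175 : u0_175 ∈ Subgroup.closure (gens M J0) := mul_mem mm0_167 (Subgroup.subset_closure ⟨4, by decide, rfl⟩)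
theorem mm0_176 : u0_176 ∈ Subgroup.closure (gens M J0) := mul_mem mm0_170 (Subgroup.subset_closure ⟨3, by decide, rfl⟩)
theorem mm0_177 : u0_177 ∈ Subgroup.closure (gens M J0) := mul_mem mm0_171 (Subgroup.subset_closure ⟨4, by decide, rfl⟩)
theorem mm0_178 : u0_178 ∈ Subgroup.closure (gens M J0) := mul_mem mm0_172 (Subgroup.subset_closure ⟨2, by decide, rfl⟩)
theorem mm0_179 : u0_179 ∈ Subgroup.closure (gens M J0) := mul_mem mm0_172 (Subgroup.subset_closure ⟨4, by decide, rfl⟩)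
theorem mm0_180 : u0_180 ∈ Subgroup.closure (gens M J0) := mul_mem mm0_173 (Subgroup.subset_closure ⟨5, by decide, rfl⟩)
theorem mm0_181 : u0_181 ∈ Subgroup.closure (gens M J0) := mul_mem mm0_174 (Subgroup.subset_closure ⟨4, by decide, rfl⟩)
theorem mm0_182 : u0_182 ∈ Subgroup.closure (gens M J0) := mul_mem mm0_176 (Subgroup.subset_closure ⟨2, by decide, rfl⟩)
theorem mm0_183 : u0_183 ∈ Subgroup.closure (gens M J0) := mul_mem mm0_176 (Subgroup.subset_closure ⟨4, by decide, rfl⟩)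
theorem mm0_184 : u0_184 ∈ Subgroup.closure (gens M J0) := mul_mem mm0_177 (Subgroup.subset_closure ⟨5, by decide, rfl⟩)
theorem mm0_185 : u0_185 ∈ Subgroup.closure (gens M J0) := mul_mem mm0_178 (Subgroup.subset_closure ⟨4, by decide, rfl⟩)
theorem mm0_186 : u0_186 ∈ Subgroup.closure (gens M J0) := mul_mem mm0_179 (Subgroup.subset_closure ⟨5, by decide, rfl⟩)
theorem mm0_187 : u0_187 ∈ Subgroup.closure (gens M J0) := mul_mem mm0_181 (Subgroup.subset_closure ⟨3, by decide, rfl⟩)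
theorem mm0_188 : u0_188 ∈ Subgroup.closure (gens M J0) := mul_mem mm0_182 (Subgroup.subset_closure ⟨4, by decide, rfl⟩)
theorem mm0_189 : u0_189 ∈ Subgroup.closure (gens M J0) := mul_mem mm0_183 (Subgroup.subset_closure ⟨5, by decide, rfl⟩)
theorem mm0_190 : u0_190 ∈ Subgroup.closure (gens M J0) := mul_mem mm0_184 (Subgroup.subset_closure ⟨6, by decide, rfl⟩)
theorem mm0_191 : u0_191 ∈ Subgroup.closure (gens M J0) := mul_mem mm0_185 (Subgroup.subset_closure ⟨3, by decide, rfl⟩)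
theorem mm0_192 : u0_192 ∈ Subgroup.closure (gens M J0) := mul_mem mm0_185 (Subgroup.subset_closure ⟨5, by decide, rfl⟩)
theorem mm0_193 : u0_193 ∈ Subgroup.closure (gens M J0) := mul_mem mm0_187 (Subgroup.subset_closure ⟨1, by decide, rfl⟩)
theorem mm0_194 : u0_194 ∈ Subgroup.closure (gens M J0) := mul_mem mm0_188 (Subgroup.subset_closure ⟨3, by decide, rfl⟩)
theorem mm0_195 : u0_195 ∈ Subgroup.closure (gens M J0) := mul_mem mm0_188 (Subgroup.subset_closure ⟨5, by decide, rfl⟩)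
theorem mm0_196 : u0_196 ∈ Subgroup.closure (gens M J0) := mul_mem mm0_189 (Subgroup.subset_closure ⟨6, by decide, rfl⟩)
theorem mm0_197 : u0_197 ∈ Subgroup.closure (gens M J0) := mul_mem mm0_191 (Subgroup.subset_closure ⟨1, by decide, rfl⟩)
theorem mm0_198 : u0_198 ∈ Subgroup.closure (gens M J0) := mul_mem mm0_191 (Subgroup.subset_closure ⟨5, by decide, rfl⟩)
theorem mm0_199 : u0_199 ∈ Subgroup.closure (gens M J0) := mul_mem mm0_194 (Subgroup.subset_closure ⟨1, by decide, rfl⟩)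
theorem mm0_200 : u0_200 ∈ Subgroup.closure (gens M J0) := mul_mem mm0_194 (Subgroup.subset_closure ⟨5, by decide, rfl⟩)
theorem mm0_201 : u0_201 ∈ Subgroup.closure (gens M J0) := mul_mem mm0_195 (Subgroup.subset_closure ⟨6, by decide, rfl⟩)
theorem mm0_202 : u0_202 ∈ Subgroup.closure (gens M J0) := mul_mem mm0_197 (Subgroup.subset_closure ⟨5, by decide, rfl⟩)
theorem mm0_203 : u0_203 ∈ Subgroup.closure (gens M J0) := mul_mem mm0_198 (Subgroup.subset_closure ⟨4, by decide, rfl⟩)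
theorem mm0_204 : u0_204 ∈ Subgroup.closure (gens M J0) := mul_mem mm0_199 (Subgroup.subset_closure ⟨5, by decide, rfl⟩)
theorem mm0_205 : u0_205 ∈ Subgroup.closure (gens M J0) := mul_mem mm0_200 (Subgroup.subset_closure ⟨4, by decide, rfl⟩)
theorem mm0_206 : u0_206 ∈ Subgroup.closure (gens M J0) := mul_mem mm0_200 (Subgroup.subset_closure ⟨6, by decide, rfl⟩)
theorem mm0_207 : u0_207 ∈ Subgroup.closure (gens M J0) := mul_mem mm0_202 (Subgroup.subset_closure ⟨4, by decide, rfl⟩)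
theorem mm0_208 : u0_208 ∈ Subgroup.closure (gens M J0) := mul_mem mm0_204 (Subgroup.subset_closure ⟨4, by decide, rfl⟩)
theorem mm0_209 : u0_209 ∈ Subgroup.closure (gens M J0) := mul_mem mm0_204 (Subgroup.subset_closure ⟨6, by decide, rfl⟩)
theorem mm0_210 : u0_210 ∈ Subgroup.closure (gens M J0) := mul_mem mm0_205 (Subgroup.subset_closure ⟨6, by decide, rfl⟩)
theorem mm0_211 : u0_211 ∈ Subgroup.closure (gens M J0) := mul_mem mm0_207 (Subgroup.subset_closure ⟨3, by decide, rfl⟩)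
theorem mm0_212 : u0_212 ∈ Subgroup.closure (gens M J0) := mul_mem mm0_208 (Subgroup.subset_closure ⟨3, by decide, rfl⟩)
theorem mm0_213 : u0_213 ∈ Subgroup.closure (gens M J0) := mul_mem mm0_208 (Subgroup.subset_closure ⟨6, by decide, rfl⟩)
theorem mm0_214 : u0_214 ∈ Subgroup.closure (gens M J0) := mul_mem mm0_210 (Subgroup.subset_closure ⟨5, by decide, rfl⟩)
theorem mm0_215 : u0_215 ∈ Subgroup.closure (gens M J0) := mul_mem mm0_211 (Subgroup.subset_closure ⟨2, by decide, rfl⟩)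
theorem mm0_216 : u0_216 ∈ Subgroup.closure (gens M J0) := mul_mem mm0_212 (Subgroup.subset_closure ⟨2, by decide, rfl⟩)
theorem mm0_217 : u0_217 ∈ Subgroup.closure (gens M J0) := mul_mem mm0_212 (Subgroup.subset_closure ⟨6, by decide, rfl⟩)
theorem mm0_218 : u0_218 ∈ Subgroup.closure (gens M J0) := mul_mem mm0_213 (Subgroup.subset_closure ⟨5, by decide, rfl⟩)
theorem mm0_219 : u0_219 ∈ Subgroup.closure (gens M J0) := mul_mem mm0_215 (Subgroup.subset_closure ⟨0, by decide, rfl⟩)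
theorem mm0_220 : u0_220 ∈ Subgroup.closure (gens M J0) := mul_mem mm0_216 (Subgroup.subset_closure ⟨0, by decide, rfl⟩)
theorem mm0_221 : u0_221 ∈ Subgroup.closure (gens M J0) := mul_mem mm0_216 (Subgroup.subset_closure ⟨6, by decide, rfl⟩)
theorem mm0_222 : u0_222 ∈ Subgroup.closure (gens M J0) := mul_mem mm0_217 (Subgroup.subset_closure ⟨5, by decide, rfl⟩)
theorem mm0_223 : u0_223 ∈ Subgroup.closure (gens M J0) := mul_mem mm0_220 (Subgroup.subset_closure ⟨6, by decide, rfl⟩)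
theorem mm0_224 : u0_224 ∈ Subgroup.closure (gens M J0) := mul_mem mm0_221 (Subgroup.subset_closure ⟨5, by decide, rfl⟩)
theorem mm0_225 : u0_225 ∈ Subgroup.closure (gens M J0) := mul_mem mm0_222 (Subgroup.subset_closure ⟨4, by decide, rfl⟩)
theorem mm0_226 : u0_226 ∈ Subgroup.closure (gens M J0) := mul_mem mm0_223 (Subgroup.subset_closure ⟨5, by decide, rfl⟩)
theorem mm0_227 : u0_227 ∈ Subgroup.closure (gens M J0) := mul_mem mm0_224 (Subgroup.subset_closure ⟨4, by decide, rfl⟩)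
theorem mm0_228 : u0_228 ∈ Subgroup.closure (gens M J0) := mul_mem mm0_226 (Subgroup.subset_closure ⟨4, by decide, rfl⟩)
theorem mm0_229 : u0_229 ∈ Subgroup.closure (gens M J0) := mul_mem mm0_227 (Subgroup.subset_closure ⟨3, by decide, rfl⟩)
theorem mm0_230 : u0_230 ∈ Subgroup.closure (gens M J0) := mul_mem mm0_228 (Subgroup.subset_closure ⟨3, by decide, rfl⟩)
theorem mm0_231 : u0_231 ∈ Subgroup.closure (gens M J0) := mul_mem mm0_229 (Subgroup.subset_closure ⟨1, by decide, rfl⟩)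
theorem mm0_232 : u0_232 ∈ Subgroup.closure (gens M J0) := mul_mem mm0_230 (Subgroup.subset_closure ⟨1, by decide, rfl⟩)
theorem mm0_233 : u0_233 ∈ Subgroup.closure (gens M J0) := mul_mem mm0_230 (Subgroup.subset_closure ⟨2, by decide, rfl⟩)
theorem mm0_234 : u0_234 ∈ Subgroup.closure (gens M J0) := mul_mem mm0_232 (Subgroup.subset_closure ⟨2, by decide, rfl⟩)
theorem mm0_235 : u0_235 ∈ Subgroup.closure (gens M J0) := mul_mem mm0_234 (Subgroup.subset_closure ⟨3, by decide, rfl⟩)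
theorem mm0_236 : u0_236 ∈ Subgroup.closure (gens M J0) := mul_mem mm0_235 (Subgroup.subset_closure ⟨4, by decide, rfl⟩)
theorem mm0_237 : u0_237 ∈ Subgroup.closure (gens M J0) := mul_mem mm0_236 (Subgroup.subset_closure ⟨5, by decide, rfl⟩)
theorem mm0_238 : u0_238 ∈ Subgroup.closure (gens M J0) := mul_mem mm0_237 (Subgroup.subset_closure ⟨6, by decide, rfl⟩)
theorem mm0_239 : u0_239 ∈ Subgroup.closure (gens M J0) := mul_mem mm0_238 (Subgroup.subset_closure ⟨7, by decide, rfl⟩)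
theorem c0_0 : P0 u0_0 := by
  refine ⟨mm0_0, ?_⟩
  rintro x ⟨j, hj, rfl⟩
  simp only [J0, List.mem_cons, List.not_mem_nil, or_false] at hj
  rcases hj with rfl | rfl | rfl | rfl | rfl | rfl | rfl | rfl
  · exact ⟨s 0, Subgroup.subset_closure ⟨0, by decide, rfl⟩, u0_0, mr0_0, e0_0_0⟩
  · exact ⟨s 1, Subgroup.subset_closure ⟨1, by decide, rfl⟩, u0_0, mr0_0, e0_0_1⟩
  · exact ⟨s 2, Subgroup.subset_closure ⟨2, by decide, rfl⟩, u0_0, mr0_0, e0_0_2⟩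
  · exact ⟨s 3, Subgroup.subset_closure ⟨3, by decide, rfl⟩, u0_0, mr0_0, e0_0_3⟩
  · exact ⟨s 4, Subgroup.subset_closure ⟨4, by decide, rfl⟩, u0_0, mr0_0, e0_0_4⟩
  · exact ⟨s 5, Subgroup.subset_closure ⟨5, by decide, rfl⟩, u0_0, mr0_0, e0_0_5⟩
  · exact ⟨s 6, Subgroup.subset_closure ⟨6, by decide, rfl⟩, u0_0, mr0_0, e0_0_6⟩
  · exact ⟨1, one_mem _, u0_1, mr0_1, e0_0_7⟩
theorem c0_1 : P0 u0_1 := by
  refine ⟨mm0_1, ?_⟩
  rintro x ⟨j, hj, rfl⟩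
  simp only [J0, List.mem_cons, List.not_mem_nil, or_false] at hj
  rcases hj with rfl | rfl | rfl | rfl | rfl | rfl | rfl | rfl
  · exact ⟨s 0, Subgroup.subset_closure ⟨0, by decide, rfl⟩, u0_1, mr0_1, e0_1_0⟩
  · exact ⟨s 1, Subgroup.subset_closure ⟨1, by decide, rfl⟩, u0_1, mr0_1, e0_1_1⟩
  · exact ⟨s 2, Subgroup.subset_closure ⟨2, by decide, rfl⟩, u0_1, mr0_1, e0_1_2⟩
  · exact ⟨s 3, Subgroup.subset_closure ⟨3, by decide, rfl⟩, u0_1, mr0_1, e0_1_3⟩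
  · exact ⟨s 4, Subgroup.subset_closure ⟨4, by decide, rfl⟩, u0_1, mr0_1, e0_1_4⟩
  · exact ⟨s 5, Subgroup.subset_closure ⟨5, by decide, rfl⟩, u0_1, mr0_1, e0_1_5⟩
  · exact ⟨1, one_mem _, u0_2, mr0_2, e0_1_6⟩
  · exact ⟨1, one_mem _, u0_0, mr0_0, e0_1_7⟩
theorem c0_2 : P0 u0_2 := by
  refine ⟨mm0_2, ?_⟩
  rintro x ⟨j, hj, rfl⟩
  simp only [J0, List.mem_cons, List.not_mem_nil, or_false] at hj
  rcases hj with rfl | rfl | rfl | rfl | rfl | rfl | rfl | rfl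
  · exact ⟨s 0, Subgroup.subset_closure ⟨0, by decide, rfl⟩, u0_2, mr0_2, e0_2_0⟩
  · exact ⟨s 1, Subgroup.subset_closure ⟨1, by decide, rfl⟩, u0_2, mr0_2, e0_2_1⟩
  · exact ⟨s 2, Subgroup.subset_closure ⟨2, by decide, rfl⟩, u0_2, mr0_2, e0_2_2⟩
  · exact ⟨s 3, Subgroup.subset_closure ⟨3, by decide, rfl⟩, u0_2, mr0_2, e0_2_3⟩
  · exact ⟨s 4, Subgroup.subset_closure ⟨4, by decide, rfl⟩, u0_2, mr0_2, e0_2_4⟩
  · exact ⟨1, one_mem _, u0_3, mr0_3, e0_2_5⟩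
  · exact ⟨1, one_mem _, u0_1, mr0_1, e0_2_6⟩
  · exact ⟨s 6, Subgroup.subset_closure ⟨6, by decide, rfl⟩, u0_2, mr0_2, e0_2_7⟩
theorem c0_3 : P0 u0_3 := by
  refine ⟨mm0_3, ?_⟩
  rintro x ⟨j, hj, rfl⟩
  simp only [J0, List.mem_cons, List.not_mem_nil, or_false] at hj
  rcases hj with rfl | rfl | rfl | rfl | rfl | rfl | rfl | rfl
  · exact ⟨s 0, Subgroup.subset_closure ⟨0, by decide, rfl⟩, u0_3, mr0_3, e0_3_0⟩
  · exact ⟨s 1, Subgroup.subset_closure ⟨1, by decide, rfl⟩, u0_3, mr0_3, e0_3_1⟩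
  · exact ⟨s 2, Subgroup.subset_closure ⟨2, by decide, rfl⟩, u0_3, mr0_3, e0_3_2⟩
  · exact ⟨s 3, Subgroup.subset_closure ⟨3, by decide, rfl⟩, u0_3, mr0_3, e0_3_3⟩
  · exact ⟨1, one_mem _, u0_4, mr0_4, e0_3_4⟩
  · exact ⟨1, one_mem _, u0_2, mr0_2, e0_3_5⟩
  · exact ⟨s 5, Subgroup.subset_closure ⟨5, by decide, rfl⟩, u0_3, mr0_3, e0_3_6⟩
  · exact ⟨s 6, Subgroup.subset_closure ⟨6, by decide, rfl⟩, u0_3, mr0_3, e0_3_7⟩
theorem c0_4 : P0 u0_4 := by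
  refine ⟨mm0_4, ?_⟩
  rintro x ⟨j, hj, rfl⟩
  simp only [J0, List.mem_cons, List.not_mem_nil, or_false] at hj
  rcases hj with rfl | rfl | rfl | rfl | rfl | rfl | rfl | rfl
  · exact ⟨s 0, Subgroup.subset_closure ⟨0, by decide, rfl⟩, u0_4, mr0_4, e0_4_0⟩
  · exact ⟨s 1, Subgroup.subset_closure ⟨1, by decide, rfl⟩, u0_4, mr0_4, e0_4_1⟩
  · exact ⟨s 2, Subgroup.subset_closure ⟨2, by decide, rfl⟩, u0_4, mr0_4, e0_4_2⟩
  · exact ⟨1, one_mem _, u0_5, mr0_5, e0_4_3⟩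
  · exact ⟨1, one_mem _, u0_3, mr0_3, e0_4_4⟩
  · exact ⟨s 4, Subgroup.subset_closure ⟨4, by decide, rfl⟩, u0_4, mr0_4, e0_4_5⟩
  · exact ⟨s 5, Subgroup.subset_closure ⟨5, by decide, rfl⟩, u0_4, mr0_4, e0_4_6⟩
  · exact ⟨s 6, Subgroup.subset_closure ⟨6, by decide, rfl⟩, u0_4, mr0_4, e0_4_7⟩
theorem c0_5 : P0 u0_5 := by
  refine ⟨mm0_5, ?_⟩
  rintro x ⟨j, hj, rfl⟩
  simp only [J0, List.mem_cons, List.not_mem_nil, or_false] at hj
  rcases hj with rfl | rfl | rfl | rfl | rfl | rfl | rfl | rfl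
  · exact ⟨s 0, Subgroup.subset_closure ⟨0, by decide, rfl⟩, u0_5, mr0_5, e0_5_0⟩
  · exact ⟨1, one_mem _, u0_6, mr0_6, e0_5_1⟩
  · exact ⟨1, one_mem _, u0_7, mr0_7, e0_5_2⟩
  · exact ⟨1, one_mem _, u0_4, mr0_4, e0_5_3⟩
  · exact ⟨s 3, Subgroup.subset_closure ⟨3, by decide, rfl⟩, u0_5, mr0_5, e0_5_4⟩
  · exact ⟨s 4, Subgroup.subset_closure ⟨4, by decide, rfl⟩, u0_5, mr0_5, e0_5_5⟩
  · exact ⟨s 5, Subgroup.subset_closure ⟨5, by decide, rfl⟩, u0_5, mr0_5, e0_5_6⟩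
  · exact ⟨s 6, Subgroup.subset_closure ⟨6, by decide, rfl⟩, u0_5, mr0_5, e0_5_7⟩
theorem c0_6 : P0 u0_6 := by
  refine ⟨mm0_6, ?_⟩
  rintro x ⟨j, hj, rfl⟩
  simp only [J0, List.mem_cons, List.not_mem_nil, or_false] at hj
  rcases hj with rfl | rfl | rfl | rfl | rfl | rfl | rfl | rfl
  · exact ⟨s 0, Subgroup.subset_closure ⟨0, by decide, rfl⟩, u0_6, mr0_6, e0_6_0⟩
  · exact ⟨1, one_mem _, u0_5, mr0_5, e0_6_1⟩
  · exact ⟨1, one_mem _, u0_8, mr0_8, e0_6_2⟩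
  · exact ⟨s 1, Subgroup.subset_closure ⟨1, by decide, rfl⟩, u0_6, mr0_6, e0_6_3⟩
  · exact ⟨s 3, Subgroup.subset_closure ⟨3, by decide, rfl⟩, u0_6, mr0_6, e0_6_4⟩
  · exact ⟨s 4, Subgroup.subset_closure ⟨4, by decide, rfl⟩, u0_6, mr0_6, e0_6_5⟩
  · exact ⟨s 5, Subgroup.subset_closure ⟨5, by decide, rfl⟩, u0_6, mr0_6, e0_6_6⟩
  · exact ⟨s 6, Subgroup.subset_closure ⟨6, by decide, rfl⟩, u0_6, mr0_6, e0_6_7⟩
theorem c0_7 : P0 u0_7 := by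
  refine ⟨mm0_7, ?_⟩
  rintro x ⟨j, hj, rfl⟩
  simp only [J0, List.mem_cons, List.not_mem_nil, or_false] at hj
  rcases hj with rfl | rfl | rfl | rfl | rfl | rfl | rfl | rfl
  · exact ⟨1, one_mem _, u0_9, mr0_9, e0_7_0⟩
  · exact ⟨1, one_mem _, u0_8, mr0_8, e0_7_1⟩
  · exact ⟨1, one_mem _, u0_5, mr0_5, e0_7_2⟩
  · exact ⟨s 2, Subgroup.subset_closure ⟨2, by decide, rfl⟩, u0_7, mr0_7, e0_7_3⟩
  · exact ⟨s 3, Subgroup.subset_closure ⟨3, by decide, rfl⟩, u0_7, mr0_7, e0_7_4⟩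
  · exact ⟨s 4, Subgroup.subset_closure ⟨4, by decide, rfl⟩, u0_7, mr0_7, e0_7_5⟩
  · exact ⟨s 5, Subgroup.subset_closure ⟨5, by decide, rfl⟩, u0_7, mr0_7, e0_7_6⟩
  · exact ⟨s 6, Subgroup.subset_closure ⟨6, by decide, rfl⟩, u0_7, mr0_7, e0_7_7⟩
theorem c0_8 : P0 u0_8 := by
  refine ⟨mm0_8, ?_⟩
  rintro x ⟨j, hj, rfl⟩
  simp only [J0, List.mem_cons, List.not_mem_nil, or_false] at hj
  rcases hj with rfl | rfl | rfl | rfl | rfl | rfl | rfl | rfl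
  · exact ⟨1, one_mem _, u0_10, mr0_10, e0_8_0⟩
  · exact ⟨1, one_mem _, u0_7, mr0_7, e0_8_1⟩
  · exact ⟨1, one_mem _, u0_6, mr0_6, e0_8_2⟩
  · exact ⟨1, one_mem _, u0_11, mr0_11, e0_8_3⟩
  · exact ⟨s 3, Subgroup.subset_closure ⟨3, by decide, rfl⟩, u0_8, mr0_8, e0_8_4⟩
  · exact ⟨s 4, Subgroup.subset_closure ⟨4, by decide, rfl⟩, u0_8, mr0_8, e0_8_5⟩
  · exact ⟨s 5, Subgroup.subset_closure ⟨5, by decide, rfl⟩, u0_8, mr0_8, e0_8_6⟩
  · exact ⟨s 6, Subgroup.subset_closure ⟨6, by decide, rfl⟩, u0_8, mr0_8, e0_8_7⟩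
theorem c0_9 : P0 u0_9 := by
  refine ⟨mm0_9, ?_⟩
  rintro x ⟨j, hj, rfl⟩
  simp only [J0, List.mem_cons, List.not_mem_nil, or_false] at hj
  rcases hj with rfl | rfl | rfl | rfl | rfl | rfl | rfl | rfl
  · exact ⟨1, one_mem _, u0_7, mr0_7, e0_9_0⟩
  · exact ⟨1, one_mem _, u0_10, mr0_10, e0_9_1⟩
  · exact ⟨s 0, Subgroup.subset_closure ⟨0, by decide, rfl⟩, u0_9, mr0_9, e0_9_2⟩
  · exact ⟨s 2, Subgroup.subset_closure ⟨2, by decide, rfl⟩, u0_9, mr0_9, e0_9_3⟩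
  · exact ⟨s 3, Subgroup.subset_closure ⟨3, by decide, rfl⟩, u0_9, mr0_9, e0_9_4⟩
  · exact ⟨s 4, Subgroup.subset_closure ⟨4, by decide, rfl⟩, u0_9, mr0_9, e0_9_5⟩
  · exact ⟨s 5, Subgroup.subset_closure ⟨5, by decide, rfl⟩, u0_9, mr0_9, e0_9_6⟩
  · exact ⟨s 6, Subgroup.subset_closure ⟨6, by decide, rfl⟩, u0_9, mr0_9, e0_9_7⟩
theorem c0_10 : P0 u0_10 := by
  refine ⟨mm0_10, ?_⟩
  rintro x ⟨j, hj, rfl⟩
  simp only [J0, List.mem_cons, List.not_mem_nil, or_false] at hj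
  rcases hj with rfl | rfl | rfl | rfl | rfl | rfl | rfl | rfl
  · exact ⟨1, one_mem _, u0_8, mr0_8, e0_10_0⟩
  · exact ⟨1, one_mem _, u0_9, mr0_9, e0_10_1⟩
  · exact ⟨s 0, Subgroup.subset_closure ⟨0, by decide, rfl⟩, u0_10, mr0_10, e0_10_2⟩
  · exact ⟨1, one_mem _, u0_12, mr0_12, e0_10_3⟩
  · exact ⟨s 3, Subgroup.subset_closure ⟨3, by decide, rfl⟩, u0_10, mr0_10, e0_10_4⟩
  · exact ⟨s 4, Subgroup.subset_closure ⟨4, by decide, rfl⟩, u0_10, mr0_10, e0_10_5⟩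
  · exact ⟨s 5, Subgroup.subset_closure ⟨5, by decide, rfl⟩, u0_10, mr0_10, e0_10_6⟩
  · exact ⟨s 6, Subgroup.subset_closure ⟨6, by decide, rfl⟩, u0_10, mr0_10, e0_10_7⟩
theorem c0_11 : P0 u0_11 := by
  refine ⟨mm0_11, ?_⟩
  rintro x ⟨j, hj, rfl⟩
  simp only [J0, List.mem_cons, List.not_mem_nil, or_false] at hj
  rcases hj with rfl | rfl | rfl | rfl | rfl | rfl | rfl | rfl
  · exact ⟨1, one_mem _, u0_12, mr0_12, e0_11_0⟩
  · exact ⟨s 2, Subgroup.subset_closure ⟨2, by decide, rfl⟩, u0_11, mr0_11, e0_11_1⟩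
  · exact ⟨s 1, Subgroup.subset_closure ⟨1, by decide, rfl⟩, u0_11, mr0_11, e0_11_2⟩
  · exact ⟨1, one_mem _, u0_8, mr0_8, e0_11_3⟩
  · exact ⟨1, one_mem _, u0_13, mr0_13, e0_11_4⟩
  · exact ⟨s 4, Subgroup.subset_closure ⟨4, by decide, rfl⟩, u0_11, mr0_11, e0_11_5⟩
  · exact ⟨s 5, Subgroup.subset_closure ⟨5, by decide, rfl⟩, u0_11, mr0_11, e0_11_6⟩
  · exact ⟨s 6, Subgroup.subset_closure ⟨6, by decide, rfl⟩, u0_11, mr0_11, e0_11_7⟩
theorem c0_12 : P0 u0_12 := by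
  refine ⟨mm0_12, ?_⟩
  rintro x ⟨j, hj, rfl⟩
  simp only [J0, List.mem_cons, List.not_mem_nil, or_false] at hj
  rcases hj with rfl | rfl | rfl | rfl | rfl | rfl | rfl | rfl
  · exact ⟨1, one_mem _, u0_11, mr0_11, e0_12_0⟩
  · exact ⟨s 2, Subgroup.subset_closure ⟨2, by decide, rfl⟩, u0_12, mr0_12, e0_12_1⟩
  · exact ⟨1, one_mem _, u0_14, mr0_14, e0_12_2⟩
  · exact ⟨1, one_mem _, u0_10, mr0_10, e0_12_3⟩
  · exact ⟨1, one_mem _, u0_15, mr0_15, e0_12_4⟩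
  · exact ⟨s 4, Subgroup.subset_closure ⟨4, by decide, rfl⟩, u0_12, mr0_12, e0_12_5⟩
  · exact ⟨s 5, Subgroup.subset_closure ⟨5, by decide, rfl⟩, u0_12, mr0_12, e0_12_6⟩
  · exact ⟨s 6, Subgroup.subset_closure ⟨6, by decide, rfl⟩, u0_12, mr0_12, e0_12_7⟩
theorem c0_13 : P0 u0_13 := by
  refine ⟨mm0_13, ?_⟩
  rintro x ⟨j, hj, rfl⟩
  simp only [J0, List.mem_cons, List.not_mem_nil, or_false] at hj
  rcases hj with rfl | rfl | rfl | rfl | rfl | rfl | rfl | rfl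
  · exact ⟨1, one_mem _, u0_15, mr0_15, e0_13_0⟩
  · exact ⟨s 2, Subgroup.subset_closure ⟨2, by decide, rfl⟩, u0_13, mr0_13, e0_13_1⟩
  · exact ⟨s 1, Subgroup.subset_closure ⟨1, by decide, rfl⟩, u0_13, mr0_13, e0_13_2⟩
  · exact ⟨s 3, Subgroup.subset_closure ⟨3, by decide, rfl⟩, u0_13, mr0_13, e0_13_3⟩
  · exact ⟨1, one_mem _, u0_11, mr0_11, e0_13_4⟩
  · exact ⟨1, one_mem _, u0_16, mr0_16, e0_13_5⟩
  · exact ⟨s 5, Subgroup.subset_closure ⟨5, by decide, rfl⟩, u0_13, mr0_13, e0_13_6⟩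
  · exact ⟨s 6, Subgroup.subset_closure ⟨6, by decide, rfl⟩, u0_13, mr0_13, e0_13_7⟩
theorem c0_14 : P0 u0_14 := by
  refine ⟨mm0_14, ?_⟩
  rintro x ⟨j, hj, rfl⟩
  simp only [J0, List.mem_cons, List.not_mem_nil, or_false] at hj
  rcases hj with rfl | rfl | rfl | rfl | rfl | rfl | rfl | rfl
  · exact ⟨s 1, Subgroup.subset_closure ⟨1, by decide, rfl⟩, u0_14, mr0_14, e0_14_0⟩
  · exact ⟨s 2, Subgroup.subset_closure ⟨2, by decide, rfl⟩, u0_14, mr0_14, e0_14_1⟩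
  · exact ⟨1, one_mem _, u0_12, mr0_12, e0_14_2⟩
  · exact ⟨s 0, Subgroup.subset_closure ⟨0, by decide, rfl⟩, u0_14, mr0_14, e0_14_3⟩
  · exact ⟨1, one_mem _, u0_17, mr0_17, e0_14_4⟩
  · exact ⟨s 4, Subgroup.subset_closure ⟨4, by decide, rfl⟩, u0_14, mr0_14, e0_14_5⟩
  · exact ⟨s 5, Subgroup.subset_closure ⟨5, by decide, rfl⟩, u0_14, mr0_14, e0_14_6⟩
  · exact ⟨s 6, Subgroup.subset_closure ⟨6, by decide, rfl⟩, u0_14, mr0_14, e0_14_7⟩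
theorem c0_15 : P0 u0_15 := by
  refine ⟨mm0_15, ?_⟩
  rintro x ⟨j, hj, rfl⟩
  simp only [J0, List.mem_cons, List.not_mem_nil, or_false] at hj
  rcases hj with rfl | rfl | rfl | rfl | rfl | rfl | rfl | rfl
  · exact ⟨1, one_mem _, u0_13, mr0_13, e0_15_0⟩
  · exact ⟨s 2, Subgroup.subset_closure ⟨2, by decide, rfl⟩, u0_15, mr0_15, e0_15_1⟩
  · exact ⟨1, one_mem _, u0_17, mr0_17, e0_15_2⟩
  · exact ⟨s 3, Subgroup.subset_closure ⟨3, by decide, rfl⟩, u0_15, mr0_15, e0_15_3⟩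
  · exact ⟨1, one_mem _, u0_12, mr0_12, e0_15_4⟩
  · exact ⟨1, one_mem _, u0_18, mr0_18, e0_15_5⟩
  · exact ⟨s 5, Subgroup.subset_closure ⟨5, by decide, rfl⟩, u0_15, mr0_15, e0_15_6⟩
  · exact ⟨s 6, Subgroup.subset_closure ⟨6, by decide, rfl⟩, u0_15, mr0_15, e0_15_7⟩
theorem c0_16 : P0 u0_16 := by
  refine ⟨mm0_16, ?_⟩
  rintro x ⟨j, hj, rfl⟩
  simp only [J0, List.mem_cons, List.not_mem_nil, or_false] at hj
  rcases hj with rfl | rfl | rfl | rfl | rfl | rfl | rfl | rfl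
  · exact ⟨1, one_mem _, u0_18, mr0_18, e0_16_0⟩
  · exact ⟨s 2, Subgroup.subset_closure ⟨2, by decide, rfl⟩, u0_16, mr0_16, e0_16_1⟩
  · exact ⟨s 1, Subgroup.subset_closure ⟨1, by decide, rfl⟩, u0_16, mr0_16, e0_16_2⟩
  · exact ⟨s 3, Subgroup.subset_closure ⟨3, by decide, rfl⟩, u0_16, mr0_16, e0_16_3⟩
  · exact ⟨s 4, Subgroup.subset_closure ⟨4, by decide, rfl⟩, u0_16, mr0_16, e0_16_4⟩
  · exact ⟨1, one_mem _, u0_13, mr0_13, e0_16_5⟩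
  · exact ⟨1, one_mem _, u0_19, mr0_19, e0_16_6⟩
  · exact ⟨s 6, Subgroup.subset_closure ⟨6, by decide, rfl⟩, u0_16, mr0_16, e0_16_7⟩
theorem c0_17 : P0 u0_17 := by
  refine ⟨mm0_17, ?_⟩
  rintro x ⟨j, hj, rfl⟩
  simp only [J0, List.mem_cons, List.not_mem_nil, or_false] at hj
  rcases hj with rfl | rfl | rfl | rfl | rfl | rfl | rfl | rfl
  · exact ⟨s 1, Subgroup.subset_closure ⟨1, by decide, rfl⟩, u0_17, mr0_17, e0_17_0⟩
  · exact ⟨s 2, Subgroup.subset_closure ⟨2, by decide, rfl⟩, u0_17, mr0_17, e0_17_1⟩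
  · exact ⟨1, one_mem _, u0_15, mr0_15, e0_17_2⟩
  · exact ⟨1, one_mem _, u0_20, mr0_20, e0_17_3⟩
  · exact ⟨1, one_mem _, u0_14, mr0_14, e0_17_4⟩
  · exact ⟨1, one_mem _, u0_21, mr0_21, e0_17_5⟩
  · exact ⟨s 5, Subgroup.subset_closure ⟨5, by decide, rfl⟩, u0_17, mr0_17, e0_17_6⟩
  · exact ⟨s 6, Subgroup.subset_closure ⟨6, by decide, rfl⟩, u0_17, mr0_17, e0_17_7⟩
theorem c0_18 : P0 u0_18 := by
  refine ⟨mm0_18, ?_⟩
  rintro x ⟨j, hj, rfl⟩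
  simp only [J0, List.mem_cons, List.not_mem_nil, or_false] at hj
  rcases hj with rfl | rfl | rfl | rfl | rfl | rfl | rfl | rfl
  · exact ⟨1, one_mem _, u0_16, mr0_16, e0_18_0⟩
  · exact ⟨s 2, Subgroup.subset_closure ⟨2, by decide, rfl⟩, u0_18, mr0_18, e0_18_1⟩
  · exact ⟨1, one_mem _, u0_21, mr0_21, e0_18_2⟩
  · exact ⟨s 3, Subgroup.subset_closure ⟨3, by decide, rfl⟩, u0_18, mr0_18, e0_18_3⟩
  · exact ⟨s 4, Subgroup.subset_closure ⟨4, by decide, rfl⟩, u0_18, mr0_18, e0_18_4⟩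
  · exact ⟨1, one_mem _, u0_15, mr0_15, e0_18_5⟩
  · exact ⟨1, one_mem _, u0_22, mr0_22, e0_18_6⟩
  · exact ⟨s 6, Subgroup.subset_closure ⟨6, by decide, rfl⟩, u0_18, mr0_18, e0_18_7⟩
theorem c0_19 : P0 u0_19 := by
  refine ⟨mm0_19, ?_⟩
  rintro x ⟨j, hj, rfl⟩
  simp only [J0, List.mem_cons, List.not_mem_nil, or_false] at hj
  rcases hj with rfl | rfl | rfl | rfl | rfl | rfl | rfl | rfl
  · exact ⟨1, one_mem _, u0_22, mr0_22, e0_19_0⟩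
  · exact ⟨s 2, Subgroup.subset_closure ⟨2, by decide, rfl⟩, u0_19, mr0_19, e0_19_1⟩
  · exact ⟨s 1, Subgroup.subset_closure ⟨1, by decide, rfl⟩, u0_19, mr0_19, e0_19_2⟩
  · exact ⟨s 3, Subgroup.subset_closure ⟨3, by decide, rfl⟩, u0_19, mr0_19, e0_19_3⟩
  · exact ⟨s 4, Subgroup.subset_closure ⟨4, by decide, rfl⟩, u0_19, mr0_19, e0_19_4⟩
  · exact ⟨s 5, Subgroup.subset_closure ⟨5, by decide, rfl⟩, u0_19, mr0_19, e0_19_5⟩
  · exact ⟨1, one_mem _, u0_16, mr0_16, e0_19_6⟩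
  · exact ⟨1, one_mem _, u0_23, mr0_23, e0_19_7⟩
theorem c0_20 : P0 u0_20 := by
  refine ⟨mm0_20, ?_⟩
  rintro x ⟨j, hj, rfl⟩
  simp only [J0, List.mem_cons, List.not_mem_nil, or_false] at hj
  rcases hj with rfl | rfl | rfl | rfl | rfl | rfl | rfl | rfl
  · exact ⟨s 1, Subgroup.subset_closure ⟨1, by decide, rfl⟩, u0_20, mr0_20, e0_20_0⟩
  · exact ⟨1, one_mem _, u0_24, mr0_24, e0_20_1⟩
  · exact ⟨s 3, Subgroup.subset_closure ⟨3, by decide, rfl⟩, u0_20, mr0_20, e0_20_2⟩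
  · exact ⟨1, one_mem _, u0_17, mr0_17, e0_20_3⟩
  · exact ⟨s 0, Subgroup.subset_closure ⟨0, by decide, rfl⟩, u0_20, mr0_20, e0_20_4⟩
  · exact ⟨1, one_mem _, u0_25, mr0_25, e0_20_5⟩
  · exact ⟨s 5, Subgroup.subset_closure ⟨5, by decide, rfl⟩, u0_20, mr0_20, e0_20_6⟩
  · exact ⟨s 6, Subgroup.subset_closure ⟨6, by decide, rfl⟩, u0_20, mr0_20, e0_20_7⟩
theorem c0_21 : P0 u0_21 := by
  refine ⟨mm0_21, ?_⟩
  rintro x ⟨j, hj, rfl⟩
  simp only [J0, List.mem_cons, List.not_mem_nil, or_false] at hj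
  rcases hj with rfl | rfl | rfl | rfl | rfl | rfl | rfl | rfl
  · exact ⟨s 1, Subgroup.subset_closure ⟨1, by decide, rfl⟩, u0_21, mr0_21, e0_21_0⟩
  · exact ⟨s 2, Subgroup.subset_closure ⟨2, by decide, rfl⟩, u0_21, mr0_21, e0_21_1⟩
  · exact ⟨1, one_mem _, u0_18, mr0_18, e0_21_2⟩
  · exact ⟨1, one_mem _, u0_25, mr0_25, e0_21_3⟩
  · exact ⟨s 4, Subgroup.subset_closure ⟨4, by decide, rfl⟩, u0_21, mr0_21, e0_21_4⟩
  · exact ⟨1, one_mem _, u0_17, mr0_17, e0_21_5⟩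
  · exact ⟨1, one_mem _, u0_26, mr0_26, e0_21_6⟩
  · exact ⟨s 6, Subgroup.subset_closure ⟨6, by decide, rfl⟩, u0_21, mr0_21, e0_21_7⟩
theorem c0_22 : P0 u0_22 := by
  refine ⟨mm0_22, ?_⟩
  rintro x ⟨j, hj, rfl⟩
  simp only [J0, List.mem_cons, List.not_mem_nil, or_false] at hj
  rcases hj with rfl | rfl | rfl | rfl | rfl | rfl | rfl | rfl
  · exact ⟨1, one_mem _, u0_19, mr0_19, e0_22_0⟩
  · exact ⟨s 2, Subgroup.subset_closure ⟨2, by decide, rfl⟩, u0_22, mr0_22, e0_22_1⟩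
  · exact ⟨1, one_mem _, u0_26, mr0_26, e0_22_2⟩
  · exact ⟨s 3, Subgroup.subset_closure ⟨3, by decide, rfl⟩, u0_22, mr0_22, e0_22_3⟩
  · exact ⟨s 4, Subgroup.subset_closure ⟨4, by decide, rfl⟩, u0_22, mr0_22, e0_22_4⟩
  · exact ⟨s 5, Subgroup.subset_closure ⟨5, by decide, rfl⟩, u0_22, mr0_22, e0_22_5⟩
  · exact ⟨1, one_mem _, u0_18, mr0_18, e0_22_6⟩
  · exact ⟨1, one_mem _, u0_27, mr0_27, e0_22_7⟩
theorem c0_23 : P0 u0_23 := by
  refine ⟨mm0_23, ?_⟩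
  rintro x ⟨j, hj, rfl⟩
  simp only [J0, List.mem_cons, List.not_mem_nil, or_false] at hj
  rcases hj with rfl | rfl | rfl | rfl | rfl | rfl | rfl | rfl
  · exact ⟨1, one_mem _, u0_27, mr0_27, e0_23_0⟩
  · exact ⟨s 2, Subgroup.subset_closure ⟨2, by decide, rfl⟩, u0_23, mr0_23, e0_23_1⟩
  · exact ⟨s 1, Subgroup.subset_closure ⟨1, by decide, rfl⟩, u0_23, mr0_23, e0_23_2⟩
  · exact ⟨s 3, Subgroup.subset_closure ⟨3, by decide, rfl⟩, u0_23, mr0_23, e0_23_3⟩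
  · exact ⟨s 4, Subgroup.subset_closure ⟨4, by decide, rfl⟩, u0_23, mr0_23, e0_23_4⟩
  · exact ⟨s 5, Subgroup.subset_closure ⟨5, by decide, rfl⟩, u0_23, mr0_23, e0_23_5⟩
  · exact ⟨s 6, Subgroup.subset_closure ⟨6, by decide, rfl⟩, u0_23, mr0_23, e0_23_6⟩
  · exact ⟨1, one_mem _, u0_19, mr0_19, e0_23_7⟩
theorem c0_24 : P0 u0_24 := by
  refine ⟨mm0_24, ?_⟩
  rintro x ⟨j, hj, rfl⟩
  simp only [J0, List.mem_cons, List.not_mem_nil, or_false] at hj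
  rcases hj with rfl | rfl | rfl | rfl | rfl | rfl | rfl | rfl
  · exact ⟨s 1, Subgroup.subset_closure ⟨1, by decide, rfl⟩, u0_24, mr0_24, e0_24_0⟩
  · exact ⟨1, one_mem _, u0_20, mr0_20, e0_24_1⟩
  · exact ⟨s 3, Subgroup.subset_closure ⟨3, by decide, rfl⟩, u0_24, mr0_24, e0_24_2⟩
  · exact ⟨s 2, Subgroup.subset_closure ⟨2, by decide, rfl⟩, u0_24, mr0_24, e0_24_3⟩
  · exact ⟨s 0, Subgroup.subset_closure ⟨0, by decide, rfl⟩, u0_24, mr0_24, e0_24_4⟩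
  · exact ⟨1, one_mem _, u0_28, mr0_28, e0_24_5⟩
  · exact ⟨s 5, Subgroup.subset_closure ⟨5, by decide, rfl⟩, u0_24, mr0_24, e0_24_6⟩
  · exact ⟨s 6, Subgroup.subset_closure ⟨6, by decide, rfl⟩, u0_24, mr0_24, e0_24_7⟩
theorem c0_25 : P0 u0_25 := by
  refine ⟨mm0_25, ?_⟩
  rintro x ⟨j, hj, rfl⟩
  simp only [J0, List.mem_cons, List.not_mem_nil, or_false] at hj
  rcases hj with rfl | rfl | rfl | rfl | rfl | rfl | rfl | rfl
  · exact ⟨s 1, Subgroup.subset_closure ⟨1, by decide, rfl⟩, u0_25, mr0_25, e0_25_0⟩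
  · exact ⟨1, one_mem _, u0_28, mr0_28, e0_25_1⟩
  · exact ⟨s 3, Subgroup.subset_closure ⟨3, by decide, rfl⟩, u0_25, mr0_25, e0_25_2⟩
  · exact ⟨1, one_mem _, u0_21, mr0_21, e0_25_3⟩
  · exact ⟨1, one_mem _, u0_29, mr0_29, e0_25_4⟩
  · exact ⟨1, one_mem _, u0_20, mr0_20, e0_25_5⟩
  · exact ⟨1, one_mem _, u0_30, mr0_30, e0_25_6⟩
  · exact ⟨s 6, Subgroup.subset_closure ⟨6, by decide, rfl⟩, u0_25, mr0_25, e0_25_7⟩
theorem c0_26 : P0 u0_26 := by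
  refine ⟨mm0_26, ?_⟩
  rintro x ⟨j, hj, rfl⟩
  simp only [J0, List.mem_cons, List.not_mem_nil, or_false] at hj
  rcases hj with rfl | rfl | rfl | rfl | rfl | rfl | rfl | rfl
  · exact ⟨s 1, Subgroup.subset_closure ⟨1, by decide, rfl⟩, u0_26, mr0_26, e0_26_0⟩
  · exact ⟨s 2, Subgroup.subset_closure ⟨2, by decide, rfl⟩, u0_26, mr0_26, e0_26_1⟩
  · exact ⟨1, one_mem _, u0_22, mr0_22, e0_26_2⟩
  · exact ⟨1, one_mem _, u0_30, mr0_30, e0_26_3⟩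
  · exact ⟨s 4, Subgroup.subset_closure ⟨4, by decide, rfl⟩, u0_26, mr0_26, e0_26_4⟩
  · exact ⟨s 5, Subgroup.subset_closure ⟨5, by decide, rfl⟩, u0_26, mr0_26, e0_26_5⟩
  · exact ⟨1, one_mem _, u0_21, mr0_21, e0_26_6⟩
  · exact ⟨1, one_mem _, u0_31, mr0_31, e0_26_7⟩
theorem c0_27 : P0 u0_27 := by
  refine ⟨mm0_27, ?_⟩
  rintro x ⟨j, hj, rfl⟩
  simp only [J0, List.mem_cons, List.not_mem_nil, or_false] at hj
  rcases hj with rfl | rfl | rfl | rfl | rfl | rfl | rfl | rfl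
  · exact ⟨1, one_mem _, u0_23, mr0_23, e0_27_0⟩
  · exact ⟨s 2, Subgroup.subset_closure ⟨2, by decide, rfl⟩, u0_27, mr0_27, e0_27_1⟩
  · exact ⟨1, one_mem _, u0_31, mr0_31, e0_27_2⟩
  · exact ⟨s 3, Subgroup.subset_closure ⟨3, by decide, rfl⟩, u0_27, mr0_27, e0_27_3⟩
  · exact ⟨s 4, Subgroup.subset_closure ⟨4, by decide, rfl⟩, u0_27, mr0_27, e0_27_4⟩
  · exact ⟨s 5, Subgroup.subset_closure ⟨5, by decide, rfl⟩, u0_27, mr0_27, e0_27_5⟩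
  · exact ⟨s 6, Subgroup.subset_closure ⟨6, by decide, rfl⟩, u0_27, mr0_27, e0_27_6⟩
  · exact ⟨1, one_mem _, u0_22, mr0_22, e0_27_7⟩
theorem c0_28 : P0 u0_28 := by
  refine ⟨mm0_28, ?_⟩
  rintro x ⟨j, hj, rfl⟩
  simp only [J0, List.mem_cons, List.not_mem_nil, or_false] at hj
  rcases hj with rfl | rfl | rfl | rfl | rfl | rfl | rfl | rfl
  · exact ⟨s 1, Subgroup.subset_closure ⟨1, by decide, rfl⟩, u0_28, mr0_28, e0_28_0⟩
  · exact ⟨1, one_mem _, u0_25, mr0_25, e0_28_1⟩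
  · exact ⟨s 3, Subgroup.subset_closure ⟨3, by decide, rfl⟩, u0_28, mr0_28, e0_28_2⟩
  · exact ⟨s 2, Subgroup.subset_closure ⟨2, by decide, rfl⟩, u0_28, mr0_28, e0_28_3⟩
  · exact ⟨1, one_mem _, u0_32, mr0_32, e0_28_4⟩
  · exact ⟨1, one_mem _, u0_24, mr0_24, e0_28_5⟩
  · exact ⟨1, one_mem _, u0_33, mr0_33, e0_28_6⟩
  · exact ⟨s 6, Subgroup.subset_closure ⟨6, by decide, rfl⟩, u0_28, mr0_28, e0_28_7⟩
theorem c0_29 : P0 u0_29 := by
  refine ⟨mm0_29, ?_⟩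
  rintro x ⟨j, hj, rfl⟩
  simp only [J0, List.mem_cons, List.not_mem_nil, or_false] at hj
  rcases hj with rfl | rfl | rfl | rfl | rfl | rfl | rfl | rfl
  · exact ⟨s 1, Subgroup.subset_closure ⟨1, by decide, rfl⟩, u0_29, mr0_29, e0_29_0⟩
  · exact ⟨1, one_mem _, u0_32, mr0_32, e0_29_1⟩
  · exact ⟨s 3, Subgroup.subset_closure ⟨3, by decide, rfl⟩, u0_29, mr0_29, e0_29_2⟩
  · exact ⟨s 4, Subgroup.subset_closure ⟨4, by decide, rfl⟩, u0_29, mr0_29, e0_29_3⟩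
  · exact ⟨1, one_mem _, u0_25, mr0_25, e0_29_4⟩
  · exact ⟨s 0, Subgroup.subset_closure ⟨0, by decide, rfl⟩, u0_29, mr0_29, e0_29_5⟩
  · exact ⟨1, one_mem _, u0_34, mr0_34, e0_29_6⟩
  · exact ⟨s 6, Subgroup.subset_closure ⟨6, by decide, rfl⟩, u0_29, mr0_29, e0_29_7⟩
theorem c0_30 : P0 u0_30 := by
  refine ⟨mm0_30, ?_⟩
  rintro x ⟨j, hj, rfl⟩
  simp only [J0, List.mem_cons, List.not_mem_nil, or_false] at hj
  rcases hj with rfl | rfl | rfl | rfl | rfl | rfl | rfl | rfl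
  · exact ⟨s 1, Subgroup.subset_closure ⟨1, by decide, rfl⟩, u0_30, mr0_30, e0_30_0⟩
  · exact ⟨1, one_mem _, u0_33, mr0_33, e0_30_1⟩
  · exact ⟨s 3, Subgroup.subset_closure ⟨3, by decide, rfl⟩, u0_30, mr0_30, e0_30_2⟩
  · exact ⟨1, one_mem _, u0_26, mr0_26, e0_30_3⟩
  · exact ⟨1, one_mem _, u0_34, mr0_34, e0_30_4⟩
  · exact ⟨s 5, Subgroup.subset_closure ⟨5, by decide, rfl⟩, u0_30, mr0_30, e0_30_5⟩
  · exact ⟨1, one_mem _, u0_25, mr0_25, e0_30_6⟩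
  · exact ⟨1, one_mem _, u0_35, mr0_35, e0_30_7⟩
theorem c0_31 : P0 u0_31 := by
  refine ⟨mm0_31, ?_⟩
  rintro x ⟨j, hj, rfl⟩
  simp only [J0, List.mem_cons, List.not_mem_nil, or_false] at hj
  rcases hj with rfl | rfl | rfl | rfl | rfl | rfl | rfl | rfl
  · exact ⟨s 1, Subgroup.subset_closure ⟨1, by decide, rfl⟩, u0_31, mr0_31, e0_31_0⟩
  · exact ⟨s 2, Subgroup.subset_closure ⟨2, by decide, rfl⟩, u0_31, mr0_31, e0_31_1⟩
  · exact ⟨1, one_mem _, u0_27, mr0_27, e0_31_2⟩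
  · exact ⟨1, one_mem _, u0_35, mr0_35, e0_31_3⟩
  · exact ⟨s 4, Subgroup.subset_closure ⟨4, by decide, rfl⟩, u0_31, mr0_31, e0_31_4⟩
  · exact ⟨s 5, Subgroup.subset_closure ⟨5, by decide, rfl⟩, u0_31, mr0_31, e0_31_5⟩
  · exact ⟨s 6, Subgroup.subset_closure ⟨6, by decide, rfl⟩, u0_31, mr0_31, e0_31_6⟩
  · exact ⟨1, one_mem _, u0_26, mr0_26, e0_31_7⟩
theorem c0_32 : P0 u0_32 := by
  refine ⟨mm0_32, ?_⟩
  rintro x ⟨j, hj, rfl⟩
  simp only [J0, List.mem_cons, List.not_mem_nil, or_false] at hj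
  rcases hj with rfl | rfl | rfl | rfl | rfl | rfl | rfl | rfl
  · exact ⟨s 1, Subgroup.subset_closure ⟨1, by decide, rfl⟩, u0_32, mr0_32, e0_32_0⟩
  · exact ⟨1, one_mem _, u0_29, mr0_29, e0_32_1⟩
  · exact ⟨s 3, Subgroup.subset_closure ⟨3, by decide, rfl⟩, u0_32, mr0_32, e0_32_2⟩
  · exact ⟨1, one_mem _, u0_36, mr0_36, e0_32_3⟩
  · exact ⟨1, one_mem _, u0_28, mr0_28, e0_32_4⟩
  · exact ⟨s 0, Subgroup.subset_closure ⟨0, by decide, rfl⟩, u0_32, mr0_32, e0_32_5⟩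
  · exact ⟨1, one_mem _, u0_37, mr0_37, e0_32_6⟩
  · exact ⟨s 6, Subgroup.subset_closure ⟨6, by decide, rfl⟩, u0_32, mr0_32, e0_32_7⟩
theorem c0_33 : P0 u0_33 := by
  refine ⟨mm0_33, ?_⟩
  rintro x ⟨j, hj, rfl⟩
  simp only [J0, List.mem_cons, List.not_mem_nil, or_false] at hj
  rcases hj with rfl | rfl | rfl | rfl | rfl | rfl | rfl | rfl
  · exact ⟨s 1, Subgroup.subset_closure ⟨1, by decide, rfl⟩, u0_33, mr0_33, e0_33_0⟩
  · exact ⟨1, one_mem _, u0_30, mr0_30, e0_33_1⟩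
  · exact ⟨s 3, Subgroup.subset_closure ⟨3, by decide, rfl⟩, u0_33, mr0_33, e0_33_2⟩
  · exact ⟨s 2, Subgroup.subset_closure ⟨2, by decide, rfl⟩, u0_33, mr0_33, e0_33_3⟩
  · exact ⟨1, one_mem _, u0_37, mr0_37, e0_33_4⟩
  · exact ⟨s 5, Subgroup.subset_closure ⟨5, by decide, rfl⟩, u0_33, mr0_33, e0_33_5⟩
  · exact ⟨1, one_mem _, u0_28, mr0_28, e0_33_6⟩
  · exact ⟨1, one_mem _, u0_38, mr0_38, e0_33_7⟩
theorem c0_34 : P0 u0_34 := by
  refine ⟨mm0_34, ?_⟩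
  rintro x ⟨j, hj, rfl⟩
  simp only [J0, List.mem_cons, List.not_mem_nil, or_false] at hj
  rcases hj with rfl | rfl | rfl | rfl | rfl | rfl | rfl | rfl
  · exact ⟨s 1, Subgroup.subset_closure ⟨1, by decide, rfl⟩, u0_34, mr0_34, e0_34_0⟩
  · exact ⟨1, one_mem _, u0_37, mr0_37, e0_34_1⟩
  · exact ⟨s 3, Subgroup.subset_closure ⟨3, by decide, rfl⟩, u0_34, mr0_34, e0_34_2⟩
  · exact ⟨s 4, Subgroup.subset_closure ⟨4, by decide, rfl⟩, u0_34, mr0_34, e0_34_3⟩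
  · exact ⟨1, one_mem _, u0_30, mr0_30, e0_34_4⟩
  · exact ⟨1, one_mem _, u0_39, mr0_39, e0_34_5⟩
  · exact ⟨1, one_mem _, u0_29, mr0_29, e0_34_6⟩
  · exact ⟨1, one_mem _, u0_40, mr0_40, e0_34_7⟩
theorem c0_35 : P0 u0_35 := by
  refine ⟨mm0_35, ?_⟩
  rintro x ⟨j, hj, rfl⟩
  simp only [J0, List.mem_cons, List.not_mem_nil, or_false] at hj
  rcases hj with rfl | rfl | rfl | rfl | rfl | rfl | rfl | rfl
  · exact ⟨s 1, Subgroup.subset_closure ⟨1, by decide, rfl⟩, u0_35, mr0_35, e0_35_0⟩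
  · exact ⟨1, one_mem _, u0_38, mr0_38, e0_35_1⟩
  · exact ⟨s 3, Subgroup.subset_closure ⟨3, by decide, rfl⟩, u0_35, mr0_35, e0_35_2⟩
  · exact ⟨1, one_mem _, u0_31, mr0_31, e0_35_3⟩
  · exact ⟨1, one_mem _, u0_40, mr0_40, e0_35_4⟩
  · exact ⟨s 5, Subgroup.subset_closure ⟨5, by decide, rfl⟩, u0_35, mr0_35, e0_35_5⟩
  · exact ⟨s 6, Subgroup.subset_closure ⟨6, by decide, rfl⟩, u0_35, mr0_35, e0_35_6⟩
  · exact ⟨1, one_mem _, u0_30, mr0_30, e0_35_7⟩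
theorem c0_36 : P0 u0_36 := by
  refine ⟨mm0_36, ?_⟩
  rintro x ⟨j, hj, rfl⟩
  simp only [J0, List.mem_cons, List.not_mem_nil, or_false] at hj
  rcases hj with rfl | rfl | rfl | rfl | rfl | rfl | rfl | rfl
  · exact ⟨s 1, Subgroup.subset_closure ⟨1, by decide, rfl⟩, u0_36, mr0_36, e0_36_0⟩
  · exact ⟨s 4, Subgroup.subset_closure ⟨4, by decide, rfl⟩, u0_36, mr0_36, e0_36_1⟩
  · exact ⟨1, one_mem _, u0_41, mr0_41, e0_36_2⟩
  · exact ⟨1, one_mem _, u0_32, mr0_32, e0_36_3⟩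
  · exact ⟨s 2, Subgroup.subset_closure ⟨2, by decide, rfl⟩, u0_36, mr0_36, e0_36_4⟩
  · exact ⟨s 0, Subgroup.subset_closure ⟨0, by decide, rfl⟩, u0_36, mr0_36, e0_36_5⟩
  · exact ⟨1, one_mem _, u0_42, mr0_42, e0_36_6⟩
  · exact ⟨s 6, Subgroup.subset_closure ⟨6, by decide, rfl⟩, u0_36, mr0_36, e0_36_7⟩
theorem c0_37 : P0 u0_37 := by
  refine ⟨mm0_37, ?_⟩
  rintro x ⟨j, hj, rfl⟩
  simp only [J0, List.mem_cons, List.not_mem_nil, or_false] at hj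
  rcases hj with rfl | rfl | rfl | rfl | rfl | rfl | rfl | rfl
  · exact ⟨s 1, Subgroup.subset_closure ⟨1, by decide, rfl⟩, u0_37, mr0_37, e0_37_0⟩
  · exact ⟨1, one_mem _, u0_34, mr0_34, e0_37_1⟩
  · exact ⟨s 3, Subgroup.subset_closure ⟨3, by decide, rfl⟩, u0_37, mr0_37, e0_37_2⟩
  · exact ⟨1, one_mem _, u0_42, mr0_42, e0_37_3⟩
  · exact ⟨1, one_mem _, u0_33, mr0_33, e0_37_4⟩
  · exact ⟨1, one_mem _, u0_43, mr0_43, e0_37_5⟩
  · exact ⟨1, one_mem _, u0_32, mr0_32, e0_37_6⟩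
  · exact ⟨1, one_mem _, u0_44, mr0_44, e0_37_7⟩
theorem c0_38 : P0 u0_38 := by
  refine ⟨mm0_38, ?_⟩
  rintro x ⟨j, hj, rfl⟩
  simp only [J0, List.mem_cons, List.not_mem_nil, or_false] at hj
  rcases hj with rfl | rfl | rfl | rfl | rfl | rfl | rfl | rfl
  · exact ⟨s 1, Subgroup.subset_closure ⟨1, by decide, rfl⟩, u0_38, mr0_38, e0_38_0⟩
  · exact ⟨1, one_mem _, u0_35, mr0_35, e0_38_1⟩
  · exact ⟨s 3, Subgroup.subset_closure ⟨3, by decide, rfl⟩, u0_38, mr0_38, e0_38_2⟩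
  · exact ⟨s 2, Subgroup.subset_closure ⟨2, by decide, rfl⟩, u0_38, mr0_38, e0_38_3⟩
  · exact ⟨1, one_mem _, u0_44, mr0_44, e0_38_4⟩
  · exact ⟨s 5, Subgroup.subset_closure ⟨5, by decide, rfl⟩, u0_38, mr0_38, e0_38_5⟩
  · exact ⟨s 6, Subgroup.subset_closure ⟨6, by decide, rfl⟩, u0_38, mr0_38, e0_38_6⟩
  · exact ⟨1, one_mem _, u0_33, mr0_33, e0_38_7⟩
theorem c0_39 : P0 u0_39 := by
  refine ⟨mm0_39, ?_⟩
  rintro x ⟨j, hj, rfl⟩
  simp only [J0, List.mem_cons, List.not_mem_nil, or_false] at hj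
  rcases hj with rfl | rfl | rfl | rfl | rfl | rfl | rfl | rfl
  · exact ⟨s 1, Subgroup.subset_closure ⟨1, by decide, rfl⟩, u0_39, mr0_39, e0_39_0⟩
  · exact ⟨1, one_mem _, u0_43, mr0_43, e0_39_1⟩
  · exact ⟨s 3, Subgroup.subset_closure ⟨3, by decide, rfl⟩, u0_39, mr0_39, e0_39_2⟩
  · exact ⟨s 4, Subgroup.subset_closure ⟨4, by decide, rfl⟩, u0_39, mr0_39, e0_39_3⟩
  · exact ⟨s 5, Subgroup.subset_closure ⟨5, by decide, rfl⟩, u0_39, mr0_39, e0_39_4⟩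
  · exact ⟨1, one_mem _, u0_34, mr0_34, e0_39_5⟩
  · exact ⟨s 0, Subgroup.subset_closure ⟨0, by decide, rfl⟩, u0_39, mr0_39, e0_39_6⟩
  · exact ⟨1, one_mem _, u0_45, mr0_45, e0_39_7⟩
theorem c0_40 : P0 u0_40 := by
  refine ⟨mm0_40, ?_⟩
  rintro x ⟨j, hj, rfl⟩
  simp only [J0, List.mem_cons, List.not_mem_nil, or_false] at hj
  rcases hj with rfl | rfl | rfl | rfl | rfl | rfl | rfl | rfl
  · exact ⟨s 1, Subgroup.subset_closure ⟨1, by decide, rfl⟩, u0_40, mr0_40, e0_40_0⟩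
  · exact ⟨1, one_mem _, u0_44, mr0_44, e0_40_1⟩
  · exact ⟨s 3, Subgroup.subset_closure ⟨3, by decide, rfl⟩, u0_40, mr0_40, e0_40_2⟩
  · exact ⟨s 4, Subgroup.subset_closure ⟨4, by decide, rfl⟩, u0_40, mr0_40, e0_40_3⟩
  · exact ⟨1, one_mem _, u0_35, mr0_35, e0_40_4⟩
  · exact ⟨1, one_mem _, u0_45, mr0_45, e0_40_5⟩
  · exact ⟨s 6, Subgroup.subset_closure ⟨6, by decide, rfl⟩, u0_40, mr0_40, e0_40_6⟩
  · exact ⟨1, one_mem _, u0_34, mr0_34, e0_40_7⟩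
theorem c0_41 : P0 u0_41 := by
  refine ⟨mm0_41, ?_⟩
  rintro x ⟨j, hj, rfl⟩
  simp only [J0, List.mem_cons, List.not_mem_nil, or_false] at hj
  rcases hj with rfl | rfl | rfl | rfl | rfl | rfl | rfl | rfl
  · exact ⟨1, one_mem _, u0_46, mr0_46, e0_41_0⟩
  · exact ⟨s 4, Subgroup.subset_closure ⟨4, by decide, rfl⟩, u0_41, mr0_41, e0_41_1⟩
  · exact ⟨1, one_mem _, u0_36, mr0_36, e0_41_2⟩
  · exact ⟨s 3, Subgroup.subset_closure ⟨3, by decide, rfl⟩, u0_41, mr0_41, e0_41_3⟩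
  · exact ⟨s 2, Subgroup.subset_closure ⟨2, by decide, rfl⟩, u0_41, mr0_41, e0_41_4⟩
  · exact ⟨s 0, Subgroup.subset_closure ⟨0, by decide, rfl⟩, u0_41, mr0_41, e0_41_5⟩
  · exact ⟨1, one_mem _, u0_47, mr0_47, e0_41_6⟩
  · exact ⟨s 6, Subgroup.subset_closure ⟨6, by decide, rfl⟩, u0_41, mr0_41, e0_41_7⟩
theorem c0_42 : P0 u0_42 := by
  refine ⟨mm0_42, ?_⟩
  rintro x ⟨j, hj, rfl⟩
  simp only [J0, List.mem_cons, List.not_mem_nil, or_false] at hj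
  rcases hj with rfl | rfl | rfl | rfl | rfl | rfl | rfl | rfl
  · exact ⟨s 1, Subgroup.subset_closure ⟨1, by decide, rfl⟩, u0_42, mr0_42, e0_42_0⟩
  · exact ⟨s 4, Subgroup.subset_closure ⟨4, by decide, rfl⟩, u0_42, mr0_42, e0_42_1⟩
  · exact ⟨1, one_mem _, u0_47, mr0_47, e0_42_2⟩
  · exact ⟨1, one_mem _, u0_37, mr0_37, e0_42_3⟩
  · exact ⟨s 2, Subgroup.subset_closure ⟨2, by decide, rfl⟩, u0_42, mr0_42, e0_42_4⟩
  · exact ⟨1, one_mem _, u0_48, mr0_48, e0_42_5⟩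
  · exact ⟨1, one_mem _, u0_36, mr0_36, e0_42_6⟩
  · exact ⟨1, one_mem _, u0_49, mr0_49, e0_42_7⟩
theorem c0_43 : P0 u0_43 := by
  refine ⟨mm0_43, ?_⟩
  rintro x ⟨j, hj, rfl⟩
  simp only [J0, List.mem_cons, List.not_mem_nil, or_false] at hj
  rcases hj with rfl | rfl | rfl | rfl | rfl | rfl | rfl | rfl
  · exact ⟨s 1, Subgroup.subset_closure ⟨1, by decide, rfl⟩, u0_43, mr0_43, e0_43_0⟩
  · exact ⟨1, one_mem _, u0_39, mr0_39, e0_43_1⟩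
  · exact ⟨s 3, Subgroup.subset_closure ⟨3, by decide, rfl⟩, u0_43, mr0_43, e0_43_2⟩
  · exact ⟨1, one_mem _, u0_48, mr0_48, e0_43_3⟩
  · exact ⟨s 5, Subgroup.subset_closure ⟨5, by decide, rfl⟩, u0_43, mr0_43, e0_43_4⟩
  · exact ⟨1, one_mem _, u0_37, mr0_37, e0_43_5⟩
  · exact ⟨s 0, Subgroup.subset_closure ⟨0, by decide, rfl⟩, u0_43, mr0_43, e0_43_6⟩
  · exact ⟨1, one_mem _, u0_50, mr0_50, e0_43_7⟩
theorem c0_44 : P0 u0_44 := by
  refine ⟨mm0_44, ?_⟩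
  rintro x ⟨j, hj, rfl⟩
  simp only [J0, List.mem_cons, List.not_mem_nil, or_false] at hj
  rcases hj with rfl | rfl | rfl | rfl | rfl | rfl | rfl | rfl
  · exact ⟨s 1, Subgroup.subset_closure ⟨1, by decide, rfl⟩, u0_44, mr0_44, e0_44_0⟩
  · exact ⟨1, one_mem _, u0_40, mr0_40, e0_44_1⟩
  · exact ⟨s 3, Subgroup.subset_closure ⟨3, by decide, rfl⟩, u0_44, mr0_44, e0_44_2⟩
  · exact ⟨1, one_mem _, u0_49, mr0_49, e0_44_3⟩
  · exact ⟨1, one_mem _, u0_38, mr0_38, e0_44_4⟩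
  · exact ⟨1, one_mem _, u0_50, mr0_50, e0_44_5⟩
  · exact ⟨s 6, Subgroup.subset_closure ⟨6, by decide, rfl⟩, u0_44, mr0_44, e0_44_6⟩
  · exact ⟨1, one_mem _, u0_37, mr0_37, e0_44_7⟩
theorem c0_45 : P0 u0_45 := by
  refine ⟨mm0_45, ?_⟩
  rintro x ⟨j, hj, rfl⟩
  simp only [J0, List.mem_cons, List.not_mem_nil, or_false] at hj
  rcases hj with rfl | rfl | rfl | rfl | rfl | rfl | rfl | rfl
  · exact ⟨s 1, Subgroup.subset_closure ⟨1, by decide, rfl⟩, u0_45, mr0_45, e0_45_0⟩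
  · exact ⟨1, one_mem _, u0_50, mr0_50, e0_45_1⟩
  · exact ⟨s 3, Subgroup.subset_closure ⟨3, by decide, rfl⟩, u0_45, mr0_45, e0_45_2⟩
  · exact ⟨s 4, Subgroup.subset_closure ⟨4, by decide, rfl⟩, u0_45, mr0_45, e0_45_3⟩
  · exact ⟨s 5, Subgroup.subset_closure ⟨5, by decide, rfl⟩, u0_45, mr0_45, e0_45_4⟩
  · exact ⟨1, one_mem _, u0_40, mr0_40, e0_45_5⟩
  · exact ⟨1, one_mem _, u0_51, mr0_51, e0_45_6⟩
  · exact ⟨1, one_mem _, u0_39, mr0_39, e0_45_7⟩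
theorem c0_46 : P0 u0_46 := by
  refine ⟨mm0_46, ?_⟩
  rintro x ⟨j, hj, rfl⟩
  simp only [J0, List.mem_cons, List.not_mem_nil, or_false] at hj
  rcases hj with rfl | rfl | rfl | rfl | rfl | rfl | rfl | rfl
  · exact ⟨1, one_mem _, u0_41, mr0_41, e0_46_0⟩
  · exact ⟨s 4, Subgroup.subset_closure ⟨4, by decide, rfl⟩, u0_46, mr0_46, e0_46_1⟩
  · exact ⟨s 1, Subgroup.subset_closure ⟨1, by decide, rfl⟩, u0_46, mr0_46, e0_46_2⟩
  · exact ⟨s 3, Subgroup.subset_closure ⟨3, by decide, rfl⟩, u0_46, mr0_46, e0_46_3⟩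
  · exact ⟨s 2, Subgroup.subset_closure ⟨2, by decide, rfl⟩, u0_46, mr0_46, e0_46_4⟩
  · exact ⟨s 0, Subgroup.subset_closure ⟨0, by decide, rfl⟩, u0_46, mr0_46, e0_46_5⟩
  · exact ⟨1, one_mem _, u0_52, mr0_52, e0_46_6⟩
  · exact ⟨s 6, Subgroup.subset_closure ⟨6, by decide, rfl⟩, u0_46, mr0_46, e0_46_7⟩
theorem c0_47 : P0 u0_47 := by
  refine ⟨mm0_47, ?_⟩
  rintro x ⟨j, hj, rfl⟩
  simp only [J0, List.mem_cons, List.not_mem_nil, or_false] at hj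
  rcases hj with rfl | rfl | rfl | rfl | rfl | rfl | rfl | rfl
  · exact ⟨1, one_mem _, u0_52, mr0_52, e0_47_0⟩
  · exact ⟨s 4, Subgroup.subset_closure ⟨4, by decide, rfl⟩, u0_47, mr0_47, e0_47_1⟩
  · exact ⟨1, one_mem _, u0_42, mr0_42, e0_47_2⟩
  · exact ⟨s 3, Subgroup.subset_closure ⟨3, by decide, rfl⟩, u0_47, mr0_47, e0_47_3⟩
  · exact ⟨s 2, Subgroup.subset_closure ⟨2, by decide, rfl⟩, u0_47, mr0_47, e0_47_4⟩
  · exact ⟨1, one_mem _, u0_53, mr0_53, e0_47_5⟩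
  · exact ⟨1, one_mem _, u0_41, mr0_41, e0_47_6⟩
  · exact ⟨1, one_mem _, u0_54, mr0_54, e0_47_7⟩
theorem c0_48 : P0 u0_48 := by
  refine ⟨mm0_48, ?_⟩
  rintro x ⟨j, hj, rfl⟩
  simp only [J0, List.mem_cons, List.not_mem_nil, or_false] at hj
  rcases hj with rfl | rfl | rfl | rfl | rfl | rfl | rfl | rfl
  · exact ⟨s 1, Subgroup.subset_closure ⟨1, by decide, rfl⟩, u0_48, mr0_48, e0_48_0⟩
  · exact ⟨s 4, Subgroup.subset_closure ⟨4, by decide, rfl⟩, u0_48, mr0_48, e0_48_1⟩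
  · exact ⟨1, one_mem _, u0_53, mr0_53, e0_48_2⟩
  · exact ⟨1, one_mem _, u0_43, mr0_43, e0_48_3⟩
  · exact ⟨1, one_mem _, u0_55, mr0_55, e0_48_4⟩
  · exact ⟨1, one_mem _, u0_42, mr0_42, e0_48_5⟩
  · exact ⟨s 0, Subgroup.subset_closure ⟨0, by decide, rfl⟩, u0_48, mr0_48, e0_48_6⟩
  · exact ⟨1, one_mem _, u0_56, mr0_56, e0_48_7⟩
theorem c0_49 : P0 u0_49 := by
  refine ⟨mm0_49, ?_⟩
  rintro x ⟨j, hj, rfl⟩
  simp only [J0, List.mem_cons, List.not_mem_nil, or_false] at hj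
  rcases hj with rfl | rfl | rfl | rfl | rfl | rfl | rfl | rfl
  · exact ⟨s 1, Subgroup.subset_closure ⟨1, by decide, rfl⟩, u0_49, mr0_49, e0_49_0⟩
  · exact ⟨s 4, Subgroup.subset_closure ⟨4, by decide, rfl⟩, u0_49, mr0_49, e0_49_1⟩
  · exact ⟨1, one_mem _, u0_54, mr0_54, e0_49_2⟩
  · exact ⟨1, one_mem _, u0_44, mr0_44, e0_49_3⟩
  · exact ⟨s 2, Subgroup.subset_closure ⟨2, by decide, rfl⟩, u0_49, mr0_49, e0_49_4⟩
  · exact ⟨1, one_mem _, u0_56, mr0_56, e0_49_5⟩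
  · exact ⟨s 6, Subgroup.subset_closure ⟨6, by decide, rfl⟩, u0_49, mr0_49, e0_49_6⟩
  · exact ⟨1, one_mem _, u0_42, mr0_42, e0_49_7⟩
theorem c0_50 : P0 u0_50 := by
  refine ⟨mm0_50, ?_⟩
  rintro x ⟨j, hj, rfl⟩
  simp only [J0, List.mem_cons, List.not_mem_nil, or_false] at hj
  rcases hj with rfl | rfl | rfl | rfl | rfl | rfl | rfl | rfl
  · exact ⟨s 1, Subgroup.subset_closure ⟨1, by decide, rfl⟩, u0_50, mr0_50, e0_50_0⟩
  · exact ⟨1, one_mem _, u0_45, mr0_45, e0_50_1⟩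
  · exact ⟨s 3, Subgroup.subset_closure ⟨3, by decide, rfl⟩, u0_50, mr0_50, e0_50_2⟩
  · exact ⟨1, one_mem _, u0_56, mr0_56, e0_50_3⟩
  · exact ⟨s 5, Subgroup.subset_closure ⟨5, by decide, rfl⟩, u0_50, mr0_50, e0_50_4⟩
  · exact ⟨1, one_mem _, u0_44, mr0_44, e0_50_5⟩
  · exact ⟨1, one_mem _, u0_57, mr0_57, e0_50_6⟩
  · exact ⟨1, one_mem _, u0_43, mr0_43, e0_50_7⟩
theorem c0_51 : P0 u0_51 := by
  refine ⟨mm0_51, ?_⟩
  rintro x ⟨j, hj, rfl⟩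
  simp only [J0, List.mem_cons, List.not_mem_nil, or_false] at hj
  rcases hj with rfl | rfl | rfl | rfl | rfl | rfl | rfl | rfl
  · exact ⟨s 1, Subgroup.subset_closure ⟨1, by decide, rfl⟩, u0_51, mr0_51, e0_51_0⟩
  · exact ⟨1, one_mem _, u0_57, mr0_57, e0_51_1⟩
  · exact ⟨s 3, Subgroup.subset_closure ⟨3, by decide, rfl⟩, u0_51, mr0_51, e0_51_2⟩
  · exact ⟨s 4, Subgroup.subset_closure ⟨4, by decide, rfl⟩, u0_51, mr0_51, e0_51_3⟩
  · exact ⟨s 5, Subgroup.subset_closure ⟨5, by decide, rfl⟩, u0_51, mr0_51, e0_51_4⟩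
  · exact ⟨s 6, Subgroup.subset_closure ⟨6, by decide, rfl⟩, u0_51, mr0_51, e0_51_5⟩
  · exact ⟨1, one_mem _, u0_45, mr0_45, e0_51_6⟩
  · exact ⟨s 0, Subgroup.subset_closure ⟨0, by decide, rfl⟩, u0_51, mr0_51, e0_51_7⟩
theorem c0_52 : P0 u0_52 := by
  refine ⟨mm0_52, ?_⟩
  rintro x ⟨j, hj, rfl⟩
  simp only [J0, List.mem_cons, List.not_mem_nil, or_false] at hj
  rcases hj with rfl | rfl | rfl | rfl | rfl | rfl | rfl | rfl
  · exact ⟨1, one_mem _, u0_47, mr0_47, e0_52_0⟩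
  · exact ⟨s 4, Subgroup.subset_closure ⟨4, by decide, rfl⟩, u0_52, mr0_52, e0_52_1⟩
  · exact ⟨s 1, Subgroup.subset_closure ⟨1, by decide, rfl⟩, u0_52, mr0_52, e0_52_2⟩
  · exact ⟨s 3, Subgroup.subset_closure ⟨3, by decide, rfl⟩, u0_52, mr0_52, e0_52_3⟩
  · exact ⟨s 2, Subgroup.subset_closure ⟨2, by decide, rfl⟩, u0_52, mr0_52, e0_52_4⟩
  · exact ⟨1, one_mem _, u0_58, mr0_58, e0_52_5⟩
  · exact ⟨1, one_mem _, u0_46, mr0_46, e0_52_6⟩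
  · exact ⟨1, one_mem _, u0_59, mr0_59, e0_52_7⟩
theorem c0_53 : P0 u0_53 := by
  refine ⟨mm0_53, ?_⟩
  rintro x ⟨j, hj, rfl⟩
  simp only [J0, List.mem_cons, List.not_mem_nil, or_false] at hj
  rcases hj with rfl | rfl | rfl | rfl | rfl | rfl | rfl | rfl
  · exact ⟨1, one_mem _, u0_58, mr0_58, e0_53_0⟩
  · exact ⟨s 4, Subgroup.subset_closure ⟨4, by decide, rfl⟩, u0_53, mr0_53, e0_53_1⟩
  · exact ⟨1, one_mem _, u0_48, mr0_48, e0_53_2⟩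
  · exact ⟨s 3, Subgroup.subset_closure ⟨3, by decide, rfl⟩, u0_53, mr0_53, e0_53_3⟩
  · exact ⟨1, one_mem _, u0_60, mr0_60, e0_53_4⟩
  · exact ⟨1, one_mem _, u0_47, mr0_47, e0_53_5⟩
  · exact ⟨s 0, Subgroup.subset_closure ⟨0, by decide, rfl⟩, u0_53, mr0_53, e0_53_6⟩
  · exact ⟨1, one_mem _, u0_61, mr0_61, e0_53_7⟩
theorem c0_54 : P0 u0_54 := by
  refine ⟨mm0_54, ?_⟩
  rintro x ⟨j, hj, rfl⟩
  simp only [J0, List.mem_cons, List.not_mem_nil, or_false] at hj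
  rcases hj with rfl | rfl | rfl | rfl | rfl | rfl | rfl | rfl
  · exact ⟨1, one_mem _, u0_59, mr0_59, e0_54_0⟩
  · exact ⟨s 4, Subgroup.subset_closure ⟨4, by decide, rfl⟩, u0_54, mr0_54, e0_54_1⟩
  · exact ⟨1, one_mem _, u0_49, mr0_49, e0_54_2⟩
  · exact ⟨s 3, Subgroup.subset_closure ⟨3, by decide, rfl⟩, u0_54, mr0_54, e0_54_3⟩
  · exact ⟨s 2, Subgroup.subset_closure ⟨2, by decide, rfl⟩, u0_54, mr0_54, e0_54_4⟩
  · exact ⟨1, one_mem _, u0_61, mr0_61, e0_54_5⟩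
  · exact ⟨s 6, Subgroup.subset_closure ⟨6, by decide, rfl⟩, u0_54, mr0_54, e0_54_6⟩
  · exact ⟨1, one_mem _, u0_47, mr0_47, e0_54_7⟩
theorem c0_55 : P0 u0_55 := by
  refine ⟨mm0_55, ?_⟩
  rintro x ⟨j, hj, rfl⟩
  simp only [J0, List.mem_cons, List.not_mem_nil, or_false] at hj
  rcases hj with rfl | rfl | rfl | rfl | rfl | rfl | rfl | rfl
  · exact ⟨s 1, Subgroup.subset_closure ⟨1, by decide, rfl⟩, u0_55, mr0_55, e0_55_0⟩
  · exact ⟨s 4, Subgroup.subset_closure ⟨4, by decide, rfl⟩, u0_55, mr0_55, e0_55_1⟩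
  · exact ⟨1, one_mem _, u0_60, mr0_60, e0_55_2⟩
  · exact ⟨s 5, Subgroup.subset_closure ⟨5, by decide, rfl⟩, u0_55, mr0_55, e0_55_3⟩
  · exact ⟨1, one_mem _, u0_48, mr0_48, e0_55_4⟩
  · exact ⟨s 2, Subgroup.subset_closure ⟨2, by decide, rfl⟩, u0_55, mr0_55, e0_55_5⟩
  · exact ⟨s 0, Subgroup.subset_closure ⟨0, by decide, rfl⟩, u0_55, mr0_55, e0_55_6⟩
  · exact ⟨1, one_mem _, u0_62, mr0_62, e0_55_7⟩
theorem c0_56 : P0 u0_56 := by
  refine ⟨mm0_56, ?_⟩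
  rintro x ⟨j, hj, rfl⟩
  simp only [J0, List.mem_cons, List.not_mem_nil, or_false] at hj
  rcases hj with rfl | rfl | rfl | rfl | rfl | rfl | rfl | rfl
  · exact ⟨s 1, Subgroup.subset_closure ⟨1, by decide, rfl⟩, u0_56, mr0_56, e0_56_0⟩
  · exact ⟨s 4, Subgroup.subset_closure ⟨4, by decide, rfl⟩, u0_56, mr0_56, e0_56_1⟩
  · exact ⟨1, one_mem _, u0_61, mr0_61, e0_56_2⟩
  · exact ⟨1, one_mem _, u0_50, mr0_50, e0_56_3⟩
  · exact ⟨1, one_mem _, u0_62, mr0_62, e0_56_4⟩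
  · exact ⟨1, one_mem _, u0_49, mr0_49, e0_56_5⟩
  · exact ⟨1, one_mem _, u0_63, mr0_63, e0_56_6⟩
  · exact ⟨1, one_mem _, u0_48, mr0_48, e0_56_7⟩
theorem c0_57 : P0 u0_57 := by
  refine ⟨mm0_57, ?_⟩
  rintro x ⟨j, hj, rfl⟩
  simp only [J0, List.mem_cons, List.not_mem_nil, or_false] at hj
  rcases hj with rfl | rfl | rfl | rfl | rfl | rfl | rfl | rfl
  · exact ⟨s 1, Subgroup.subset_closure ⟨1, by decide, rfl⟩, u0_57, mr0_57, e0_57_0⟩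
  · exact ⟨1, one_mem _, u0_51, mr0_51, e0_57_1⟩
  · exact ⟨s 3, Subgroup.subset_closure ⟨3, by decide, rfl⟩, u0_57, mr0_57, e0_57_2⟩
  · exact ⟨1, one_mem _, u0_63, mr0_63, e0_57_3⟩
  · exact ⟨s 5, Subgroup.subset_closure ⟨5, by decide, rfl⟩, u0_57, mr0_57, e0_57_4⟩
  · exact ⟨s 6, Subgroup.subset_closure ⟨6, by decide, rfl⟩, u0_57, mr0_57, e0_57_5⟩
  · exact ⟨1, one_mem _, u0_50, mr0_50, e0_57_6⟩
  · exact ⟨s 0, Subgroup.subset_closure ⟨0, by decide, rfl⟩, u0_57, mr0_57, e0_57_7⟩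
theorem c0_58 : P0 u0_58 := by
  refine ⟨mm0_58, ?_⟩
  rintro x ⟨j, hj, rfl⟩
  simp only [J0, List.mem_cons, List.not_mem_nil, or_false] at hj
  rcases hj with rfl | rfl | rfl | rfl | rfl | rfl | rfl | rfl
  · exact ⟨1, one_mem _, u0_53, mr0_53, e0_58_0⟩
  · exact ⟨s 4, Subgroup.subset_closure ⟨4, by decide, rfl⟩, u0_58, mr0_58, e0_58_1⟩
  · exact ⟨s 1, Subgroup.subset_closure ⟨1, by decide, rfl⟩, u0_58, mr0_58, e0_58_2⟩
  · exact ⟨s 3, Subgroup.subset_closure ⟨3, by decide, rfl⟩, u0_58, mr0_58, e0_58_3⟩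
  · exact ⟨1, one_mem _, u0_64, mr0_64, e0_58_4⟩
  · exact ⟨1, one_mem _, u0_52, mr0_52, e0_58_5⟩
  · exact ⟨s 0, Subgroup.subset_closure ⟨0, by decide, rfl⟩, u0_58, mr0_58, e0_58_6⟩
  · exact ⟨1, one_mem _, u0_65, mr0_65, e0_58_7⟩
theorem c0_59 : P0 u0_59 := by
  refine ⟨mm0_59, ?_⟩
  rintro x ⟨j, hj, rfl⟩
  simp only [J0, List.mem_cons, List.not_mem_nil, or_false] at hj
  rcases hj with rfl | rfl | rfl | rfl | rfl | rfl | rfl | rfl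
  · exact ⟨1, one_mem _, u0_54, mr0_54, e0_59_0⟩
  · exact ⟨s 4, Subgroup.subset_closure ⟨4, by decide, rfl⟩, u0_59, mr0_59, e0_59_1⟩
  · exact ⟨s 1, Subgroup.subset_closure ⟨1, by decide, rfl⟩, u0_59, mr0_59, e0_59_2⟩
  · exact ⟨s 3, Subgroup.subset_closure ⟨3, by decide, rfl⟩, u0_59, mr0_59, e0_59_3⟩
  · exact ⟨s 2, Subgroup.subset_closure ⟨2, by decide, rfl⟩, u0_59, mr0_59, e0_59_4⟩
  · exact ⟨1, one_mem _, u0_65, mr0_65, e0_59_5⟩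
  · exact ⟨s 6, Subgroup.subset_closure ⟨6, by decide, rfl⟩, u0_59, mr0_59, e0_59_6⟩
  · exact ⟨1, one_mem _, u0_52, mr0_52, e0_59_7⟩
theorem c0_60 : P0 u0_60 := by
  refine ⟨mm0_60, ?_⟩
  rintro x ⟨j, hj, rfl⟩
  simp only [J0, List.mem_cons, List.not_mem_nil, or_false] at hj
  rcases hj with rfl | rfl | rfl | rfl | rfl | rfl | rfl | rfl
  · exact ⟨1, one_mem _, u0_64, mr0_64, e0_60_0⟩
  · exact ⟨s 4, Subgroup.subset_closure ⟨4, by decide, rfl⟩, u0_60, mr0_60, e0_60_1⟩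
  · exact ⟨1, one_mem _, u0_55, mr0_55, e0_60_2⟩
  · exact ⟨1, one_mem _, u0_66, mr0_66, e0_60_3⟩
  · exact ⟨1, one_mem _, u0_53, mr0_53, e0_60_4⟩
  · exact ⟨s 2, Subgroup.subset_closure ⟨2, by decide, rfl⟩, u0_60, mr0_60, e0_60_5⟩
  · exact ⟨s 0, Subgroup.subset_closure ⟨0, by decide, rfl⟩, u0_60, mr0_60, e0_60_6⟩
  · exact ⟨1, one_mem _, u0_67, mr0_67, e0_60_7⟩
theorem c0_61 : P0 u0_61 := by
  refine ⟨mm0_61, ?_⟩
  rintro x ⟨j, hj, rfl⟩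
  simp only [J0, List.mem_cons, List.not_mem_nil, or_false] at hj
  rcases hj with rfl | rfl | rfl | rfl | rfl | rfl | rfl | rfl
  · exact ⟨1, one_mem _, u0_65, mr0_65, e0_61_0⟩
  · exact ⟨s 4, Subgroup.subset_closure ⟨4, by decide, rfl⟩, u0_61, mr0_61, e0_61_1⟩
  · exact ⟨1, one_mem _, u0_56, mr0_56, e0_61_2⟩
  · exact ⟨s 3, Subgroup.subset_closure ⟨3, by decide, rfl⟩, u0_61, mr0_61, e0_61_3⟩
  · exact ⟨1, one_mem _, u0_67, mr0_67, e0_61_4⟩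
  · exact ⟨1, one_mem _, u0_54, mr0_54, e0_61_5⟩
  · exact ⟨1, one_mem _, u0_68, mr0_68, e0_61_6⟩
  · exact ⟨1, one_mem _, u0_53, mr0_53, e0_61_7⟩
theorem c0_62 : P0 u0_62 := by
  refine ⟨mm0_62, ?_⟩
  rintro x ⟨j, hj, rfl⟩
  simp only [J0, List.mem_cons, List.not_mem_nil, or_false] at hj
  rcases hj with rfl | rfl | rfl | rfl | rfl | rfl | rfl | rfl
  · exact ⟨s 1, Subgroup.subset_closure ⟨1, by decide, rfl⟩, u0_62, mr0_62, e0_62_0⟩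
  · exact ⟨s 4, Subgroup.subset_closure ⟨4, by decide, rfl⟩, u0_62, mr0_62, e0_62_1⟩
  · exact ⟨1, one_mem _, u0_67, mr0_67, e0_62_2⟩
  · exact ⟨s 5, Subgroup.subset_closure ⟨5, by decide, rfl⟩, u0_62, mr0_62, e0_62_3⟩
  · exact ⟨1, one_mem _, u0_56, mr0_56, e0_62_4⟩
  · exact ⟨s 2, Subgroup.subset_closure ⟨2, by decide, rfl⟩, u0_62, mr0_62, e0_62_5⟩
  · exact ⟨1, one_mem _, u0_69, mr0_69, e0_62_6⟩
  · exact ⟨1, one_mem _, u0_55, mr0_55, e0_62_7⟩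
theorem c0_63 : P0 u0_63 := by
  refine ⟨mm0_63, ?_⟩
  rintro x ⟨j, hj, rfl⟩
  simp only [J0, List.mem_cons, List.not_mem_nil, or_false] at hj
  rcases hj with rfl | rfl | rfl | rfl | rfl | rfl | rfl | rfl
  · exact ⟨s 1, Subgroup.subset_closure ⟨1, by decide, rfl⟩, u0_63, mr0_63, e0_63_0⟩
  · exact ⟨s 4, Subgroup.subset_closure ⟨4, by decide, rfl⟩, u0_63, mr0_63, e0_63_1⟩
  · exact ⟨1, one_mem _, u0_68, mr0_68, e0_63_2⟩
  · exact ⟨1, one_mem _, u0_57, mr0_57, e0_63_3⟩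
  · exact ⟨1, one_mem _, u0_69, mr0_69, e0_63_4⟩
  · exact ⟨s 6, Subgroup.subset_closure ⟨6, by decide, rfl⟩, u0_63, mr0_63, e0_63_5⟩
  · exact ⟨1, one_mem _, u0_56, mr0_56, e0_63_6⟩
  · exact ⟨s 0, Subgroup.subset_closure ⟨0, by decide, rfl⟩, u0_63, mr0_63, e0_63_7⟩
theorem c0_64 : P0 u0_64 := by
  refine ⟨mm0_64, ?_⟩
  rintro x ⟨j, hj, rfl⟩
  simp only [J0, List.mem_cons, List.not_mem_nil, or_false] at hj
  rcases hj with rfl | rfl | rfl | rfl | rfl | rfl | rfl | rfl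
  · exact ⟨1, one_mem _, u0_60, mr0_60, e0_64_0⟩
  · exact ⟨s 4, Subgroup.subset_closure ⟨4, by decide, rfl⟩, u0_64, mr0_64, e0_64_1⟩
  · exact ⟨s 1, Subgroup.subset_closure ⟨1, by decide, rfl⟩, u0_64, mr0_64, e0_64_2⟩
  · exact ⟨1, one_mem _, u0_70, mr0_70, e0_64_3⟩
  · exact ⟨1, one_mem _, u0_58, mr0_58, e0_64_4⟩
  · exact ⟨s 2, Subgroup.subset_closure ⟨2, by decide, rfl⟩, u0_64, mr0_64, e0_64_5⟩
  · exact ⟨s 0, Subgroup.subset_closure ⟨0, by decide, rfl⟩, u0_64, mr0_64, e0_64_6⟩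
  · exact ⟨1, one_mem _, u0_71, mr0_71, e0_64_7⟩
theorem c0_65 : P0 u0_65 := by
  refine ⟨mm0_65, ?_⟩
  rintro x ⟨j, hj, rfl⟩
  simp only [J0, List.mem_cons, List.not_mem_nil, or_false] at hj
  rcases hj with rfl | rfl | rfl | rfl | rfl | rfl | rfl | rfl
  · exact ⟨1, one_mem _, u0_61, mr0_61, e0_65_0⟩
  · exact ⟨s 4, Subgroup.subset_closure ⟨4, by decide, rfl⟩, u0_65, mr0_65, e0_65_1⟩
  · exact ⟨s 1, Subgroup.subset_closure ⟨1, by decide, rfl⟩, u0_65, mr0_65, e0_65_2⟩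
  · exact ⟨s 3, Subgroup.subset_closure ⟨3, by decide, rfl⟩, u0_65, mr0_65, e0_65_3⟩
  · exact ⟨1, one_mem _, u0_71, mr0_71, e0_65_4⟩
  · exact ⟨1, one_mem _, u0_59, mr0_59, e0_65_5⟩
  · exact ⟨1, one_mem _, u0_72, mr0_72, e0_65_6⟩
  · exact ⟨1, one_mem _, u0_58, mr0_58, e0_65_7⟩
theorem c0_66 : P0 u0_66 := by
  refine ⟨mm0_66, ?_⟩
  rintro x ⟨j, hj, rfl⟩
  simp only [J0, List.mem_cons, List.not_mem_nil, or_false] at hj
  rcases hj with rfl | rfl | rfl | rfl | rfl | rfl | rfl | rfl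
  · exact ⟨1, one_mem _, u0_70, mr0_70, e0_66_0⟩
  · exact ⟨1, one_mem _, u0_73, mr0_73, e0_66_1⟩
  · exact ⟨s 5, Subgroup.subset_closure ⟨5, by decide, rfl⟩, u0_66, mr0_66, e0_66_2⟩
  · exact ⟨1, one_mem _, u0_60, mr0_60, e0_66_3⟩
  · exact ⟨s 3, Subgroup.subset_closure ⟨3, by decide, rfl⟩, u0_66, mr0_66, e0_66_4⟩
  · exact ⟨s 2, Subgroup.subset_closure ⟨2, by decide, rfl⟩, u0_66, mr0_66, e0_66_5⟩
  · exact ⟨s 0, Subgroup.subset_closure ⟨0, by decide, rfl⟩, u0_66, mr0_66, e0_66_6⟩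
  · exact ⟨1, one_mem _, u0_74, mr0_74, e0_66_7⟩
theorem c0_67 : P0 u0_67 := by
  refine ⟨mm0_67, ?_⟩
  rintro x ⟨j, hj, rfl⟩
  simp only [J0, List.mem_cons, List.not_mem_nil, or_false] at hj
  rcases hj with rfl | rfl | rfl | rfl | rfl | rfl | rfl | rfl
  · exact ⟨1, one_mem _, u0_71, mr0_71, e0_67_0⟩
  · exact ⟨s 4, Subgroup.subset_closure ⟨4, by decide, rfl⟩, u0_67, mr0_67, e0_67_1⟩
  · exact ⟨1, one_mem _, u0_62, mr0_62, e0_67_2⟩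
  · exact ⟨1, one_mem _, u0_74, mr0_74, e0_67_3⟩
  · exact ⟨1, one_mem _, u0_61, mr0_61, e0_67_4⟩
  · exact ⟨s 2, Subgroup.subset_closure ⟨2, by decide, rfl⟩, u0_67, mr0_67, e0_67_5⟩
  · exact ⟨1, one_mem _, u0_75, mr0_75, e0_67_6⟩
  · exact ⟨1, one_mem _, u0_60, mr0_60, e0_67_7⟩
theorem c0_68 : P0 u0_68 := by
  refine ⟨mm0_68, ?_⟩
  rintro x ⟨j, hj, rfl⟩
  simp only [J0, List.mem_cons, List.not_mem_nil, or_false] at hj
  rcases hj with rfl | rfl | rfl | rfl | rfl | rfl | rfl | rfl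
  · exact ⟨1, one_mem _, u0_72, mr0_72, e0_68_0⟩
  · exact ⟨s 4, Subgroup.subset_closure ⟨4, by decide, rfl⟩, u0_68, mr0_68, e0_68_1⟩
  · exact ⟨1, one_mem _, u0_63, mr0_63, e0_68_2⟩
  · exact ⟨s 3, Subgroup.subset_closure ⟨3, by decide, rfl⟩, u0_68, mr0_68, e0_68_3⟩
  · exact ⟨1, one_mem _, u0_75, mr0_75, e0_68_4⟩
  · exact ⟨s 6, Subgroup.subset_closure ⟨6, by decide, rfl⟩, u0_68, mr0_68, e0_68_5⟩
  · exact ⟨1, one_mem _, u0_61, mr0_61, e0_68_6⟩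
  · exact ⟨s 0, Subgroup.subset_closure ⟨0, by decide, rfl⟩, u0_68, mr0_68, e0_68_7⟩
theorem c0_69 : P0 u0_69 := by
  refine ⟨mm0_69, ?_⟩
  rintro x ⟨j, hj, rfl⟩
  simp only [J0, List.mem_cons, List.not_mem_nil, or_false] at hj
  rcases hj with rfl | rfl | rfl | rfl | rfl | rfl | rfl | rfl
  · exact ⟨s 1, Subgroup.subset_closure ⟨1, by decide, rfl⟩, u0_69, mr0_69, e0_69_0⟩
  · exact ⟨s 4, Subgroup.subset_closure ⟨4, by decide, rfl⟩, u0_69, mr0_69, e0_69_1⟩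
  · exact ⟨1, one_mem _, u0_75, mr0_75, e0_69_2⟩
  · exact ⟨s 5, Subgroup.subset_closure ⟨5, by decide, rfl⟩, u0_69, mr0_69, e0_69_3⟩
  · exact ⟨1, one_mem _, u0_63, mr0_63, e0_69_4⟩
  · exact ⟨1, one_mem _, u0_76, mr0_76, e0_69_5⟩
  · exact ⟨1, one_mem _, u0_62, mr0_62, e0_69_6⟩
  · exact ⟨s 0, Subgroup.subset_closure ⟨0, by decide, rfl⟩, u0_69, mr0_69, e0_69_7⟩
theorem c0_70 : P0 u0_70 := by
  refine ⟨mm0_70, ?_⟩
  rintro x ⟨j, hj, rfl⟩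
  simp only [J0, List.mem_cons, List.not_mem_nil, or_false] at hj
  rcases hj with rfl | rfl | rfl | rfl | rfl | rfl | rfl | rfl
  · exact ⟨1, one_mem _, u0_66, mr0_66, e0_70_0⟩
  · exact ⟨1, one_mem _, u0_77, mr0_77, e0_70_1⟩
  · exact ⟨1, one_mem _, u0_78, mr0_78, e0_70_2⟩
  · exact ⟨1, one_mem _, u0_64, mr0_64, e0_70_3⟩
  · exact ⟨s 3, Subgroup.subset_closure ⟨3, by decide, rfl⟩, u0_70, mr0_70, e0_70_4⟩
  · exact ⟨s 2, Subgroup.subset_closure ⟨2, by decide, rfl⟩, u0_70, mr0_70, e0_70_5⟩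
  · exact ⟨s 0, Subgroup.subset_closure ⟨0, by decide, rfl⟩, u0_70, mr0_70, e0_70_6⟩
  · exact ⟨1, one_mem _, u0_79, mr0_79, e0_70_7⟩
theorem c0_71 : P0 u0_71 := by
  refine ⟨mm0_71, ?_⟩
  rintro x ⟨j, hj, rfl⟩
  simp only [J0, List.mem_cons, List.not_mem_nil, or_false] at hj
  rcases hj with rfl | rfl | rfl | rfl | rfl | rfl | rfl | rfl
  · exact ⟨1, one_mem _, u0_67, mr0_67, e0_71_0⟩
  · exact ⟨s 4, Subgroup.subset_closure ⟨4, by decide, rfl⟩, u0_71, mr0_71, e0_71_1⟩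
  · exact ⟨s 1, Subgroup.subset_closure ⟨1, by decide, rfl⟩, u0_71, mr0_71, e0_71_2⟩
  · exact ⟨1, one_mem _, u0_79, mr0_79, e0_71_3⟩
  · exact ⟨1, one_mem _, u0_65, mr0_65, e0_71_4⟩
  · exact ⟨s 2, Subgroup.subset_closure ⟨2, by decide, rfl⟩, u0_71, mr0_71, e0_71_5⟩
  · exact ⟨1, one_mem _, u0_80, mr0_80, e0_71_6⟩
  · exact ⟨1, one_mem _, u0_64, mr0_64, e0_71_7⟩
theorem c0_72 : P0 u0_72 := by
  refine ⟨mm0_72, ?_⟩
  rintro x ⟨j, hj, rfl⟩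
  simp only [J0, List.mem_cons, List.not_mem_nil, or_false] at hj
  rcases hj with rfl | rfl | rfl | rfl | rfl | rfl | rfl | rfl
  · exact ⟨1, one_mem _, u0_68, mr0_68, e0_72_0⟩
  · exact ⟨s 4, Subgroup.subset_closure ⟨4, by decide, rfl⟩, u0_72, mr0_72, e0_72_1⟩
  · exact ⟨s 1, Subgroup.subset_closure ⟨1, by decide, rfl⟩, u0_72, mr0_72, e0_72_2⟩
  · exact ⟨s 3, Subgroup.subset_closure ⟨3, by decide, rfl⟩, u0_72, mr0_72, e0_72_3⟩
  · exact ⟨1, one_mem _, u0_80, mr0_80, e0_72_4⟩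
  · exact ⟨s 6, Subgroup.subset_closure ⟨6, by decide, rfl⟩, u0_72, mr0_72, e0_72_5⟩
  · exact ⟨1, one_mem _, u0_65, mr0_65, e0_72_6⟩
  · exact ⟨s 0, Subgroup.subset_closure ⟨0, by decide, rfl⟩, u0_72, mr0_72, e0_72_7⟩
theorem c0_73 : P0 u0_73 := by
  refine ⟨mm0_73, ?_⟩
  rintro x ⟨j, hj, rfl⟩
  simp only [J0, List.mem_cons, List.not_mem_nil, or_false] at hj
  rcases hj with rfl | rfl | rfl | rfl | rfl | rfl | rfl | rfl
  · exact ⟨1, one_mem _, u0_77, mr0_77, e0_73_0⟩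
  · exact ⟨1, one_mem _, u0_66, mr0_66, e0_73_1⟩
  · exact ⟨s 5, Subgroup.subset_closure ⟨5, by decide, rfl⟩, u0_73, mr0_73, e0_73_2⟩
  · exact ⟨s 4, Subgroup.subset_closure ⟨4, by decide, rfl⟩, u0_73, mr0_73, e0_73_3⟩
  · exact ⟨s 3, Subgroup.subset_closure ⟨3, by decide, rfl⟩, u0_73, mr0_73, e0_73_4⟩
  · exact ⟨s 2, Subgroup.subset_closure ⟨2, by decide, rfl⟩, u0_73, mr0_73, e0_73_5⟩
  · exact ⟨s 0, Subgroup.subset_closure ⟨0, by decide, rfl⟩, u0_73, mr0_73, e0_73_6⟩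
  · exact ⟨1, one_mem _, u0_81, mr0_81, e0_73_7⟩
theorem c0_74 : P0 u0_74 := by
  refine ⟨mm0_74, ?_⟩
  rintro x ⟨j, hj, rfl⟩
  simp only [J0, List.mem_cons, List.not_mem_nil, or_false] at hj
  rcases hj with rfl | rfl | rfl | rfl | rfl | rfl | rfl | rfl
  · exact ⟨1, one_mem _, u0_79, mr0_79, e0_74_0⟩
  · exact ⟨1, one_mem _, u0_81, mr0_81, e0_74_1⟩
  · exact ⟨s 5, Subgroup.subset_closure ⟨5, by decide, rfl⟩, u0_74, mr0_74, e0_74_2⟩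
  · exact ⟨1, one_mem _, u0_67, mr0_67, e0_74_3⟩
  · exact ⟨s 3, Subgroup.subset_closure ⟨3, by decide, rfl⟩, u0_74, mr0_74, e0_74_4⟩
  · exact ⟨s 2, Subgroup.subset_closure ⟨2, by decide, rfl⟩, u0_74, mr0_74, e0_74_5⟩
  · exact ⟨1, one_mem _, u0_82, mr0_82, e0_74_6⟩
  · exact ⟨1, one_mem _, u0_66, mr0_66, e0_74_7⟩
theorem c0_75 : P0 u0_75 := by
  refine ⟨mm0_75, ?_⟩
  rintro x ⟨j, hj, rfl⟩
  simp only [J0, List.mem_cons, List.not_mem_nil, or_false] at hj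
  rcases hj with rfl | rfl | rfl | rfl | rfl | rfl | rfl | rfl
  · exact ⟨1, one_mem _, u0_80, mr0_80, e0_75_0⟩
  · exact ⟨s 4, Subgroup.subset_closure ⟨4, by decide, rfl⟩, u0_75, mr0_75, e0_75_1⟩
  · exact ⟨1, one_mem _, u0_69, mr0_69, e0_75_2⟩
  · exact ⟨1, one_mem _, u0_82, mr0_82, e0_75_3⟩
  · exact ⟨1, one_mem _, u0_68, mr0_68, e0_75_4⟩
  · exact ⟨1, one_mem _, u0_83, mr0_83, e0_75_5⟩
  · exact ⟨1, one_mem _, u0_67, mr0_67, e0_75_6⟩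
  · exact ⟨s 0, Subgroup.subset_closure ⟨0, by decide, rfl⟩, u0_75, mr0_75, e0_75_7⟩
theorem c0_76 : P0 u0_76 := by
  refine ⟨mm0_76, ?_⟩
  rintro x ⟨j, hj, rfl⟩
  simp only [J0, List.mem_cons, List.not_mem_nil, or_false] at hj
  rcases hj with rfl | rfl | rfl | rfl | rfl | rfl | rfl | rfl
  · exact ⟨s 1, Subgroup.subset_closure ⟨1, by decide, rfl⟩, u0_76, mr0_76, e0_76_0⟩
  · exact ⟨s 4, Subgroup.subset_closure ⟨4, by decide, rfl⟩, u0_76, mr0_76, e0_76_1⟩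
  · exact ⟨1, one_mem _, u0_83, mr0_83, e0_76_2⟩
  · exact ⟨s 5, Subgroup.subset_closure ⟨5, by decide, rfl⟩, u0_76, mr0_76, e0_76_3⟩
  · exact ⟨s 6, Subgroup.subset_closure ⟨6, by decide, rfl⟩, u0_76, mr0_76, e0_76_4⟩
  · exact ⟨1, one_mem _, u0_69, mr0_69, e0_76_5⟩
  · exact ⟨s 2, Subgroup.subset_closure ⟨2, by decide, rfl⟩, u0_76, mr0_76, e0_76_6⟩
  · exact ⟨s 0, Subgroup.subset_closure ⟨0, by decide, rfl⟩, u0_76, mr0_76, e0_76_7⟩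
theorem c0_77 : P0 u0_77 := by
  refine ⟨mm0_77, ?_⟩
  rintro x ⟨j, hj, rfl⟩
  simp only [J0, List.mem_cons, List.not_mem_nil, or_false] at hj
  rcases hj with rfl | rfl | rfl | rfl | rfl | rfl | rfl | rfl
  · exact ⟨1, one_mem _, u0_73, mr0_73, e0_77_0⟩
  · exact ⟨1, one_mem _, u0_70, mr0_70, e0_77_1⟩
  · exact ⟨1, one_mem _, u0_84, mr0_84, e0_77_2⟩
  · exact ⟨s 4, Subgroup.subset_closure ⟨4, by decide, rfl⟩, u0_77, mr0_77, e0_77_3⟩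
  · exact ⟨s 3, Subgroup.subset_closure ⟨3, by decide, rfl⟩, u0_77, mr0_77, e0_77_4⟩
  · exact ⟨s 2, Subgroup.subset_closure ⟨2, by decide, rfl⟩, u0_77, mr0_77, e0_77_5⟩
  · exact ⟨s 0, Subgroup.subset_closure ⟨0, by decide, rfl⟩, u0_77, mr0_77, e0_77_6⟩
  · exact ⟨1, one_mem _, u0_85, mr0_85, e0_77_7⟩
theorem c0_78 : P0 u0_78 := by
  refine ⟨mm0_78, ?_⟩
  rintro x ⟨j, hj, rfl⟩
  simp only [J0, List.mem_cons, List.not_mem_nil, or_false] at hj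
  rcases hj with rfl | rfl | rfl | rfl | rfl | rfl | rfl | rfl
  · exact ⟨s 5, Subgroup.subset_closure ⟨5, by decide, rfl⟩, u0_78, mr0_78, e0_78_0⟩
  · exact ⟨1, one_mem _, u0_84, mr0_84, e0_78_1⟩
  · exact ⟨1, one_mem _, u0_70, mr0_70, e0_78_2⟩
  · exact ⟨s 1, Subgroup.subset_closure ⟨1, by decide, rfl⟩, u0_78, mr0_78, e0_78_3⟩
  · exact ⟨s 3, Subgroup.subset_closure ⟨3, by decide, rfl⟩, u0_78, mr0_78, e0_78_4⟩
  · exact ⟨s 2, Subgroup.subset_closure ⟨2, by decide, rfl⟩, u0_78, mr0_78, e0_78_5⟩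
  · exact ⟨s 0, Subgroup.subset_closure ⟨0, by decide, rfl⟩, u0_78, mr0_78, e0_78_6⟩
  · exact ⟨1, one_mem _, u0_86, mr0_86, e0_78_7⟩
theorem c0_79 : P0 u0_79 := by
  refine ⟨mm0_79, ?_⟩
  rintro x ⟨j, hj, rfl⟩
  simp only [J0, List.mem_cons, List.not_mem_nil, or_false] at hj
  rcases hj with rfl | rfl | rfl | rfl | rfl | rfl | rfl | rfl
  · exact ⟨1, one_mem _, u0_74, mr0_74, e0_79_0⟩
  · exact ⟨1, one_mem _, u0_85, mr0_85, e0_79_1⟩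
  · exact ⟨1, one_mem _, u0_86, mr0_86, e0_79_2⟩
  · exact ⟨1, one_mem _, u0_71, mr0_71, e0_79_3⟩
  · exact ⟨s 3, Subgroup.subset_closure ⟨3, by decide, rfl⟩, u0_79, mr0_79, e0_79_4⟩
  · exact ⟨s 2, Subgroup.subset_closure ⟨2, by decide, rfl⟩, u0_79, mr0_79, e0_79_5⟩
  · exact ⟨1, one_mem _, u0_87, mr0_87, e0_79_6⟩
  · exact ⟨1, one_mem _, u0_70, mr0_70, e0_79_7⟩
theorem c0_80 : P0 u0_80 := by
  refine ⟨mm0_80, ?_⟩
  rintro x ⟨j, hj, rfl⟩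
  simp only [J0, List.mem_cons, List.not_mem_nil, or_false] at hj
  rcases hj with rfl | rfl | rfl | rfl | rfl | rfl | rfl | rfl
  · exact ⟨1, one_mem _, u0_75, mr0_75, e0_80_0⟩
  · exact ⟨s 4, Subgroup.subset_closure ⟨4, by decide, rfl⟩, u0_80, mr0_80, e0_80_1⟩
  · exact ⟨s 1, Subgroup.subset_closure ⟨1, by decide, rfl⟩, u0_80, mr0_80, e0_80_2⟩
  · exact ⟨1, one_mem _, u0_87, mr0_87, e0_80_3⟩
  · exact ⟨1, one_mem _, u0_72, mr0_72, e0_80_4⟩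
  · exact ⟨1, one_mem _, u0_88, mr0_88, e0_80_5⟩
  · exact ⟨1, one_mem _, u0_71, mr0_71, e0_80_6⟩
  · exact ⟨s 0, Subgroup.subset_closure ⟨0, by decide, rfl⟩, u0_80, mr0_80, e0_80_7⟩
theorem c0_81 : P0 u0_81 := by
  refine ⟨mm0_81, ?_⟩
  rintro x ⟨j, hj, rfl⟩
  simp only [J0, List.mem_cons, List.not_mem_nil, or_false] at hj
  rcases hj with rfl | rfl | rfl | rfl | rfl | rfl | rfl | rfl
  · exact ⟨1, one_mem _, u0_85, mr0_85, e0_81_0⟩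
  · exact ⟨1, one_mem _, u0_74, mr0_74, e0_81_1⟩
  · exact ⟨s 5, Subgroup.subset_closure ⟨5, by decide, rfl⟩, u0_81, mr0_81, e0_81_2⟩
  · exact ⟨s 4, Subgroup.subset_closure ⟨4, by decide, rfl⟩, u0_81, mr0_81, e0_81_3⟩
  · exact ⟨s 3, Subgroup.subset_closure ⟨3, by decide, rfl⟩, u0_81, mr0_81, e0_81_4⟩
  · exact ⟨s 2, Subgroup.subset_closure ⟨2, by decide, rfl⟩, u0_81, mr0_81, e0_81_5⟩
  · exact ⟨1, one_mem _, u0_89, mr0_89, e0_81_6⟩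
  · exact ⟨1, one_mem _, u0_73, mr0_73, e0_81_7⟩
theorem c0_82 : P0 u0_82 := by
  refine ⟨mm0_82, ?_⟩
  rintro x ⟨j, hj, rfl⟩
  simp only [J0, List.mem_cons, List.not_mem_nil, or_false] at hj
  rcases hj with rfl | rfl | rfl | rfl | rfl | rfl | rfl | rfl
  · exact ⟨1, one_mem _, u0_87, mr0_87, e0_82_0⟩
  · exact ⟨1, one_mem _, u0_89, mr0_89, e0_82_1⟩
  · exact ⟨s 5, Subgroup.subset_closure ⟨5, by decide, rfl⟩, u0_82, mr0_82, e0_82_2⟩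
  · exact ⟨1, one_mem _, u0_75, mr0_75, e0_82_3⟩
  · exact ⟨s 3, Subgroup.subset_closure ⟨3, by decide, rfl⟩, u0_82, mr0_82, e0_82_4⟩
  · exact ⟨1, one_mem _, u0_90, mr0_90, e0_82_5⟩
  · exact ⟨1, one_mem _, u0_74, mr0_74, e0_82_6⟩
  · exact ⟨s 0, Subgroup.subset_closure ⟨0, by decide, rfl⟩, u0_82, mr0_82, e0_82_7⟩
theorem c0_83 : P0 u0_83 := by
  refine ⟨mm0_83, ?_⟩
  rintro x ⟨j, hj, rfl⟩
  simp only [J0, List.mem_cons, List.not_mem_nil, or_false] at hj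
  rcases hj with rfl | rfl | rfl | rfl | rfl | rfl | rfl | rfl
  · exact ⟨1, one_mem _, u0_88, mr0_88, e0_83_0⟩
  · exact ⟨s 4, Subgroup.subset_closure ⟨4, by decide, rfl⟩, u0_83, mr0_83, e0_83_1⟩
  · exact ⟨1, one_mem _, u0_76, mr0_76, e0_83_2⟩
  · exact ⟨1, one_mem _, u0_90, mr0_90, e0_83_3⟩
  · exact ⟨s 6, Subgroup.subset_closure ⟨6, by decide, rfl⟩, u0_83, mr0_83, e0_83_4⟩
  · exact ⟨1, one_mem _, u0_75, mr0_75, e0_83_5⟩
  · exact ⟨s 2, Subgroup.subset_closure ⟨2, by decide, rfl⟩, u0_83, mr0_83, e0_83_6⟩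
  · exact ⟨s 0, Subgroup.subset_closure ⟨0, by decide, rfl⟩, u0_83, mr0_83, e0_83_7⟩
theorem c0_84 : P0 u0_84 := by
  refine ⟨mm0_84, ?_⟩
  rintro x ⟨j, hj, rfl⟩
  simp only [J0, List.mem_cons, List.not_mem_nil, or_false] at hj
  rcases hj with rfl | rfl | rfl | rfl | rfl | rfl | rfl | rfl
  · exact ⟨s 5, Subgroup.subset_closure ⟨5, by decide, rfl⟩, u0_84, mr0_84, e0_84_0⟩
  · exact ⟨1, one_mem _, u0_78, mr0_78, e0_84_1⟩
  · exact ⟨1, one_mem _, u0_77, mr0_77, e0_84_2⟩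
  · exact ⟨1, one_mem _, u0_91, mr0_91, e0_84_3⟩
  · exact ⟨s 3, Subgroup.subset_closure ⟨3, by decide, rfl⟩, u0_84, mr0_84, e0_84_4⟩
  · exact ⟨s 2, Subgroup.subset_closure ⟨2, by decide, rfl⟩, u0_84, mr0_84, e0_84_5⟩
  · exact ⟨s 0, Subgroup.subset_closure ⟨0, by decide, rfl⟩, u0_84, mr0_84, e0_84_6⟩
  · exact ⟨1, one_mem _, u0_92, mr0_92, e0_84_7⟩
theorem c0_85 : P0 u0_85 := by
  refine ⟨mm0_85, ?_⟩
  rintro x ⟨j, hj, rfl⟩
  simp only [J0, List.mem_cons, List.not_mem_nil, or_false] at hj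
  rcases hj with rfl | rfl | rfl | rfl | rfl | rfl | rfl | rfl
  · exact ⟨1, one_mem _, u0_81, mr0_81, e0_85_0⟩
  · exact ⟨1, one_mem _, u0_79, mr0_79, e0_85_1⟩
  · exact ⟨1, one_mem _, u0_92, mr0_92, e0_85_2⟩
  · exact ⟨s 4, Subgroup.subset_closure ⟨4, by decide, rfl⟩, u0_85, mr0_85, e0_85_3⟩
  · exact ⟨s 3, Subgroup.subset_closure ⟨3, by decide, rfl⟩, u0_85, mr0_85, e0_85_4⟩
  · exact ⟨s 2, Subgroup.subset_closure ⟨2, by decide, rfl⟩, u0_85, mr0_85, e0_85_5⟩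
  · exact ⟨1, one_mem _, u0_93, mr0_93, e0_85_6⟩
  · exact ⟨1, one_mem _, u0_77, mr0_77, e0_85_7⟩
theorem c0_86 : P0 u0_86 := by
  refine ⟨mm0_86, ?_⟩
  rintro x ⟨j, hj, rfl⟩
  simp only [J0, List.mem_cons, List.not_mem_nil, or_false] at hj
  rcases hj with rfl | rfl | rfl | rfl | rfl | rfl | rfl | rfl
  · exact ⟨s 5, Subgroup.subset_closure ⟨5, by decide, rfl⟩, u0_86, mr0_86, e0_86_0⟩
  · exact ⟨1, one_mem _, u0_92, mr0_92, e0_86_1⟩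
  · exact ⟨1, one_mem _, u0_79, mr0_79, e0_86_2⟩
  · exact ⟨s 1, Subgroup.subset_closure ⟨1, by decide, rfl⟩, u0_86, mr0_86, e0_86_3⟩
  · exact ⟨s 3, Subgroup.subset_closure ⟨3, by decide, rfl⟩, u0_86, mr0_86, e0_86_4⟩
  · exact ⟨s 2, Subgroup.subset_closure ⟨2, by decide, rfl⟩, u0_86, mr0_86, e0_86_5⟩
  · exact ⟨1, one_mem _, u0_94, mr0_94, e0_86_6⟩
  · exact ⟨1, one_mem _, u0_78, mr0_78, e0_86_7⟩
theorem c0_87 : P0 u0_87 := by
  refine ⟨mm0_87, ?_⟩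
  rintro x ⟨j, hj, rfl⟩
  simp only [J0, List.mem_cons, List.not_mem_nil, or_false] at hj
  rcases hj with rfl | rfl | rfl | rfl | rfl | rfl | rfl | rfl
  · exact ⟨1, one_mem _, u0_82, mr0_82, e0_87_0⟩
  · exact ⟨1, one_mem _, u0_93, mr0_93, e0_87_1⟩
  · exact ⟨1, one_mem _, u0_94, mr0_94, e0_87_2⟩
  · exact ⟨1, one_mem _, u0_80, mr0_80, e0_87_3⟩
  · exact ⟨s 3, Subgroup.subset_closure ⟨3, by decide, rfl⟩, u0_87, mr0_87, e0_87_4⟩
  · exact ⟨1, one_mem _, u0_95, mr0_95, e0_87_5⟩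
  · exact ⟨1, one_mem _, u0_79, mr0_79, e0_87_6⟩
  · exact ⟨s 0, Subgroup.subset_closure ⟨0, by decide, rfl⟩, u0_87, mr0_87, e0_87_7⟩
theorem c0_88 : P0 u0_88 := by
  refine ⟨mm0_88, ?_⟩
  rintro x ⟨j, hj, rfl⟩
  simp only [J0, List.mem_cons, List.not_mem_nil, or_false] at hj
  rcases hj with rfl | rfl | rfl | rfl | rfl | rfl | rfl | rfl
  · exact ⟨1, one_mem _, u0_83, mr0_83, e0_88_0⟩
  · exact ⟨s 4, Subgroup.subset_closure ⟨4, by decide, rfl⟩, u0_88, mr0_88, e0_88_1⟩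
  · exact ⟨s 1, Subgroup.subset_closure ⟨1, by decide, rfl⟩, u0_88, mr0_88, e0_88_2⟩
  · exact ⟨1, one_mem _, u0_95, mr0_95, e0_88_3⟩
  · exact ⟨s 6, Subgroup.subset_closure ⟨6, by decide, rfl⟩, u0_88, mr0_88, e0_88_4⟩
  · exact ⟨1, one_mem _, u0_80, mr0_80, e0_88_5⟩
  · exact ⟨s 2, Subgroup.subset_closure ⟨2, by decide, rfl⟩, u0_88, mr0_88, e0_88_6⟩
  · exact ⟨s 0, Subgroup.subset_closure ⟨0, by decide, rfl⟩, u0_88, mr0_88, e0_88_7⟩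
theorem c0_89 : P0 u0_89 := by
  refine ⟨mm0_89, ?_⟩
  rintro x ⟨j, hj, rfl⟩
  simp only [J0, List.mem_cons, List.not_mem_nil, or_false] at hj
  rcases hj with rfl | rfl | rfl | rfl | rfl | rfl | rfl | rfl
  · exact ⟨1, one_mem _, u0_93, mr0_93, e0_89_0⟩
  · exact ⟨1, one_mem _, u0_82, mr0_82, e0_89_1⟩
  · exact ⟨s 5, Subgroup.subset_closure ⟨5, by decide, rfl⟩, u0_89, mr0_89, e0_89_2⟩
  · exact ⟨s 4, Subgroup.subset_closure ⟨4, by decide, rfl⟩, u0_89, mr0_89, e0_89_3⟩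
  · exact ⟨s 3, Subgroup.subset_closure ⟨3, by decide, rfl⟩, u0_89, mr0_89, e0_89_4⟩
  · exact ⟨1, one_mem _, u0_96, mr0_96, e0_89_5⟩
  · exact ⟨1, one_mem _, u0_81, mr0_81, e0_89_6⟩
  · exact ⟨s 0, Subgroup.subset_closure ⟨0, by decide, rfl⟩, u0_89, mr0_89, e0_89_7⟩
theorem c0_90 : P0 u0_90 := by
  refine ⟨mm0_90, ?_⟩
  rintro x ⟨j, hj, rfl⟩
  simp only [J0, List.mem_cons, List.not_mem_nil, or_false] at hj
  rcases hj with rfl | rfl | rfl | rfl | rfl | rfl | rfl | rfl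
  · exact ⟨1, one_mem _, u0_95, mr0_95, e0_90_0⟩
  · exact ⟨1, one_mem _, u0_96, mr0_96, e0_90_1⟩
  · exact ⟨s 5, Subgroup.subset_closure ⟨5, by decide, rfl⟩, u0_90, mr0_90, e0_90_2⟩
  · exact ⟨1, one_mem _, u0_83, mr0_83, e0_90_3⟩
  · exact ⟨1, one_mem _, u0_97, mr0_97, e0_90_4⟩
  · exact ⟨1, one_mem _, u0_82, mr0_82, e0_90_5⟩
  · exact ⟨s 2, Subgroup.subset_closure ⟨2, by decide, rfl⟩, u0_90, mr0_90, e0_90_6⟩
  · exact ⟨s 0, Subgroup.subset_closure ⟨0, by decide, rfl⟩, u0_90, mr0_90, e0_90_7⟩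
theorem c0_91 : P0 u0_91 := by
  refine ⟨mm0_91, ?_⟩
  rintro x ⟨j, hj, rfl⟩
  simp only [J0, List.mem_cons, List.not_mem_nil, or_false] at hj
  rcases hj with rfl | rfl | rfl | rfl | rfl | rfl | rfl | rfl
  · exact ⟨s 5, Subgroup.subset_closure ⟨5, by decide, rfl⟩, u0_91, mr0_91, e0_91_0⟩
  · exact ⟨s 1, Subgroup.subset_closure ⟨1, by decide, rfl⟩, u0_91, mr0_91, e0_91_1⟩
  · exact ⟨s 4, Subgroup.subset_closure ⟨4, by decide, rfl⟩, u0_91, mr0_91, e0_91_2⟩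
  · exact ⟨1, one_mem _, u0_84, mr0_84, e0_91_3⟩
  · exact ⟨1, one_mem _, u0_98, mr0_98, e0_91_4⟩
  · exact ⟨s 2, Subgroup.subset_closure ⟨2, by decide, rfl⟩, u0_91, mr0_91, e0_91_5⟩
  · exact ⟨s 0, Subgroup.subset_closure ⟨0, by decide, rfl⟩, u0_91, mr0_91, e0_91_6⟩
  · exact ⟨1, one_mem _, u0_99, mr0_99, e0_91_7⟩
theorem c0_92 : P0 u0_92 := by
  refine ⟨mm0_92, ?_⟩
  rintro x ⟨j, hj, rfl⟩
  simp only [J0, List.mem_cons, List.not_mem_nil, or_false] at hj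
  rcases hj with rfl | rfl | rfl | rfl | rfl | rfl | rfl | rfl
  · exact ⟨s 5, Subgroup.subset_closure ⟨5, by decide, rfl⟩, u0_92, mr0_92, e0_92_0⟩
  · exact ⟨1, one_mem _, u0_86, mr0_86, e0_92_1⟩
  · exact ⟨1, one_mem _, u0_85, mr0_85, e0_92_2⟩
  · exact ⟨1, one_mem _, u0_99, mr0_99, e0_92_3⟩
  · exact ⟨s 3, Subgroup.subset_closure ⟨3, by decide, rfl⟩, u0_92, mr0_92, e0_92_4⟩
  · exact ⟨s 2, Subgroup.subset_closure ⟨2, by decide, rfl⟩, u0_92, mr0_92, e0_92_5⟩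
  · exact ⟨1, one_mem _, u0_100, mr0_100, e0_92_6⟩
  · exact ⟨1, one_mem _, u0_84, mr0_84, e0_92_7⟩
theorem c0_93 : P0 u0_93 := by
  refine ⟨mm0_93, ?_⟩
  rintro x ⟨j, hj, rfl⟩
  simp only [J0, List.mem_cons, List.not_mem_nil, or_false] at hj
  rcases hj with rfl | rfl | rfl | rfl | rfl | rfl | rfl | rfl
  · exact ⟨1, one_mem _, u0_89, mr0_89, e0_93_0⟩
  · exact ⟨1, one_mem _, u0_87, mr0_87, e0_93_1⟩
  · exact ⟨1, one_mem _, u0_100, mr0_100, e0_93_2⟩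
  · exact ⟨s 4, Subgroup.subset_closure ⟨4, by decide, rfl⟩, u0_93, mr0_93, e0_93_3⟩
  · exact ⟨s 3, Subgroup.subset_closure ⟨3, by decide, rfl⟩, u0_93, mr0_93, e0_93_4⟩
  · exact ⟨1, one_mem _, u0_101, mr0_101, e0_93_5⟩
  · exact ⟨1, one_mem _, u0_85, mr0_85, e0_93_6⟩
  · exact ⟨s 0, Subgroup.subset_closure ⟨0, by decide, rfl⟩, u0_93, mr0_93, e0_93_7⟩
theorem c0_94 : P0 u0_94 := by
  refine ⟨mm0_94, ?_⟩
  rintro x ⟨j, hj, rfl⟩
  simp only [J0, List.mem_cons, List.not_mem_nil, or_false] at hj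
  rcases hj with rfl | rfl | rfl | rfl | rfl | rfl | rfl | rfl
  · exact ⟨s 5, Subgroup.subset_closure ⟨5, by decide, rfl⟩, u0_94, mr0_94, e0_94_0⟩
  · exact ⟨1, one_mem _, u0_100, mr0_100, e0_94_1⟩
  · exact ⟨1, one_mem _, u0_87, mr0_87, e0_94_2⟩
  · exact ⟨s 1, Subgroup.subset_closure ⟨1, by decide, rfl⟩, u0_94, mr0_94, e0_94_3⟩
  · exact ⟨s 3, Subgroup.subset_closure ⟨3, by decide, rfl⟩, u0_94, mr0_94, e0_94_4⟩
  · exact ⟨1, one_mem _, u0_102, mr0_102, e0_94_5⟩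
  · exact ⟨1, one_mem _, u0_86, mr0_86, e0_94_6⟩
  · exact ⟨s 0, Subgroup.subset_closure ⟨0, by decide, rfl⟩, u0_94, mr0_94, e0_94_7⟩
theorem c0_95 : P0 u0_95 := by
  refine ⟨mm0_95, ?_⟩
  rintro x ⟨j, hj, rfl⟩
  simp only [J0, List.mem_cons, List.not_mem_nil, or_false] at hj
  rcases hj with rfl | rfl | rfl | rfl | rfl | rfl | rfl | rfl
  · exact ⟨1, one_mem _, u0_90, mr0_90, e0_95_0⟩
  · exact ⟨1, one_mem _, u0_101, mr0_101, e0_95_1⟩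
  · exact ⟨1, one_mem _, u0_102, mr0_102, e0_95_2⟩
  · exact ⟨1, one_mem _, u0_88, mr0_88, e0_95_3⟩
  · exact ⟨1, one_mem _, u0_103, mr0_103, e0_95_4⟩
  · exact ⟨1, one_mem _, u0_87, mr0_87, e0_95_5⟩
  · exact ⟨s 2, Subgroup.subset_closure ⟨2, by decide, rfl⟩, u0_95, mr0_95, e0_95_6⟩
  · exact ⟨s 0, Subgroup.subset_closure ⟨0, by decide, rfl⟩, u0_95, mr0_95, e0_95_7⟩
theorem c0_96 : P0 u0_96 := by
  refine ⟨mm0_96, ?_⟩
  rintro x ⟨j, hj, rfl⟩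
  simp only [J0, List.mem_cons, List.not_mem_nil, or_false] at hj
  rcases hj with rfl | rfl | rfl | rfl | rfl | rfl | rfl | rfl
  · exact ⟨1, one_mem _, u0_101, mr0_101, e0_96_0⟩
  · exact ⟨1, one_mem _, u0_90, mr0_90, e0_96_1⟩
  · exact ⟨s 5, Subgroup.subset_closure ⟨5, by decide, rfl⟩, u0_96, mr0_96, e0_96_2⟩
  · exact ⟨s 4, Subgroup.subset_closure ⟨4, by decide, rfl⟩, u0_96, mr0_96, e0_96_3⟩
  · exact ⟨1, one_mem _, u0_104, mr0_104, e0_96_4⟩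
  · exact ⟨1, one_mem _, u0_89, mr0_89, e0_96_5⟩
  · exact ⟨s 2, Subgroup.subset_closure ⟨2, by decide, rfl⟩, u0_96, mr0_96, e0_96_6⟩
  · exact ⟨s 0, Subgroup.subset_closure ⟨0, by decide, rfl⟩, u0_96, mr0_96, e0_96_7⟩
theorem c0_97 : P0 u0_97 := by
  refine ⟨mm0_97, ?_⟩
  rintro x ⟨j, hj, rfl⟩
  simp only [J0, List.mem_cons, List.not_mem_nil, or_false] at hj
  rcases hj with rfl | rfl | rfl | rfl | rfl | rfl | rfl | rfl
  · exact ⟨1, one_mem _, u0_103, mr0_103, e0_97_0⟩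
  · exact ⟨1, one_mem _, u0_104, mr0_104, e0_97_1⟩
  · exact ⟨s 5, Subgroup.subset_closure ⟨5, by decide, rfl⟩, u0_97, mr0_97, e0_97_2⟩
  · exact ⟨s 6, Subgroup.subset_closure ⟨6, by decide, rfl⟩, u0_97, mr0_97, e0_97_3⟩
  · exact ⟨1, one_mem _, u0_90, mr0_90, e0_97_4⟩
  · exact ⟨s 3, Subgroup.subset_closure ⟨3, by decide, rfl⟩, u0_97, mr0_97, e0_97_5⟩
  · exact ⟨s 2, Subgroup.subset_closure ⟨2, by decide, rfl⟩, u0_97, mr0_97, e0_97_6⟩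
  · exact ⟨s 0, Subgroup.subset_closure ⟨0, by decide, rfl⟩, u0_97, mr0_97, e0_97_7⟩
theorem c0_98 : P0 u0_98 := by
  refine ⟨mm0_98, ?_⟩
  rintro x ⟨j, hj, rfl⟩
  simp only [J0, List.mem_cons, List.not_mem_nil, or_false] at hj
  rcases hj with rfl | rfl | rfl | rfl | rfl | rfl | rfl | rfl
  · exact ⟨s 5, Subgroup.subset_closure ⟨5, by decide, rfl⟩, u0_98, mr0_98, e0_98_0⟩
  · exact ⟨s 1, Subgroup.subset_closure ⟨1, by decide, rfl⟩, u0_98, mr0_98, e0_98_1⟩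
  · exact ⟨s 4, Subgroup.subset_closure ⟨4, by decide, rfl⟩, u0_98, mr0_98, e0_98_2⟩
  · exact ⟨s 3, Subgroup.subset_closure ⟨3, by decide, rfl⟩, u0_98, mr0_98, e0_98_3⟩
  · exact ⟨1, one_mem _, u0_91, mr0_91, e0_98_4⟩
  · exact ⟨1, one_mem _, u0_105, mr0_105, e0_98_5⟩
  · exact ⟨s 0, Subgroup.subset_closure ⟨0, by decide, rfl⟩, u0_98, mr0_98, e0_98_6⟩
  · exact ⟨1, one_mem _, u0_106, mr0_106, e0_98_7⟩
theorem c0_99 : P0 u0_99 := by
  refine ⟨mm0_99, ?_⟩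
  rintro x ⟨j, hj, rfl⟩
  simp only [J0, List.mem_cons, List.not_mem_nil, or_false] at hj
  rcases hj with rfl | rfl | rfl | rfl | rfl | rfl | rfl | rfl
  · exact ⟨s 5, Subgroup.subset_closure ⟨5, by decide, rfl⟩, u0_99, mr0_99, e0_99_0⟩
  · exact ⟨s 1, Subgroup.subset_closure ⟨1, by decide, rfl⟩, u0_99, mr0_99, e0_99_1⟩
  · exact ⟨s 4, Subgroup.subset_closure ⟨4, by decide, rfl⟩, u0_99, mr0_99, e0_99_2⟩
  · exact ⟨1, one_mem _, u0_92, mr0_92, e0_99_3⟩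
  · exact ⟨1, one_mem _, u0_106, mr0_106, e0_99_4⟩
  · exact ⟨s 2, Subgroup.subset_closure ⟨2, by decide, rfl⟩, u0_99, mr0_99, e0_99_5⟩
  · exact ⟨1, one_mem _, u0_107, mr0_107, e0_99_6⟩
  · exact ⟨1, one_mem _, u0_91, mr0_91, e0_99_7⟩
theorem c0_100 : P0 u0_100 := by
  refine ⟨mm0_100, ?_⟩
  rintro x ⟨j, hj, rfl⟩
  simp only [J0, List.mem_cons, List.not_mem_nil, or_false] at hj
  rcases hj with rfl | rfl | rfl | rfl | rfl | rfl | rfl | rfl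
  · exact ⟨s 5, Subgroup.subset_closure ⟨5, by decide, rfl⟩, u0_100, mr0_100, e0_100_0⟩
  · exact ⟨1, one_mem _, u0_94, mr0_94, e0_100_1⟩
  · exact ⟨1, one_mem _, u0_93, mr0_93, e0_100_2⟩
  · exact ⟨1, one_mem _, u0_107, mr0_107, e0_100_3⟩
  · exact ⟨s 3, Subgroup.subset_closure ⟨3, by decide, rfl⟩, u0_100, mr0_100, e0_100_4⟩
  · exact ⟨1, one_mem _, u0_108, mr0_108, e0_100_5⟩
  · exact ⟨1, one_mem _, u0_92, mr0_92, e0_100_6⟩
  · exact ⟨s 0, Subgroup.subset_closure ⟨0, by decide, rfl⟩, u0_100, mr0_100, e0_100_7⟩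
theorem c0_101 : P0 u0_101 := by
  refine ⟨mm0_101, ?_⟩
  rintro x ⟨j, hj, rfl⟩
  simp only [J0, List.mem_cons, List.not_mem_nil, or_false] at hj
  rcases hj with rfl | rfl | rfl | rfl | rfl | rfl | rfl | rfl
  · exact ⟨1, one_mem _, u0_96, mr0_96, e0_101_0⟩
  · exact ⟨1, one_mem _, u0_95, mr0_95, e0_101_1⟩
  · exact ⟨1, one_mem _, u0_108, mr0_108, e0_101_2⟩
  · exact ⟨s 4, Subgroup.subset_closure ⟨4, by decide, rfl⟩, u0_101, mr0_101, e0_101_3⟩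
  · exact ⟨1, one_mem _, u0_109, mr0_109, e0_101_4⟩
  · exact ⟨1, one_mem _, u0_93, mr0_93, e0_101_5⟩
  · exact ⟨s 2, Subgroup.subset_closure ⟨2, by decide, rfl⟩, u0_101, mr0_101, e0_101_6⟩
  · exact ⟨s 0, Subgroup.subset_closure ⟨0, by decide, rfl⟩, u0_101, mr0_101, e0_101_7⟩
theorem c0_102 : P0 u0_102 := by
  refine ⟨mm0_102, ?_⟩
  rintro x ⟨j, hj, rfl⟩
  simp only [J0, List.mem_cons, List.not_mem_nil, or_false] at hj
  rcases hj with rfl | rfl | rfl | rfl | rfl | rfl | rfl | rfl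
  · exact ⟨s 5, Subgroup.subset_closure ⟨5, by decide, rfl⟩, u0_102, mr0_102, e0_102_0⟩
  · exact ⟨1, one_mem _, u0_108, mr0_108, e0_102_1⟩
  · exact ⟨1, one_mem _, u0_95, mr0_95, e0_102_2⟩
  · exact ⟨s 1, Subgroup.subset_closure ⟨1, by decide, rfl⟩, u0_102, mr0_102, e0_102_3⟩
  · exact ⟨1, one_mem _, u0_110, mr0_110, e0_102_4⟩
  · exact ⟨1, one_mem _, u0_94, mr0_94, e0_102_5⟩
  · exact ⟨s 2, Subgroup.subset_closure ⟨2, by decide, rfl⟩, u0_102, mr0_102, e0_102_6⟩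
  · exact ⟨s 0, Subgroup.subset_closure ⟨0, by decide, rfl⟩, u0_102, mr0_102, e0_102_7⟩
theorem c0_103 : P0 u0_103 := by
  refine ⟨mm0_103, ?_⟩
  rintro x ⟨j, hj, rfl⟩
  simp only [J0, List.mem_cons, List.not_mem_nil, or_false] at hj
  rcases hj with rfl | rfl | rfl | rfl | rfl | rfl | rfl | rfl
  · exact ⟨1, one_mem _, u0_97, mr0_97, e0_103_0⟩
  · exact ⟨1, one_mem _, u0_109, mr0_109, e0_103_1⟩
  · exact ⟨1, one_mem _, u0_110, mr0_110, e0_103_2⟩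
  · exact ⟨s 6, Subgroup.subset_closure ⟨6, by decide, rfl⟩, u0_103, mr0_103, e0_103_3⟩
  · exact ⟨1, one_mem _, u0_95, mr0_95, e0_103_4⟩
  · exact ⟨s 3, Subgroup.subset_closure ⟨3, by decide, rfl⟩, u0_103, mr0_103, e0_103_5⟩
  · exact ⟨s 2, Subgroup.subset_closure ⟨2, by decide, rfl⟩, u0_103, mr0_103, e0_103_6⟩
  · exact ⟨s 0, Subgroup.subset_closure ⟨0, by decide, rfl⟩, u0_103, mr0_103, e0_103_7⟩
theorem c0_104 : P0 u0_104 := by
  refine ⟨mm0_104, ?_⟩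
  rintro x ⟨j, hj, rfl⟩
  simp only [J0, List.mem_cons, List.not_mem_nil, or_false] at hj
  rcases hj with rfl | rfl | rfl | rfl | rfl | rfl | rfl | rfl
  · exact ⟨1, one_mem _, u0_109, mr0_109, e0_104_0⟩
  · exact ⟨1, one_mem _, u0_97, mr0_97, e0_104_1⟩
  · exact ⟨s 5, Subgroup.subset_closure ⟨5, by decide, rfl⟩, u0_104, mr0_104, e0_104_2⟩
  · exact ⟨1, one_mem _, u0_111, mr0_111, e0_104_3⟩
  · exact ⟨1, one_mem _, u0_96, mr0_96, e0_104_4⟩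
  · exact ⟨s 3, Subgroup.subset_closure ⟨3, by decide, rfl⟩, u0_104, mr0_104, e0_104_5⟩
  · exact ⟨s 2, Subgroup.subset_closure ⟨2, by decide, rfl⟩, u0_104, mr0_104, e0_104_6⟩
  · exact ⟨s 0, Subgroup.subset_closure ⟨0, by decide, rfl⟩, u0_104, mr0_104, e0_104_7⟩
theorem c0_105 : P0 u0_105 := by
  refine ⟨mm0_105, ?_⟩
  rintro x ⟨j, hj, rfl⟩
  simp only [J0, List.mem_cons, List.not_mem_nil, or_false] at hj
  rcases hj with rfl | rfl | rfl | rfl | rfl | rfl | rfl | rfl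
  · exact ⟨s 5, Subgroup.subset_closure ⟨5, by decide, rfl⟩, u0_105, mr0_105, e0_105_0⟩
  · exact ⟨s 1, Subgroup.subset_closure ⟨1, by decide, rfl⟩, u0_105, mr0_105, e0_105_1⟩
  · exact ⟨s 4, Subgroup.subset_closure ⟨4, by decide, rfl⟩, u0_105, mr0_105, e0_105_2⟩
  · exact ⟨s 3, Subgroup.subset_closure ⟨3, by decide, rfl⟩, u0_105, mr0_105, e0_105_3⟩
  · exact ⟨s 2, Subgroup.subset_closure ⟨2, by decide, rfl⟩, u0_105, mr0_105, e0_105_4⟩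
  · exact ⟨1, one_mem _, u0_98, mr0_98, e0_105_5⟩
  · exact ⟨1, one_mem _, u0_112, mr0_112, e0_105_6⟩
  · exact ⟨1, one_mem _, u0_113, mr0_113, e0_105_7⟩
theorem c0_106 : P0 u0_106 := by
  refine ⟨mm0_106, ?_⟩
  rintro x ⟨j, hj, rfl⟩
  simp only [J0, List.mem_cons, List.not_mem_nil, or_false] at hj
  rcases hj with rfl | rfl | rfl | rfl | rfl | rfl | rfl | rfl
  · exact ⟨s 5, Subgroup.subset_closure ⟨5, by decide, rfl⟩, u0_106, mr0_106, e0_106_0⟩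
  · exact ⟨s 1, Subgroup.subset_closure ⟨1, by decide, rfl⟩, u0_106, mr0_106, e0_106_1⟩
  · exact ⟨s 4, Subgroup.subset_closure ⟨4, by decide, rfl⟩, u0_106, mr0_106, e0_106_2⟩
  · exact ⟨s 3, Subgroup.subset_closure ⟨3, by decide, rfl⟩, u0_106, mr0_106, e0_106_3⟩
  · exact ⟨1, one_mem _, u0_99, mr0_99, e0_106_4⟩
  · exact ⟨1, one_mem _, u0_113, mr0_113, e0_106_5⟩
  · exact ⟨1, one_mem _, u0_114, mr0_114, e0_106_6⟩
  · exact ⟨1, one_mem _, u0_98, mr0_98, e0_106_7⟩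
theorem c0_107 : P0 u0_107 := by
  refine ⟨mm0_107, ?_⟩
  rintro x ⟨j, hj, rfl⟩
  simp only [J0, List.mem_cons, List.not_mem_nil, or_false] at hj
  rcases hj with rfl | rfl | rfl | rfl | rfl | rfl | rfl | rfl
  · exact ⟨s 5, Subgroup.subset_closure ⟨5, by decide, rfl⟩, u0_107, mr0_107, e0_107_0⟩
  · exact ⟨s 1, Subgroup.subset_closure ⟨1, by decide, rfl⟩, u0_107, mr0_107, e0_107_1⟩
  · exact ⟨s 4, Subgroup.subset_closure ⟨4, by decide, rfl⟩, u0_107, mr0_107, e0_107_2⟩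
  · exact ⟨1, one_mem _, u0_100, mr0_100, e0_107_3⟩
  · exact ⟨1, one_mem _, u0_114, mr0_114, e0_107_4⟩
  · exact ⟨1, one_mem _, u0_115, mr0_115, e0_107_5⟩
  · exact ⟨1, one_mem _, u0_99, mr0_99, e0_107_6⟩
  · exact ⟨s 0, Subgroup.subset_closure ⟨0, by decide, rfl⟩, u0_107, mr0_107, e0_107_7⟩
theorem c0_108 : P0 u0_108 := by
  refine ⟨mm0_108, ?_⟩
  rintro x ⟨j, hj, rfl⟩
  simp only [J0, List.mem_cons, List.not_mem_nil, or_false] at hj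
  rcases hj with rfl | rfl | rfl | rfl | rfl | rfl | rfl | rfl
  · exact ⟨s 5, Subgroup.subset_closure ⟨5, by decide, rfl⟩, u0_108, mr0_108, e0_108_0⟩
  · exact ⟨1, one_mem _, u0_102, mr0_102, e0_108_1⟩
  · exact ⟨1, one_mem _, u0_101, mr0_101, e0_108_2⟩
  · exact ⟨1, one_mem _, u0_115, mr0_115, e0_108_3⟩
  · exact ⟨1, one_mem _, u0_116, mr0_116, e0_108_4⟩
  · exact ⟨1, one_mem _, u0_100, mr0_100, e0_108_5⟩
  · exact ⟨s 2, Subgroup.subset_closure ⟨2, by decide, rfl⟩, u0_108, mr0_108, e0_108_6⟩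
  · exact ⟨s 0, Subgroup.subset_closure ⟨0, by decide, rfl⟩, u0_108, mr0_108, e0_108_7⟩
theorem c0_109 : P0 u0_109 := by
  refine ⟨mm0_109, ?_⟩
  rintro x ⟨j, hj, rfl⟩
  simp only [J0, List.mem_cons, List.not_mem_nil, or_false] at hj
  rcases hj with rfl | rfl | rfl | rfl | rfl | rfl | rfl | rfl
  · exact ⟨1, one_mem _, u0_104, mr0_104, e0_109_0⟩
  · exact ⟨1, one_mem _, u0_103, mr0_103, e0_109_1⟩
  · exact ⟨1, one_mem _, u0_116, mr0_116, e0_109_2⟩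
  · exact ⟨1, one_mem _, u0_117, mr0_117, e0_109_3⟩
  · exact ⟨1, one_mem _, u0_101, mr0_101, e0_109_4⟩
  · exact ⟨s 3, Subgroup.subset_closure ⟨3, by decide, rfl⟩, u0_109, mr0_109, e0_109_5⟩
  · exact ⟨s 2, Subgroup.subset_closure ⟨2, by decide, rfl⟩, u0_109, mr0_109, e0_109_6⟩
  · exact ⟨s 0, Subgroup.subset_closure ⟨0, by decide, rfl⟩, u0_109, mr0_109, e0_109_7⟩
theorem c0_110 : P0 u0_110 := by
  refine ⟨mm0_110, ?_⟩
  rintro x ⟨j, hj, rfl⟩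
  simp only [J0, List.mem_cons, List.not_mem_nil, or_false] at hj
  rcases hj with rfl | rfl | rfl | rfl | rfl | rfl | rfl | rfl
  · exact ⟨s 5, Subgroup.subset_closure ⟨5, by decide, rfl⟩, u0_110, mr0_110, e0_110_0⟩
  · exact ⟨1, one_mem _, u0_116, mr0_116, e0_110_1⟩
  · exact ⟨1, one_mem _, u0_103, mr0_103, e0_110_2⟩
  · exact ⟨1, one_mem _, u0_118, mr0_118, e0_110_3⟩
  · exact ⟨1, one_mem _, u0_102, mr0_102, e0_110_4⟩
  · exact ⟨s 3, Subgroup.subset_closure ⟨3, by decide, rfl⟩, u0_110, mr0_110, e0_110_5⟩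
  · exact ⟨s 2, Subgroup.subset_closure ⟨2, by decide, rfl⟩, u0_110, mr0_110, e0_110_6⟩
  · exact ⟨s 0, Subgroup.subset_closure ⟨0, by decide, rfl⟩, u0_110, mr0_110, e0_110_7⟩
theorem c0_111 : P0 u0_111 := by
  refine ⟨mm0_111, ?_⟩
  rintro x ⟨j, hj, rfl⟩
  simp only [J0, List.mem_cons, List.not_mem_nil, or_false] at hj
  rcases hj with rfl | rfl | rfl | rfl | rfl | rfl | rfl | rfl
  · exact ⟨1, one_mem _, u0_117, mr0_117, e0_111_0⟩
  · exact ⟨s 6, Subgroup.subset_closure ⟨6, by decide, rfl⟩, u0_111, mr0_111, e0_111_1⟩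
  · exact ⟨1, one_mem _, u0_119, mr0_119, e0_111_2⟩
  · exact ⟨1, one_mem _, u0_104, mr0_104, e0_111_3⟩
  · exact ⟨s 4, Subgroup.subset_closure ⟨4, by decide, rfl⟩, u0_111, mr0_111, e0_111_4⟩
  · exact ⟨s 3, Subgroup.subset_closure ⟨3, by decide, rfl⟩, u0_111, mr0_111, e0_111_5⟩
  · exact ⟨s 2, Subgroup.subset_closure ⟨2, by decide, rfl⟩, u0_111, mr0_111, e0_111_6⟩
  · exact ⟨s 0, Subgroup.subset_closure ⟨0, by decide, rfl⟩, u0_111, mr0_111, e0_111_7⟩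
theorem c0_112 : P0 u0_112 := by
  refine ⟨mm0_112, ?_⟩
  rintro x ⟨j, hj, rfl⟩
  simp only [J0, List.mem_cons, List.not_mem_nil, or_false] at hj
  rcases hj with rfl | rfl | rfl | rfl | rfl | rfl | rfl | rfl
  · exact ⟨s 5, Subgroup.subset_closure ⟨5, by decide, rfl⟩, u0_112, mr0_112, e0_112_0⟩
  · exact ⟨s 1, Subgroup.subset_closure ⟨1, by decide, rfl⟩, u0_112, mr0_112, e0_112_1⟩
  · exact ⟨s 4, Subgroup.subset_closure ⟨4, by decide, rfl⟩, u0_112, mr0_112, e0_112_2⟩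
  · exact ⟨s 3, Subgroup.subset_closure ⟨3, by decide, rfl⟩, u0_112, mr0_112, e0_112_3⟩
  · exact ⟨s 2, Subgroup.subset_closure ⟨2, by decide, rfl⟩, u0_112, mr0_112, e0_112_4⟩
  · exact ⟨s 0, Subgroup.subset_closure ⟨0, by decide, rfl⟩, u0_112, mr0_112, e0_112_5⟩
  · exact ⟨1, one_mem _, u0_105, mr0_105, e0_112_6⟩
  · exact ⟨1, one_mem _, u0_120, mr0_120, e0_112_7⟩
theorem c0_113 : P0 u0_113 := by
  refine ⟨mm0_113, ?_⟩
  rintro x ⟨j, hj, rfl⟩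
  simp only [J0, List.mem_cons, List.not_mem_nil, or_false] at hj
  rcases hj with rfl | rfl | rfl | rfl | rfl | rfl | rfl | rfl
  · exact ⟨s 5, Subgroup.subset_closure ⟨5, by decide, rfl⟩, u0_113, mr0_113, e0_113_0⟩
  · exact ⟨s 1, Subgroup.subset_closure ⟨1, by decide, rfl⟩, u0_113, mr0_113, e0_113_1⟩
  · exact ⟨s 4, Subgroup.subset_closure ⟨4, by decide, rfl⟩, u0_113, mr0_113, e0_113_2⟩
  · exact ⟨s 3, Subgroup.subset_closure ⟨3, by decide, rfl⟩, u0_113, mr0_113, e0_113_3⟩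
  · exact ⟨s 2, Subgroup.subset_closure ⟨2, by decide, rfl⟩, u0_113, mr0_113, e0_113_4⟩
  · exact ⟨1, one_mem _, u0_106, mr0_106, e0_113_5⟩
  · exact ⟨1, one_mem _, u0_121, mr0_121, e0_113_6⟩
  · exact ⟨1, one_mem _, u0_105, mr0_105, e0_113_7⟩
theorem c0_114 : P0 u0_114 := by
  refine ⟨mm0_114, ?_⟩
  rintro x ⟨j, hj, rfl⟩
  simp only [J0, List.mem_cons, List.not_mem_nil, or_false] at hj
  rcases hj with rfl | rfl | rfl | rfl | rfl | rfl | rfl | rfl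
  · exact ⟨s 5, Subgroup.subset_closure ⟨5, by decide, rfl⟩, u0_114, mr0_114, e0_114_0⟩
  · exact ⟨s 1, Subgroup.subset_closure ⟨1, by decide, rfl⟩, u0_114, mr0_114, e0_114_1⟩
  · exact ⟨s 4, Subgroup.subset_closure ⟨4, by decide, rfl⟩, u0_114, mr0_114, e0_114_2⟩
  · exact ⟨s 3, Subgroup.subset_closure ⟨3, by decide, rfl⟩, u0_114, mr0_114, e0_114_3⟩
  · exact ⟨1, one_mem _, u0_107, mr0_107, e0_114_4⟩
  · exact ⟨1, one_mem _, u0_122, mr0_122, e0_114_5⟩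
  · exact ⟨1, one_mem _, u0_106, mr0_106, e0_114_6⟩
  · exact ⟨s 0, Subgroup.subset_closure ⟨0, by decide, rfl⟩, u0_114, mr0_114, e0_114_7⟩
theorem c0_115 : P0 u0_115 := by
  refine ⟨mm0_115, ?_⟩
  rintro x ⟨j, hj, rfl⟩
  simp only [J0, List.mem_cons, List.not_mem_nil, or_false] at hj
  rcases hj with rfl | rfl | rfl | rfl | rfl | rfl | rfl | rfl
  · exact ⟨s 5, Subgroup.subset_closure ⟨5, by decide, rfl⟩, u0_115, mr0_115, e0_115_0⟩
  · exact ⟨s 1, Subgroup.subset_closure ⟨1, by decide, rfl⟩, u0_115, mr0_115, e0_115_1⟩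
  · exact ⟨s 4, Subgroup.subset_closure ⟨4, by decide, rfl⟩, u0_115, mr0_115, e0_115_2⟩
  · exact ⟨1, one_mem _, u0_108, mr0_108, e0_115_3⟩
  · exact ⟨1, one_mem _, u0_123, mr0_123, e0_115_4⟩
  · exact ⟨1, one_mem _, u0_107, mr0_107, e0_115_5⟩
  · exact ⟨s 2, Subgroup.subset_closure ⟨2, by decide, rfl⟩, u0_115, mr0_115, e0_115_6⟩
  · exact ⟨s 0, Subgroup.subset_closure ⟨0, by decide, rfl⟩, u0_115, mr0_115, e0_115_7⟩
theorem c0_116 : P0 u0_116 := by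
  refine ⟨mm0_116, ?_⟩
  rintro x ⟨j, hj, rfl⟩
  simp only [J0, List.mem_cons, List.not_mem_nil, or_false] at hj
  rcases hj with rfl | rfl | rfl | rfl | rfl | rfl | rfl | rfl
  · exact ⟨s 5, Subgroup.subset_closure ⟨5, by decide, rfl⟩, u0_116, mr0_116, e0_116_0⟩
  · exact ⟨1, one_mem _, u0_110, mr0_110, e0_116_1⟩
  · exact ⟨1, one_mem _, u0_109, mr0_109, e0_116_2⟩
  · exact ⟨1, one_mem _, u0_124, mr0_124, e0_116_3⟩
  · exact ⟨1, one_mem _, u0_108, mr0_108, e0_116_4⟩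
  · exact ⟨s 3, Subgroup.subset_closure ⟨3, by decide, rfl⟩, u0_116, mr0_116, e0_116_5⟩
  · exact ⟨s 2, Subgroup.subset_closure ⟨2, by decide, rfl⟩, u0_116, mr0_116, e0_116_6⟩
  · exact ⟨s 0, Subgroup.subset_closure ⟨0, by decide, rfl⟩, u0_116, mr0_116, e0_116_7⟩
theorem c0_117 : P0 u0_117 := by
  refine ⟨mm0_117, ?_⟩
  rintro x ⟨j, hj, rfl⟩
  simp only [J0, List.mem_cons, List.not_mem_nil, or_false] at hj
  rcases hj with rfl | rfl | rfl | rfl | rfl | rfl | rfl | rfl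
  · exact ⟨1, one_mem _, u0_111, mr0_111, e0_117_0⟩
  · exact ⟨s 6, Subgroup.subset_closure ⟨6, by decide, rfl⟩, u0_117, mr0_117, e0_117_1⟩
  · exact ⟨1, one_mem _, u0_125, mr0_125, e0_117_2⟩
  · exact ⟨1, one_mem _, u0_109, mr0_109, e0_117_3⟩
  · exact ⟨s 4, Subgroup.subset_closure ⟨4, by decide, rfl⟩, u0_117, mr0_117, e0_117_4⟩
  · exact ⟨s 3, Subgroup.subset_closure ⟨3, by decide, rfl⟩, u0_117, mr0_117, e0_117_5⟩
  · exact ⟨s 2, Subgroup.subset_closure ⟨2, by decide, rfl⟩, u0_117, mr0_117, e0_117_6⟩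
  · exact ⟨s 0, Subgroup.subset_closure ⟨0, by decide, rfl⟩, u0_117, mr0_117, e0_117_7⟩
theorem c0_118 : P0 u0_118 := by
  refine ⟨mm0_118, ?_⟩
  rintro x ⟨j, hj, rfl⟩
  simp only [J0, List.mem_cons, List.not_mem_nil, or_false] at hj
  rcases hj with rfl | rfl | rfl | rfl | rfl | rfl | rfl | rfl
  · exact ⟨s 5, Subgroup.subset_closure ⟨5, by decide, rfl⟩, u0_118, mr0_118, e0_118_0⟩
  · exact ⟨1, one_mem _, u0_126, mr0_126, e0_118_1⟩
  · exact ⟨s 6, Subgroup.subset_closure ⟨6, by decide, rfl⟩, u0_118, mr0_118, e0_118_2⟩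
  · exact ⟨1, one_mem _, u0_110, mr0_110, e0_118_3⟩
  · exact ⟨s 1, Subgroup.subset_closure ⟨1, by decide, rfl⟩, u0_118, mr0_118, e0_118_4⟩
  · exact ⟨s 3, Subgroup.subset_closure ⟨3, by decide, rfl⟩, u0_118, mr0_118, e0_118_5⟩
  · exact ⟨s 2, Subgroup.subset_closure ⟨2, by decide, rfl⟩, u0_118, mr0_118, e0_118_6⟩
  · exact ⟨s 0, Subgroup.subset_closure ⟨0, by decide, rfl⟩, u0_118, mr0_118, e0_118_7⟩
theorem c0_119 : P0 u0_119 := by
  refine ⟨mm0_119, ?_⟩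
  rintro x ⟨j, hj, rfl⟩
  simp only [J0, List.mem_cons, List.not_mem_nil, or_false] at hj
  rcases hj with rfl | rfl | rfl | rfl | rfl | rfl | rfl | rfl
  · exact ⟨1, one_mem _, u0_127, mr0_127, e0_119_0⟩
  · exact ⟨s 6, Subgroup.subset_closure ⟨6, by decide, rfl⟩, u0_119, mr0_119, e0_119_1⟩
  · exact ⟨1, one_mem _, u0_111, mr0_111, e0_119_2⟩
  · exact ⟨s 5, Subgroup.subset_closure ⟨5, by decide, rfl⟩, u0_119, mr0_119, e0_119_3⟩
  · exact ⟨s 4, Subgroup.subset_closure ⟨4, by decide, rfl⟩, u0_119, mr0_119, e0_119_4⟩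
  · exact ⟨s 3, Subgroup.subset_closure ⟨3, by decide, rfl⟩, u0_119, mr0_119, e0_119_5⟩
  · exact ⟨s 2, Subgroup.subset_closure ⟨2, by decide, rfl⟩, u0_119, mr0_119, e0_119_6⟩
  · exact ⟨s 0, Subgroup.subset_closure ⟨0, by decide, rfl⟩, u0_119, mr0_119, e0_119_7⟩
theorem c0_120 : P0 u0_120 := by
  refine ⟨mm0_120, ?_⟩
  rintro x ⟨j, hj, rfl⟩
  simp only [J0, List.mem_cons, List.not_mem_nil, or_false] at hj
  rcases hj with rfl | rfl | rfl | rfl | rfl | rfl | rfl | rfl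
  · exact ⟨s 5, Subgroup.subset_closure ⟨5, by decide, rfl⟩, u0_120, mr0_120, e0_120_0⟩
  · exact ⟨s 1, Subgroup.subset_closure ⟨1, by decide, rfl⟩, u0_120, mr0_120, e0_120_1⟩
  · exact ⟨s 4, Subgroup.subset_closure ⟨4, by decide, rfl⟩, u0_120, mr0_120, e0_120_2⟩
  · exact ⟨s 3, Subgroup.subset_closure ⟨3, by decide, rfl⟩, u0_120, mr0_120, e0_120_3⟩
  · exact ⟨s 2, Subgroup.subset_closure ⟨2, by decide, rfl⟩, u0_120, mr0_120, e0_120_4⟩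
  · exact ⟨s 0, Subgroup.subset_closure ⟨0, by decide, rfl⟩, u0_120, mr0_120, e0_120_5⟩
  · exact ⟨1, one_mem _, u0_128, mr0_128, e0_120_6⟩
  · exact ⟨1, one_mem _, u0_112, mr0_112, e0_120_7⟩
theorem c0_121 : P0 u0_121 := by
  refine ⟨mm0_121, ?_⟩
  rintro x ⟨j, hj, rfl⟩
  simp only [J0, List.mem_cons, List.not_mem_nil, or_false] at hj
  rcases hj with rfl | rfl | rfl | rfl | rfl | rfl | rfl | rfl
  · exact ⟨s 5, Subgroup.subset_closure ⟨5, by decide, rfl⟩, u0_121, mr0_121, e0_121_0⟩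
  · exact ⟨s 1, Subgroup.subset_closure ⟨1, by decide, rfl⟩, u0_121, mr0_121, e0_121_1⟩
  · exact ⟨s 4, Subgroup.subset_closure ⟨4, by decide, rfl⟩, u0_121, mr0_121, e0_121_2⟩
  · exact ⟨s 3, Subgroup.subset_closure ⟨3, by decide, rfl⟩, u0_121, mr0_121, e0_121_3⟩
  · exact ⟨s 2, Subgroup.subset_closure ⟨2, by decide, rfl⟩, u0_121, mr0_121, e0_121_4⟩
  · exact ⟨1, one_mem _, u0_129, mr0_129, e0_121_5⟩
  · exact ⟨1, one_mem _, u0_113, mr0_113, e0_121_6⟩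
  · exact ⟨1, one_mem _, u0_128, mr0_128, e0_121_7⟩
theorem c0_122 : P0 u0_122 := by
  refine ⟨mm0_122, ?_⟩
  rintro x ⟨j, hj, rfl⟩
  simp only [J0, List.mem_cons, List.not_mem_nil, or_false] at hj
  rcases hj with rfl | rfl | rfl | rfl | rfl | rfl | rfl | rfl
  · exact ⟨s 5, Subgroup.subset_closure ⟨5, by decide, rfl⟩, u0_122, mr0_122, e0_122_0⟩
  · exact ⟨s 1, Subgroup.subset_closure ⟨1, by decide, rfl⟩, u0_122, mr0_122, e0_122_1⟩
  · exact ⟨s 4, Subgroup.subset_closure ⟨4, by decide, rfl⟩, u0_122, mr0_122, e0_122_2⟩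
  · exact ⟨s 3, Subgroup.subset_closure ⟨3, by decide, rfl⟩, u0_122, mr0_122, e0_122_3⟩
  · exact ⟨1, one_mem _, u0_130, mr0_130, e0_122_4⟩
  · exact ⟨1, one_mem _, u0_114, mr0_114, e0_122_5⟩
  · exact ⟨1, one_mem _, u0_129, mr0_129, e0_122_6⟩
  · exact ⟨s 0, Subgroup.subset_closure ⟨0, by decide, rfl⟩, u0_122, mr0_122, e0_122_7⟩
theorem c0_123 : P0 u0_123 := by
  refine ⟨mm0_123, ?_⟩
  rintro x ⟨j, hj, rfl⟩
  simp only [J0, List.mem_cons, List.not_mem_nil, or_false] at hj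
  rcases hj with rfl | rfl | rfl | rfl | rfl | rfl | rfl | rfl
  · exact ⟨s 5, Subgroup.subset_closure ⟨5, by decide, rfl⟩, u0_123, mr0_123, e0_123_0⟩
  · exact ⟨s 1, Subgroup.subset_closure ⟨1, by decide, rfl⟩, u0_123, mr0_123, e0_123_1⟩
  · exact ⟨s 4, Subgroup.subset_closure ⟨4, by decide, rfl⟩, u0_123, mr0_123, e0_123_2⟩
  · exact ⟨1, one_mem _, u0_131, mr0_131, e0_123_3⟩
  · exact ⟨1, one_mem _, u0_115, mr0_115, e0_123_4⟩
  · exact ⟨1, one_mem _, u0_130, mr0_130, e0_123_5⟩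
  · exact ⟨s 2, Subgroup.subset_closure ⟨2, by decide, rfl⟩, u0_123, mr0_123, e0_123_6⟩
  · exact ⟨s 0, Subgroup.subset_closure ⟨0, by decide, rfl⟩, u0_123, mr0_123, e0_123_7⟩
theorem c0_124 : P0 u0_124 := by
  refine ⟨mm0_124, ?_⟩
  rintro x ⟨j, hj, rfl⟩
  simp only [J0, List.mem_cons, List.not_mem_nil, or_false] at hj
  rcases hj with rfl | rfl | rfl | rfl | rfl | rfl | rfl | rfl
  · exact ⟨s 5, Subgroup.subset_closure ⟨5, by decide, rfl⟩, u0_124, mr0_124, e0_124_0⟩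
  · exact ⟨1, one_mem _, u0_132, mr0_132, e0_124_1⟩
  · exact ⟨1, one_mem _, u0_133, mr0_133, e0_124_2⟩
  · exact ⟨1, one_mem _, u0_116, mr0_116, e0_124_3⟩
  · exact ⟨1, one_mem _, u0_131, mr0_131, e0_124_4⟩
  · exact ⟨s 3, Subgroup.subset_closure ⟨3, by decide, rfl⟩, u0_124, mr0_124, e0_124_5⟩
  · exact ⟨s 2, Subgroup.subset_closure ⟨2, by decide, rfl⟩, u0_124, mr0_124, e0_124_6⟩
  · exact ⟨s 0, Subgroup.subset_closure ⟨0, by decide, rfl⟩, u0_124, mr0_124, e0_124_7⟩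
theorem c0_125 : P0 u0_125 := by
  refine ⟨mm0_125, ?_⟩
  rintro x ⟨j, hj, rfl⟩
  simp only [J0, List.mem_cons, List.not_mem_nil, or_false] at hj
  rcases hj with rfl | rfl | rfl | rfl | rfl | rfl | rfl | rfl
  · exact ⟨1, one_mem _, u0_134, mr0_134, e0_125_0⟩
  · exact ⟨s 6, Subgroup.subset_closure ⟨6, by decide, rfl⟩, u0_125, mr0_125, e0_125_1⟩
  · exact ⟨1, one_mem _, u0_117, mr0_117, e0_125_2⟩
  · exact ⟨1, one_mem _, u0_133, mr0_133, e0_125_3⟩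
  · exact ⟨s 4, Subgroup.subset_closure ⟨4, by decide, rfl⟩, u0_125, mr0_125, e0_125_4⟩
  · exact ⟨s 3, Subgroup.subset_closure ⟨3, by decide, rfl⟩, u0_125, mr0_125, e0_125_5⟩
  · exact ⟨s 2, Subgroup.subset_closure ⟨2, by decide, rfl⟩, u0_125, mr0_125, e0_125_6⟩
  · exact ⟨s 0, Subgroup.subset_closure ⟨0, by decide, rfl⟩, u0_125, mr0_125, e0_125_7⟩
theorem c0_126 : P0 u0_126 := by
  refine ⟨mm0_126, ?_⟩
  rintro x ⟨j, hj, rfl⟩
  simp only [J0, List.mem_cons, List.not_mem_nil, or_false] at hj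
  rcases hj with rfl | rfl | rfl | rfl | rfl | rfl | rfl | rfl
  · exact ⟨s 5, Subgroup.subset_closure ⟨5, by decide, rfl⟩, u0_126, mr0_126, e0_126_0⟩
  · exact ⟨1, one_mem _, u0_118, mr0_118, e0_126_1⟩
  · exact ⟨s 6, Subgroup.subset_closure ⟨6, by decide, rfl⟩, u0_126, mr0_126, e0_126_2⟩
  · exact ⟨1, one_mem _, u0_132, mr0_132, e0_126_3⟩
  · exact ⟨s 1, Subgroup.subset_closure ⟨1, by decide, rfl⟩, u0_126, mr0_126, e0_126_4⟩
  · exact ⟨s 3, Subgroup.subset_closure ⟨3, by decide, rfl⟩, u0_126, mr0_126, e0_126_5⟩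
  · exact ⟨s 2, Subgroup.subset_closure ⟨2, by decide, rfl⟩, u0_126, mr0_126, e0_126_6⟩
  · exact ⟨s 0, Subgroup.subset_closure ⟨0, by decide, rfl⟩, u0_126, mr0_126, e0_126_7⟩
theorem c0_127 : P0 u0_127 := by
  refine ⟨mm0_127, ?_⟩
  rintro x ⟨j, hj, rfl⟩
  simp only [J0, List.mem_cons, List.not_mem_nil, or_false] at hj
  rcases hj with rfl | rfl | rfl | rfl | rfl | rfl | rfl | rfl
  · exact ⟨1, one_mem _, u0_119, mr0_119, e0_127_0⟩
  · exact ⟨s 6, Subgroup.subset_closure ⟨6, by decide, rfl⟩, u0_127, mr0_127, e0_127_1⟩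
  · exact ⟨1, one_mem _, u0_134, mr0_134, e0_127_2⟩
  · exact ⟨s 5, Subgroup.subset_closure ⟨5, by decide, rfl⟩, u0_127, mr0_127, e0_127_3⟩
  · exact ⟨s 4, Subgroup.subset_closure ⟨4, by decide, rfl⟩, u0_127, mr0_127, e0_127_4⟩
  · exact ⟨s 3, Subgroup.subset_closure ⟨3, by decide, rfl⟩, u0_127, mr0_127, e0_127_5⟩
  · exact ⟨s 2, Subgroup.subset_closure ⟨2, by decide, rfl⟩, u0_127, mr0_127, e0_127_6⟩
  · exact ⟨s 0, Subgroup.subset_closure ⟨0, by decide, rfl⟩, u0_127, mr0_127, e0_127_7⟩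
theorem c0_128 : P0 u0_128 := by
  refine ⟨mm0_128, ?_⟩
  rintro x ⟨j, hj, rfl⟩
  simp only [J0, List.mem_cons, List.not_mem_nil, or_false] at hj
  rcases hj with rfl | rfl | rfl | rfl | rfl | rfl | rfl | rfl
  · exact ⟨s 5, Subgroup.subset_closure ⟨5, by decide, rfl⟩, u0_128, mr0_128, e0_128_0⟩
  · exact ⟨s 1, Subgroup.subset_closure ⟨1, by decide, rfl⟩, u0_128, mr0_128, e0_128_1⟩
  · exact ⟨s 4, Subgroup.subset_closure ⟨4, by decide, rfl⟩, u0_128, mr0_128, e0_128_2⟩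
  · exact ⟨s 3, Subgroup.subset_closure ⟨3, by decide, rfl⟩, u0_128, mr0_128, e0_128_3⟩
  · exact ⟨s 2, Subgroup.subset_closure ⟨2, by decide, rfl⟩, u0_128, mr0_128, e0_128_4⟩
  · exact ⟨1, one_mem _, u0_135, mr0_135, e0_128_5⟩
  · exact ⟨1, one_mem _, u0_120, mr0_120, e0_128_6⟩
  · exact ⟨1, one_mem _, u0_121, mr0_121, e0_128_7⟩
theorem c0_129 : P0 u0_129 := by
  refine ⟨mm0_129, ?_⟩
  rintro x ⟨j, hj, rfl⟩
  simp only [J0, List.mem_cons, List.not_mem_nil, or_false] at hj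
  rcases hj with rfl | rfl | rfl | rfl | rfl | rfl | rfl | rfl
  · exact ⟨s 5, Subgroup.subset_closure ⟨5, by decide, rfl⟩, u0_129, mr0_129, e0_129_0⟩
  · exact ⟨s 1, Subgroup.subset_closure ⟨1, by decide, rfl⟩, u0_129, mr0_129, e0_129_1⟩
  · exact ⟨s 4, Subgroup.subset_closure ⟨4, by decide, rfl⟩, u0_129, mr0_129, e0_129_2⟩
  · exact ⟨s 3, Subgroup.subset_closure ⟨3, by decide, rfl⟩, u0_129, mr0_129, e0_129_3⟩
  · exact ⟨1, one_mem _, u0_136, mr0_136, e0_129_4⟩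
  · exact ⟨1, one_mem _, u0_121, mr0_121, e0_129_5⟩
  · exact ⟨1, one_mem _, u0_122, mr0_122, e0_129_6⟩
  · exact ⟨1, one_mem _, u0_135, mr0_135, e0_129_7⟩
theorem c0_130 : P0 u0_130 := by
  refine ⟨mm0_130, ?_⟩
  rintro x ⟨j, hj, rfl⟩
  simp only [J0, List.mem_cons, List.not_mem_nil, or_false] at hj
  rcases hj with rfl | rfl | rfl | rfl | rfl | rfl | rfl | rfl
  · exact ⟨s 5, Subgroup.subset_closure ⟨5, by decide, rfl⟩, u0_130, mr0_130, e0_130_0⟩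
  · exact ⟨s 1, Subgroup.subset_closure ⟨1, by decide, rfl⟩, u0_130, mr0_130, e0_130_1⟩
  · exact ⟨s 4, Subgroup.subset_closure ⟨4, by decide, rfl⟩, u0_130, mr0_130, e0_130_2⟩
  · exact ⟨1, one_mem _, u0_137, mr0_137, e0_130_3⟩
  · exact ⟨1, one_mem _, u0_122, mr0_122, e0_130_4⟩
  · exact ⟨1, one_mem _, u0_123, mr0_123, e0_130_5⟩
  · exact ⟨1, one_mem _, u0_136, mr0_136, e0_130_6⟩
  · exact ⟨s 0, Subgroup.subset_closure ⟨0, by decide, rfl⟩, u0_130, mr0_130, e0_130_7⟩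
theorem c0_131 : P0 u0_131 := by
  refine ⟨mm0_131, ?_⟩
  rintro x ⟨j, hj, rfl⟩
  simp only [J0, List.mem_cons, List.not_mem_nil, or_false] at hj
  rcases hj with rfl | rfl | rfl | rfl | rfl | rfl | rfl | rfl
  · exact ⟨s 5, Subgroup.subset_closure ⟨5, by decide, rfl⟩, u0_131, mr0_131, e0_131_0⟩
  · exact ⟨1, one_mem _, u0_138, mr0_138, e0_131_1⟩
  · exact ⟨1, one_mem _, u0_139, mr0_139, e0_131_2⟩
  · exact ⟨1, one_mem _, u0_123, mr0_123, e0_131_3⟩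
  · exact ⟨1, one_mem _, u0_124, mr0_124, e0_131_4⟩
  · exact ⟨1, one_mem _, u0_137, mr0_137, e0_131_5⟩
  · exact ⟨s 2, Subgroup.subset_closure ⟨2, by decide, rfl⟩, u0_131, mr0_131, e0_131_6⟩
  · exact ⟨s 0, Subgroup.subset_closure ⟨0, by decide, rfl⟩, u0_131, mr0_131, e0_131_7⟩
theorem c0_132 : P0 u0_132 := by
  refine ⟨mm0_132, ?_⟩
  rintro x ⟨j, hj, rfl⟩
  simp only [J0, List.mem_cons, List.not_mem_nil, or_false] at hj
  rcases hj with rfl | rfl | rfl | rfl | rfl | rfl | rfl | rfl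
  · exact ⟨s 5, Subgroup.subset_closure ⟨5, by decide, rfl⟩, u0_132, mr0_132, e0_132_0⟩
  · exact ⟨1, one_mem _, u0_124, mr0_124, e0_132_1⟩
  · exact ⟨1, one_mem _, u0_140, mr0_140, e0_132_2⟩
  · exact ⟨1, one_mem _, u0_126, mr0_126, e0_132_3⟩
  · exact ⟨1, one_mem _, u0_138, mr0_138, e0_132_4⟩
  · exact ⟨s 3, Subgroup.subset_closure ⟨3, by decide, rfl⟩, u0_132, mr0_132, e0_132_5⟩
  · exact ⟨s 2, Subgroup.subset_closure ⟨2, by decide, rfl⟩, u0_132, mr0_132, e0_132_6⟩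
  · exact ⟨s 0, Subgroup.subset_closure ⟨0, by decide, rfl⟩, u0_132, mr0_132, e0_132_7⟩
theorem c0_133 : P0 u0_133 := by
  refine ⟨mm0_133, ?_⟩
  rintro x ⟨j, hj, rfl⟩
  simp only [J0, List.mem_cons, List.not_mem_nil, or_false] at hj
  rcases hj with rfl | rfl | rfl | rfl | rfl | rfl | rfl | rfl
  · exact ⟨1, one_mem _, u0_141, mr0_141, e0_133_0⟩
  · exact ⟨1, one_mem _, u0_140, mr0_140, e0_133_1⟩
  · exact ⟨1, one_mem _, u0_124, mr0_124, e0_133_2⟩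
  · exact ⟨1, one_mem _, u0_125, mr0_125, e0_133_3⟩
  · exact ⟨1, one_mem _, u0_139, mr0_139, e0_133_4⟩
  · exact ⟨s 3, Subgroup.subset_closure ⟨3, by decide, rfl⟩, u0_133, mr0_133, e0_133_5⟩
  · exact ⟨s 2, Subgroup.subset_closure ⟨2, by decide, rfl⟩, u0_133, mr0_133, e0_133_6⟩
  · exact ⟨s 0, Subgroup.subset_closure ⟨0, by decide, rfl⟩, u0_133, mr0_133, e0_133_7⟩
theorem c0_134 : P0 u0_134 := by
  refine ⟨mm0_134, ?_⟩
  rintro x ⟨j, hj, rfl⟩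
  simp only [J0, List.mem_cons, List.not_mem_nil, or_false] at hj
  rcases hj with rfl | rfl | rfl | rfl | rfl | rfl | rfl | rfl
  · exact ⟨1, one_mem _, u0_125, mr0_125, e0_134_0⟩
  · exact ⟨s 6, Subgroup.subset_closure ⟨6, by decide, rfl⟩, u0_134, mr0_134, e0_134_1⟩
  · exact ⟨1, one_mem _, u0_127, mr0_127, e0_134_2⟩
  · exact ⟨1, one_mem _, u0_141, mr0_141, e0_134_3⟩
  · exact ⟨s 4, Subgroup.subset_closure ⟨4, by decide, rfl⟩, u0_134, mr0_134, e0_134_4⟩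
  · exact ⟨s 3, Subgroup.subset_closure ⟨3, by decide, rfl⟩, u0_134, mr0_134, e0_134_5⟩
  · exact ⟨s 2, Subgroup.subset_closure ⟨2, by decide, rfl⟩, u0_134, mr0_134, e0_134_6⟩
  · exact ⟨s 0, Subgroup.subset_closure ⟨0, by decide, rfl⟩, u0_134, mr0_134, e0_134_7⟩
theorem c0_135 : P0 u0_135 := by
  refine ⟨mm0_135, ?_⟩
  rintro x ⟨j, hj, rfl⟩
  simp only [J0, List.mem_cons, List.not_mem_nil, or_false] at hj
  rcases hj with rfl | rfl | rfl | rfl | rfl | rfl | rfl | rfl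
  · exact ⟨s 5, Subgroup.subset_closure ⟨5, by decide, rfl⟩, u0_135, mr0_135, e0_135_0⟩
  · exact ⟨s 1, Subgroup.subset_closure ⟨1, by decide, rfl⟩, u0_135, mr0_135, e0_135_1⟩
  · exact ⟨s 4, Subgroup.subset_closure ⟨4, by decide, rfl⟩, u0_135, mr0_135, e0_135_2⟩
  · exact ⟨s 3, Subgroup.subset_closure ⟨3, by decide, rfl⟩, u0_135, mr0_135, e0_135_3⟩
  · exact ⟨1, one_mem _, u0_142, mr0_142, e0_135_4⟩
  · exact ⟨1, one_mem _, u0_128, mr0_128, e0_135_5⟩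
  · exact ⟨s 0, Subgroup.subset_closure ⟨0, by decide, rfl⟩, u0_135, mr0_135, e0_135_6⟩
  · exact ⟨1, one_mem _, u0_129, mr0_129, e0_135_7⟩
theorem c0_136 : P0 u0_136 := by
  refine ⟨mm0_136, ?_⟩
  rintro x ⟨j, hj, rfl⟩
  simp only [J0, List.mem_cons, List.not_mem_nil, or_false] at hj
  rcases hj with rfl | rfl | rfl | rfl | rfl | rfl | rfl | rfl
  · exact ⟨s 5, Subgroup.subset_closure ⟨5, by decide, rfl⟩, u0_136, mr0_136, e0_136_0⟩
  · exact ⟨s 1, Subgroup.subset_closure ⟨1, by decide, rfl⟩, u0_136, mr0_136, e0_136_1⟩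
  · exact ⟨s 4, Subgroup.subset_closure ⟨4, by decide, rfl⟩, u0_136, mr0_136, e0_136_2⟩
  · exact ⟨1, one_mem _, u0_143, mr0_143, e0_136_3⟩
  · exact ⟨1, one_mem _, u0_129, mr0_129, e0_136_4⟩
  · exact ⟨s 2, Subgroup.subset_closure ⟨2, by decide, rfl⟩, u0_136, mr0_136, e0_136_5⟩
  · exact ⟨1, one_mem _, u0_130, mr0_130, e0_136_6⟩
  · exact ⟨1, one_mem _, u0_142, mr0_142, e0_136_7⟩
theorem c0_137 : P0 u0_137 := by
  refine ⟨mm0_137, ?_⟩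
  rintro x ⟨j, hj, rfl⟩
  simp only [J0, List.mem_cons, List.not_mem_nil, or_false] at hj
  rcases hj with rfl | rfl | rfl | rfl | rfl | rfl | rfl | rfl
  · exact ⟨s 5, Subgroup.subset_closure ⟨5, by decide, rfl⟩, u0_137, mr0_137, e0_137_0⟩
  · exact ⟨1, one_mem _, u0_144, mr0_144, e0_137_1⟩
  · exact ⟨1, one_mem _, u0_145, mr0_145, e0_137_2⟩
  · exact ⟨1, one_mem _, u0_130, mr0_130, e0_137_3⟩
  · exact ⟨s 3, Subgroup.subset_closure ⟨3, by decide, rfl⟩, u0_137, mr0_137, e0_137_4⟩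
  · exact ⟨1, one_mem _, u0_131, mr0_131, e0_137_5⟩
  · exact ⟨1, one_mem _, u0_143, mr0_143, e0_137_6⟩
  · exact ⟨s 0, Subgroup.subset_closure ⟨0, by decide, rfl⟩, u0_137, mr0_137, e0_137_7⟩
theorem c0_138 : P0 u0_138 := by
  refine ⟨mm0_138, ?_⟩
  rintro x ⟨j, hj, rfl⟩
  simp only [J0, List.mem_cons, List.not_mem_nil, or_false] at hj
  rcases hj with rfl | rfl | rfl | rfl | rfl | rfl | rfl | rfl
  · exact ⟨s 5, Subgroup.subset_closure ⟨5, by decide, rfl⟩, u0_138, mr0_138, e0_138_0⟩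
  · exact ⟨1, one_mem _, u0_131, mr0_131, e0_138_1⟩
  · exact ⟨1, one_mem _, u0_146, mr0_146, e0_138_2⟩
  · exact ⟨s 1, Subgroup.subset_closure ⟨1, by decide, rfl⟩, u0_138, mr0_138, e0_138_3⟩
  · exact ⟨1, one_mem _, u0_132, mr0_132, e0_138_4⟩
  · exact ⟨1, one_mem _, u0_144, mr0_144, e0_138_5⟩
  · exact ⟨s 2, Subgroup.subset_closure ⟨2, by decide, rfl⟩, u0_138, mr0_138, e0_138_6⟩
  · exact ⟨s 0, Subgroup.subset_closure ⟨0, by decide, rfl⟩, u0_138, mr0_138, e0_138_7⟩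
theorem c0_139 : P0 u0_139 := by
  refine ⟨mm0_139, ?_⟩
  rintro x ⟨j, hj, rfl⟩
  simp only [J0, List.mem_cons, List.not_mem_nil, or_false] at hj
  rcases hj with rfl | rfl | rfl | rfl | rfl | rfl | rfl | rfl
  · exact ⟨1, one_mem _, u0_147, mr0_147, e0_139_0⟩
  · exact ⟨1, one_mem _, u0_146, mr0_146, e0_139_1⟩
  · exact ⟨1, one_mem _, u0_131, mr0_131, e0_139_2⟩
  · exact ⟨s 4, Subgroup.subset_closure ⟨4, by decide, rfl⟩, u0_139, mr0_139, e0_139_3⟩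
  · exact ⟨1, one_mem _, u0_133, mr0_133, e0_139_4⟩
  · exact ⟨1, one_mem _, u0_145, mr0_145, e0_139_5⟩
  · exact ⟨s 2, Subgroup.subset_closure ⟨2, by decide, rfl⟩, u0_139, mr0_139, e0_139_6⟩
  · exact ⟨s 0, Subgroup.subset_closure ⟨0, by decide, rfl⟩, u0_139, mr0_139, e0_139_7⟩
theorem c0_140 : P0 u0_140 := by
  refine ⟨mm0_140, ?_⟩
  rintro x ⟨j, hj, rfl⟩
  simp only [J0, List.mem_cons, List.not_mem_nil, or_false] at hj
  rcases hj with rfl | rfl | rfl | rfl | rfl | rfl | rfl | rfl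
  · exact ⟨1, one_mem _, u0_148, mr0_148, e0_140_0⟩
  · exact ⟨1, one_mem _, u0_133, mr0_133, e0_140_1⟩
  · exact ⟨1, one_mem _, u0_132, mr0_132, e0_140_2⟩
  · exact ⟨s 6, Subgroup.subset_closure ⟨6, by decide, rfl⟩, u0_140, mr0_140, e0_140_3⟩
  · exact ⟨1, one_mem _, u0_146, mr0_146, e0_140_4⟩
  · exact ⟨s 3, Subgroup.subset_closure ⟨3, by decide, rfl⟩, u0_140, mr0_140, e0_140_5⟩
  · exact ⟨s 2, Subgroup.subset_closure ⟨2, by decide, rfl⟩, u0_140, mr0_140, e0_140_6⟩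
  · exact ⟨s 0, Subgroup.subset_closure ⟨0, by decide, rfl⟩, u0_140, mr0_140, e0_140_7⟩
theorem c0_141 : P0 u0_141 := by
  refine ⟨mm0_141, ?_⟩
  rintro x ⟨j, hj, rfl⟩
  simp only [J0, List.mem_cons, List.not_mem_nil, or_false] at hj
  rcases hj with rfl | rfl | rfl | rfl | rfl | rfl | rfl | rfl
  · exact ⟨1, one_mem _, u0_133, mr0_133, e0_141_0⟩
  · exact ⟨1, one_mem _, u0_148, mr0_148, e0_141_1⟩
  · exact ⟨s 5, Subgroup.subset_closure ⟨5, by decide, rfl⟩, u0_141, mr0_141, e0_141_2⟩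
  · exact ⟨1, one_mem _, u0_134, mr0_134, e0_141_3⟩
  · exact ⟨1, one_mem _, u0_147, mr0_147, e0_141_4⟩
  · exact ⟨s 3, Subgroup.subset_closure ⟨3, by decide, rfl⟩, u0_141, mr0_141, e0_141_5⟩
  · exact ⟨s 2, Subgroup.subset_closure ⟨2, by decide, rfl⟩, u0_141, mr0_141, e0_141_6⟩
  · exact ⟨s 0, Subgroup.subset_closure ⟨0, by decide, rfl⟩, u0_141, mr0_141, e0_141_7⟩
theorem c0_142 : P0 u0_142 := by
  refine ⟨mm0_142, ?_⟩
  rintro x ⟨j, hj, rfl⟩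
  simp only [J0, List.mem_cons, List.not_mem_nil, or_false] at hj
  rcases hj with rfl | rfl | rfl | rfl | rfl | rfl | rfl | rfl
  · exact ⟨s 5, Subgroup.subset_closure ⟨5, by decide, rfl⟩, u0_142, mr0_142, e0_142_0⟩
  · exact ⟨s 1, Subgroup.subset_closure ⟨1, by decide, rfl⟩, u0_142, mr0_142, e0_142_1⟩
  · exact ⟨s 4, Subgroup.subset_closure ⟨4, by decide, rfl⟩, u0_142, mr0_142, e0_142_2⟩
  · exact ⟨1, one_mem _, u0_149, mr0_149, e0_142_3⟩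
  · exact ⟨1, one_mem _, u0_135, mr0_135, e0_142_4⟩
  · exact ⟨s 2, Subgroup.subset_closure ⟨2, by decide, rfl⟩, u0_142, mr0_142, e0_142_5⟩
  · exact ⟨s 0, Subgroup.subset_closure ⟨0, by decide, rfl⟩, u0_142, mr0_142, e0_142_6⟩
  · exact ⟨1, one_mem _, u0_136, mr0_136, e0_142_7⟩
theorem c0_143 : P0 u0_143 := by
  refine ⟨mm0_143, ?_⟩
  rintro x ⟨j, hj, rfl⟩
  simp only [J0, List.mem_cons, List.not_mem_nil, or_false] at hj
  rcases hj with rfl | rfl | rfl | rfl | rfl | rfl | rfl | rfl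
  · exact ⟨s 5, Subgroup.subset_closure ⟨5, by decide, rfl⟩, u0_143, mr0_143, e0_143_0⟩
  · exact ⟨1, one_mem _, u0_150, mr0_150, e0_143_1⟩
  · exact ⟨1, one_mem _, u0_151, mr0_151, e0_143_2⟩
  · exact ⟨1, one_mem _, u0_136, mr0_136, e0_143_3⟩
  · exact ⟨s 3, Subgroup.subset_closure ⟨3, by decide, rfl⟩, u0_143, mr0_143, e0_143_4⟩
  · exact ⟨s 2, Subgroup.subset_closure ⟨2, by decide, rfl⟩, u0_143, mr0_143, e0_143_5⟩
  · exact ⟨1, one_mem _, u0_137, mr0_137, e0_143_6⟩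
  · exact ⟨1, one_mem _, u0_149, mr0_149, e0_143_7⟩
theorem c0_144 : P0 u0_144 := by
  refine ⟨mm0_144, ?_⟩
  rintro x ⟨j, hj, rfl⟩
  simp only [J0, List.mem_cons, List.not_mem_nil, or_false] at hj
  rcases hj with rfl | rfl | rfl | rfl | rfl | rfl | rfl | rfl
  · exact ⟨s 5, Subgroup.subset_closure ⟨5, by decide, rfl⟩, u0_144, mr0_144, e0_144_0⟩
  · exact ⟨1, one_mem _, u0_137, mr0_137, e0_144_1⟩
  · exact ⟨1, one_mem _, u0_152, mr0_152, e0_144_2⟩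
  · exact ⟨s 1, Subgroup.subset_closure ⟨1, by decide, rfl⟩, u0_144, mr0_144, e0_144_3⟩
  · exact ⟨s 3, Subgroup.subset_closure ⟨3, by decide, rfl⟩, u0_144, mr0_144, e0_144_4⟩
  · exact ⟨1, one_mem _, u0_138, mr0_138, e0_144_5⟩
  · exact ⟨1, one_mem _, u0_150, mr0_150, e0_144_6⟩
  · exact ⟨s 0, Subgroup.subset_closure ⟨0, by decide, rfl⟩, u0_144, mr0_144, e0_144_7⟩
theorem c0_145 : P0 u0_145 := by
  refine ⟨mm0_145, ?_⟩
  rintro x ⟨j, hj, rfl⟩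
  simp only [J0, List.mem_cons, List.not_mem_nil, or_false] at hj
  rcases hj with rfl | rfl | rfl | rfl | rfl | rfl | rfl | rfl
  · exact ⟨1, one_mem _, u0_153, mr0_153, e0_145_0⟩
  · exact ⟨1, one_mem _, u0_152, mr0_152, e0_145_1⟩
  · exact ⟨1, one_mem _, u0_137, mr0_137, e0_145_2⟩
  · exact ⟨s 4, Subgroup.subset_closure ⟨4, by decide, rfl⟩, u0_145, mr0_145, e0_145_3⟩
  · exact ⟨s 3, Subgroup.subset_closure ⟨3, by decide, rfl⟩, u0_145, mr0_145, e0_145_4⟩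
  · exact ⟨1, one_mem _, u0_139, mr0_139, e0_145_5⟩
  · exact ⟨1, one_mem _, u0_151, mr0_151, e0_145_6⟩
  · exact ⟨s 0, Subgroup.subset_closure ⟨0, by decide, rfl⟩, u0_145, mr0_145, e0_145_7⟩
theorem c0_146 : P0 u0_146 := by
  refine ⟨mm0_146, ?_⟩
  rintro x ⟨j, hj, rfl⟩
  simp only [J0, List.mem_cons, List.not_mem_nil, or_false] at hj
  rcases hj with rfl | rfl | rfl | rfl | rfl | rfl | rfl | rfl
  · exact ⟨1, one_mem _, u0_154, mr0_154, e0_146_0⟩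
  · exact ⟨1, one_mem _, u0_139, mr0_139, e0_146_1⟩
  · exact ⟨1, one_mem _, u0_138, mr0_138, e0_146_2⟩
  · exact ⟨1, one_mem _, u0_155, mr0_155, e0_146_3⟩
  · exact ⟨1, one_mem _, u0_140, mr0_140, e0_146_4⟩
  · exact ⟨1, one_mem _, u0_152, mr0_152, e0_146_5⟩
  · exact ⟨s 2, Subgroup.subset_closure ⟨2, by decide, rfl⟩, u0_146, mr0_146, e0_146_6⟩
  · exact ⟨s 0, Subgroup.subset_closure ⟨0, by decide, rfl⟩, u0_146, mr0_146, e0_146_7⟩
theorem c0_147 : P0 u0_147 := by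
  refine ⟨mm0_147, ?_⟩
  rintro x ⟨j, hj, rfl⟩
  simp only [J0, List.mem_cons, List.not_mem_nil, or_false] at hj
  rcases hj with rfl | rfl | rfl | rfl | rfl | rfl | rfl | rfl
  · exact ⟨1, one_mem _, u0_139, mr0_139, e0_147_0⟩
  · exact ⟨1, one_mem _, u0_154, mr0_154, e0_147_1⟩
  · exact ⟨s 5, Subgroup.subset_closure ⟨5, by decide, rfl⟩, u0_147, mr0_147, e0_147_2⟩
  · exact ⟨s 4, Subgroup.subset_closure ⟨4, by decide, rfl⟩, u0_147, mr0_147, e0_147_3⟩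
  · exact ⟨1, one_mem _, u0_141, mr0_141, e0_147_4⟩
  · exact ⟨1, one_mem _, u0_153, mr0_153, e0_147_5⟩
  · exact ⟨s 2, Subgroup.subset_closure ⟨2, by decide, rfl⟩, u0_147, mr0_147, e0_147_6⟩
  · exact ⟨s 0, Subgroup.subset_closure ⟨0, by decide, rfl⟩, u0_147, mr0_147, e0_147_7⟩
theorem c0_148 : P0 u0_148 := by
  refine ⟨mm0_148, ?_⟩
  rintro x ⟨j, hj, rfl⟩
  simp only [J0, List.mem_cons, List.not_mem_nil, or_false] at hj
  rcases hj with rfl | rfl | rfl | rfl | rfl | rfl | rfl | rfl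
  · exact ⟨1, one_mem _, u0_140, mr0_140, e0_148_0⟩
  · exact ⟨1, one_mem _, u0_141, mr0_141, e0_148_1⟩
  · exact ⟨s 5, Subgroup.subset_closure ⟨5, by decide, rfl⟩, u0_148, mr0_148, e0_148_2⟩
  · exact ⟨s 6, Subgroup.subset_closure ⟨6, by decide, rfl⟩, u0_148, mr0_148, e0_148_3⟩
  · exact ⟨1, one_mem _, u0_154, mr0_154, e0_148_4⟩
  · exact ⟨s 3, Subgroup.subset_closure ⟨3, by decide, rfl⟩, u0_148, mr0_148, e0_148_5⟩
  · exact ⟨s 2, Subgroup.subset_closure ⟨2, by decide, rfl⟩, u0_148, mr0_148, e0_148_6⟩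
  · exact ⟨s 0, Subgroup.subset_closure ⟨0, by decide, rfl⟩, u0_148, mr0_148, e0_148_7⟩
theorem c0_149 : P0 u0_149 := by
  refine ⟨mm0_149, ?_⟩
  rintro x ⟨j, hj, rfl⟩
  simp only [J0, List.mem_cons, List.not_mem_nil, or_false] at hj
  rcases hj with rfl | rfl | rfl | rfl | rfl | rfl | rfl | rfl
  · exact ⟨s 5, Subgroup.subset_closure ⟨5, by decide, rfl⟩, u0_149, mr0_149, e0_149_0⟩
  · exact ⟨1, one_mem _, u0_156, mr0_156, e0_149_1⟩
  · exact ⟨1, one_mem _, u0_157, mr0_157, e0_149_2⟩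
  · exact ⟨1, one_mem _, u0_142, mr0_142, e0_149_3⟩
  · exact ⟨s 3, Subgroup.subset_closure ⟨3, by decide, rfl⟩, u0_149, mr0_149, e0_149_4⟩
  · exact ⟨s 2, Subgroup.subset_closure ⟨2, by decide, rfl⟩, u0_149, mr0_149, e0_149_5⟩
  · exact ⟨s 0, Subgroup.subset_closure ⟨0, by decide, rfl⟩, u0_149, mr0_149, e0_149_6⟩
  · exact ⟨1, one_mem _, u0_143, mr0_143, e0_149_7⟩
theorem c0_150 : P0 u0_150 := by
  refine ⟨mm0_150, ?_⟩
  rintro x ⟨j, hj, rfl⟩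
  simp only [J0, List.mem_cons, List.not_mem_nil, or_false] at hj
  rcases hj with rfl | rfl | rfl | rfl | rfl | rfl | rfl | rfl
  · exact ⟨s 5, Subgroup.subset_closure ⟨5, by decide, rfl⟩, u0_150, mr0_150, e0_150_0⟩
  · exact ⟨1, one_mem _, u0_143, mr0_143, e0_150_1⟩
  · exact ⟨1, one_mem _, u0_158, mr0_158, e0_150_2⟩
  · exact ⟨s 1, Subgroup.subset_closure ⟨1, by decide, rfl⟩, u0_150, mr0_150, e0_150_3⟩
  · exact ⟨s 3, Subgroup.subset_closure ⟨3, by decide, rfl⟩, u0_150, mr0_150, e0_150_4⟩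
  · exact ⟨s 2, Subgroup.subset_closure ⟨2, by decide, rfl⟩, u0_150, mr0_150, e0_150_5⟩
  · exact ⟨1, one_mem _, u0_144, mr0_144, e0_150_6⟩
  · exact ⟨1, one_mem _, u0_156, mr0_156, e0_150_7⟩
theorem c0_151 : P0 u0_151 := by
  refine ⟨mm0_151, ?_⟩
  rintro x ⟨j, hj, rfl⟩
  simp only [J0, List.mem_cons, List.not_mem_nil, or_false] at hj
  rcases hj with rfl | rfl | rfl | rfl | rfl | rfl | rfl | rfl
  · exact ⟨1, one_mem _, u0_159, mr0_159, e0_151_0⟩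
  · exact ⟨1, one_mem _, u0_158, mr0_158, e0_151_1⟩
  · exact ⟨1, one_mem _, u0_143, mr0_143, e0_151_2⟩
  · exact ⟨s 4, Subgroup.subset_closure ⟨4, by decide, rfl⟩, u0_151, mr0_151, e0_151_3⟩
  · exact ⟨s 3, Subgroup.subset_closure ⟨3, by decide, rfl⟩, u0_151, mr0_151, e0_151_4⟩
  · exact ⟨s 2, Subgroup.subset_closure ⟨2, by decide, rfl⟩, u0_151, mr0_151, e0_151_5⟩
  · exact ⟨1, one_mem _, u0_145, mr0_145, e0_151_6⟩
  · exact ⟨1, one_mem _, u0_157, mr0_157, e0_151_7⟩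
theorem c0_152 : P0 u0_152 := by
  refine ⟨mm0_152, ?_⟩
  rintro x ⟨j, hj, rfl⟩
  simp only [J0, List.mem_cons, List.not_mem_nil, or_false] at hj
  rcases hj with rfl | rfl | rfl | rfl | rfl | rfl | rfl | rfl
  · exact ⟨1, one_mem _, u0_160, mr0_160, e0_152_0⟩
  · exact ⟨1, one_mem _, u0_145, mr0_145, e0_152_1⟩
  · exact ⟨1, one_mem _, u0_144, mr0_144, e0_152_2⟩
  · exact ⟨1, one_mem _, u0_161, mr0_161, e0_152_3⟩
  · exact ⟨s 3, Subgroup.subset_closure ⟨3, by decide, rfl⟩, u0_152, mr0_152, e0_152_4⟩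
  · exact ⟨1, one_mem _, u0_146, mr0_146, e0_152_5⟩
  · exact ⟨1, one_mem _, u0_158, mr0_158, e0_152_6⟩
  · exact ⟨s 0, Subgroup.subset_closure ⟨0, by decide, rfl⟩, u0_152, mr0_152, e0_152_7⟩
theorem c0_153 : P0 u0_153 := by
  refine ⟨mm0_153, ?_⟩
  rintro x ⟨j, hj, rfl⟩
  simp only [J0, List.mem_cons, List.not_mem_nil, or_false] at hj
  rcases hj with rfl | rfl | rfl | rfl | rfl | rfl | rfl | rfl
  · exact ⟨1, one_mem _, u0_145, mr0_145, e0_153_0⟩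
  · exact ⟨1, one_mem _, u0_160, mr0_160, e0_153_1⟩
  · exact ⟨s 5, Subgroup.subset_closure ⟨5, by decide, rfl⟩, u0_153, mr0_153, e0_153_2⟩
  · exact ⟨s 4, Subgroup.subset_closure ⟨4, by decide, rfl⟩, u0_153, mr0_153, e0_153_3⟩
  · exact ⟨s 3, Subgroup.subset_closure ⟨3, by decide, rfl⟩, u0_153, mr0_153, e0_153_4⟩
  · exact ⟨1, one_mem _, u0_147, mr0_147, e0_153_5⟩
  · exact ⟨1, one_mem _, u0_159, mr0_159, e0_153_6⟩
  · exact ⟨s 0, Subgroup.subset_closure ⟨0, by decide, rfl⟩, u0_153, mr0_153, e0_153_7⟩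
theorem c0_154 : P0 u0_154 := by
  refine ⟨mm0_154, ?_⟩
  rintro x ⟨j, hj, rfl⟩
  simp only [J0, List.mem_cons, List.not_mem_nil, or_false] at hj
  rcases hj with rfl | rfl | rfl | rfl | rfl | rfl | rfl | rfl
  · exact ⟨1, one_mem _, u0_146, mr0_146, e0_154_0⟩
  · exact ⟨1, one_mem _, u0_147, mr0_147, e0_154_1⟩
  · exact ⟨s 5, Subgroup.subset_closure ⟨5, by decide, rfl⟩, u0_154, mr0_154, e0_154_2⟩
  · exact ⟨1, one_mem _, u0_162, mr0_162, e0_154_3⟩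
  · exact ⟨1, one_mem _, u0_148, mr0_148, e0_154_4⟩
  · exact ⟨1, one_mem _, u0_160, mr0_160, e0_154_5⟩
  · exact ⟨s 2, Subgroup.subset_closure ⟨2, by decide, rfl⟩, u0_154, mr0_154, e0_154_6⟩
  · exact ⟨s 0, Subgroup.subset_closure ⟨0, by decide, rfl⟩, u0_154, mr0_154, e0_154_7⟩
theorem c0_155 : P0 u0_155 := by
  refine ⟨mm0_155, ?_⟩
  rintro x ⟨j, hj, rfl⟩
  simp only [J0, List.mem_cons, List.not_mem_nil, or_false] at hj
  rcases hj with rfl | rfl | rfl | rfl | rfl | rfl | rfl | rfl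
  · exact ⟨1, one_mem _, u0_162, mr0_162, e0_155_0⟩
  · exact ⟨s 4, Subgroup.subset_closure ⟨4, by decide, rfl⟩, u0_155, mr0_155, e0_155_1⟩
  · exact ⟨s 1, Subgroup.subset_closure ⟨1, by decide, rfl⟩, u0_155, mr0_155, e0_155_2⟩
  · exact ⟨1, one_mem _, u0_146, mr0_146, e0_155_3⟩
  · exact ⟨s 6, Subgroup.subset_closure ⟨6, by decide, rfl⟩, u0_155, mr0_155, e0_155_4⟩
  · exact ⟨1, one_mem _, u0_161, mr0_161, e0_155_5⟩
  · exact ⟨s 2, Subgroup.subset_closure ⟨2, by decide, rfl⟩, u0_155, mr0_155, e0_155_6⟩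
  · exact ⟨s 0, Subgroup.subset_closure ⟨0, by decide, rfl⟩, u0_155, mr0_155, e0_155_7⟩
theorem c0_156 : P0 u0_156 := by
  refine ⟨mm0_156, ?_⟩
  rintro x ⟨j, hj, rfl⟩
  simp only [J0, List.mem_cons, List.not_mem_nil, or_false] at hj
  rcases hj with rfl | rfl | rfl | rfl | rfl | rfl | rfl | rfl
  · exact ⟨s 5, Subgroup.subset_closure ⟨5, by decide, rfl⟩, u0_156, mr0_156, e0_156_0⟩
  · exact ⟨1, one_mem _, u0_149, mr0_149, e0_156_1⟩
  · exact ⟨1, one_mem _, u0_163, mr0_163, e0_156_2⟩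
  · exact ⟨s 1, Subgroup.subset_closure ⟨1, by decide, rfl⟩, u0_156, mr0_156, e0_156_3⟩
  · exact ⟨s 3, Subgroup.subset_closure ⟨3, by decide, rfl⟩, u0_156, mr0_156, e0_156_4⟩
  · exact ⟨s 2, Subgroup.subset_closure ⟨2, by decide, rfl⟩, u0_156, mr0_156, e0_156_5⟩
  · exact ⟨s 0, Subgroup.subset_closure ⟨0, by decide, rfl⟩, u0_156, mr0_156, e0_156_6⟩
  · exact ⟨1, one_mem _, u0_150, mr0_150, e0_156_7⟩
theorem c0_157 : P0 u0_157 := by
  refine ⟨mm0_157, ?_⟩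
  rintro x ⟨j, hj, rfl⟩
  simp only [J0, List.mem_cons, List.not_mem_nil, or_false] at hj
  rcases hj with rfl | rfl | rfl | rfl | rfl | rfl | rfl | rfl
  · exact ⟨1, one_mem _, u0_164, mr0_164, e0_157_0⟩
  · exact ⟨1, one_mem _, u0_163, mr0_163, e0_157_1⟩
  · exact ⟨1, one_mem _, u0_149, mr0_149, e0_157_2⟩
  · exact ⟨s 4, Subgroup.subset_closure ⟨4, by decide, rfl⟩, u0_157, mr0_157, e0_157_3⟩
  · exact ⟨s 3, Subgroup.subset_closure ⟨3, by decide, rfl⟩, u0_157, mr0_157, e0_157_4⟩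
  · exact ⟨s 2, Subgroup.subset_closure ⟨2, by decide, rfl⟩, u0_157, mr0_157, e0_157_5⟩
  · exact ⟨s 0, Subgroup.subset_closure ⟨0, by decide, rfl⟩, u0_157, mr0_157, e0_157_6⟩
  · exact ⟨1, one_mem _, u0_151, mr0_151, e0_157_7⟩
theorem c0_158 : P0 u0_158 := by
  refine ⟨mm0_158, ?_⟩
  rintro x ⟨j, hj, rfl⟩
  simp only [J0, List.mem_cons, List.not_mem_nil, or_false] at hj
  rcases hj with rfl | rfl | rfl | rfl | rfl | rfl | rfl | rfl
  · exact ⟨1, one_mem _, u0_165, mr0_165, e0_158_0⟩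
  · exact ⟨1, one_mem _, u0_151, mr0_151, e0_158_1⟩
  · exact ⟨1, one_mem _, u0_150, mr0_150, e0_158_2⟩
  · exact ⟨1, one_mem _, u0_166, mr0_166, e0_158_3⟩
  · exact ⟨s 3, Subgroup.subset_closure ⟨3, by decide, rfl⟩, u0_158, mr0_158, e0_158_4⟩
  · exact ⟨s 2, Subgroup.subset_closure ⟨2, by decide, rfl⟩, u0_158, mr0_158, e0_158_5⟩
  · exact ⟨1, one_mem _, u0_152, mr0_152, e0_158_6⟩
  · exact ⟨1, one_mem _, u0_163, mr0_163, e0_158_7⟩
theorem c0_159 : P0 u0_159 := by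
  refine ⟨mm0_159, ?_⟩
  rintro x ⟨j, hj, rfl⟩
  simp only [J0, List.mem_cons, List.not_mem_nil, or_false] at hj
  rcases hj with rfl | rfl | rfl | rfl | rfl | rfl | rfl | rfl
  · exact ⟨1, one_mem _, u0_151, mr0_151, e0_159_0⟩
  · exact ⟨1, one_mem _, u0_165, mr0_165, e0_159_1⟩
  · exact ⟨s 5, Subgroup.subset_closure ⟨5, by decide, rfl⟩, u0_159, mr0_159, e0_159_2⟩
  · exact ⟨s 4, Subgroup.subset_closure ⟨4, by decide, rfl⟩, u0_159, mr0_159, e0_159_3⟩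
  · exact ⟨s 3, Subgroup.subset_closure ⟨3, by decide, rfl⟩, u0_159, mr0_159, e0_159_4⟩
  · exact ⟨s 2, Subgroup.subset_closure ⟨2, by decide, rfl⟩, u0_159, mr0_159, e0_159_5⟩
  · exact ⟨1, one_mem _, u0_153, mr0_153, e0_159_6⟩
  · exact ⟨1, one_mem _, u0_164, mr0_164, e0_159_7⟩
theorem c0_160 : P0 u0_160 := by
  refine ⟨mm0_160, ?_⟩
  rintro x ⟨j, hj, rfl⟩
  simp only [J0, List.mem_cons, List.not_mem_nil, or_false] at hj
  rcases hj with rfl | rfl | rfl | rfl | rfl | rfl | rfl | rfl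
  · exact ⟨1, one_mem _, u0_152, mr0_152, e0_160_0⟩
  · exact ⟨1, one_mem _, u0_153, mr0_153, e0_160_1⟩
  · exact ⟨s 5, Subgroup.subset_closure ⟨5, by decide, rfl⟩, u0_160, mr0_160, e0_160_2⟩
  · exact ⟨1, one_mem _, u0_167, mr0_167, e0_160_3⟩
  · exact ⟨s 3, Subgroup.subset_closure ⟨3, by decide, rfl⟩, u0_160, mr0_160, e0_160_4⟩
  · exact ⟨1, one_mem _, u0_154, mr0_154, e0_160_5⟩
  · exact ⟨1, one_mem _, u0_165, mr0_165, e0_160_6⟩
  · exact ⟨s 0, Subgroup.subset_closure ⟨0, by decide, rfl⟩, u0_160, mr0_160, e0_160_7⟩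
theorem c0_161 : P0 u0_161 := by
  refine ⟨mm0_161, ?_⟩
  rintro x ⟨j, hj, rfl⟩
  simp only [J0, List.mem_cons, List.not_mem_nil, or_false] at hj
  rcases hj with rfl | rfl | rfl | rfl | rfl | rfl | rfl | rfl
  · exact ⟨1, one_mem _, u0_167, mr0_167, e0_161_0⟩
  · exact ⟨s 4, Subgroup.subset_closure ⟨4, by decide, rfl⟩, u0_161, mr0_161, e0_161_1⟩
  · exact ⟨s 1, Subgroup.subset_closure ⟨1, by decide, rfl⟩, u0_161, mr0_161, e0_161_2⟩
  · exact ⟨1, one_mem _, u0_152, mr0_152, e0_161_3⟩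
  · exact ⟨1, one_mem _, u0_168, mr0_168, e0_161_4⟩
  · exact ⟨1, one_mem _, u0_155, mr0_155, e0_161_5⟩
  · exact ⟨1, one_mem _, u0_166, mr0_166, e0_161_6⟩
  · exact ⟨s 0, Subgroup.subset_closure ⟨0, by decide, rfl⟩, u0_161, mr0_161, e0_161_7⟩
theorem c0_162 : P0 u0_162 := by
  refine ⟨mm0_162, ?_⟩
  rintro x ⟨j, hj, rfl⟩
  simp only [J0, List.mem_cons, List.not_mem_nil, or_false] at hj
  rcases hj with rfl | rfl | rfl | rfl | rfl | rfl | rfl | rfl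
  · exact ⟨1, one_mem _, u0_155, mr0_155, e0_162_0⟩
  · exact ⟨s 4, Subgroup.subset_closure ⟨4, by decide, rfl⟩, u0_162, mr0_162, e0_162_1⟩
  · exact ⟨1, one_mem _, u0_169, mr0_169, e0_162_2⟩
  · exact ⟨1, one_mem _, u0_154, mr0_154, e0_162_3⟩
  · exact ⟨s 6, Subgroup.subset_closure ⟨6, by decide, rfl⟩, u0_162, mr0_162, e0_162_4⟩
  · exact ⟨1, one_mem _, u0_167, mr0_167, e0_162_5⟩
  · exact ⟨s 2, Subgroup.subset_closure ⟨2, by decide, rfl⟩, u0_162, mr0_162, e0_162_6⟩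
  · exact ⟨s 0, Subgroup.subset_closure ⟨0, by decide, rfl⟩, u0_162, mr0_162, e0_162_7⟩
theorem c0_163 : P0 u0_163 := by
  refine ⟨mm0_163, ?_⟩
  rintro x ⟨j, hj, rfl⟩
  simp only [J0, List.mem_cons, List.not_mem_nil, or_false] at hj
  rcases hj with rfl | rfl | rfl | rfl | rfl | rfl | rfl | rfl
  · exact ⟨1, one_mem _, u0_170, mr0_170, e0_163_0⟩
  · exact ⟨1, one_mem _, u0_157, mr0_157, e0_163_1⟩
  · exact ⟨1, one_mem _, u0_156, mr0_156, e0_163_2⟩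
  · exact ⟨1, one_mem _, u0_171, mr0_171, e0_163_3⟩
  · exact ⟨s 3, Subgroup.subset_closure ⟨3, by decide, rfl⟩, u0_163, mr0_163, e0_163_4⟩
  · exact ⟨s 2, Subgroup.subset_closure ⟨2, by decide, rfl⟩, u0_163, mr0_163, e0_163_5⟩
  · exact ⟨s 0, Subgroup.subset_closure ⟨0, by decide, rfl⟩, u0_163, mr0_163, e0_163_6⟩
  · exact ⟨1, one_mem _, u0_158, mr0_158, e0_163_7⟩
theorem c0_164 : P0 u0_164 := by
  refine ⟨mm0_164, ?_⟩
  rintro x ⟨j, hj, rfl⟩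
  simp only [J0, List.mem_cons, List.not_mem_nil, or_false] at hj
  rcases hj with rfl | rfl | rfl | rfl | rfl | rfl | rfl | rfl
  · exact ⟨1, one_mem _, u0_157, mr0_157, e0_164_0⟩
  · exact ⟨1, one_mem _, u0_170, mr0_170, e0_164_1⟩
  · exact ⟨s 5, Subgroup.subset_closure ⟨5, by decide, rfl⟩, u0_164, mr0_164, e0_164_2⟩
  · exact ⟨s 4, Subgroup.subset_closure ⟨4, by decide, rfl⟩, u0_164, mr0_164, e0_164_3⟩
  · exact ⟨s 3, Subgroup.subset_closure ⟨3, by decide, rfl⟩, u0_164, mr0_164, e0_164_4⟩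
  · exact ⟨s 2, Subgroup.subset_closure ⟨2, by decide, rfl⟩, u0_164, mr0_164, e0_164_5⟩
  · exact ⟨s 0, Subgroup.subset_closure ⟨0, by decide, rfl⟩, u0_164, mr0_164, e0_164_6⟩
  · exact ⟨1, one_mem _, u0_159, mr0_159, e0_164_7⟩
theorem c0_165 : P0 u0_165 := by
  refine ⟨mm0_165, ?_⟩
  rintro x ⟨j, hj, rfl⟩
  simp only [J0, List.mem_cons, List.not_mem_nil, or_false] at hj
  rcases hj with rfl | rfl | rfl | rfl | rfl | rfl | rfl | rfl
  · exact ⟨1, one_mem _, u0_158, mr0_158, e0_165_0⟩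
  · exact ⟨1, one_mem _, u0_159, mr0_159, e0_165_1⟩
  · exact ⟨s 5, Subgroup.subset_closure ⟨5, by decide, rfl⟩, u0_165, mr0_165, e0_165_2⟩
  · exact ⟨1, one_mem _, u0_172, mr0_172, e0_165_3⟩
  · exact ⟨s 3, Subgroup.subset_closure ⟨3, by decide, rfl⟩, u0_165, mr0_165, e0_165_4⟩
  · exact ⟨s 2, Subgroup.subset_closure ⟨2, by decide, rfl⟩, u0_165, mr0_165, e0_165_5⟩
  · exact ⟨1, one_mem _, u0_160, mr0_160, e0_165_6⟩
  · exact ⟨1, one_mem _, u0_170, mr0_170, e0_165_7⟩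
theorem c0_166 : P0 u0_166 := by
  refine ⟨mm0_166, ?_⟩
  rintro x ⟨j, hj, rfl⟩
  simp only [J0, List.mem_cons, List.not_mem_nil, or_false] at hj
  rcases hj with rfl | rfl | rfl | rfl | rfl | rfl | rfl | rfl
  · exact ⟨1, one_mem _, u0_172, mr0_172, e0_166_0⟩
  · exact ⟨s 4, Subgroup.subset_closure ⟨4, by decide, rfl⟩, u0_166, mr0_166, e0_166_1⟩
  · exact ⟨s 1, Subgroup.subset_closure ⟨1, by decide, rfl⟩, u0_166, mr0_166, e0_166_2⟩
  · exact ⟨1, one_mem _, u0_158, mr0_158, e0_166_3⟩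
  · exact ⟨1, one_mem _, u0_173, mr0_173, e0_166_4⟩
  · exact ⟨s 2, Subgroup.subset_closure ⟨2, by decide, rfl⟩, u0_166, mr0_166, e0_166_5⟩
  · exact ⟨1, one_mem _, u0_161, mr0_161, e0_166_6⟩
  · exact ⟨1, one_mem _, u0_171, mr0_171, e0_166_7⟩
theorem c0_167 : P0 u0_167 := by
  refine ⟨mm0_167, ?_⟩
  rintro x ⟨j, hj, rfl⟩
  simp only [J0, List.mem_cons, List.not_mem_nil, or_false] at hj
  rcases hj with rfl | rfl | rfl | rfl | rfl | rfl | rfl | rfl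
  · exact ⟨1, one_mem _, u0_161, mr0_161, e0_167_0⟩
  · exact ⟨s 4, Subgroup.subset_closure ⟨4, by decide, rfl⟩, u0_167, mr0_167, e0_167_1⟩
  · exact ⟨1, one_mem _, u0_174, mr0_174, e0_167_2⟩
  · exact ⟨1, one_mem _, u0_160, mr0_160, e0_167_3⟩
  · exact ⟨1, one_mem _, u0_175, mr0_175, e0_167_4⟩
  · exact ⟨1, one_mem _, u0_162, mr0_162, e0_167_5⟩
  · exact ⟨1, one_mem _, u0_172, mr0_172, e0_167_6⟩
  · exact ⟨s 0, Subgroup.subset_closure ⟨0, by decide, rfl⟩, u0_167, mr0_167, e0_167_7⟩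
theorem c0_168 : P0 u0_168 := by
  refine ⟨mm0_168, ?_⟩
  rintro x ⟨j, hj, rfl⟩
  simp only [J0, List.mem_cons, List.not_mem_nil, or_false] at hj
  rcases hj with rfl | rfl | rfl | rfl | rfl | rfl | rfl | rfl
  · exact ⟨1, one_mem _, u0_175, mr0_175, e0_168_0⟩
  · exact ⟨s 4, Subgroup.subset_closure ⟨4, by decide, rfl⟩, u0_168, mr0_168, e0_168_1⟩
  · exact ⟨s 1, Subgroup.subset_closure ⟨1, by decide, rfl⟩, u0_168, mr0_168, e0_168_2⟩
  · exact ⟨s 3, Subgroup.subset_closure ⟨3, by decide, rfl⟩, u0_168, mr0_168, e0_168_3⟩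
  · exact ⟨1, one_mem _, u0_161, mr0_161, e0_168_4⟩
  · exact ⟨s 6, Subgroup.subset_closure ⟨6, by decide, rfl⟩, u0_168, mr0_168, e0_168_5⟩
  · exact ⟨1, one_mem _, u0_173, mr0_173, e0_168_6⟩
  · exact ⟨s 0, Subgroup.subset_closure ⟨0, by decide, rfl⟩, u0_168, mr0_168, e0_168_7⟩
theorem c0_169 : P0 u0_169 := by
  refine ⟨mm0_169, ?_⟩
  rintro x ⟨j, hj, rfl⟩
  simp only [J0, List.mem_cons, List.not_mem_nil, or_false] at hj
  rcases hj with rfl | rfl | rfl | rfl | rfl | rfl | rfl | rfl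
  · exact ⟨s 1, Subgroup.subset_closure ⟨1, by decide, rfl⟩, u0_169, mr0_169, e0_169_0⟩
  · exact ⟨s 4, Subgroup.subset_closure ⟨4, by decide, rfl⟩, u0_169, mr0_169, e0_169_1⟩
  · exact ⟨1, one_mem _, u0_162, mr0_162, e0_169_2⟩
  · exact ⟨s 5, Subgroup.subset_closure ⟨5, by decide, rfl⟩, u0_169, mr0_169, e0_169_3⟩
  · exact ⟨s 6, Subgroup.subset_closure ⟨6, by decide, rfl⟩, u0_169, mr0_169, e0_169_4⟩
  · exact ⟨1, one_mem _, u0_174, mr0_174, e0_169_5⟩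
  · exact ⟨s 2, Subgroup.subset_closure ⟨2, by decide, rfl⟩, u0_169, mr0_169, e0_169_6⟩
  · exact ⟨s 0, Subgroup.subset_closure ⟨0, by decide, rfl⟩, u0_169, mr0_169, e0_169_7⟩
theorem c0_170 : P0 u0_170 := by
  refine ⟨mm0_170, ?_⟩
  rintro x ⟨j, hj, rfl⟩
  simp only [J0, List.mem_cons, List.not_mem_nil, or_false] at hj
  rcases hj with rfl | rfl | rfl | rfl | rfl | rfl | rfl | rfl
  · exact ⟨1, one_mem _, u0_163, mr0_163, e0_170_0⟩
  · exact ⟨1, one_mem _, u0_164, mr0_164, e0_170_1⟩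
  · exact ⟨s 5, Subgroup.subset_closure ⟨5, by decide, rfl⟩, u0_170, mr0_170, e0_170_2⟩
  · exact ⟨1, one_mem _, u0_176, mr0_176, e0_170_3⟩
  · exact ⟨s 3, Subgroup.subset_closure ⟨3, by decide, rfl⟩, u0_170, mr0_170, e0_170_4⟩
  · exact ⟨s 2, Subgroup.subset_closure ⟨2, by decide, rfl⟩, u0_170, mr0_170, e0_170_5⟩
  · exact ⟨s 0, Subgroup.subset_closure ⟨0, by decide, rfl⟩, u0_170, mr0_170, e0_170_6⟩
  · exact ⟨1, one_mem _, u0_165, mr0_165, e0_170_7⟩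
theorem c0_171 : P0 u0_171 := by
  refine ⟨mm0_171, ?_⟩
  rintro x ⟨j, hj, rfl⟩
  simp only [J0, List.mem_cons, List.not_mem_nil, or_false] at hj
  rcases hj with rfl | rfl | rfl | rfl | rfl | rfl | rfl | rfl
  · exact ⟨1, one_mem _, u0_176, mr0_176, e0_171_0⟩
  · exact ⟨s 4, Subgroup.subset_closure ⟨4, by decide, rfl⟩, u0_171, mr0_171, e0_171_1⟩
  · exact ⟨s 1, Subgroup.subset_closure ⟨1, by decide, rfl⟩, u0_171, mr0_171, e0_171_2⟩
  · exact ⟨1, one_mem _, u0_163, mr0_163, e0_171_3⟩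
  · exact ⟨1, one_mem _, u0_177, mr0_177, e0_171_4⟩
  · exact ⟨s 2, Subgroup.subset_closure ⟨2, by decide, rfl⟩, u0_171, mr0_171, e0_171_5⟩
  · exact ⟨s 0, Subgroup.subset_closure ⟨0, by decide, rfl⟩, u0_171, mr0_171, e0_171_6⟩
  · exact ⟨1, one_mem _, u0_166, mr0_166, e0_171_7⟩
theorem c0_172 : P0 u0_172 := by
  refine ⟨mm0_172, ?_⟩
  rintro x ⟨j, hj, rfl⟩
  simp only [J0, List.mem_cons, List.not_mem_nil, or_false] at hj
  rcases hj with rfl | rfl | rfl | rfl | rfl | rfl | rfl | rfl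
  · exact ⟨1, one_mem _, u0_166, mr0_166, e0_172_0⟩
  · exact ⟨s 4, Subgroup.subset_closure ⟨4, by decide, rfl⟩, u0_172, mr0_172, e0_172_1⟩
  · exact ⟨1, one_mem _, u0_178, mr0_178, e0_172_2⟩
  · exact ⟨1, one_mem _, u0_165, mr0_165, e0_172_3⟩
  · exact ⟨1, one_mem _, u0_179, mr0_179, e0_172_4⟩
  · exact ⟨s 2, Subgroup.subset_closure ⟨2, by decide, rfl⟩, u0_172, mr0_172, e0_172_5⟩
  · exact ⟨1, one_mem _, u0_167, mr0_167, e0_172_6⟩
  · exact ⟨1, one_mem _, u0_176, mr0_176, e0_172_7⟩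
theorem c0_173 : P0 u0_173 := by
  refine ⟨mm0_173, ?_⟩
  rintro x ⟨j, hj, rfl⟩
  simp only [J0, List.mem_cons, List.not_mem_nil, or_false] at hj
  rcases hj with rfl | rfl | rfl | rfl | rfl | rfl | rfl | rfl
  · exact ⟨1, one_mem _, u0_179, mr0_179, e0_173_0⟩
  · exact ⟨s 4, Subgroup.subset_closure ⟨4, by decide, rfl⟩, u0_173, mr0_173, e0_173_1⟩
  · exact ⟨s 1, Subgroup.subset_closure ⟨1, by decide, rfl⟩, u0_173, mr0_173, e0_173_2⟩
  · exact ⟨s 3, Subgroup.subset_closure ⟨3, by decide, rfl⟩, u0_173, mr0_173, e0_173_3⟩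
  · exact ⟨1, one_mem _, u0_166, mr0_166, e0_173_4⟩
  · exact ⟨1, one_mem _, u0_180, mr0_180, e0_173_5⟩
  · exact ⟨1, one_mem _, u0_168, mr0_168, e0_173_6⟩
  · exact ⟨1, one_mem _, u0_177, mr0_177, e0_173_7⟩
theorem c0_174 : P0 u0_174 := by
  refine ⟨mm0_174, ?_⟩
  rintro x ⟨j, hj, rfl⟩
  simp only [J0, List.mem_cons, List.not_mem_nil, or_false] at hj
  rcases hj with rfl | rfl | rfl | rfl | rfl | rfl | rfl | rfl
  · exact ⟨s 1, Subgroup.subset_closure ⟨1, by decide, rfl⟩, u0_174, mr0_174, e0_174_0⟩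
  · exact ⟨s 4, Subgroup.subset_closure ⟨4, by decide, rfl⟩, u0_174, mr0_174, e0_174_1⟩
  · exact ⟨1, one_mem _, u0_167, mr0_167, e0_174_2⟩
  · exact ⟨s 5, Subgroup.subset_closure ⟨5, by decide, rfl⟩, u0_174, mr0_174, e0_174_3⟩
  · exact ⟨1, one_mem _, u0_181, mr0_181, e0_174_4⟩
  · exact ⟨1, one_mem _, u0_169, mr0_169, e0_174_5⟩
  · exact ⟨1, one_mem _, u0_178, mr0_178, e0_174_6⟩
  · exact ⟨s 0, Subgroup.subset_closure ⟨0, by decide, rfl⟩, u0_174, mr0_174, e0_174_7⟩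
theorem c0_175 : P0 u0_175 := by
  refine ⟨mm0_175, ?_⟩
  rintro x ⟨j, hj, rfl⟩
  simp only [J0, List.mem_cons, List.not_mem_nil, or_false] at hj
  rcases hj with rfl | rfl | rfl | rfl | rfl | rfl | rfl | rfl
  · exact ⟨1, one_mem _, u0_168, mr0_168, e0_175_0⟩
  · exact ⟨s 4, Subgroup.subset_closure ⟨4, by decide, rfl⟩, u0_175, mr0_175, e0_175_1⟩
  · exact ⟨1, one_mem _, u0_181, mr0_181, e0_175_2⟩
  · exact ⟨s 3, Subgroup.subset_closure ⟨3, by decide, rfl⟩, u0_175, mr0_175, e0_175_3⟩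
  · exact ⟨1, one_mem _, u0_167, mr0_167, e0_175_4⟩
  · exact ⟨s 6, Subgroup.subset_closure ⟨6, by decide, rfl⟩, u0_175, mr0_175, e0_175_5⟩
  · exact ⟨1, one_mem _, u0_179, mr0_179, e0_175_6⟩
  · exact ⟨s 0, Subgroup.subset_closure ⟨0, by decide, rfl⟩, u0_175, mr0_175, e0_175_7⟩
theorem c0_176 : P0 u0_176 := by
  refine ⟨mm0_176, ?_⟩
  rintro x ⟨j, hj, rfl⟩
  simp only [J0, List.mem_cons, List.not_mem_nil, or_false] at hj
  rcases hj with rfl | rfl | rfl | rfl | rfl | rfl | rfl | rfl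
  · exact ⟨1, one_mem _, u0_171, mr0_171, e0_176_0⟩
  · exact ⟨s 4, Subgroup.subset_closure ⟨4, by decide, rfl⟩, u0_176, mr0_176, e0_176_1⟩
  · exact ⟨1, one_mem _, u0_182, mr0_182, e0_176_2⟩
  · exact ⟨1, one_mem _, u0_170, mr0_170, e0_176_3⟩
  · exact ⟨1, one_mem _, u0_183, mr0_183, e0_176_4⟩
  · exact ⟨s 2, Subgroup.subset_closure ⟨2, by decide, rfl⟩, u0_176, mr0_176, e0_176_5⟩
  · exact ⟨s 0, Subgroup.subset_closure ⟨0, by decide, rfl⟩, u0_176, mr0_176, e0_176_6⟩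
  · exact ⟨1, one_mem _, u0_172, mr0_172, e0_176_7⟩
theorem c0_177 : P0 u0_177 := by
  refine ⟨mm0_177, ?_⟩
  rintro x ⟨j, hj, rfl⟩
  simp only [J0, List.mem_cons, List.not_mem_nil, or_false] at hj
  rcases hj with rfl | rfl | rfl | rfl | rfl | rfl | rfl | rfl
  · exact ⟨1, one_mem _, u0_183, mr0_183, e0_177_0⟩
  · exact ⟨s 4, Subgroup.subset_closure ⟨4, by decide, rfl⟩, u0_177, mr0_177, e0_177_1⟩
  · exact ⟨s 1, Subgroup.subset_closure ⟨1, by decide, rfl⟩, u0_177, mr0_177, e0_177_2⟩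
  · exact ⟨s 3, Subgroup.subset_closure ⟨3, by decide, rfl⟩, u0_177, mr0_177, e0_177_3⟩
  · exact ⟨1, one_mem _, u0_171, mr0_171, e0_177_4⟩
  · exact ⟨1, one_mem _, u0_184, mr0_184, e0_177_5⟩
  · exact ⟨s 0, Subgroup.subset_closure ⟨0, by decide, rfl⟩, u0_177, mr0_177, e0_177_6⟩
  · exact ⟨1, one_mem _, u0_173, mr0_173, e0_177_7⟩
theorem c0_178 : P0 u0_178 := by
  refine ⟨mm0_178, ?_⟩
  rintro x ⟨j, hj, rfl⟩
  simp only [J0, List.mem_cons, List.not_mem_nil, or_false] at hj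
  rcases hj with rfl | rfl | rfl | rfl | rfl | rfl | rfl | rfl
  · exact ⟨s 1, Subgroup.subset_closure ⟨1, by decide, rfl⟩, u0_178, mr0_178, e0_178_0⟩
  · exact ⟨s 4, Subgroup.subset_closure ⟨4, by decide, rfl⟩, u0_178, mr0_178, e0_178_1⟩
  · exact ⟨1, one_mem _, u0_172, mr0_172, e0_178_2⟩
  · exact ⟨s 5, Subgroup.subset_closure ⟨5, by decide, rfl⟩, u0_178, mr0_178, e0_178_3⟩
  · exact ⟨1, one_mem _, u0_185, mr0_185, e0_178_4⟩
  · exact ⟨s 2, Subgroup.subset_closure ⟨2, by decide, rfl⟩, u0_178, mr0_178, e0_178_5⟩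
  · exact ⟨1, one_mem _, u0_174, mr0_174, e0_178_6⟩
  · exact ⟨1, one_mem _, u0_182, mr0_182, e0_178_7⟩
theorem c0_179 : P0 u0_179 := by
  refine ⟨mm0_179, ?_⟩
  rintro x ⟨j, hj, rfl⟩
  simp only [J0, List.mem_cons, List.not_mem_nil, or_false] at hj
  rcases hj with rfl | rfl | rfl | rfl | rfl | rfl | rfl | rfl
  · exact ⟨1, one_mem _, u0_173, mr0_173, e0_179_0⟩
  · exact ⟨s 4, Subgroup.subset_closure ⟨4, by decide, rfl⟩, u0_179, mr0_179, e0_179_1⟩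
  · exact ⟨1, one_mem _, u0_185, mr0_185, e0_179_2⟩
  · exact ⟨s 3, Subgroup.subset_closure ⟨3, by decide, rfl⟩, u0_179, mr0_179, e0_179_3⟩
  · exact ⟨1, one_mem _, u0_172, mr0_172, e0_179_4⟩
  · exact ⟨1, one_mem _, u0_186, mr0_186, e0_179_5⟩
  · exact ⟨1, one_mem _, u0_175, mr0_175, e0_179_6⟩
  · exact ⟨1, one_mem _, u0_183, mr0_183, e0_179_7⟩
theorem c0_180 : P0 u0_180 := by
  refine ⟨mm0_180, ?_⟩
  rintro x ⟨j, hj, rfl⟩
  simp only [J0, List.mem_cons, List.not_mem_nil, or_false] at hj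
  rcases hj with rfl | rfl | rfl | rfl | rfl | rfl | rfl | rfl
  · exact ⟨1, one_mem _, u0_186, mr0_186, e0_180_0⟩
  · exact ⟨s 4, Subgroup.subset_closure ⟨4, by decide, rfl⟩, u0_180, mr0_180, e0_180_1⟩
  · exact ⟨s 1, Subgroup.subset_closure ⟨1, by decide, rfl⟩, u0_180, mr0_180, e0_180_2⟩
  · exact ⟨s 3, Subgroup.subset_closure ⟨3, by decide, rfl⟩, u0_180, mr0_180, e0_180_3⟩
  · exact ⟨s 2, Subgroup.subset_closure ⟨2, by decide, rfl⟩, u0_180, mr0_180, e0_180_4⟩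
  · exact ⟨1, one_mem _, u0_173, mr0_173, e0_180_5⟩
  · exact ⟨s 6, Subgroup.subset_closure ⟨6, by decide, rfl⟩, u0_180, mr0_180, e0_180_6⟩
  · exact ⟨1, one_mem _, u0_184, mr0_184, e0_180_7⟩
theorem c0_181 : P0 u0_181 := by
  refine ⟨mm0_181, ?_⟩
  rintro x ⟨j, hj, rfl⟩
  simp only [J0, List.mem_cons, List.not_mem_nil, or_false] at hj
  rcases hj with rfl | rfl | rfl | rfl | rfl | rfl | rfl | rfl
  · exact ⟨s 1, Subgroup.subset_closure ⟨1, by decide, rfl⟩, u0_181, mr0_181, e0_181_0⟩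
  · exact ⟨s 4, Subgroup.subset_closure ⟨4, by decide, rfl⟩, u0_181, mr0_181, e0_181_1⟩
  · exact ⟨1, one_mem _, u0_175, mr0_175, e0_181_2⟩
  · exact ⟨1, one_mem _, u0_187, mr0_187, e0_181_3⟩
  · exact ⟨1, one_mem _, u0_174, mr0_174, e0_181_4⟩
  · exact ⟨s 6, Subgroup.subset_closure ⟨6, by decide, rfl⟩, u0_181, mr0_181, e0_181_5⟩
  · exact ⟨1, one_mem _, u0_185, mr0_185, e0_181_6⟩
  · exact ⟨s 0, Subgroup.subset_closure ⟨0, by decide, rfl⟩, u0_181, mr0_181, e0_181_7⟩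
theorem c0_182 : P0 u0_182 := by
  refine ⟨mm0_182, ?_⟩
  rintro x ⟨j, hj, rfl⟩
  simp only [J0, List.mem_cons, List.not_mem_nil, or_false] at hj
  rcases hj with rfl | rfl | rfl | rfl | rfl | rfl | rfl | rfl
  · exact ⟨s 1, Subgroup.subset_closure ⟨1, by decide, rfl⟩, u0_182, mr0_182, e0_182_0⟩
  · exact ⟨s 4, Subgroup.subset_closure ⟨4, by decide, rfl⟩, u0_182, mr0_182, e0_182_1⟩
  · exact ⟨1, one_mem _, u0_176, mr0_176, e0_182_2⟩
  · exact ⟨s 5, Subgroup.subset_closure ⟨5, by decide, rfl⟩, u0_182, mr0_182, e0_182_3⟩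
  · exact ⟨1, one_mem _, u0_188, mr0_188, e0_182_4⟩
  · exact ⟨s 2, Subgroup.subset_closure ⟨2, by decide, rfl⟩, u0_182, mr0_182, e0_182_5⟩
  · exact ⟨s 0, Subgroup.subset_closure ⟨0, by decide, rfl⟩, u0_182, mr0_182, e0_182_6⟩
  · exact ⟨1, one_mem _, u0_178, mr0_178, e0_182_7⟩
theorem c0_183 : P0 u0_183 := by
  refine ⟨mm0_183, ?_⟩
  rintro x ⟨j, hj, rfl⟩
  simp only [J0, List.mem_cons, List.not_mem_nil, or_false] at hj
  rcases hj with rfl | rfl | rfl | rfl | rfl | rfl | rfl | rfl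
  · exact ⟨1, one_mem _, u0_177, mr0_177, e0_183_0⟩
  · exact ⟨s 4, Subgroup.subset_closure ⟨4, by decide, rfl⟩, u0_183, mr0_183, e0_183_1⟩
  · exact ⟨1, one_mem _, u0_188, mr0_188, e0_183_2⟩
  · exact ⟨s 3, Subgroup.subset_closure ⟨3, by decide, rfl⟩, u0_183, mr0_183, e0_183_3⟩
  · exact ⟨1, one_mem _, u0_176, mr0_176, e0_183_4⟩
  · exact ⟨1, one_mem _, u0_189, mr0_189, e0_183_5⟩
  · exact ⟨s 0, Subgroup.subset_closure ⟨0, by decide, rfl⟩, u0_183, mr0_183, e0_183_6⟩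
  · exact ⟨1, one_mem _, u0_179, mr0_179, e0_183_7⟩
theorem c0_184 : P0 u0_184 := by
  refine ⟨mm0_184, ?_⟩
  rintro x ⟨j, hj, rfl⟩
  simp only [J0, List.mem_cons, List.not_mem_nil, or_false] at hj
  rcases hj with rfl | rfl | rfl | rfl | rfl | rfl | rfl | rfl
  · exact ⟨1, one_mem _, u0_189, mr0_189, e0_184_0⟩
  · exact ⟨s 4, Subgroup.subset_closure ⟨4, by decide, rfl⟩, u0_184, mr0_184, e0_184_1⟩
  · exact ⟨s 1, Subgroup.subset_closure ⟨1, by decide, rfl⟩, u0_184, mr0_184, e0_184_2⟩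
  · exact ⟨s 3, Subgroup.subset_closure ⟨3, by decide, rfl⟩, u0_184, mr0_184, e0_184_3⟩
  · exact ⟨s 2, Subgroup.subset_closure ⟨2, by decide, rfl⟩, u0_184, mr0_184, e0_184_4⟩
  · exact ⟨1, one_mem _, u0_177, mr0_177, e0_184_5⟩
  · exact ⟨1, one_mem _, u0_190, mr0_190, e0_184_6⟩
  · exact ⟨1, one_mem _, u0_180, mr0_180, e0_184_7⟩
theorem c0_185 : P0 u0_185 := by
  refine ⟨mm0_185, ?_⟩
  rintro x ⟨j, hj, rfl⟩
  simp only [J0, List.mem_cons, List.not_mem_nil, or_false] at hj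
  rcases hj with rfl | rfl | rfl | rfl | rfl | rfl | rfl | rfl
  · exact ⟨s 1, Subgroup.subset_closure ⟨1, by decide, rfl⟩, u0_185, mr0_185, e0_185_0⟩
  · exact ⟨s 4, Subgroup.subset_closure ⟨4, by decide, rfl⟩, u0_185, mr0_185, e0_185_1⟩
  · exact ⟨1, one_mem _, u0_179, mr0_179, e0_185_2⟩
  · exact ⟨1, one_mem _, u0_191, mr0_191, e0_185_3⟩
  · exact ⟨1, one_mem _, u0_178, mr0_178, e0_185_4⟩
  · exact ⟨1, one_mem _, u0_192, mr0_192, e0_185_5⟩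
  · exact ⟨1, one_mem _, u0_181, mr0_181, e0_185_6⟩
  · exact ⟨1, one_mem _, u0_188, mr0_188, e0_185_7⟩
theorem c0_186 : P0 u0_186 := by
  refine ⟨mm0_186, ?_⟩
  rintro x ⟨j, hj, rfl⟩
  simp only [J0, List.mem_cons, List.not_mem_nil, or_false] at hj
  rcases hj with rfl | rfl | rfl | rfl | rfl | rfl | rfl | rfl
  · exact ⟨1, one_mem _, u0_180, mr0_180, e0_186_0⟩
  · exact ⟨s 4, Subgroup.subset_closure ⟨4, by decide, rfl⟩, u0_186, mr0_186, e0_186_1⟩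
  · exact ⟨1, one_mem _, u0_192, mr0_192, e0_186_2⟩
  · exact ⟨s 3, Subgroup.subset_closure ⟨3, by decide, rfl⟩, u0_186, mr0_186, e0_186_3⟩
  · exact ⟨s 2, Subgroup.subset_closure ⟨2, by decide, rfl⟩, u0_186, mr0_186, e0_186_4⟩
  · exact ⟨1, one_mem _, u0_179, mr0_179, e0_186_5⟩
  · exact ⟨s 6, Subgroup.subset_closure ⟨6, by decide, rfl⟩, u0_186, mr0_186, e0_186_6⟩
  · exact ⟨1, one_mem _, u0_189, mr0_189, e0_186_7⟩
theorem c0_187 : P0 u0_187 := by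
  refine ⟨mm0_187, ?_⟩
  rintro x ⟨j, hj, rfl⟩
  simp only [J0, List.mem_cons, List.not_mem_nil, or_false] at hj
  rcases hj with rfl | rfl | rfl | rfl | rfl | rfl | rfl | rfl
  · exact ⟨s 1, Subgroup.subset_closure ⟨1, by decide, rfl⟩, u0_187, mr0_187, e0_187_0⟩
  · exact ⟨1, one_mem _, u0_193, mr0_193, e0_187_1⟩
  · exact ⟨s 3, Subgroup.subset_closure ⟨3, by decide, rfl⟩, u0_187, mr0_187, e0_187_2⟩
  · exact ⟨1, one_mem _, u0_181, mr0_181, e0_187_3⟩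
  · exact ⟨s 5, Subgroup.subset_closure ⟨5, by decide, rfl⟩, u0_187, mr0_187, e0_187_4⟩
  · exact ⟨s 6, Subgroup.subset_closure ⟨6, by decide, rfl⟩, u0_187, mr0_187, e0_187_5⟩
  · exact ⟨1, one_mem _, u0_191, mr0_191, e0_187_6⟩
  · exact ⟨s 0, Subgroup.subset_closure ⟨0, by decide, rfl⟩, u0_187, mr0_187, e0_187_7⟩
theorem c0_188 : P0 u0_188 := by
  refine ⟨mm0_188, ?_⟩
  rintro x ⟨j, hj, rfl⟩
  simp only [J0, List.mem_cons, List.not_mem_nil, or_false] at hj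
  rcases hj with rfl | rfl | rfl | rfl | rfl | rfl | rfl | rfl
  · exact ⟨s 1, Subgroup.subset_closure ⟨1, by decide, rfl⟩, u0_188, mr0_188, e0_188_0⟩
  · exact ⟨s 4, Subgroup.subset_closure ⟨4, by decide, rfl⟩, u0_188, mr0_188, e0_188_1⟩
  · exact ⟨1, one_mem _, u0_183, mr0_183, e0_188_2⟩
  · exact ⟨1, one_mem _, u0_194, mr0_194, e0_188_3⟩
  · exact ⟨1, one_mem _, u0_182, mr0_182, e0_188_4⟩
  · exact ⟨1, one_mem _, u0_195, mr0_195, e0_188_5⟩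
  · exact ⟨s 0, Subgroup.subset_closure ⟨0, by decide, rfl⟩, u0_188, mr0_188, e0_188_6⟩
  · exact ⟨1, one_mem _, u0_185, mr0_185, e0_188_7⟩
theorem c0_189 : P0 u0_189 := by
  refine ⟨mm0_189, ?_⟩
  rintro x ⟨j, hj, rfl⟩
  simp only [J0, List.mem_cons, List.not_mem_nil, or_false] at hj
  rcases hj with rfl | rfl | rfl | rfl | rfl | rfl | rfl | rfl
  · exact ⟨1, one_mem _, u0_184, mr0_184, e0_189_0⟩
  · exact ⟨s 4, Subgroup.subset_closure ⟨4, by decide, rfl⟩, u0_189, mr0_189, e0_189_1⟩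
  · exact ⟨1, one_mem _, u0_195, mr0_195, e0_189_2⟩
  · exact ⟨s 3, Subgroup.subset_closure ⟨3, by decide, rfl⟩, u0_189, mr0_189, e0_189_3⟩
  · exact ⟨s 2, Subgroup.subset_closure ⟨2, by decide, rfl⟩, u0_189, mr0_189, e0_189_4⟩
  · exact ⟨1, one_mem _, u0_183, mr0_183, e0_189_5⟩
  · exact ⟨1, one_mem _, u0_196, mr0_196, e0_189_6⟩
  · exact ⟨1, one_mem _, u0_186, mr0_186, e0_189_7⟩
theorem c0_190 : P0 u0_190 := by
  refine ⟨mm0_190, ?_⟩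
  rintro x ⟨j, hj, rfl⟩
  simp only [J0, List.mem_cons, List.not_mem_nil, or_false] at hj
  rcases hj with rfl | rfl | rfl | rfl | rfl | rfl | rfl | rfl
  · exact ⟨1, one_mem _, u0_196, mr0_196, e0_190_0⟩
  · exact ⟨s 4, Subgroup.subset_closure ⟨4, by decide, rfl⟩, u0_190, mr0_190, e0_190_1⟩
  · exact ⟨s 1, Subgroup.subset_closure ⟨1, by decide, rfl⟩, u0_190, mr0_190, e0_190_2⟩
  · exact ⟨s 3, Subgroup.subset_closure ⟨3, by decide, rfl⟩, u0_190, mr0_190, e0_190_3⟩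
  · exact ⟨s 2, Subgroup.subset_closure ⟨2, by decide, rfl⟩, u0_190, mr0_190, e0_190_4⟩
  · exact ⟨s 0, Subgroup.subset_closure ⟨0, by decide, rfl⟩, u0_190, mr0_190, e0_190_5⟩
  · exact ⟨1, one_mem _, u0_184, mr0_184, e0_190_6⟩
  · exact ⟨s 6, Subgroup.subset_closure ⟨6, by decide, rfl⟩, u0_190, mr0_190, e0_190_7⟩
theorem c0_191 : P0 u0_191 := by
  refine ⟨mm0_191, ?_⟩
  rintro x ⟨j, hj, rfl⟩
  simp only [J0, List.mem_cons, List.not_mem_nil, or_false] at hj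
  rcases hj with rfl | rfl | rfl | rfl | rfl | rfl | rfl | rfl
  · exact ⟨s 1, Subgroup.subset_closure ⟨1, by decide, rfl⟩, u0_191, mr0_191, e0_191_0⟩
  · exact ⟨1, one_mem _, u0_197, mr0_197, e0_191_1⟩
  · exact ⟨s 3, Subgroup.subset_closure ⟨3, by decide, rfl⟩, u0_191, mr0_191, e0_191_2⟩
  · exact ⟨1, one_mem _, u0_185, mr0_185, e0_191_3⟩
  · exact ⟨s 5, Subgroup.subset_closure ⟨5, by decide, rfl⟩, u0_191, mr0_191, e0_191_4⟩
  · exact ⟨1, one_mem _, u0_198, mr0_198, e0_191_5⟩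
  · exact ⟨1, one_mem _, u0_187, mr0_187, e0_191_6⟩
  · exact ⟨1, one_mem _, u0_194, mr0_194, e0_191_7⟩
theorem c0_192 : P0 u0_192 := by
  refine ⟨mm0_192, ?_⟩
  rintro x ⟨j, hj, rfl⟩
  simp only [J0, List.mem_cons, List.not_mem_nil, or_false] at hj
  rcases hj with rfl | rfl | rfl | rfl | rfl | rfl | rfl | rfl
  · exact ⟨s 1, Subgroup.subset_closure ⟨1, by decide, rfl⟩, u0_192, mr0_192, e0_192_0⟩
  · exact ⟨s 4, Subgroup.subset_closure ⟨4, by decide, rfl⟩, u0_192, mr0_192, e0_192_1⟩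
  · exact ⟨1, one_mem _, u0_186, mr0_186, e0_192_2⟩
  · exact ⟨1, one_mem _, u0_198, mr0_198, e0_192_3⟩
  · exact ⟨s 2, Subgroup.subset_closure ⟨2, by decide, rfl⟩, u0_192, mr0_192, e0_192_4⟩
  · exact ⟨1, one_mem _, u0_185, mr0_185, e0_192_5⟩
  · exact ⟨s 6, Subgroup.subset_closure ⟨6, by decide, rfl⟩, u0_192, mr0_192, e0_192_6⟩
  · exact ⟨1, one_mem _, u0_195, mr0_195, e0_192_7⟩
theorem c0_193 : P0 u0_193 := by
  refine ⟨mm0_193, ?_⟩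
  rintro x ⟨j, hj, rfl⟩
  simp only [J0, List.mem_cons, List.not_mem_nil, or_false] at hj
  rcases hj with rfl | rfl | rfl | rfl | rfl | rfl | rfl | rfl
  · exact ⟨s 1, Subgroup.subset_closure ⟨1, by decide, rfl⟩, u0_193, mr0_193, e0_193_0⟩
  · exact ⟨1, one_mem _, u0_187, mr0_187, e0_193_1⟩
  · exact ⟨s 3, Subgroup.subset_closure ⟨3, by decide, rfl⟩, u0_193, mr0_193, e0_193_2⟩
  · exact ⟨s 4, Subgroup.subset_closure ⟨4, by decide, rfl⟩, u0_193, mr0_193, e0_193_3⟩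
  · exact ⟨s 5, Subgroup.subset_closure ⟨5, by decide, rfl⟩, u0_193, mr0_193, e0_193_4⟩
  · exact ⟨s 6, Subgroup.subset_closure ⟨6, by decide, rfl⟩, u0_193, mr0_193, e0_193_5⟩
  · exact ⟨1, one_mem _, u0_197, mr0_197, e0_193_6⟩
  · exact ⟨s 0, Subgroup.subset_closure ⟨0, by decide, rfl⟩, u0_193, mr0_193, e0_193_7⟩
theorem c0_194 : P0 u0_194 := by
  refine ⟨mm0_194, ?_⟩
  rintro x ⟨j, hj, rfl⟩
  simp only [J0, List.mem_cons, List.not_mem_nil, or_false] at hj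
  rcases hj with rfl | rfl | rfl | rfl | rfl | rfl | rfl | rfl
  · exact ⟨s 1, Subgroup.subset_closure ⟨1, by decide, rfl⟩, u0_194, mr0_194, e0_194_0⟩
  · exact ⟨1, one_mem _, u0_199, mr0_199, e0_194_1⟩
  · exact ⟨s 3, Subgroup.subset_closure ⟨3, by decide, rfl⟩, u0_194, mr0_194, e0_194_2⟩
  · exact ⟨1, one_mem _, u0_188, mr0_188, e0_194_3⟩
  · exact ⟨s 5, Subgroup.subset_closure ⟨5, by decide, rfl⟩, u0_194, mr0_194, e0_194_4⟩
  · exact ⟨1, one_mem _, u0_200, mr0_200, e0_194_5⟩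
  · exact ⟨s 0, Subgroup.subset_closure ⟨0, by decide, rfl⟩, u0_194, mr0_194, e0_194_6⟩
  · exact ⟨1, one_mem _, u0_191, mr0_191, e0_194_7⟩
theorem c0_195 : P0 u0_195 := by
  refine ⟨mm0_195, ?_⟩
  rintro x ⟨j, hj, rfl⟩
  simp only [J0, List.mem_cons, List.not_mem_nil, or_false] at hj
  rcases hj with rfl | rfl | rfl | rfl | rfl | rfl | rfl | rfl
  · exact ⟨s 1, Subgroup.subset_closure ⟨1, by decide, rfl⟩, u0_195, mr0_195, e0_195_0⟩
  · exact ⟨s 4, Subgroup.subset_closure ⟨4, by decide, rfl⟩, u0_195, mr0_195, e0_195_1⟩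
  · exact ⟨1, one_mem _, u0_189, mr0_189, e0_195_2⟩
  · exact ⟨1, one_mem _, u0_200, mr0_200, e0_195_3⟩
  · exact ⟨s 2, Subgroup.subset_closure ⟨2, by decide, rfl⟩, u0_195, mr0_195, e0_195_4⟩
  · exact ⟨1, one_mem _, u0_188, mr0_188, e0_195_5⟩
  · exact ⟨1, one_mem _, u0_201, mr0_201, e0_195_6⟩
  · exact ⟨1, one_mem _, u0_192, mr0_192, e0_195_7⟩
theorem c0_196 : P0 u0_196 := by
  refine ⟨mm0_196, ?_⟩
  rintro x ⟨j, hj, rfl⟩
  simp only [J0, List.mem_cons, List.not_mem_nil, or_false] at hj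
  rcases hj with rfl | rfl | rfl | rfl | rfl | rfl | rfl | rfl
  · exact ⟨1, one_mem _, u0_190, mr0_190, e0_196_0⟩
  · exact ⟨s 4, Subgroup.subset_closure ⟨4, by decide, rfl⟩, u0_196, mr0_196, e0_196_1⟩
  · exact ⟨1, one_mem _, u0_201, mr0_201, e0_196_2⟩
  · exact ⟨s 3, Subgroup.subset_closure ⟨3, by decide, rfl⟩, u0_196, mr0_196, e0_196_3⟩
  · exact ⟨s 2, Subgroup.subset_closure ⟨2, by decide, rfl⟩, u0_196, mr0_196, e0_196_4⟩
  · exact ⟨s 0, Subgroup.subset_closure ⟨0, by decide, rfl⟩, u0_196, mr0_196, e0_196_5⟩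
  · exact ⟨1, one_mem _, u0_189, mr0_189, e0_196_6⟩
  · exact ⟨s 6, Subgroup.subset_closure ⟨6, by decide, rfl⟩, u0_196, mr0_196, e0_196_7⟩
theorem c0_197 : P0 u0_197 := by
  refine ⟨mm0_197, ?_⟩
  rintro x ⟨j, hj, rfl⟩
  simp only [J0, List.mem_cons, List.not_mem_nil, or_false] at hj
  rcases hj with rfl | rfl | rfl | rfl | rfl | rfl | rfl | rfl
  · exact ⟨s 1, Subgroup.subset_closure ⟨1, by decide, rfl⟩, u0_197, mr0_197, e0_197_0⟩
  · exact ⟨1, one_mem _, u0_191, mr0_191, e0_197_1⟩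
  · exact ⟨s 3, Subgroup.subset_closure ⟨3, by decide, rfl⟩, u0_197, mr0_197, e0_197_2⟩
  · exact ⟨s 4, Subgroup.subset_closure ⟨4, by decide, rfl⟩, u0_197, mr0_197, e0_197_3⟩
  · exact ⟨s 5, Subgroup.subset_closure ⟨5, by decide, rfl⟩, u0_197, mr0_197, e0_197_4⟩
  · exact ⟨1, one_mem _, u0_202, mr0_202, e0_197_5⟩
  · exact ⟨1, one_mem _, u0_193, mr0_193, e0_197_6⟩
  · exact ⟨1, one_mem _, u0_199, mr0_199, e0_197_7⟩
theorem c0_198 : P0 u0_198 := by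
  refine ⟨mm0_198, ?_⟩
  rintro x ⟨j, hj, rfl⟩
  simp only [J0, List.mem_cons, List.not_mem_nil, or_false] at hj
  rcases hj with rfl | rfl | rfl | rfl | rfl | rfl | rfl | rfl
  · exact ⟨s 1, Subgroup.subset_closure ⟨1, by decide, rfl⟩, u0_198, mr0_198, e0_198_0⟩
  · exact ⟨1, one_mem _, u0_202, mr0_202, e0_198_1⟩
  · exact ⟨s 3, Subgroup.subset_closure ⟨3, by decide, rfl⟩, u0_198, mr0_198, e0_198_2⟩
  · exact ⟨1, one_mem _, u0_192, mr0_192, e0_198_3⟩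
  · exact ⟨1, one_mem _, u0_203, mr0_203, e0_198_4⟩
  · exact ⟨1, one_mem _, u0_191, mr0_191, e0_198_5⟩
  · exact ⟨s 6, Subgroup.subset_closure ⟨6, by decide, rfl⟩, u0_198, mr0_198, e0_198_6⟩
  · exact ⟨1, one_mem _, u0_200, mr0_200, e0_198_7⟩
theorem c0_199 : P0 u0_199 := by
  refine ⟨mm0_199, ?_⟩
  rintro x ⟨j, hj, rfl⟩
  simp only [J0, List.mem_cons, List.not_mem_nil, or_false] at hj
  rcases hj with rfl | rfl | rfl | rfl | rfl | rfl | rfl | rfl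
  · exact ⟨s 1, Subgroup.subset_closure ⟨1, by decide, rfl⟩, u0_199, mr0_199, e0_199_0⟩
  · exact ⟨1, one_mem _, u0_194, mr0_194, e0_199_1⟩
  · exact ⟨s 3, Subgroup.subset_closure ⟨3, by decide, rfl⟩, u0_199, mr0_199, e0_199_2⟩
  · exact ⟨s 4, Subgroup.subset_closure ⟨4, by decide, rfl⟩, u0_199, mr0_199, e0_199_3⟩
  · exact ⟨s 5, Subgroup.subset_closure ⟨5, by decide, rfl⟩, u0_199, mr0_199, e0_199_4⟩
  · exact ⟨1, one_mem _, u0_204, mr0_204, e0_199_5⟩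
  · exact ⟨s 0, Subgroup.subset_closure ⟨0, by decide, rfl⟩, u0_199, mr0_199, e0_199_6⟩
  · exact ⟨1, one_mem _, u0_197, mr0_197, e0_199_7⟩
theorem c0_200 : P0 u0_200 := by
  refine ⟨mm0_200, ?_⟩
  rintro x ⟨j, hj, rfl⟩
  simp only [J0, List.mem_cons, List.not_mem_nil, or_false] at hj
  rcases hj with rfl | rfl | rfl | rfl | rfl | rfl | rfl | rfl
  · exact ⟨s 1, Subgroup.subset_closure ⟨1, by decide, rfl⟩, u0_200, mr0_200, e0_200_0⟩
  · exact ⟨1, one_mem _, u0_204, mr0_204, e0_200_1⟩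
  · exact ⟨s 3, Subgroup.subset_closure ⟨3, by decide, rfl⟩, u0_200, mr0_200, e0_200_2⟩
  · exact ⟨1, one_mem _, u0_195, mr0_195, e0_200_3⟩
  · exact ⟨1, one_mem _, u0_205, mr0_205, e0_200_4⟩
  · exact ⟨1, one_mem _, u0_194, mr0_194, e0_200_5⟩
  · exact ⟨1, one_mem _, u0_206, mr0_206, e0_200_6⟩
  · exact ⟨1, one_mem _, u0_198, mr0_198, e0_200_7⟩
theorem c0_201 : P0 u0_201 := by
  refine ⟨mm0_201, ?_⟩
  rintro x ⟨j, hj, rfl⟩
  simp only [J0, List.mem_cons, List.not_mem_nil, or_false] at hj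
  rcases hj with rfl | rfl | rfl | rfl | rfl | rfl | rfl | rfl
  · exact ⟨s 1, Subgroup.subset_closure ⟨1, by decide, rfl⟩, u0_201, mr0_201, e0_201_0⟩
  · exact ⟨s 4, Subgroup.subset_closure ⟨4, by decide, rfl⟩, u0_201, mr0_201, e0_201_1⟩
  · exact ⟨1, one_mem _, u0_196, mr0_196, e0_201_2⟩
  · exact ⟨1, one_mem _, u0_206, mr0_206, e0_201_3⟩
  · exact ⟨s 2, Subgroup.subset_closure ⟨2, by decide, rfl⟩, u0_201, mr0_201, e0_201_4⟩
  · exact ⟨s 0, Subgroup.subset_closure ⟨0, by decide, rfl⟩, u0_201, mr0_201, e0_201_5⟩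
  · exact ⟨1, one_mem _, u0_195, mr0_195, e0_201_6⟩
  · exact ⟨s 6, Subgroup.subset_closure ⟨6, by decide, rfl⟩, u0_201, mr0_201, e0_201_7⟩
theorem c0_202 : P0 u0_202 := by
  refine ⟨mm0_202, ?_⟩
  rintro x ⟨j, hj, rfl⟩
  simp only [J0, List.mem_cons, List.not_mem_nil, or_false] at hj
  rcases hj with rfl | rfl | rfl | rfl | rfl | rfl | rfl | rfl
  · exact ⟨s 1, Subgroup.subset_closure ⟨1, by decide, rfl⟩, u0_202, mr0_202, e0_202_0⟩
  · exact ⟨1, one_mem _, u0_198, mr0_198, e0_202_1⟩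
  · exact ⟨s 3, Subgroup.subset_closure ⟨3, by decide, rfl⟩, u0_202, mr0_202, e0_202_2⟩
  · exact ⟨s 4, Subgroup.subset_closure ⟨4, by decide, rfl⟩, u0_202, mr0_202, e0_202_3⟩
  · exact ⟨1, one_mem _, u0_207, mr0_207, e0_202_4⟩
  · exact ⟨1, one_mem _, u0_197, mr0_197, e0_202_5⟩
  · exact ⟨s 6, Subgroup.subset_closure ⟨6, by decide, rfl⟩, u0_202, mr0_202, e0_202_6⟩
  · exact ⟨1, one_mem _, u0_204, mr0_204, e0_202_7⟩
theorem c0_203 : P0 u0_203 := by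
  refine ⟨mm0_203, ?_⟩
  rintro x ⟨j, hj, rfl⟩
  simp only [J0, List.mem_cons, List.not_mem_nil, or_false] at hj
  rcases hj with rfl | rfl | rfl | rfl | rfl | rfl | rfl | rfl
  · exact ⟨s 1, Subgroup.subset_closure ⟨1, by decide, rfl⟩, u0_203, mr0_203, e0_203_0⟩
  · exact ⟨1, one_mem _, u0_207, mr0_207, e0_203_1⟩
  · exact ⟨s 3, Subgroup.subset_closure ⟨3, by decide, rfl⟩, u0_203, mr0_203, e0_203_2⟩
  · exact ⟨s 2, Subgroup.subset_closure ⟨2, by decide, rfl⟩, u0_203, mr0_203, e0_203_3⟩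
  · exact ⟨1, one_mem _, u0_198, mr0_198, e0_203_4⟩
  · exact ⟨s 5, Subgroup.subset_closure ⟨5, by decide, rfl⟩, u0_203, mr0_203, e0_203_5⟩
  · exact ⟨s 6, Subgroup.subset_closure ⟨6, by decide, rfl⟩, u0_203, mr0_203, e0_203_6⟩
  · exact ⟨1, one_mem _, u0_205, mr0_205, e0_203_7⟩
theorem c0_204 : P0 u0_204 := by
  refine ⟨mm0_204, ?_⟩
  rintro x ⟨j, hj, rfl⟩
  simp only [J0, List.mem_cons, List.not_mem_nil, or_false] at hj
  rcases hj with rfl | rfl | rfl | rfl | rfl | rfl | rfl | rfl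
  · exact ⟨s 1, Subgroup.subset_closure ⟨1, by decide, rfl⟩, u0_204, mr0_204, e0_204_0⟩
  · exact ⟨1, one_mem _, u0_200, mr0_200, e0_204_1⟩
  · exact ⟨s 3, Subgroup.subset_closure ⟨3, by decide, rfl⟩, u0_204, mr0_204, e0_204_2⟩
  · exact ⟨s 4, Subgroup.subset_closure ⟨4, by decide, rfl⟩, u0_204, mr0_204, e0_204_3⟩
  · exact ⟨1, one_mem _, u0_208, mr0_208, e0_204_4⟩
  · exact ⟨1, one_mem _, u0_199, mr0_199, e0_204_5⟩
  · exact ⟨1, one_mem _, u0_209, mr0_209, e0_204_6⟩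
  · exact ⟨1, one_mem _, u0_202, mr0_202, e0_204_7⟩
theorem c0_205 : P0 u0_205 := by
  refine ⟨mm0_205, ?_⟩
  rintro x ⟨j, hj, rfl⟩
  simp only [J0, List.mem_cons, List.not_mem_nil, or_false] at hj
  rcases hj with rfl | rfl | rfl | rfl | rfl | rfl | rfl | rfl
  · exact ⟨s 1, Subgroup.subset_closure ⟨1, by decide, rfl⟩, u0_205, mr0_205, e0_205_0⟩
  · exact ⟨1, one_mem _, u0_208, mr0_208, e0_205_1⟩
  · exact ⟨s 3, Subgroup.subset_closure ⟨3, by decide, rfl⟩, u0_205, mr0_205, e0_205_2⟩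
  · exact ⟨s 2, Subgroup.subset_closure ⟨2, by decide, rfl⟩, u0_205, mr0_205, e0_205_3⟩
  · exact ⟨1, one_mem _, u0_200, mr0_200, e0_205_4⟩
  · exact ⟨s 5, Subgroup.subset_closure ⟨5, by decide, rfl⟩, u0_205, mr0_205, e0_205_5⟩
  · exact ⟨1, one_mem _, u0_210, mr0_210, e0_205_6⟩
  · exact ⟨1, one_mem _, u0_203, mr0_203, e0_205_7⟩
theorem c0_206 : P0 u0_206 := by
  refine ⟨mm0_206, ?_⟩
  rintro x ⟨j, hj, rfl⟩
  simp only [J0, List.mem_cons, List.not_mem_nil, or_false] at hj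
  rcases hj with rfl | rfl | rfl | rfl | rfl | rfl | rfl | rfl
  · exact ⟨s 1, Subgroup.subset_closure ⟨1, by decide, rfl⟩, u0_206, mr0_206, e0_206_0⟩
  · exact ⟨1, one_mem _, u0_209, mr0_209, e0_206_1⟩
  · exact ⟨s 3, Subgroup.subset_closure ⟨3, by decide, rfl⟩, u0_206, mr0_206, e0_206_2⟩
  · exact ⟨1, one_mem _, u0_201, mr0_201, e0_206_3⟩
  · exact ⟨1, one_mem _, u0_210, mr0_210, e0_206_4⟩
  · exact ⟨s 0, Subgroup.subset_closure ⟨0, by decide, rfl⟩, u0_206, mr0_206, e0_206_5⟩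
  · exact ⟨1, one_mem _, u0_200, mr0_200, e0_206_6⟩
  · exact ⟨s 6, Subgroup.subset_closure ⟨6, by decide, rfl⟩, u0_206, mr0_206, e0_206_7⟩
theorem c0_207 : P0 u0_207 := by
  refine ⟨mm0_207, ?_⟩
  rintro x ⟨j, hj, rfl⟩
  simp only [J0, List.mem_cons, List.not_mem_nil, or_false] at hj
  rcases hj with rfl | rfl | rfl | rfl | rfl | rfl | rfl | rfl
  · exact ⟨s 1, Subgroup.subset_closure ⟨1, by decide, rfl⟩, u0_207, mr0_207, e0_207_0⟩
  · exact ⟨1, one_mem _, u0_203, mr0_203, e0_207_1⟩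
  · exact ⟨s 3, Subgroup.subset_closure ⟨3, by decide, rfl⟩, u0_207, mr0_207, e0_207_2⟩
  · exact ⟨1, one_mem _, u0_211, mr0_211, e0_207_3⟩
  · exact ⟨1, one_mem _, u0_202, mr0_202, e0_207_4⟩
  · exact ⟨s 5, Subgroup.subset_closure ⟨5, by decide, rfl⟩, u0_207, mr0_207, e0_207_5⟩
  · exact ⟨s 6, Subgroup.subset_closure ⟨6, by decide, rfl⟩, u0_207, mr0_207, e0_207_6⟩
  · exact ⟨1, one_mem _, u0_208, mr0_208, e0_207_7⟩
theorem c0_208 : P0 u0_208 := by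
  refine ⟨mm0_208, ?_⟩
  rintro x ⟨j, hj, rfl⟩
  simp only [J0, List.mem_cons, List.not_mem_nil, or_false] at hj
  rcases hj with rfl | rfl | rfl | rfl | rfl | rfl | rfl | rfl
  · exact ⟨s 1, Subgroup.subset_closure ⟨1, by decide, rfl⟩, u0_208, mr0_208, e0_208_0⟩
  · exact ⟨1, one_mem _, u0_205, mr0_205, e0_208_1⟩
  · exact ⟨s 3, Subgroup.subset_closure ⟨3, by decide, rfl⟩, u0_208, mr0_208, e0_208_2⟩
  · exact ⟨1, one_mem _, u0_212, mr0_212, e0_208_3⟩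
  · exact ⟨1, one_mem _, u0_204, mr0_204, e0_208_4⟩
  · exact ⟨s 5, Subgroup.subset_closure ⟨5, by decide, rfl⟩, u0_208, mr0_208, e0_208_5⟩
  · exact ⟨1, one_mem _, u0_213, mr0_213, e0_208_6⟩
  · exact ⟨1, one_mem _, u0_207, mr0_207, e0_208_7⟩
theorem c0_209 : P0 u0_209 := by
  refine ⟨mm0_209, ?_⟩
  rintro x ⟨j, hj, rfl⟩
  simp only [J0, List.mem_cons, List.not_mem_nil, or_false] at hj
  rcases hj with rfl | rfl | rfl | rfl | rfl | rfl | rfl | rfl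
  · exact ⟨s 1, Subgroup.subset_closure ⟨1, by decide, rfl⟩, u0_209, mr0_209, e0_209_0⟩
  · exact ⟨1, one_mem _, u0_206, mr0_206, e0_209_1⟩
  · exact ⟨s 3, Subgroup.subset_closure ⟨3, by decide, rfl⟩, u0_209, mr0_209, e0_209_2⟩
  · exact ⟨s 4, Subgroup.subset_closure ⟨4, by decide, rfl⟩, u0_209, mr0_209, e0_209_3⟩
  · exact ⟨1, one_mem _, u0_213, mr0_213, e0_209_4⟩
  · exact ⟨s 0, Subgroup.subset_closure ⟨0, by decide, rfl⟩, u0_209, mr0_209, e0_209_5⟩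
  · exact ⟨1, one_mem _, u0_204, mr0_204, e0_209_6⟩
  · exact ⟨s 6, Subgroup.subset_closure ⟨6, by decide, rfl⟩, u0_209, mr0_209, e0_209_7⟩
theorem c0_210 : P0 u0_210 := by
  refine ⟨mm0_210, ?_⟩
  rintro x ⟨j, hj, rfl⟩
  simp only [J0, List.mem_cons, List.not_mem_nil, or_false] at hj
  rcases hj with rfl | rfl | rfl | rfl | rfl | rfl | rfl | rfl
  · exact ⟨s 1, Subgroup.subset_closure ⟨1, by decide, rfl⟩, u0_210, mr0_210, e0_210_0⟩
  · exact ⟨1, one_mem _, u0_213, mr0_213, e0_210_1⟩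
  · exact ⟨s 3, Subgroup.subset_closure ⟨3, by decide, rfl⟩, u0_210, mr0_210, e0_210_2⟩
  · exact ⟨s 2, Subgroup.subset_closure ⟨2, by decide, rfl⟩, u0_210, mr0_210, e0_210_3⟩
  · exact ⟨1, one_mem _, u0_206, mr0_206, e0_210_4⟩
  · exact ⟨1, one_mem _, u0_214, mr0_214, e0_210_5⟩
  · exact ⟨1, one_mem _, u0_205, mr0_205, e0_210_6⟩
  · exact ⟨s 6, Subgroup.subset_closure ⟨6, by decide, rfl⟩, u0_210, mr0_210, e0_210_7⟩
theorem c0_211 : P0 u0_211 := by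
  refine ⟨mm0_211, ?_⟩
  rintro x ⟨j, hj, rfl⟩
  simp only [J0, List.mem_cons, List.not_mem_nil, or_false] at hj
  rcases hj with rfl | rfl | rfl | rfl | rfl | rfl | rfl | rfl
  · exact ⟨s 1, Subgroup.subset_closure ⟨1, by decide, rfl⟩, u0_211, mr0_211, e0_211_0⟩
  · exact ⟨s 2, Subgroup.subset_closure ⟨2, by decide, rfl⟩, u0_211, mr0_211, e0_211_1⟩
  · exact ⟨1, one_mem _, u0_215, mr0_215, e0_211_2⟩
  · exact ⟨1, one_mem _, u0_207, mr0_207, e0_211_3⟩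
  · exact ⟨s 4, Subgroup.subset_closure ⟨4, by decide, rfl⟩, u0_211, mr0_211, e0_211_4⟩
  · exact ⟨s 5, Subgroup.subset_closure ⟨5, by decide, rfl⟩, u0_211, mr0_211, e0_211_5⟩
  · exact ⟨s 6, Subgroup.subset_closure ⟨6, by decide, rfl⟩, u0_211, mr0_211, e0_211_6⟩
  · exact ⟨1, one_mem _, u0_212, mr0_212, e0_211_7⟩
theorem c0_212 : P0 u0_212 := by
  refine ⟨mm0_212, ?_⟩
  rintro x ⟨j, hj, rfl⟩
  simp only [J0, List.mem_cons, List.not_mem_nil, or_false] at hj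
  rcases hj with rfl | rfl | rfl | rfl | rfl | rfl | rfl | rfl
  · exact ⟨s 1, Subgroup.subset_closure ⟨1, by decide, rfl⟩, u0_212, mr0_212, e0_212_0⟩
  · exact ⟨s 2, Subgroup.subset_closure ⟨2, by decide, rfl⟩, u0_212, mr0_212, e0_212_1⟩
  · exact ⟨1, one_mem _, u0_216, mr0_216, e0_212_2⟩
  · exact ⟨1, one_mem _, u0_208, mr0_208, e0_212_3⟩
  · exact ⟨s 4, Subgroup.subset_closure ⟨4, by decide, rfl⟩, u0_212, mr0_212, e0_212_4⟩
  · exact ⟨s 5, Subgroup.subset_closure ⟨5, by decide, rfl⟩, u0_212, mr0_212, e0_212_5⟩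
  · exact ⟨1, one_mem _, u0_217, mr0_217, e0_212_6⟩
  · exact ⟨1, one_mem _, u0_211, mr0_211, e0_212_7⟩
theorem c0_213 : P0 u0_213 := by
  refine ⟨mm0_213, ?_⟩
  rintro x ⟨j, hj, rfl⟩
  simp only [J0, List.mem_cons, List.not_mem_nil, or_false] at hj
  rcases hj with rfl | rfl | rfl | rfl | rfl | rfl | rfl | rfl
  · exact ⟨s 1, Subgroup.subset_closure ⟨1, by decide, rfl⟩, u0_213, mr0_213, e0_213_0⟩
  · exact ⟨1, one_mem _, u0_210, mr0_210, e0_213_1⟩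
  · exact ⟨s 3, Subgroup.subset_closure ⟨3, by decide, rfl⟩, u0_213, mr0_213, e0_213_2⟩
  · exact ⟨1, one_mem _, u0_217, mr0_217, e0_213_3⟩
  · exact ⟨1, one_mem _, u0_209, mr0_209, e0_213_4⟩
  · exact ⟨1, one_mem _, u0_218, mr0_218, e0_213_5⟩
  · exact ⟨1, one_mem _, u0_208, mr0_208, e0_213_6⟩
  · exact ⟨s 6, Subgroup.subset_closure ⟨6, by decide, rfl⟩, u0_213, mr0_213, e0_213_7⟩
theorem c0_214 : P0 u0_214 := by
  refine ⟨mm0_214, ?_⟩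
  rintro x ⟨j, hj, rfl⟩
  simp only [J0, List.mem_cons, List.not_mem_nil, or_false] at hj
  rcases hj with rfl | rfl | rfl | rfl | rfl | rfl | rfl | rfl
  · exact ⟨s 1, Subgroup.subset_closure ⟨1, by decide, rfl⟩, u0_214, mr0_214, e0_214_0⟩
  · exact ⟨1, one_mem _, u0_218, mr0_218, e0_214_1⟩
  · exact ⟨s 3, Subgroup.subset_closure ⟨3, by decide, rfl⟩, u0_214, mr0_214, e0_214_2⟩
  · exact ⟨s 2, Subgroup.subset_closure ⟨2, by decide, rfl⟩, u0_214, mr0_214, e0_214_3⟩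
  · exact ⟨s 0, Subgroup.subset_closure ⟨0, by decide, rfl⟩, u0_214, mr0_214, e0_214_4⟩
  · exact ⟨1, one_mem _, u0_210, mr0_210, e0_214_5⟩
  · exact ⟨s 5, Subgroup.subset_closure ⟨5, by decide, rfl⟩, u0_214, mr0_214, e0_214_6⟩
  · exact ⟨s 6, Subgroup.subset_closure ⟨6, by decide, rfl⟩, u0_214, mr0_214, e0_214_7⟩
theorem c0_215 : P0 u0_215 := by
  refine ⟨mm0_215, ?_⟩
  rintro x ⟨j, hj, rfl⟩
  simp only [J0, List.mem_cons, List.not_mem_nil, or_false] at hj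
  rcases hj with rfl | rfl | rfl | rfl | rfl | rfl | rfl | rfl
  · exact ⟨1, one_mem _, u0_219, mr0_219, e0_215_0⟩
  · exact ⟨s 2, Subgroup.subset_closure ⟨2, by decide, rfl⟩, u0_215, mr0_215, e0_215_1⟩
  · exact ⟨1, one_mem _, u0_211, mr0_211, e0_215_2⟩
  · exact ⟨s 3, Subgroup.subset_closure ⟨3, by decide, rfl⟩, u0_215, mr0_215, e0_215_3⟩
  · exact ⟨s 4, Subgroup.subset_closure ⟨4, by decide, rfl⟩, u0_215, mr0_215, e0_215_4⟩
  · exact ⟨s 5, Subgroup.subset_closure ⟨5, by decide, rfl⟩, u0_215, mr0_215, e0_215_5⟩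
  · exact ⟨s 6, Subgroup.subset_closure ⟨6, by decide, rfl⟩, u0_215, mr0_215, e0_215_6⟩
  · exact ⟨1, one_mem _, u0_216, mr0_216, e0_215_7⟩
theorem c0_216 : P0 u0_216 := by
  refine ⟨mm0_216, ?_⟩
  rintro x ⟨j, hj, rfl⟩
  simp only [J0, List.mem_cons, List.not_mem_nil, or_false] at hj
  rcases hj with rfl | rfl | rfl | rfl | rfl | rfl | rfl | rfl
  · exact ⟨1, one_mem _, u0_220, mr0_220, e0_216_0⟩
  · exact ⟨s 2, Subgroup.subset_closure ⟨2, by decide, rfl⟩, u0_216, mr0_216, e0_216_1⟩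
  · exact ⟨1, one_mem _, u0_212, mr0_212, e0_216_2⟩
  · exact ⟨s 3, Subgroup.subset_closure ⟨3, by decide, rfl⟩, u0_216, mr0_216, e0_216_3⟩
  · exact ⟨s 4, Subgroup.subset_closure ⟨4, by decide, rfl⟩, u0_216, mr0_216, e0_216_4⟩
  · exact ⟨s 5, Subgroup.subset_closure ⟨5, by decide, rfl⟩, u0_216, mr0_216, e0_216_5⟩
  · exact ⟨1, one_mem _, u0_221, mr0_221, e0_216_6⟩
  · exact ⟨1, one_mem _, u0_215, mr0_215, e0_216_7⟩
theorem c0_217 : P0 u0_217 := by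
  refine ⟨mm0_217, ?_⟩
  rintro x ⟨j, hj, rfl⟩
  simp only [J0, List.mem_cons, List.not_mem_nil, or_false] at hj
  rcases hj with rfl | rfl | rfl | rfl | rfl | rfl | rfl | rfl
  · exact ⟨s 1, Subgroup.subset_closure ⟨1, by decide, rfl⟩, u0_217, mr0_217, e0_217_0⟩
  · exact ⟨s 2, Subgroup.subset_closure ⟨2, by decide, rfl⟩, u0_217, mr0_217, e0_217_1⟩
  · exact ⟨1, one_mem _, u0_221, mr0_221, e0_217_2⟩
  · exact ⟨1, one_mem _, u0_213, mr0_213, e0_217_3⟩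
  · exact ⟨s 4, Subgroup.subset_closure ⟨4, by decide, rfl⟩, u0_217, mr0_217, e0_217_4⟩
  · exact ⟨1, one_mem _, u0_222, mr0_222, e0_217_5⟩
  · exact ⟨1, one_mem _, u0_212, mr0_212, e0_217_6⟩
  · exact ⟨s 6, Subgroup.subset_closure ⟨6, by decide, rfl⟩, u0_217, mr0_217, e0_217_7⟩
theorem c0_218 : P0 u0_218 := by
  refine ⟨mm0_218, ?_⟩
  rintro x ⟨j, hj, rfl⟩
  simp only [J0, List.mem_cons, List.not_mem_nil, or_false] at hj
  rcases hj with rfl | rfl | rfl | rfl | rfl | rfl | rfl | rfl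
  · exact ⟨s 1, Subgroup.subset_closure ⟨1, by decide, rfl⟩, u0_218, mr0_218, e0_218_0⟩
  · exact ⟨1, one_mem _, u0_214, mr0_214, e0_218_1⟩
  · exact ⟨s 3, Subgroup.subset_closure ⟨3, by decide, rfl⟩, u0_218, mr0_218, e0_218_2⟩
  · exact ⟨1, one_mem _, u0_222, mr0_222, e0_218_3⟩
  · exact ⟨s 0, Subgroup.subset_closure ⟨0, by decide, rfl⟩, u0_218, mr0_218, e0_218_4⟩
  · exact ⟨1, one_mem _, u0_213, mr0_213, e0_218_5⟩
  · exact ⟨s 5, Subgroup.subset_closure ⟨5, by decide, rfl⟩, u0_218, mr0_218, e0_218_6⟩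
  · exact ⟨s 6, Subgroup.subset_closure ⟨6, by decide, rfl⟩, u0_218, mr0_218, e0_218_7⟩
theorem c0_219 : P0 u0_219 := by
  refine ⟨mm0_219, ?_⟩
  rintro x ⟨j, hj, rfl⟩
  simp only [J0, List.mem_cons, List.not_mem_nil, or_false] at hj
  rcases hj with rfl | rfl | rfl | rfl | rfl | rfl | rfl | rfl
  · exact ⟨1, one_mem _, u0_215, mr0_215, e0_219_0⟩
  · exact ⟨s 2, Subgroup.subset_closure ⟨2, by decide, rfl⟩, u0_219, mr0_219, e0_219_1⟩
  · exact ⟨s 1, Subgroup.subset_closure ⟨1, by decide, rfl⟩, u0_219, mr0_219, e0_219_2⟩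
  · exact ⟨s 3, Subgroup.subset_closure ⟨3, by decide, rfl⟩, u0_219, mr0_219, e0_219_3⟩
  · exact ⟨s 4, Subgroup.subset_closure ⟨4, by decide, rfl⟩, u0_219, mr0_219, e0_219_4⟩
  · exact ⟨s 5, Subgroup.subset_closure ⟨5, by decide, rfl⟩, u0_219, mr0_219, e0_219_5⟩
  · exact ⟨s 6, Subgroup.subset_closure ⟨6, by decide, rfl⟩, u0_219, mr0_219, e0_219_6⟩
  · exact ⟨1, one_mem _, u0_220, mr0_220, e0_219_7⟩
theorem c0_220 : P0 u0_220 := by
  refine ⟨mm0_220, ?_⟩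
  rintro x ⟨j, hj, rfl⟩
  simp only [J0, List.mem_cons, List.not_mem_nil, or_false] at hj
  rcases hj with rfl | rfl | rfl | rfl | rfl | rfl | rfl | rfl
  · exact ⟨1, one_mem _, u0_216, mr0_216, e0_220_0⟩
  · exact ⟨s 2, Subgroup.subset_closure ⟨2, by decide, rfl⟩, u0_220, mr0_220, e0_220_1⟩
  · exact ⟨s 1, Subgroup.subset_closure ⟨1, by decide, rfl⟩, u0_220, mr0_220, e0_220_2⟩
  · exact ⟨s 3, Subgroup.subset_closure ⟨3, by decide, rfl⟩, u0_220, mr0_220, e0_220_3⟩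
  · exact ⟨s 4, Subgroup.subset_closure ⟨4, by decide, rfl⟩, u0_220, mr0_220, e0_220_4⟩
  · exact ⟨s 5, Subgroup.subset_closure ⟨5, by decide, rfl⟩, u0_220, mr0_220, e0_220_5⟩
  · exact ⟨1, one_mem _, u0_223, mr0_223, e0_220_6⟩
  · exact ⟨1, one_mem _, u0_219, mr0_219, e0_220_7⟩
theorem c0_221 : P0 u0_221 := by
  refine ⟨mm0_221, ?_⟩
  rintro x ⟨j, hj, rfl⟩
  simp only [J0, List.mem_cons, List.not_mem_nil, or_false] at hj
  rcases hj with rfl | rfl | rfl | rfl | rfl | rfl | rfl | rfl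
  · exact ⟨1, one_mem _, u0_223, mr0_223, e0_221_0⟩
  · exact ⟨s 2, Subgroup.subset_closure ⟨2, by decide, rfl⟩, u0_221, mr0_221, e0_221_1⟩
  · exact ⟨1, one_mem _, u0_217, mr0_217, e0_221_2⟩
  · exact ⟨s 3, Subgroup.subset_closure ⟨3, by decide, rfl⟩, u0_221, mr0_221, e0_221_3⟩
  · exact ⟨s 4, Subgroup.subset_closure ⟨4, by decide, rfl⟩, u0_221, mr0_221, e0_221_4⟩
  · exact ⟨1, one_mem _, u0_224, mr0_224, e0_221_5⟩
  · exact ⟨1, one_mem _, u0_216, mr0_216, e0_221_6⟩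
  · exact ⟨s 6, Subgroup.subset_closure ⟨6, by decide, rfl⟩, u0_221, mr0_221, e0_221_7⟩
theorem c0_222 : P0 u0_222 := by
  refine ⟨mm0_222, ?_⟩
  rintro x ⟨j, hj, rfl⟩
  simp only [J0, List.mem_cons, List.not_mem_nil, or_false] at hj
  rcases hj with rfl | rfl | rfl | rfl | rfl | rfl | rfl | rfl
  · exact ⟨s 1, Subgroup.subset_closure ⟨1, by decide, rfl⟩, u0_222, mr0_222, e0_222_0⟩
  · exact ⟨s 2, Subgroup.subset_closure ⟨2, by decide, rfl⟩, u0_222, mr0_222, e0_222_1⟩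
  · exact ⟨1, one_mem _, u0_224, mr0_224, e0_222_2⟩
  · exact ⟨1, one_mem _, u0_218, mr0_218, e0_222_3⟩
  · exact ⟨1, one_mem _, u0_225, mr0_225, e0_222_4⟩
  · exact ⟨1, one_mem _, u0_217, mr0_217, e0_222_5⟩
  · exact ⟨s 5, Subgroup.subset_closure ⟨5, by decide, rfl⟩, u0_222, mr0_222, e0_222_6⟩
  · exact ⟨s 6, Subgroup.subset_closure ⟨6, by decide, rfl⟩, u0_222, mr0_222, e0_222_7⟩
theorem c0_223 : P0 u0_223 := by
  refine ⟨mm0_223, ?_⟩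
  rintro x ⟨j, hj, rfl⟩
  simp only [J0, List.mem_cons, List.not_mem_nil, or_false] at hj
  rcases hj with rfl | rfl | rfl | rfl | rfl | rfl | rfl | rfl
  · exact ⟨1, one_mem _, u0_221, mr0_221, e0_223_0⟩
  · exact ⟨s 2, Subgroup.subset_closure ⟨2, by decide, rfl⟩, u0_223, mr0_223, e0_223_1⟩
  · exact ⟨s 1, Subgroup.subset_closure ⟨1, by decide, rfl⟩, u0_223, mr0_223, e0_223_2⟩
  · exact ⟨s 3, Subgroup.subset_closure ⟨3, by decide, rfl⟩, u0_223, mr0_223, e0_223_3⟩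
  · exact ⟨s 4, Subgroup.subset_closure ⟨4, by decide, rfl⟩, u0_223, mr0_223, e0_223_4⟩
  · exact ⟨1, one_mem _, u0_226, mr0_226, e0_223_5⟩
  · exact ⟨1, one_mem _, u0_220, mr0_220, e0_223_6⟩
  · exact ⟨s 6, Subgroup.subset_closure ⟨6, by decide, rfl⟩, u0_223, mr0_223, e0_223_7⟩
theorem c0_224 : P0 u0_224 := by
  refine ⟨mm0_224, ?_⟩
  rintro x ⟨j, hj, rfl⟩
  simp only [J0, List.mem_cons, List.not_mem_nil, or_false] at hj
  rcases hj with rfl | rfl | rfl | rfl | rfl | rfl | rfl | rfl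
  · exact ⟨1, one_mem _, u0_226, mr0_226, e0_224_0⟩
  · exact ⟨s 2, Subgroup.subset_closure ⟨2, by decide, rfl⟩, u0_224, mr0_224, e0_224_1⟩
  · exact ⟨1, one_mem _, u0_222, mr0_222, e0_224_2⟩
  · exact ⟨s 3, Subgroup.subset_closure ⟨3, by decide, rfl⟩, u0_224, mr0_224, e0_224_3⟩
  · exact ⟨1, one_mem _, u0_227, mr0_227, e0_224_4⟩
  · exact ⟨1, one_mem _, u0_221, mr0_221, e0_224_5⟩
  · exact ⟨s 5, Subgroup.subset_closure ⟨5, by decide, rfl⟩, u0_224, mr0_224, e0_224_6⟩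
  · exact ⟨s 6, Subgroup.subset_closure ⟨6, by decide, rfl⟩, u0_224, mr0_224, e0_224_7⟩
theorem c0_225 : P0 u0_225 := by
  refine ⟨mm0_225, ?_⟩
  rintro x ⟨j, hj, rfl⟩
  simp only [J0, List.mem_cons, List.not_mem_nil, or_false] at hj
  rcases hj with rfl | rfl | rfl | rfl | rfl | rfl | rfl | rfl
  · exact ⟨s 1, Subgroup.subset_closure ⟨1, by decide, rfl⟩, u0_225, mr0_225, e0_225_0⟩
  · exact ⟨s 2, Subgroup.subset_closure ⟨2, by decide, rfl⟩, u0_225, mr0_225, e0_225_1⟩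
  · exact ⟨1, one_mem _, u0_227, mr0_227, e0_225_2⟩
  · exact ⟨s 0, Subgroup.subset_closure ⟨0, by decide, rfl⟩, u0_225, mr0_225, e0_225_3⟩
  · exact ⟨1, one_mem _, u0_222, mr0_222, e0_225_4⟩
  · exact ⟨s 4, Subgroup.subset_closure ⟨4, by decide, rfl⟩, u0_225, mr0_225, e0_225_5⟩
  · exact ⟨s 5, Subgroup.subset_closure ⟨5, by decide, rfl⟩, u0_225, mr0_225, e0_225_6⟩
  · exact ⟨s 6, Subgroup.subset_closure ⟨6, by decide, rfl⟩, u0_225, mr0_225, e0_225_7⟩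
theorem c0_226 : P0 u0_226 := by
  refine ⟨mm0_226, ?_⟩
  rintro x ⟨j, hj, rfl⟩
  simp only [J0, List.mem_cons, List.not_mem_nil, or_false] at hj
  rcases hj with rfl | rfl | rfl | rfl | rfl | rfl | rfl | rfl
  · exact ⟨1, one_mem _, u0_224, mr0_224, e0_226_0⟩
  · exact ⟨s 2, Subgroup.subset_closure ⟨2, by decide, rfl⟩, u0_226, mr0_226, e0_226_1⟩
  · exact ⟨s 1, Subgroup.subset_closure ⟨1, by decide, rfl⟩, u0_226, mr0_226, e0_226_2⟩
  · exact ⟨s 3, Subgroup.subset_closure ⟨3, by decide, rfl⟩, u0_226, mr0_226, e0_226_3⟩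
  · exact ⟨1, one_mem _, u0_228, mr0_228, e0_226_4⟩
  · exact ⟨1, one_mem _, u0_223, mr0_223, e0_226_5⟩
  · exact ⟨s 5, Subgroup.subset_closure ⟨5, by decide, rfl⟩, u0_226, mr0_226, e0_226_6⟩
  · exact ⟨s 6, Subgroup.subset_closure ⟨6, by decide, rfl⟩, u0_226, mr0_226, e0_226_7⟩
theorem c0_227 : P0 u0_227 := by
  refine ⟨mm0_227, ?_⟩
  rintro x ⟨j, hj, rfl⟩
  simp only [J0, List.mem_cons, List.not_mem_nil, or_false] at hj
  rcases hj with rfl | rfl | rfl | rfl | rfl | rfl | rfl | rfl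
  · exact ⟨1, one_mem _, u0_228, mr0_228, e0_227_0⟩
  · exact ⟨s 2, Subgroup.subset_closure ⟨2, by decide, rfl⟩, u0_227, mr0_227, e0_227_1⟩
  · exact ⟨1, one_mem _, u0_225, mr0_225, e0_227_2⟩
  · exact ⟨1, one_mem _, u0_229, mr0_229, e0_227_3⟩
  · exact ⟨1, one_mem _, u0_224, mr0_224, e0_227_4⟩
  · exact ⟨s 4, Subgroup.subset_closure ⟨4, by decide, rfl⟩, u0_227, mr0_227, e0_227_5⟩
  · exact ⟨s 5, Subgroup.subset_closure ⟨5, by decide, rfl⟩, u0_227, mr0_227, e0_227_6⟩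
  · exact ⟨s 6, Subgroup.subset_closure ⟨6, by decide, rfl⟩, u0_227, mr0_227, e0_227_7⟩
theorem c0_228 : P0 u0_228 := by
  refine ⟨mm0_228, ?_⟩
  rintro x ⟨j, hj, rfl⟩
  simp only [J0, List.mem_cons, List.not_mem_nil, or_false] at hj
  rcases hj with rfl | rfl | rfl | rfl | rfl | rfl | rfl | rfl
  · exact ⟨1, one_mem _, u0_227, mr0_227, e0_228_0⟩
  · exact ⟨s 2, Subgroup.subset_closure ⟨2, by decide, rfl⟩, u0_228, mr0_228, e0_228_1⟩
  · exact ⟨s 1, Subgroup.subset_closure ⟨1, by decide, rfl⟩, u0_228, mr0_228, e0_228_2⟩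
  · exact ⟨1, one_mem _, u0_230, mr0_230, e0_228_3⟩
  · exact ⟨1, one_mem _, u0_226, mr0_226, e0_228_4⟩
  · exact ⟨s 4, Subgroup.subset_closure ⟨4, by decide, rfl⟩, u0_228, mr0_228, e0_228_5⟩
  · exact ⟨s 5, Subgroup.subset_closure ⟨5, by decide, rfl⟩, u0_228, mr0_228, e0_228_6⟩
  · exact ⟨s 6, Subgroup.subset_closure ⟨6, by decide, rfl⟩, u0_228, mr0_228, e0_228_7⟩
theorem c0_229 : P0 u0_229 := by
  refine ⟨mm0_229, ?_⟩
  rintro x ⟨j, hj, rfl⟩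
  simp only [J0, List.mem_cons, List.not_mem_nil, or_false] at hj
  rcases hj with rfl | rfl | rfl | rfl | rfl | rfl | rfl | rfl
  · exact ⟨1, one_mem _, u0_230, mr0_230, e0_229_0⟩
  · exact ⟨1, one_mem _, u0_231, mr0_231, e0_229_1⟩
  · exact ⟨s 0, Subgroup.subset_closure ⟨0, by decide, rfl⟩, u0_229, mr0_229, e0_229_2⟩
  · exact ⟨1, one_mem _, u0_227, mr0_227, e0_229_3⟩
  · exact ⟨s 3, Subgroup.subset_closure ⟨3, by decide, rfl⟩, u0_229, mr0_229, e0_229_4⟩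
  · exact ⟨s 4, Subgroup.subset_closure ⟨4, by decide, rfl⟩, u0_229, mr0_229, e0_229_5⟩
  · exact ⟨s 5, Subgroup.subset_closure ⟨5, by decide, rfl⟩, u0_229, mr0_229, e0_229_6⟩
  · exact ⟨s 6, Subgroup.subset_closure ⟨6, by decide, rfl⟩, u0_229, mr0_229, e0_229_7⟩
theorem c0_230 : P0 u0_230 := by
  refine ⟨mm0_230, ?_⟩
  rintro x ⟨j, hj, rfl⟩
  simp only [J0, List.mem_cons, List.not_mem_nil, or_false] at hj
  rcases hj with rfl | rfl | rfl | rfl | rfl | rfl | rfl | rfl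
  · exact ⟨1, one_mem _, u0_229, mr0_229, e0_230_0⟩
  · exact ⟨1, one_mem _, u0_232, mr0_232, e0_230_1⟩
  · exact ⟨1, one_mem _, u0_233, mr0_233, e0_230_2⟩
  · exact ⟨1, one_mem _, u0_228, mr0_228, e0_230_3⟩
  · exact ⟨s 3, Subgroup.subset_closure ⟨3, by decide, rfl⟩, u0_230, mr0_230, e0_230_4⟩
  · exact ⟨s 4, Subgroup.subset_closure ⟨4, by decide, rfl⟩, u0_230, mr0_230, e0_230_5⟩
  · exact ⟨s 5, Subgroup.subset_closure ⟨5, by decide, rfl⟩, u0_230, mr0_230, e0_230_6⟩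
  · exact ⟨s 6, Subgroup.subset_closure ⟨6, by decide, rfl⟩, u0_230, mr0_230, e0_230_7⟩
theorem c0_231 : P0 u0_231 := by
  refine ⟨mm0_231, ?_⟩
  rintro x ⟨j, hj, rfl⟩
  simp only [J0, List.mem_cons, List.not_mem_nil, or_false] at hj
  rcases hj with rfl | rfl | rfl | rfl | rfl | rfl | rfl | rfl
  · exact ⟨1, one_mem _, u0_232, mr0_232, e0_231_0⟩
  · exact ⟨1, one_mem _, u0_229, mr0_229, e0_231_1⟩
  · exact ⟨s 0, Subgroup.subset_closure ⟨0, by decide, rfl⟩, u0_231, mr0_231, e0_231_2⟩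
  · exact ⟨s 2, Subgroup.subset_closure ⟨2, by decide, rfl⟩, u0_231, mr0_231, e0_231_3⟩
  · exact ⟨s 3, Subgroup.subset_closure ⟨3, by decide, rfl⟩, u0_231, mr0_231, e0_231_4⟩
  · exact ⟨s 4, Subgroup.subset_closure ⟨4, by decide, rfl⟩, u0_231, mr0_231, e0_231_5⟩
  · exact ⟨s 5, Subgroup.subset_closure ⟨5, by decide, rfl⟩, u0_231, mr0_231, e0_231_6⟩
  · exact ⟨s 6, Subgroup.subset_closure ⟨6, by decide, rfl⟩, u0_231, mr0_231, e0_231_7⟩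
theorem c0_232 : P0 u0_232 := by
  refine ⟨mm0_232, ?_⟩
  rintro x ⟨j, hj, rfl⟩
  simp only [J0, List.mem_cons, List.not_mem_nil, or_false] at hj
  rcases hj with rfl | rfl | rfl | rfl | rfl | rfl | rfl | rfl
  · exact ⟨1, one_mem _, u0_231, mr0_231, e0_232_0⟩
  · exact ⟨1, one_mem _, u0_230, mr0_230, e0_232_1⟩
  · exact ⟨1, one_mem _, u0_234, mr0_234, e0_232_2⟩
  · exact ⟨s 2, Subgroup.subset_closure ⟨2, by decide, rfl⟩, u0_232, mr0_232, e0_232_3⟩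
  · exact ⟨s 3, Subgroup.subset_closure ⟨3, by decide, rfl⟩, u0_232, mr0_232, e0_232_4⟩
  · exact ⟨s 4, Subgroup.subset_closure ⟨4, by decide, rfl⟩, u0_232, mr0_232, e0_232_5⟩
  · exact ⟨s 5, Subgroup.subset_closure ⟨5, by decide, rfl⟩, u0_232, mr0_232, e0_232_6⟩
  · exact ⟨s 6, Subgroup.subset_closure ⟨6, by decide, rfl⟩, u0_232, mr0_232, e0_232_7⟩
theorem c0_233 : P0 u0_233 := by
  refine ⟨mm0_233, ?_⟩
  rintro x ⟨j, hj, rfl⟩
  simp only [J0, List.mem_cons, List.not_mem_nil, or_false] at hj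
  rcases hj with rfl | rfl | rfl | rfl | rfl | rfl | rfl | rfl
  · exact ⟨s 0, Subgroup.subset_closure ⟨0, by decide, rfl⟩, u0_233, mr0_233, e0_233_0⟩
  · exact ⟨1, one_mem _, u0_234, mr0_234, e0_233_1⟩
  · exact ⟨1, one_mem _, u0_230, mr0_230, e0_233_2⟩
  · exact ⟨s 1, Subgroup.subset_closure ⟨1, by decide, rfl⟩, u0_233, mr0_233, e0_233_3⟩
  · exact ⟨s 3, Subgroup.subset_closure ⟨3, by decide, rfl⟩, u0_233, mr0_233, e0_233_4⟩
  · exact ⟨s 4, Subgroup.subset_closure ⟨4, by decide, rfl⟩, u0_233, mr0_233, e0_233_5⟩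
  · exact ⟨s 5, Subgroup.subset_closure ⟨5, by decide, rfl⟩, u0_233, mr0_233, e0_233_6⟩
  · exact ⟨s 6, Subgroup.subset_closure ⟨6, by decide, rfl⟩, u0_233, mr0_233, e0_233_7⟩
theorem c0_234 : P0 u0_234 := by
  refine ⟨mm0_234, ?_⟩
  rintro x ⟨j, hj, rfl⟩
  simp only [J0, List.mem_cons, List.not_mem_nil, or_false] at hj
  rcases hj with rfl | rfl | rfl | rfl | rfl | rfl | rfl | rfl
  · exact ⟨s 0, Subgroup.subset_closure ⟨0, by decide, rfl⟩, u0_234, mr0_234, e0_234_0⟩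
  · exact ⟨1, one_mem _, u0_233, mr0_233, e0_234_1⟩
  · exact ⟨1, one_mem _, u0_232, mr0_232, e0_234_2⟩
  · exact ⟨1, one_mem _, u0_235, mr0_235, e0_234_3⟩
  · exact ⟨s 3, Subgroup.subset_closure ⟨3, by decide, rfl⟩, u0_234, mr0_234, e0_234_4⟩
  · exact ⟨s 4, Subgroup.subset_closure ⟨4, by decide, rfl⟩, u0_234, mr0_234, e0_234_5⟩
  · exact ⟨s 5, Subgroup.subset_closure ⟨5, by decide, rfl⟩, u0_234, mr0_234, e0_234_6⟩
  · exact ⟨s 6, Subgroup.subset_closure ⟨6, by decide, rfl⟩, u0_234, mr0_234, e0_234_7⟩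
theorem c0_235 : P0 u0_235 := by
  refine ⟨mm0_235, ?_⟩
  rintro x ⟨j, hj, rfl⟩
  simp only [J0, List.mem_cons, List.not_mem_nil, or_false] at hj
  rcases hj with rfl | rfl | rfl | rfl | rfl | rfl | rfl | rfl
  · exact ⟨s 0, Subgroup.subset_closure ⟨0, by decide, rfl⟩, u0_235, mr0_235, e0_235_0⟩
  · exact ⟨s 1, Subgroup.subset_closure ⟨1, by decide, rfl⟩, u0_235, mr0_235, e0_235_1⟩
  · exact ⟨s 2, Subgroup.subset_closure ⟨2, by decide, rfl⟩, u0_235, mr0_235, e0_235_2⟩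
  · exact ⟨1, one_mem _, u0_234, mr0_234, e0_235_3⟩
  · exact ⟨1, one_mem _, u0_236, mr0_236, e0_235_4⟩
  · exact ⟨s 4, Subgroup.subset_closure ⟨4, by decide, rfl⟩, u0_235, mr0_235, e0_235_5⟩
  · exact ⟨s 5, Subgroup.subset_closure ⟨5, by decide, rfl⟩, u0_235, mr0_235, e0_235_6⟩
  · exact ⟨s 6, Subgroup.subset_closure ⟨6, by decide, rfl⟩, u0_235, mr0_235, e0_235_7⟩
theorem c0_236 : P0 u0_236 := by
  refine ⟨mm0_236, ?_⟩
  rintro x ⟨j, hj, rfl⟩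
  simp only [J0, List.mem_cons, List.not_mem_nil, or_false] at hj
  rcases hj with rfl | rfl | rfl | rfl | rfl | rfl | rfl | rfl
  · exact ⟨s 0, Subgroup.subset_closure ⟨0, by decide, rfl⟩, u0_236, mr0_236, e0_236_0⟩
  · exact ⟨s 1, Subgroup.subset_closure ⟨1, by decide, rfl⟩, u0_236, mr0_236, e0_236_1⟩
  · exact ⟨s 2, Subgroup.subset_closure ⟨2, by decide, rfl⟩, u0_236, mr0_236, e0_236_2⟩
  · exact ⟨s 3, Subgroup.subset_closure ⟨3, by decide, rfl⟩, u0_236, mr0_236, e0_236_3⟩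
  · exact ⟨1, one_mem _, u0_235, mr0_235, e0_236_4⟩
  · exact ⟨1, one_mem _, u0_237, mr0_237, e0_236_5⟩
  · exact ⟨s 5, Subgroup.subset_closure ⟨5, by decide, rfl⟩, u0_236, mr0_236, e0_236_6⟩
  · exact ⟨s 6, Subgroup.subset_closure ⟨6, by decide, rfl⟩, u0_236, mr0_236, e0_236_7⟩
theorem c0_237 : P0 u0_237 := by
  refine ⟨mm0_237, ?_⟩
  rintro x ⟨j, hj, rfl⟩
  simp only [J0, List.mem_cons, List.not_mem_nil, or_false] at hj
  rcases hj with rfl | rfl | rfl | rfl | rfl | rfl | rfl | rfl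
  · exact ⟨s 0, Subgroup.subset_closure ⟨0, by decide, rfl⟩, u0_237, mr0_237, e0_237_0⟩
  · exact ⟨s 1, Subgroup.subset_closure ⟨1, by decide, rfl⟩, u0_237, mr0_237, e0_237_1⟩
  · exact ⟨s 2, Subgroup.subset_closure ⟨2, by decide, rfl⟩, u0_237, mr0_237, e0_237_2⟩
  · exact ⟨s 3, Subgroup.subset_closure ⟨3, by decide, rfl⟩, u0_237, mr0_237, e0_237_3⟩
  · exact ⟨s 4, Subgroup.subset_closure ⟨4, by decide, rfl⟩, u0_237, mr0_237, e0_237_4⟩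
  · exact ⟨1, one_mem _, u0_236, mr0_236, e0_237_5⟩
  · exact ⟨1, one_mem _, u0_238, mr0_238, e0_237_6⟩
  · exact ⟨s 6, Subgroup.subset_closure ⟨6, by decide, rfl⟩, u0_237, mr0_237, e0_237_7⟩
theorem c0_238 : P0 u0_238 := by
  refine ⟨mm0_238, ?_⟩
  rintro x ⟨j, hj, rfl⟩
  simp only [J0, List.mem_cons, List.not_mem_nil, or_false] at hj
  rcases hj with rfl | rfl | rfl | rfl | rfl | rfl | rfl | rfl
  · exact ⟨s 0, Subgroup.subset_closure ⟨0, by decide, rfl⟩, u0_238, mr0_238, e0_238_0⟩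
  · exact ⟨s 1, Subgroup.subset_closure ⟨1, by decide, rfl⟩, u0_238, mr0_238, e0_238_1⟩
  · exact ⟨s 2, Subgroup.subset_closure ⟨2, by decide, rfl⟩, u0_238, mr0_238, e0_238_2⟩
  · exact ⟨s 3, Subgroup.subset_closure ⟨3, by decide, rfl⟩, u0_238, mr0_238, e0_238_3⟩
  · exact ⟨s 4, Subgroup.subset_closure ⟨4, by decide, rfl⟩, u0_238, mr0_238, e0_238_4⟩
  · exact ⟨s 5, Subgroup.subset_closure ⟨5, by decide, rfl⟩, u0_238, mr0_238, e0_238_5⟩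
  · exact ⟨1, one_mem _, u0_237, mr0_237, e0_238_6⟩
  · exact ⟨1, one_mem _, u0_239, mr0_239, e0_238_7⟩
theorem c0_239 : P0 u0_239 := by
  refine ⟨mm0_239, ?_⟩
  rintro x ⟨j, hj, rfl⟩
  simp only [J0, List.mem_cons, List.not_mem_nil, or_false] at hj
  rcases hj with rfl | rfl | rfl | rfl | rfl | rfl | rfl | rfl
  · exact ⟨s 0, Subgroup.subset_closure ⟨0, by decide, rfl⟩, u0_239, mr0_239, e0_239_0⟩
  · exact ⟨s 1, Subgroup.subset_closure ⟨1, by decide, rfl⟩, u0_239, mr0_239, e0_239_1⟩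
  · exact ⟨s 2, Subgroup.subset_closure ⟨2, by decide, rfl⟩, u0_239, mr0_239, e0_239_2⟩
  · exact ⟨s 3, Subgroup.subset_closure ⟨3, by decide, rfl⟩, u0_239, mr0_239, e0_239_3⟩
  · exact ⟨s 4, Subgroup.subset_closure ⟨4, by decide, rfl⟩, u0_239, mr0_239, e0_239_4⟩
  · exact ⟨s 5, Subgroup.subset_closure ⟨5, by decide, rfl⟩, u0_239, mr0_239, e0_239_5⟩
  · exact ⟨s 6, Subgroup.subset_closure ⟨6, by decide, rfl⟩, u0_239, mr0_239, e0_239_6⟩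
  · exact ⟨1, one_mem _, u0_238, mr0_238, e0_239_7⟩
def preps0 : List {u : W // P0 u} := [⟨u0_0, c0_0⟩, ⟨u0_1, c0_1⟩, ⟨u0_2, c0_2⟩, ⟨u0_3, c0_3⟩, ⟨u0_4, c0_4⟩, ⟨u0_5, c0_5⟩, ⟨u0_6, c0_6⟩, ⟨u0_7, c0_7⟩, ⟨u0_8, c0_8⟩, ⟨u0_9, c0_9⟩, ⟨u0_10, c0_10⟩, ⟨u0_11, c0_11⟩, ⟨u0_12, c0_12⟩, ⟨u0_13, c0_13⟩, ⟨u0_14, c0_14⟩, ⟨u0_15, c0_15⟩, ⟨u0_16, c0_16⟩, ⟨u0_17, c0_17⟩, ⟨u0_18, c0_18⟩, ⟨u0_19, c0_19⟩, ⟨u0_20, c0_20⟩, ⟨u0_21, c0_21⟩, ⟨u0_22, c0_22⟩, ⟨u0_23, c0_23⟩, ⟨u0_24, c0_24⟩, ⟨u0_25, c0_25⟩, ⟨u0_26, c0_26⟩, ⟨u0_27, c0_27⟩, ⟨u0_28, c0_28⟩, ⟨u0_29, c0_29⟩, ⟨u0_30, c0_30⟩, ⟨u0_31, c0_31⟩, ⟨u0_32, c0_32⟩, ⟨u0_33, c0_33⟩, ⟨u0_34, c0_34⟩, ⟨u0_35, c0_35⟩, ⟨u0_36, c0_36⟩, ⟨u0_37, c0_37⟩, ⟨u0_38, c0_38⟩, ⟨u0_39, c0_39⟩, ⟨u0_40, c0_40⟩, ⟨u0_41, c0_41⟩, ⟨u0_42, c0_42⟩, ⟨u0_43, c0_43⟩, ⟨u0_44, c0_44⟩, ⟨u0_45, c0_45⟩, ⟨u0_46, c0_46⟩, ⟨u0_47, c0_47⟩, ⟨u0_48, c0_48⟩, ⟨u0_49, c0_49⟩, ⟨u0_50,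 c0_50⟩, ⟨u0_51, c0_51⟩, ⟨u0_52, c0_52⟩, ⟨u0_53, c0_53⟩, ⟨u0_54, c0_54⟩, ⟨u0_55, c0_55⟩, ⟨u0_56, c0_56⟩, ⟨u0_57, c0_57⟩, ⟨u0_58, c0_58⟩, ⟨u0_59, c0_59⟩, ⟨u0_60, c0_60⟩, ⟨u0_61, c0_61⟩, ⟨u0_62, c0_62⟩, ⟨u0_63, c0_63⟩, ⟨u0_64, c0_64⟩, ⟨u0_65, c0_65⟩, ⟨u0_66, c0_66⟩, ⟨u0_67, c0_67⟩, ⟨u0_68, c0_68⟩, ⟨u0_69, c0_69⟩, ⟨u0_70, c0_70⟩, ⟨u0_71, c0_71⟩, ⟨u0_72, c0_72⟩, ⟨u0_73, c0_73⟩, ⟨u0_74, c0_74⟩, ⟨u0_75, c0_75⟩, ⟨u0_76, c0_76⟩, ⟨u0_77, c0_77⟩, ⟨u0_78, c0_78⟩, ⟨u0_79, c0_79⟩, ⟨u0_80, c0_80⟩, ⟨u0_81, c0_81⟩, ⟨u0_82, c0_82⟩, ⟨u0_83, c0_83⟩, ⟨u0_84, c0_84⟩, ⟨u0_85, c0_85⟩, ⟨u0_86, c0_86⟩, ⟨u0_87, c0_87⟩, ⟨u0_88, c0_88⟩, ⟨u0_89, c0_89⟩, ⟨u0_90, c0_90⟩, ⟨u0_91, c0_91⟩, ⟨u0_92, c0_92⟩, ⟨u0_93, c0_93⟩, ⟨u0_94, c0_94⟩, ⟨u0_95, c0_95⟩, ⟨u0_96, c0_96⟩, ⟨u0_97, c0_97⟩, ⟨u0_98, c0_98⟩, ⟨u0_99, c0_99⟩, ⟨u0_100, c0_100⟩, ⟨u0_101, c0_101⟩, ⟨u0_102, c0_102⟩, ⟨u0_103, c0_103⟩, ⟨u0_104, c0_104⟩,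 ⟨u0_105, c0_105⟩, ⟨u0_106, c0_106⟩, ⟨u0_107, c0_107⟩, ⟨u0_108, c0_108⟩, ⟨u0_109, c0_109⟩, ⟨u0_110, c0_110⟩, ⟨u0_111, c0_111⟩, ⟨u0_112, c0_112⟩, ⟨u0_113, c0_113⟩, ⟨u0_114, c0_114⟩, ⟨u0_115, c0_115⟩, ⟨u0_116, c0_116⟩, ⟨u0_117, c0_117⟩, ⟨u0_118, c0_118⟩, ⟨u0_119, c0_119⟩, ⟨u0_120, c0_120⟩, ⟨u0_121, c0_121⟩, ⟨u0_122, c0_122⟩, ⟨u0_123, c0_123⟩, ⟨u0_124, c0_124⟩, ⟨u0_125, c0_125⟩, ⟨u0_126, c0_126⟩, ⟨u0_127, c0_127⟩, ⟨u0_128, c0_128⟩, ⟨u0_129, c0_129⟩, ⟨u0_130, c0_130⟩, ⟨u0_131, c0_131⟩, ⟨u0_132, c0_132⟩, ⟨u0_133, c0_133⟩, ⟨u0_134, c0_134⟩, ⟨u0_135, c0_135⟩, ⟨u0_136, c0_136⟩, ⟨u0_137, c0_137⟩, ⟨u0_138, c0_138⟩, ⟨u0_139, c0_139⟩, ⟨u0_140, c0_140⟩, ⟨u0_141, c0_141⟩, ⟨u0_142, c0_142⟩, ⟨u0_143, c0_143⟩, ⟨u0_144, c0_144⟩, ⟨u0_145, c0_145⟩, ⟨u0_146, c0_146⟩, ⟨u0_147, c0_147⟩, ⟨u0_148, c0_148⟩, ⟨u0_149, c0_149⟩, ⟨u0_150, c0_150⟩, ⟨u0_151, c0_151⟩, ⟨u0_152, c0_152⟩, ⟨u0_153, c0_153⟩,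 ⟨u0_154, c0_154⟩, ⟨u0_155, c0_155⟩, ⟨u0_156, c0_156⟩, ⟨u0_157, c0_157⟩, ⟨u0_158, c0_158⟩, ⟨u0_159, c0_159⟩, ⟨u0_160, c0_160⟩, ⟨u0_161, c0_161⟩, ⟨u0_162, c0_162⟩, ⟨u0_163, c0_163⟩, ⟨u0_164, c0_164⟩, ⟨u0_165, c0_165⟩, ⟨u0_166, c0_166⟩, ⟨u0_167, c0_167⟩, ⟨u0_168, c0_168⟩, ⟨u0_169, c0_169⟩, ⟨u0_170, c0_170⟩, ⟨u0_171, c0_171⟩, ⟨u0_172, c0_172⟩, ⟨u0_173, c0_173⟩, ⟨u0_174, c0_174⟩, ⟨u0_175, c0_175⟩, ⟨u0_176, c0_176⟩, ⟨u0_177, c0_177⟩, ⟨u0_178, c0_178⟩, ⟨u0_179, c0_179⟩, ⟨u0_180, c0_180⟩, ⟨u0_181, c0_181⟩, ⟨u0_182, c0_182⟩, ⟨u0_183, c0_183⟩, ⟨u0_184, c0_184⟩, ⟨u0_185, c0_185⟩, ⟨u0_186, c0_186⟩, ⟨u0_187, c0_187⟩, ⟨u0_188, c0_188⟩, ⟨u0_189, c0_189⟩, ⟨u0_190, c0_190⟩, ⟨u0_191, c0_191⟩, ⟨u0_192, c0_192⟩, ⟨u0_193, c0_193⟩, ⟨u0_194, c0_194⟩, ⟨u0_195, c0_195⟩, ⟨u0_196, c0_196⟩, ⟨u0_197, c0_197⟩, ⟨u0_198, c0_198⟩, ⟨u0_199, c0_199⟩, ⟨u0_200, c0_200⟩, ⟨u0_201, c0_201⟩, ⟨u0_202, c0_202⟩,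 ⟨u0_203, c0_203⟩, ⟨u0_204, c0_204⟩, ⟨u0_205, c0_205⟩, ⟨u0_206, c0_206⟩, ⟨u0_207, c0_207⟩, ⟨u0_208, c0_208⟩, ⟨u0_209, c0_209⟩, ⟨u0_210, c0_210⟩, ⟨u0_211, c0_211⟩, ⟨u0_212, c0_212⟩, ⟨u0_213, c0_213⟩, ⟨u0_214, c0_214⟩, ⟨u0_215, c0_215⟩, ⟨u0_216, c0_216⟩, ⟨u0_217, c0_217⟩, ⟨u0_218, c0_218⟩, ⟨u0_219, c0_219⟩, ⟨u0_220, c0_220⟩, ⟨u0_221, c0_221⟩, ⟨u0_222, c0_222⟩, ⟨u0_223, c0_223⟩, ⟨u0_224, c0_224⟩, ⟨u0_225, c0_225⟩, ⟨u0_226, c0_226⟩, ⟨u0_227, c0_227⟩, ⟨u0_228, c0_228⟩, ⟨u0_229, c0_229⟩, ⟨u0_230, c0_230⟩, ⟨u0_231, c0_231⟩, ⟨u0_232, c0_232⟩, ⟨u0_233, c0_233⟩, ⟨u0_234, c0_234⟩, ⟨u0_235, c0_235⟩, ⟨u0_236, c0_236⟩, ⟨u0_237, c0_237⟩, ⟨u0_238, c0_238⟩, ⟨u0_239, c0_239⟩]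
theorem preps0_map : preps0.map Subtype.val = reps0 := rfl
theorem allP0 : ∀ u ∈ reps0, P0 u := by
  intro u hu
  rw [← preps0_map, List.mem_map] at hu
  obtain ⟨x, _, rfl⟩ := hu
  exact x.2
def vecs0 : List (Fin 8 → ℤ) := [(![0, 0, 0, 0, 0, 0, 0, 1] : Fin 8 → ℤ), (![0, 0, 0, 0, 0, 0, 1, -1] : Fin 8 → ℤ), (![0, 0, 0, 0, 0, 1, -1, 0] : Fin 8 → ℤ), (![0, 0, 0, 0, 1, -1, 0, 0] : Fin 8 → ℤ), (![0, 0, 0, 1, -1, 0, 0, 0] : Fin 8 → ℤ), (![0, 1, 1, -1, 0, 0, 0, 0] : Fin 8 → ℤ), (![0, -1, 1, 0, 0, 0, 0, 0] : Fin 8 → ℤ), (![1, 1, -1, 0, 0, 0, 0, 0] : Fin 8 → ℤ), (![1, -1, -1, 1, 0, 0, 0, 0] : Fin 8 → ℤ), (![-1, 1, 0, 0, 0, 0, 0, 0] : Fin 8 → ℤ), (![-1, -1, 0, 1, 0, 0, 0, 0] : Fin 8 → ℤ), (![1, 0, 0, -1, 1, 0, 0, 0] : Fin 8 → ℤ), (![-1, 0, 1, -1, 1, 0, 0, 0] : Fin 8 → ℤ), (![1, 0, 0, 0, -1, 1, 0, 0] : Fin 8 → ℤ), (![0, 0, -1, 0, 1, 0, 0, 0] : Fin 8 → ℤ), (![-1, 0, 1, 0, -1,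 1, 0, 0] : Fin 8 → ℤ), (![1, 0, 0, 0, 0, -1, 1, 0] : Fin 8 → ℤ), (![0, 0, -1, 1, -1, 1, 0, 0] : Fin 8 → ℤ), (![-1, 0, 1, 0, 0, -1, 1, 0] : Fin 8 → ℤ), (![1, 0, 0, 0, 0, 0, -1, 1] : Fin 8 → ℤ), (![0, 1, 0, -1, 0, 1, 0, 0] : Fin 8 → ℤ), (![0, 0, -1, 1, 0, -1, 1, 0] : Fin 8 → ℤ), (![-1, 0, 1, 0, 0, 0, -1, 1] : Fin 8 → ℤ), (![1, 0, 0, 0, 0, 0, 0, -1] : Fin 8 → ℤ), (![0, -1, 0, 0, 0, 1, 0, 0] : Fin 8 → ℤ), (![0, 1, 0, -1, 1, -1, 1, 0] : Fin 8 → ℤ), (![0, 0, -1, 1, 0, 0, -1, 1] : Fin 8 → ℤ), (![-1, 0, 1, 0, 0, 0, 0, -1] : Fin 8 → ℤ), (![0, -1, 0, 0, 1, -1, 1, 0] : Fin 8 → ℤ), (![0, 1, 0, 0, -1, 0, 1, 0] : Fin 8 → ℤ), (![0, 1, 0, -1, 1, 0, -1, 1] : Fin 8 → ℤ), (![0, 0, -1, 1, 0, 0, 0, -1] : Fin 8 → ℤ), (![0, -1, 0, 1, -1, 0, 1, 0] : Fin 8 → ℤ), (![0, -1, 0, 0, 1, 0, -1, 1] : Fin 8 → ℤ), (![0, 1, 0, 0, -1, 1, -1, 1] : Fin 8 → ℤ), (![0, 1, 0, -1, 1, 0, 0, -1] : Fin 8 → ℤ),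 (![0, 0, 1, -1, 0, 0, 1, 0] : Fin 8 → ℤ), (![0, -1, 0, 1, -1, 1, -1, 1] : Fin 8 → ℤ), (![0, -1, 0, 0, 1, 0, 0, -1] : Fin 8 → ℤ), (![0, 1, 0, 0, 0, -1, 0, 1] : Fin 8 → ℤ), (![0, 1, 0, 0, -1, 1, 0, -1] : Fin 8 → ℤ), (![1, 0, -1, 0, 0, 0, 1, 0] : Fin 8 → ℤ), (![0, 0, 1, -1, 0, 1, -1, 1] : Fin 8 → ℤ), (![0, -1, 0, 1, 0, -1, 0, 1] : Fin 8 → ℤ), (![0, -1, 0, 1, -1, 1, 0, -1] : Fin 8 → ℤ), (![0, 1, 0, 0, 0, -1, 1, -1] : Fin 8 → ℤ), (![-1, 0, 0, 0, 0, 0, 1, 0] : Fin 8 → ℤ), (![1, 0, -1, 0, 0, 1, -1, 1] : Fin 8 → ℤ), (![0, 0, 1, -1, 1, -1, 0, 1] : Fin 8 → ℤ), (![0, 0, 1, -1, 0, 1, 0, -1] : Fin 8 → ℤ), (![0, -1, 0, 1, 0, -1, 1, -1] : Fin 8 → ℤ), (![0, 1, 0, 0, 0, 0, -1, 0] : Fin 8 → ℤ), (![-1, 0, 0, 0, 0, 1, -1, 1] : Fin 8 → ℤ), (![1, 0, -1, 0, 1, -1, 0, 1] : Fin 8 → ℤ), (![1, 0, -1, 0, 0, 1, 0, -1] : Fin 8 → ℤ), (![0, 0, 1, 0, -1, 0, 0, 1] : Fin 8 → ℤ), (![0, 0, 1, -1, 1,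 -1, 1, -1] : Fin 8 → ℤ), (![0, -1, 0, 1, 0, 0, -1, 0] : Fin 8 → ℤ), (![-1, 0, 0, 0, 1, -1, 0, 1] : Fin 8 → ℤ), (![-1, 0, 0, 0, 0, 1, 0, -1] : Fin 8 → ℤ), (![1, 0, -1, 1, -1, 0, 0, 1] : Fin 8 → ℤ), (![1, 0, -1, 0, 1, -1, 1, -1] : Fin 8 → ℤ), (![0, 0, 1, 0, -1, 0, 1, -1] : Fin 8 → ℤ), (![0, 0, 1, -1, 1, 0, -1, 0] : Fin 8 → ℤ), (![-1, 0, 0, 1, -1, 0, 0, 1] : Fin 8 → ℤ), (![-1, 0, 0, 0, 1, -1, 1, -1] : Fin 8 → ℤ), (![1, 1, 0, -1, 0, 0, 0, 1] : Fin 8 → ℤ), (![1, 0, -1, 1, -1, 0, 1, -1] : Fin 8 → ℤ), (![1, 0, -1, 0, 1, 0, -1, 0] : Fin 8 → ℤ), (![0, 0, 1, 0, -1, 1, -1, 0] : Fin 8 → ℤ), (![-1, 1, 1, -1, 0, 0, 0, 1] : Fin 8 → ℤ), (![-1, 0, 0, 1, -1, 0, 1, -1] : Fin 8 → ℤ), (![-1, 0, 0, 0, 1, 0, -1, 0] : Fin 8 → ℤ), (![1, -1, 0, 0, 0, 0, 0, 1] : Fin 8 → ℤ), (![1, 1, 0, -1, 0, 0, 1, -1] : Fin 8 → ℤ), (![1, 0, -1, 1, -1, 1, -1, 0] : Fin 8 → ℤ), (![0, 0, 1, 0, 0, -1, 0, 0] : Fin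 8 → ℤ), (![-1, -1, 1, 0, 0, 0, 0, 1] : Fin 8 → ℤ), (![0, 1, -1, 0, 0, 0, 0, 1] : Fin 8 → ℤ), (![-1, 1, 1, -1, 0, 0, 1, -1] : Fin 8 → ℤ), (![-1, 0, 0, 1, -1, 1, -1, 0] : Fin 8 → ℤ), (![1, -1, 0, 0, 0, 0, 1, -1] : Fin 8 → ℤ), (![1, 1, 0, -1, 0, 1, -1, 0] : Fin 8 → ℤ), (![1, 0, -1, 1, 0, -1, 0, 0] : Fin 8 → ℤ), (![0, -1, -1, 1, 0, 0, 0, 1] : Fin 8 → ℤ), (![-1, -1, 1, 0, 0, 0, 1, -1] : Fin 8 → ℤ), (![0, 1, -1, 0, 0, 0, 1, -1] : Fin 8 → ℤ), (![-1, 1, 1, -1, 0, 1, -1, 0] : Fin 8 → ℤ), (![-1, 0, 0, 1, 0, -1, 0, 0] : Fin 8 → ℤ), (![1, -1, 0, 0, 0, 1, -1, 0] : Fin 8 → ℤ), (![1, 1, 0, -1, 1, -1, 0, 0] : Fin 8 → ℤ), (![0, 0, 0, -1, 1, 0, 0, 1] : Fin 8 → ℤ), (![0, -1, -1, 1, 0, 0, 1, -1] : Fin 8 → ℤ), (![-1, -1, 1, 0, 0, 1, -1, 0] : Fin 8 → ℤ), (![0, 1, -1, 0, 0, 1, -1, 0] : Fin 8 → ℤ), (![-1, 1, 1, -1, 1, -1, 0, 0] : Fin 8 → ℤ), (![1, -1, 0, 0, 1, -1, 0, 0] : Fin 8 → ℤ), (![1,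 1, 0, 0, -1, 0, 0, 0] : Fin 8 → ℤ), (![0, 0, 0, 0, -1, 1, 0, 1] : Fin 8 → ℤ), (![0, 0, 0, -1, 1, 0, 1, -1] : Fin 8 → ℤ), (![0, -1, -1, 1, 0, 1, -1, 0] : Fin 8 → ℤ), (![-1, -1, 1, 0, 1, -1, 0, 0] : Fin 8 → ℤ), (![0, 1, -1, 0, 1, -1, 0, 0] : Fin 8 → ℤ), (![-1, 1, 1, 0, -1, 0, 0, 0] : Fin 8 → ℤ), (![1, -1, 0, 1, -1, 0, 0, 0] : Fin 8 → ℤ), (![0, 0, 0, 0, 0, -1, 1, 1] : Fin 8 → ℤ), (![0, 0, 0, 0, -1, 1, 1, -1] : Fin 8 → ℤ), (![0, 0, 0, -1, 1, 1, -1, 0] : Fin 8 → ℤ), (![0, -1, -1, 1, 1, -1, 0, 0] : Fin 8 → ℤ), (![-1, -1, 1, 1, -1, 0, 0, 0] : Fin 8 → ℤ), (![0, 1, -1, 1, -1, 0, 0, 0] : Fin 8 → ℤ), (![1, 0, 1, -1, 0, 0, 0, 0] : Fin 8 → ℤ), (![0, 0, 0, 0, 0, 0, -1, 2] : Fin 8 → ℤ), (![0, 0, 0, 0, 0, -1, 2, -1] : Fin 8 → ℤ), (![0, 0, 0, 0, -1, 2, -1, 0] : Fin 8 → ℤ), (![0, 0, 0, -1, 2, -1, 0, 0] : Fin 8 → ℤ), (![0, -1, -1, 2, -1, 0, 0, 0] : Fin 8 → ℤ), (![-1, 0, 2, -1, 0, 0,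 0, 0] : Fin 8 → ℤ), (![0, 2, 0, -1, 0, 0, 0, 0] : Fin 8 → ℤ), (![2, 0, -1, 0, 0, 0, 0, 0] : Fin 8 → ℤ), (![0, 0, 0, 0, 0, 0, 1, -2] : Fin 8 → ℤ), (![0, 0, 0, 0, 0, 1, -2, 1] : Fin 8 → ℤ), (![0, 0, 0, 0, 1, -2, 1, 0] : Fin 8 → ℤ), (![0, 0, 0, 1, -2, 1, 0, 0] : Fin 8 → ℤ), (![0, 1, 1, -2, 1, 0, 0, 0] : Fin 8 → ℤ), (![1, 0, -2, 1, 0, 0, 0, 0] : Fin 8 → ℤ), (![0, -2, 0, 1, 0, 0, 0, 0] : Fin 8 → ℤ), (![-2, 0, 1, 0, 0, 0, 0, 0] : Fin 8 → ℤ), (![0, 0, 0, 0, 0, 1, -1, -1] : Fin 8 → ℤ), (![0, 0, 0, 0, 1, -1, -1, 1] : Fin 8 → ℤ), (![0, 0, 0, 1, -1, -1, 1, 0] : Fin 8 → ℤ), (![0, 1, 1, -1, -1, 1, 0, 0] : Fin 8 → ℤ), (![0, -1, 1, -1, 1, 0, 0, 0] : Fin 8 → ℤ), (![1, 1, -1, -1, 1, 0, 0, 0] : Fin 8 → ℤ), (![-1, 0, -1, 1, 0, 0, 0, 0] : Fin 8 → ℤ), (![0, 0, 0, 0, 1, -1, 0, -1] : Fin 8 → ℤ), (![0, 0, 0, 1, -1, 0, -1, 1] : Fin 8 → ℤ), (![0, 1, 1, -1, 0, -1, 1, 0] : Fin 8 → ℤ), (![0,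 -1, 1, 0, -1, 1, 0, 0] : Fin 8 → ℤ), (![1, 1, -1, 0, -1, 1, 0, 0] : Fin 8 → ℤ), (![1, -1, -1, 0, 1, 0, 0, 0] : Fin 8 → ℤ), (![-1, 1, 0, -1, 1, 0, 0, 0] : Fin 8 → ℤ), (![0, 0, 0, 1, -1, 0, 0, -1] : Fin 8 → ℤ), (![0, 1, 1, -1, 0, 0, -1, 1] : Fin 8 → ℤ), (![0, -1, 1, 0, 0, -1, 1, 0] : Fin 8 → ℤ), (![1, 1, -1, 0, 0, -1, 1, 0] : Fin 8 → ℤ), (![1, -1, -1, 1, -1, 1, 0, 0] : Fin 8 → ℤ), (![-1, 1, 0, 0, -1, 1, 0, 0] : Fin 8 → ℤ), (![-1, -1, 0, 0, 1, 0, 0, 0] : Fin 8 → ℤ), (![0, 1, 1, -1, 0, 0, 0, -1] : Fin 8 → ℤ), (![0, -1, 1, 0, 0, 0, -1, 1] : Fin 8 → ℤ), (![1, 1, -1, 0, 0, 0, -1, 1] : Fin 8 → ℤ), (![1, -1, -1, 1, 0, -1, 1, 0] : Fin 8 → ℤ), (![-1, 1, 0, 0, 0, -1, 1, 0] : Fin 8 → ℤ), (![-1, -1, 0, 1, -1, 1, 0, 0] : Fin 8 → ℤ), (![1, 0, 0, -1, 0, 1, 0, 0] : Fin 8 → ℤ), (![0, -1, 1, 0, 0, 0, 0, -1] : Fin 8 → ℤ), (![1, 1, -1, 0, 0, 0, 0, -1] : Fin 8 → ℤ), (![1, -1, -1, 1, 0,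 0, -1, 1] : Fin 8 → ℤ), (![-1, 1, 0, 0, 0, 0, -1, 1] : Fin 8 → ℤ), (![-1, -1, 0, 1, 0, -1, 1, 0] : Fin 8 → ℤ), (![1, 0, 0, -1, 1, -1, 1, 0] : Fin 8 → ℤ), (![-1, 0, 1, -1, 0, 1, 0, 0] : Fin 8 → ℤ), (![1, -1, -1, 1, 0, 0, 0, -1] : Fin 8 → ℤ), (![-1, 1, 0, 0, 0, 0, 0, -1] : Fin 8 → ℤ), (![-1, -1, 0, 1, 0, 0, -1, 1] : Fin 8 → ℤ), (![1, 0, 0, -1, 1, 0, -1, 1] : Fin 8 → ℤ), (![-1, 0, 1, -1, 1, -1, 1, 0] : Fin 8 → ℤ), (![1, 0, 0, 0, -1, 0, 1, 0] : Fin 8 → ℤ), (![0, 0, -1, 0, 0, 1, 0, 0] : Fin 8 → ℤ), (![-1, -1, 0, 1, 0, 0, 0, -1] : Fin 8 → ℤ), (![1, 0, 0, -1, 1, 0, 0, -1] : Fin 8 → ℤ), (![-1, 0, 1, -1, 1, 0, -1, 1] : Fin 8 → ℤ), (![1, 0, 0, 0, -1, 1, -1, 1] : Fin 8 → ℤ), (![0, 0, -1, 0, 1, -1, 1, 0] : Fin 8 → ℤ), (![-1, 0, 1, 0, -1, 0, 1, 0] : Fin 8 → ℤ), (![-1, 0, 1, -1, 1, 0, 0, -1] : Fin 8 → ℤ), (![1, 0, 0, 0, -1, 1, 0, -1] : Fin 8 → ℤ), (![0, 0, -1, 0, 1, 0, -1, 1] :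 Fin 8 → ℤ), (![-1, 0, 1, 0, -1, 1, -1, 1] : Fin 8 → ℤ), (![1, 0, 0, 0, 0, -1, 0, 1] : Fin 8 → ℤ), (![0, 0, -1, 1, -1, 0, 1, 0] : Fin 8 → ℤ), (![0, 0, -1, 0, 1, 0, 0, -1] : Fin 8 → ℤ), (![-1, 0, 1, 0, -1, 1, 0, -1] : Fin 8 → ℤ), (![1, 0, 0, 0, 0, -1, 1, -1] : Fin 8 → ℤ), (![0, 0, -1, 1, -1, 1, -1, 1] : Fin 8 → ℤ), (![-1, 0, 1, 0, 0, -1, 0, 1] : Fin 8 → ℤ), (![0, 1, 0, -1, 0, 0, 1, 0] : Fin 8 → ℤ), (![0, 0, -1, 1, -1, 1, 0, -1] : Fin 8 → ℤ), (![-1, 0, 1, 0, 0, -1, 1, -1] : Fin 8 → ℤ), (![1, 0, 0, 0, 0, 0, -1, 0] : Fin 8 → ℤ), (![0, 1, 0, -1, 0, 1, -1, 1] : Fin 8 → ℤ), (![0, 0, -1, 1, 0, -1, 0, 1] : Fin 8 → ℤ), (![0, -1, 0, 0, 0, 0, 1, 0] : Fin 8 → ℤ), (![0, 1, 0, -1, 0, 1, 0, -1] : Fin 8 → ℤ), (![0, 0, -1, 1, 0, -1, 1, -1] : Fin 8 → ℤ), (![-1, 0, 1, 0, 0, 0, -1, 0] : Fin 8 → ℤ), (![0, -1, 0, 0, 0, 1, -1, 1] : Fin 8 → ℤ), (![0, 1, 0, -1, 1, -1, 0, 1] : Fin 8 → ℤ), (![0,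 -1, 0, 0, 0, 1, 0, -1] : Fin 8 → ℤ), (![0, 1, 0, -1, 1, -1, 1, -1] : Fin 8 → ℤ), (![0, 0, -1, 1, 0, 0, -1, 0] : Fin 8 → ℤ), (![0, -1, 0, 0, 1, -1, 0, 1] : Fin 8 → ℤ), (![0, 1, 0, 0, -1, 0, 0, 1] : Fin 8 → ℤ), (![0, -1, 0, 0, 1, -1, 1, -1] : Fin 8 → ℤ), (![0, 1, 0, 0, -1, 0, 1, -1] : Fin 8 → ℤ), (![0, 1, 0, -1, 1, 0, -1, 0] : Fin 8 → ℤ), (![0, -1, 0, 1, -1, 0, 0, 1] : Fin 8 → ℤ), (![0, -1, 0, 1, -1, 0, 1, -1] : Fin 8 → ℤ), (![0, -1, 0, 0, 1, 0, -1, 0] : Fin 8 → ℤ), (![0, 1, 0, 0, -1, 1, -1, 0] : Fin 8 → ℤ), (![0, 0, 1, -1, 0, 0, 0, 1] : Fin 8 → ℤ), (![0, 0, 1, -1, 0, 0, 1, -1] : Fin 8 → ℤ), (![0, -1, 0, 1, -1, 1, -1, 0] : Fin 8 → ℤ), (![0, 1, 0, 0, 0, -1, 0, 0] : Fin 8 → ℤ), (![1, 0, -1, 0, 0, 0, 0, 1] : Fin 8 → ℤ), (![1, 0, -1, 0, 0, 0, 1, -1] : Fin 8 → ℤ), (![0, 0, 1, -1, 0, 1, -1, 0] : Fin 8 → ℤ), (![0, -1, 0, 1, 0, -1, 0, 0] : Fin 8 → ℤ), (![-1, 0, 0, 0, 0, 0,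 0, 1] : Fin 8 → ℤ), (![-1, 0, 0, 0, 0, 0, 1, -1] : Fin 8 → ℤ), (![1, 0, -1, 0, 0, 1, -1, 0] : Fin 8 → ℤ), (![0, 0, 1, -1, 1, -1, 0, 0] : Fin 8 → ℤ), (![-1, 0, 0, 0, 0, 1, -1, 0] : Fin 8 → ℤ), (![1, 0, -1, 0, 1, -1, 0, 0] : Fin 8 → ℤ), (![0, 0, 1, 0, -1, 0, 0, 0] : Fin 8 → ℤ), (![-1, 0, 0, 0, 1, -1, 0, 0] : Fin 8 → ℤ), (![1, 0, -1, 1, -1, 0, 0, 0] : Fin 8 → ℤ), (![-1, 0, 0, 1, -1, 0, 0, 0] : Fin 8 → ℤ), (![1, 1, 0, -1, 0, 0, 0, 0] : Fin 8 → ℤ), (![-1, 1, 1, -1, 0, 0, 0, 0] : Fin 8 → ℤ), (![1, -1, 0, 0, 0, 0, 0, 0] : Fin 8 → ℤ), (![-1, -1, 1, 0, 0, 0, 0, 0] : Fin 8 → ℤ), (![0, 1, -1, 0, 0, 0, 0, 0] : Fin 8 → ℤ), (![0, -1, -1, 1, 0, 0, 0, 0] : Fin 8 → ℤ), (![0, 0, 0, -1, 1, 0, 0, 0] : Fin 8 → ℤ), (![0, 0, 0, 0, -1, 1, 0, 0] : Fin 8 → ℤ), (![0, 0, 0, 0, 0, -1, 1, 0] : Fin 8 → ℤ), (![0, 0, 0, 0, 0, 0, -1, 1] : Fin 8 → ℤ), (![0, 0, 0, 0, 0, 0, 0, -1] : Fin 8 → ℤ)]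
theorem map0 : reps0.map fv0 = vecs0 := by
  simp only [reps0, List.map_cons, List.map_nil, v0_0, v0_1, v0_2, v0_3, v0_4, v0_5, v0_6, v0_7, v0_8, v0_9, v0_10, v0_11, v0_12, v0_13, v0_14, v0_15, v0_16, v0_17, v0_18, v0_19, v0_20, v0_21, v0_22, v0_23, v0_24, v0_25, v0_26, v0_27, v0_28, v0_29, v0_30, v0_31, v0_32, v0_33, v0_34, v0_35, v0_36, v0_37, v0_38, v0_39, v0_40, v0_41, v0_42, v0_43, v0_44, v0_45, v0_46, v0_47, v0_48, v0_49, v0_50, v0_51, v0_52, v0_53, v0_54, v0_55, v0_56, v0_57, v0_58, v0_59, v0_60, v0_61, v0_62, v0_63, v0_64, v0_65, v0_66, v0_67, v0_68, v0_69, v0_70, v0_71, v0_72, v0_73, v0_74, v0_75, v0_76, v0_77, v0_78, v0_79, v0_80, v0_81, v0_82, v0_83, v0_84, v0_85, v0_86, v0_87, v0_88, v0_89, v0_90, v0_91, v0_92, v0_93, v0_94, v0_95, v0_96, v0_97, v0_98, v0_99, v0_100, v0_101, v0_102, v0_103, v0_104, v0_105, v0_106, v0_107, v0_108, v0_109, v0_110, v0_111,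 v0_112, v0_113, v0_114, v0_115, v0_116, v0_117, v0_118, v0_119, v0_120, v0_121, v0_122, v0_123, v0_124, v0_125, v0_126, v0_127, v0_128, v0_129, v0_130, v0_131, v0_132, v0_133, v0_134, v0_135, v0_136, v0_137, v0_138, v0_139, v0_140, v0_141, v0_142, v0_143, v0_144, v0_145, v0_146, v0_147, v0_148, v0_149, v0_150, v0_151, v0_152, v0_153, v0_154, v0_155, v0_156, v0_157, v0_158, v0_159, v0_160, v0_161, v0_162, v0_163, v0_164, v0_165, v0_166, v0_167, v0_168, v0_169, v0_170, v0_171, v0_172, v0_173, v0_174, v0_175, v0_176, v0_177, v0_178, v0_179, v0_180, v0_181, v0_182, v0_183, v0_184, v0_185, v0_186, v0_187, v0_188, v0_189, v0_190, v0_191, v0_192, v0_193, v0_194, v0_195, v0_196, v0_197, v0_198, v0_199, v0_200, v0_201, v0_202, v0_203, v0_204, v0_205, v0_206, v0_207, v0_208, v0_209, v0_210, v0_211, v0_212, v0_213, v0_214, v0_215, v0_216, v0_217, v0_218, v0_219, v0_220, v0_221,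 v0_222, v0_223, v0_224, v0_225, v0_226, v0_227, v0_228, v0_229, v0_230, v0_231, v0_232, v0_233, v0_234, v0_235, v0_236, v0_237, v0_238, v0_239]
  rfl
theorem nd0 : (reps0.map fv0).Nodup := by rw [map0]; decide +kernel
theorem fix0 : ∀ h ∈ gens M J1, ∀ w, fv0 (h * w) = fv0 w := by
  rintro h ⟨j, hj, rfl⟩ w
  simp only [J1, List.mem_cons, List.not_mem_nil, or_false] at hj
  rcases hj with rfl | rfl | rfl | rfl | rfl | rfl | rfl
  all_goals exact fvec_fix M A hA base0 _ (by decide +kernel) w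
theorem sub0 : gens M J1 ⊆ gens M J0 := gens_mono M (by decide)
theorem card0 : Nat.card (Subgroup.closure (gens M J0)) = Nat.card (Subgroup.closure (gens M J1)) * 240 :=
  level_card (gens M J0) (gens M J1) sub0 (gens_inv M J0) reps0 mr0_0 (fun u hu => (allP0 u hu).1) (fun u hu => (allP0 u hu).2) fv0 fix0 nd0
theorem ker0 : ∀ w ∈ Subgroup.closure (gens M J0), fv0 w = fv0 1 → w ∈ Subgroup.closure (gens M J1) :=
  level_ker (gens M J0) (gens M J1) (gens_inv M J0) reps0 mr0_0 (fun u hu => (allP0 u hu).2) fv0 fix0 nd0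

-- level 1: index 56
def base1 : Fin 8 → ℤ := ![0, 0, 0, 0, 0, 0, 1, 0]
def fv1 : W → (Fin 8 → ℤ) := fvec M A hA base1
def u1_0 : W := 1
def u1_1 : W := u1_0 * s 6
def u1_2 : W := u1_1 * s 5
def u1_3 : W := u1_2 * s 4
def u1_4 : W := u1_3 * s 3
def u1_5 : W := u1_4 * s 1
def u1_6 : W := u1_4 * s 2
def u1_7 : W := u1_5 * s 2
def u1_8 : W := u1_6 * s 0
def u1_9 : W := u1_7 * s 0
def u1_10 : W := u1_7 * s 3
def u1_11 : W := u1_9 * s 3
def u1_12 : W := u1_10 * s 4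
def u1_13 : W := u1_11 * s 2
def u1_14 : W := u1_11 * s 4
def u1_15 : W := u1_12 * s 5
def u1_16 : W := u1_13 * s 4
def u1_17 : W := u1_14 * s 5
def u1_18 : W := u1_15 * s 6
def u1_19 : W := u1_16 * s 3
def u1_20 : W := u1_16 * s 5
def u1_21 : W := u1_17 * s 6
def u1_22 : W := u1_19 * s 1
def u1_23 : W := u1_19 * s 5
def u1_24 : W := u1_20 * s 6
def u1_25 : W := u1_22 * s 5
def u1_26 : W := u1_23 * s 4
def u1_27 : W := u1_23 * s 6
def u1_28 : W := u1_25 * s 4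
def u1_29 : W := u1_25 * s 6
def u1_30 : W := u1_26 * s 6
def u1_31 : W := u1_28 * s 3
def u1_32 : W := u1_28 * s 6
def u1_33 : W := u1_30 * s 5
def u1_34 : W := u1_31 * s 2
def u1_35 : W := u1_31 * s 6
def u1_36 : W := u1_32 * s 5
def u1_37 : W := u1_34 * s 0
def u1_38 : W := u1_34 * s 6
def u1_39 : W := u1_35 * s 5
def u1_40 : W := u1_37 * s 6
def u1_41 : W := u1_38 * s 5
def u1_42 : W := u1_39 * s 4
def u1_43 : W := u1_40 * s 5
def u1_44 : W := u1_41 * s 4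
def u1_45 : W := u1_43 * s 4
def u1_46 : W := u1_44 * s 3
def u1_47 : W := u1_45 * s 3
def u1_48 : W := u1_46 * s 1
def u1_49 : W := u1_47 * s 1
def u1_50 : W := u1_47 * s 2
def u1_51 : W := u1_49 * s 2
def u1_52 : W := u1_51 * s 3
def u1_53 : W := u1_52 * s 4
def u1_54 : W := u1_53 * s 5
def u1_55 : W := u1_54 * s 6
def reps1 : List W := [u1_0, u1_1, u1_2, u1_3, u1_4, u1_5, u1_6, u1_7, u1_8, u1_9, u1_10, u1_11, u1_12, u1_13, u1_14, u1_15, u1_16, u1_17, u1_18, u1_19, u1_20, u1_21, u1_22, u1_23, u1_24, u1_25, u1_26, u1_27, u1_28, u1_29, u1_30, u1_31, u1_32, u1_33, u1_34, u1_35, u1_36, u1_37, u1_38, u1_39, u1_40, u1_41, u1_42, u1_43, u1_44, u1_45, u1_46, u1_47, u1_48, u1_49, u1_50, u1_51, u1_52, u1_53, u1_54, u1_55]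
theorem v1_0 : fv1 u1_0 = ![0, 0, 0, 0, 0, 0, 1, 0] := fvec_one M A hA base1
theorem v1_1 : fv1 u1_1 = ![0, 0, 0, 0, 0, 1, -1, 1] := by
  show fvec M A hA base1 (u1_0 * M.simple 6) = _
  rw [fvec_mul_simple]; show reflVec A 6 (fv1 u1_0) = _; rw [v1_0]; decide +kernel
theorem v1_2 : fv1 u1_2 = ![0, 0, 0, 0, 1, -1, 0, 1] := by
  show fvec M A hA base1 (u1_1 * M.simple 5) = _
  rw [fvec_mul_simple]; show reflVec A 5 (fv1 u1_1) = _; rw [v1_1]; decide +kernel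
theorem v1_3 : fv1 u1_3 = ![0, 0, 0, 1, -1, 0, 0, 1] := by
  show fvec M A hA base1 (u1_2 * M.simple 4) = _
  rw [fvec_mul_simple]; show reflVec A 4 (fv1 u1_2) = _; rw [v1_2]; decide +kernel
theorem v1_4 : fv1 u1_4 = ![0, 1, 1, -1, 0, 0, 0, 1] := by
  show fvec M A hA base1 (u1_3 * M.simple 3) = _
  rw [fvec_mul_simple]; show reflVec A 3 (fv1 u1_3) = _; rw [v1_3]; decide +kernel
theorem v1_5 : fv1 u1_5 = ![0, -1, 1, 0, 0, 0, 0, 1] := by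
  show fvec M A hA base1 (u1_4 * M.simple 1) = _
  rw [fvec_mul_simple]; show reflVec A 1 (fv1 u1_4) = _; rw [v1_4]; decide +kernel
theorem v1_6 : fv1 u1_6 = ![1, 1, -1, 0, 0, 0, 0, 1] := by
  show fvec M A hA base1 (u1_4 * M.simple 2) = _
  rw [fvec_mul_simple]; show reflVec A 2 (fv1 u1_4) = _; rw [v1_4]; decide +kernel
theorem v1_7 : fv1 u1_7 = ![1, -1, -1, 1, 0, 0, 0, 1] := by
  show fvec M A hA base1 (u1_5 * M.simple 2) = _
  rw [fvec_mul_simple]; show reflVec A 2 (fv1 u1_5) = _; rw [v1_5]; decide +kernel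
theorem v1_8 : fv1 u1_8 = ![-1, 1, 0, 0, 0, 0, 0, 1] := by
  show fvec M A hA base1 (u1_6 * M.simple 0) = _
  rw [fvec_mul_simple]; show reflVec A 0 (fv1 u1_6) = _; rw [v1_6]; decide +kernel
theorem v1_9 : fv1 u1_9 = ![-1, -1, 0, 1, 0, 0, 0, 1] := by
  show fvec M A hA base1 (u1_7 * M.simple 0) = _
  rw [fvec_mul_simple]; show reflVec A 0 (fv1 u1_7) = _; rw [v1_7]; decide +kernel
theorem v1_10 : fv1 u1_10 = ![1, 0, 0, -1, 1, 0, 0, 1] := by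
  show fvec M A hA base1 (u1_7 * M.simple 3) = _
  rw [fvec_mul_simple]; show reflVec A 3 (fv1 u1_7) = _; rw [v1_7]; decide +kernel
theorem v1_11 : fv1 u1_11 = ![-1, 0, 1, -1, 1, 0, 0, 1] := by
  show fvec M A hA base1 (u1_9 * M.simple 3) = _
  rw [fvec_mul_simple]; show reflVec A 3 (fv1 u1_9) = _; rw [v1_9]; decide +kernel
theorem v1_12 : fv1 u1_12 = ![1, 0, 0, 0, -1, 1, 0, 1] := by
  show fvec M A hA base1 (u1_10 * M.simple 4) = _
  rw [fvec_mul_simple]; show reflVec A 4 (fv1 u1_10) = _; rw [v1_10]; decide +kernel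
theorem v1_13 : fv1 u1_13 = ![0, 0, -1, 0, 1, 0, 0, 1] := by
  show fvec M A hA base1 (u1_11 * M.simple 2) = _
  rw [fvec_mul_simple]; show reflVec A 2 (fv1 u1_11) = _; rw [v1_11]; decide +kernel
theorem v1_14 : fv1 u1_14 = ![-1, 0, 1, 0, -1, 1, 0, 1] := by
  show fvec M A hA base1 (u1_11 * M.simple 4) = _
  rw [fvec_mul_simple]; show reflVec A 4 (fv1 u1_11) = _; rw [v1_11]; decide +kernel
theorem v1_15 : fv1 u1_15 = ![1, 0, 0, 0, 0, -1, 1, 1] := by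
  show fvec M A hA base1 (u1_12 * M.simple 5) = _
  rw [fvec_mul_simple]; show reflVec A 5 (fv1 u1_12) = _; rw [v1_12]; decide +kernel
theorem v1_16 : fv1 u1_16 = ![0, 0, -1, 1, -1, 1, 0, 1] := by
  show fvec M A hA base1 (u1_13 * M.simple 4) = _
  rw [fvec_mul_simple]; show reflVec A 4 (fv1 u1_13) = _; rw [v1_13]; decide +kernel
theorem v1_17 : fv1 u1_17 = ![-1, 0, 1, 0, 0, -1, 1, 1] := by
  show fvec M A hA base1 (u1_14 * M.simple 5) = _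
  rw [fvec_mul_simple]; show reflVec A 5 (fv1 u1_14) = _; rw [v1_14]; decide +kernel
theorem v1_18 : fv1 u1_18 = ![1, 0, 0, 0, 0, 0, -1, 2] := by
  show fvec M A hA base1 (u1_15 * M.simple 6) = _
  rw [fvec_mul_simple]; show reflVec A 6 (fv1 u1_15) = _; rw [v1_15]; decide +kernel
theorem v1_19 : fv1 u1_19 = ![0, 1, 0, -1, 0, 1, 0, 1] := by
  show fvec M A hA base1 (u1_16 * M.simple 3) = _
  rw [fvec_mul_simple]; show reflVec A 3 (fv1 u1_16) = _; rw [v1_16]; decide +kernel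
theorem v1_20 : fv1 u1_20 = ![0, 0, -1, 1, 0, -1, 1, 1] := by
  show fvec M A hA base1 (u1_16 * M.simple 5) = _
  rw [fvec_mul_simple]; show reflVec A 5 (fv1 u1_16) = _; rw [v1_16]; decide +kernel
theorem v1_21 : fv1 u1_21 = ![-1, 0, 1, 0, 0, 0, -1, 2] := by
  show fvec M A hA base1 (u1_17 * M.simple 6) = _
  rw [fvec_mul_simple]; show reflVec A 6 (fv1 u1_17) = _; rw [v1_17]; decide +kernel
theorem v1_22 : fv1 u1_22 = ![0, -1, 0, 0, 0, 1, 0, 1] := by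
  show fvec M A hA base1 (u1_19 * M.simple 1) = _
  rw [fvec_mul_simple]; show reflVec A 1 (fv1 u1_19) = _; rw [v1_19]; decide +kernel
theorem v1_23 : fv1 u1_23 = ![0, 1, 0, -1, 1, -1, 1, 1] := by
  show fvec M A hA base1 (u1_19 * M.simple 5) = _
  rw [fvec_mul_simple]; show reflVec A 5 (fv1 u1_19) = _; rw [v1_19]; decide +kernel
theorem v1_24 : fv1 u1_24 = ![0, 0, -1, 1, 0, 0, -1, 2] := by
  show fvec M A hA base1 (u1_20 * M.simple 6) = _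
  rw [fvec_mul_simple]; show reflVec A 6 (fv1 u1_20) = _; rw [v1_20]; decide +kernel
theorem v1_25 : fv1 u1_25 = ![0, -1, 0, 0, 1, -1, 1, 1] := by
  show fvec M A hA base1 (u1_22 * M.simple 5) = _
  rw [fvec_mul_simple]; show reflVec A 5 (fv1 u1_22) = _; rw [v1_22]; decide +kernel
theorem v1_26 : fv1 u1_26 = ![0, 1, 0, 0, -1, 0, 1, 1] := by
  show fvec M A hA base1 (u1_23 * M.simple 4) = _
  rw [fvec_mul_simple]; show reflVec A 4 (fv1 u1_23) = _; rw [v1_23]; decide +kernel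
theorem v1_27 : fv1 u1_27 = ![0, 1, 0, -1, 1, 0, -1, 2] := by
  show fvec M A hA base1 (u1_23 * M.simple 6) = _
  rw [fvec_mul_simple]; show reflVec A 6 (fv1 u1_23) = _; rw [v1_23]; decide +kernel
theorem v1_28 : fv1 u1_28 = ![0, -1, 0, 1, -1, 0, 1, 1] := by
  show fvec M A hA base1 (u1_25 * M.simple 4) = _
  rw [fvec_mul_simple]; show reflVec A 4 (fv1 u1_25) = _; rw [v1_25]; decide +kernel
theorem v1_29 : fv1 u1_29 = ![0, -1, 0, 0, 1, 0, -1, 2] := by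
  show fvec M A hA base1 (u1_25 * M.simple 6) = _
  rw [fvec_mul_simple]; show reflVec A 6 (fv1 u1_25) = _; rw [v1_25]; decide +kernel
theorem v1_30 : fv1 u1_30 = ![0, 1, 0, 0, -1, 1, -1, 2] := by
  show fvec M A hA base1 (u1_26 * M.simple 6) = _
  rw [fvec_mul_simple]; show reflVec A 6 (fv1 u1_26) = _; rw [v1_26]; decide +kernel
theorem v1_31 : fv1 u1_31 = ![0, 0, 1, -1, 0, 0, 1, 1] := by
  show fvec M A hA base1 (u1_28 * M.simple 3) = _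
  rw [fvec_mul_simple]; show reflVec A 3 (fv1 u1_28) = _; rw [v1_28]; decide +kernel
theorem v1_32 : fv1 u1_32 = ![0, -1, 0, 1, -1, 1, -1, 2] := by
  show fvec M A hA base1 (u1_28 * M.simple 6) = _
  rw [fvec_mul_simple]; show reflVec A 6 (fv1 u1_28) = _; rw [v1_28]; decide +kernel
theorem v1_33 : fv1 u1_33 = ![0, 1, 0, 0, 0, -1, 0, 2] := by
  show fvec M A hA base1 (u1_30 * M.simple 5) = _
  rw [fvec_mul_simple]; show reflVec A 5 (fv1 u1_30) = _; rw [v1_30]; decide +kernel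
theorem v1_34 : fv1 u1_34 = ![1, 0, -1, 0, 0, 0, 1, 1] := by
  show fvec M A hA base1 (u1_31 * M.simple 2) = _
  rw [fvec_mul_simple]; show reflVec A 2 (fv1 u1_31) = _; rw [v1_31]; decide +kernel
theorem v1_35 : fv1 u1_35 = ![0, 0, 1, -1, 0, 1, -1, 2] := by
  show fvec M A hA base1 (u1_31 * M.simple 6) = _
  rw [fvec_mul_simple]; show reflVec A 6 (fv1 u1_31) = _; rw [v1_31]; decide +kernel
theorem v1_36 : fv1 u1_36 = ![0, -1, 0, 1, 0, -1, 0, 2] := by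
  show fvec M A hA base1 (u1_32 * M.simple 5) = _
  rw [fvec_mul_simple]; show reflVec A 5 (fv1 u1_32) = _; rw [v1_32]; decide +kernel
theorem v1_37 : fv1 u1_37 = ![-1, 0, 0, 0, 0, 0, 1, 1] := by
  show fvec M A hA base1 (u1_34 * M.simple 0) = _
  rw [fvec_mul_simple]; show reflVec A 0 (fv1 u1_34) = _; rw [v1_34]; decide +kernel
theorem v1_38 : fv1 u1_38 = ![1, 0, -1, 0, 0, 1, -1, 2] := by
  show fvec M A hA base1 (u1_34 * M.simple 6) = _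
  rw [fvec_mul_simple]; show reflVec A 6 (fv1 u1_34) = _; rw [v1_34]; decide +kernel
theorem v1_39 : fv1 u1_39 = ![0, 0, 1, -1, 1, -1, 0, 2] := by
  show fvec M A hA base1 (u1_35 * M.simple 5) = _
  rw [fvec_mul_simple]; show reflVec A 5 (fv1 u1_35) = _; rw [v1_35]; decide +kernel
theorem v1_40 : fv1 u1_40 = ![-1, 0, 0, 0, 0, 1, -1, 2] := by
  show fvec M A hA base1 (u1_37 * M.simple 6) = _
  rw [fvec_mul_simple]; show reflVec A 6 (fv1 u1_37) = _; rw [v1_37]; decide +kernel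
theorem v1_41 : fv1 u1_41 = ![1, 0, -1, 0, 1, -1, 0, 2] := by
  show fvec M A hA base1 (u1_38 * M.simple 5) = _
  rw [fvec_mul_simple]; show reflVec A 5 (fv1 u1_38) = _; rw [v1_38]; decide +kernel
theorem v1_42 : fv1 u1_42 = ![0, 0, 1, 0, -1, 0, 0, 2] := by
  show fvec M A hA base1 (u1_39 * M.simple 4) = _
  rw [fvec_mul_simple]; show reflVec A 4 (fv1 u1_39) = _; rw [v1_39]; decide +kernel
theorem v1_43 : fv1 u1_43 = ![-1, 0, 0, 0, 1, -1, 0, 2] := by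
  show fvec M A hA base1 (u1_40 * M.simple 5) = _
  rw [fvec_mul_simple]; show reflVec A 5 (fv1 u1_40) = _; rw [v1_40]; decide +kernel
theorem v1_44 : fv1 u1_44 = ![1, 0, -1, 1, -1, 0, 0, 2] := by
  show fvec M A hA base1 (u1_41 * M.simple 4) = _
  rw [fvec_mul_simple]; show reflVec A 4 (fv1 u1_41) = _; rw [v1_41]; decide +kernel
theorem v1_45 : fv1 u1_45 = ![-1, 0, 0, 1, -1, 0, 0, 2] := by
  show fvec M A hA base1 (u1_43 * M.simple 4) = _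
  rw [fvec_mul_simple]; show reflVec A 4 (fv1 u1_43) = _; rw [v1_43]; decide +kernel
theorem v1_46 : fv1 u1_46 = ![1, 1, 0, -1, 0, 0, 0, 2] := by
  show fvec M A hA base1 (u1_44 * M.simple 3) = _
  rw [fvec_mul_simple]; show reflVec A 3 (fv1 u1_44) = _; rw [v1_44]; decide +kernel
theorem v1_47 : fv1 u1_47 = ![-1, 1, 1, -1, 0, 0, 0, 2] := by
  show fvec M A hA base1 (u1_45 * M.simple 3) = _
  rw [fvec_mul_simple]; show reflVec A 3 (fv1 u1_45) = _; rw [v1_45]; decide +kernel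
theorem v1_48 : fv1 u1_48 = ![1, -1, 0, 0, 0, 0, 0, 2] := by
  show fvec M A hA base1 (u1_46 * M.simple 1) = _
  rw [fvec_mul_simple]; show reflVec A 1 (fv1 u1_46) = _; rw [v1_46]; decide +kernel
theorem v1_49 : fv1 u1_49 = ![-1, -1, 1, 0, 0, 0, 0, 2] := by
  show fvec M A hA base1 (u1_47 * M.simple 1) = _
  rw [fvec_mul_simple]; show reflVec A 1 (fv1 u1_47) = _; rw [v1_47]; decide +kernel
theorem v1_50 : fv1 u1_50 = ![0, 1, -1, 0, 0, 0, 0, 2] := by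
  show fvec M A hA base1 (u1_47 * M.simple 2) = _
  rw [fvec_mul_simple]; show reflVec A 2 (fv1 u1_47) = _; rw [v1_47]; decide +kernel
theorem v1_51 : fv1 u1_51 = ![0, -1, -1, 1, 0, 0, 0, 2] := by
  show fvec M A hA base1 (u1_49 * M.simple 2) = _
  rw [fvec_mul_simple]; show reflVec A 2 (fv1 u1_49) = _; rw [v1_49]; decide +kernel
theorem v1_52 : fv1 u1_52 = ![0, 0, 0, -1, 1, 0, 0, 2] := by
  show fvec M A hA base1 (u1_51 * M.simple 3) = _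
  rw [fvec_mul_simple]; show reflVec A 3 (fv1 u1_51) = _; rw [v1_51]; decide +kernel
theorem v1_53 : fv1 u1_53 = ![0, 0, 0, 0, -1, 1, 0, 2] := by
  show fvec M A hA base1 (u1_52 * M.simple 4) = _
  rw [fvec_mul_simple]; show reflVec A 4 (fv1 u1_52) = _; rw [v1_52]; decide +kernel
theorem v1_54 : fv1 u1_54 = ![0, 0, 0, 0, 0, -1, 1, 2] := by
  show fvec M A hA base1 (u1_53 * M.simple 5) = _
  rw [fvec_mul_simple]; show reflVec A 5 (fv1 u1_53) = _; rw [v1_53]; decide +kernel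
theorem v1_55 : fv1 u1_55 = ![0, 0, 0, 0, 0, 0, -1, 3] := by
  show fvec M A hA base1 (u1_54 * M.simple 6) = _
  rw [fvec_mul_simple]; show reflVec A 6 (fv1 u1_54) = _; rw [v1_54]; decide +kernel
theorem e1_0_6 : u1_0 * s 6 = 1 * u1_1 := (one_mul (u1_0 * s 6)).symm
theorem e1_1_6 : u1_1 * s 6 = 1 * u1_0 := tree_up (s_sq 6)
theorem e1_1_5 : u1_1 * s 5 = 1 * u1_2 := (one_mul (u1_1 * s 5)).symm
theorem e1_2_5 : u1_2 * s 5 = 1 * u1_1 := tree_up (s_sq 5)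
theorem e1_2_4 : u1_2 * s 4 = 1 * u1_3 := (one_mul (u1_2 * s 4)).symm
theorem e1_3_4 : u1_3 * s 4 = 1 * u1_2 := tree_up (s_sq 4)
theorem e1_3_3 : u1_3 * s 3 = 1 * u1_4 := (one_mul (u1_3 * s 3)).symm
theorem e1_4_3 : u1_4 * s 3 = 1 * u1_3 := tree_up (s_sq 3)
theorem e1_4_1 : u1_4 * s 1 = 1 * u1_5 := (one_mul (u1_4 * s 1)).symm
theorem e1_5_1 : u1_5 * s 1 = 1 * u1_4 := tree_up (s_sq 1)
theorem e1_4_2 : u1_4 * s 2 = 1 * u1_6 := (one_mul (u1_4 * s 2)).symm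
theorem e1_6_2 : u1_6 * s 2 = 1 * u1_4 := tree_up (s_sq 2)
theorem e1_5_2 : u1_5 * s 2 = 1 * u1_7 := (one_mul (u1_5 * s 2)).symm
theorem e1_7_2 : u1_7 * s 2 = 1 * u1_5 := tree_up (s_sq 2)
theorem e1_6_0 : u1_6 * s 0 = 1 * u1_8 := (one_mul (u1_6 * s 0)).symm
theorem e1_8_0 : u1_8 * s 0 = 1 * u1_6 := tree_up (s_sq 0)
theorem e1_7_0 : u1_7 * s 0 = 1 * u1_9 := (one_mul (u1_7 * s 0)).symm
theorem e1_9_0 : u1_9 * s 0 = 1 * u1_7 := tree_up (s_sq 0)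
theorem e1_7_3 : u1_7 * s 3 = 1 * u1_10 := (one_mul (u1_7 * s 3)).symm
theorem e1_10_3 : u1_10 * s 3 = 1 * u1_7 := tree_up (s_sq 3)
theorem e1_9_3 : u1_9 * s 3 = 1 * u1_11 := (one_mul (u1_9 * s 3)).symm
theorem e1_11_3 : u1_11 * s 3 = 1 * u1_9 := tree_up (s_sq 3)
theorem e1_10_4 : u1_10 * s 4 = 1 * u1_12 := (one_mul (u1_10 * s 4)).symm
theorem e1_12_4 : u1_12 * s 4 = 1 * u1_10 := tree_up (s_sq 4)
theorem e1_11_2 : u1_11 * s 2 = 1 * u1_13 := (one_mul (u1_11 * s 2)).symm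
theorem e1_13_2 : u1_13 * s 2 = 1 * u1_11 := tree_up (s_sq 2)
theorem e1_11_4 : u1_11 * s 4 = 1 * u1_14 := (one_mul (u1_11 * s 4)).symm
theorem e1_14_4 : u1_14 * s 4 = 1 * u1_11 := tree_up (s_sq 4)
theorem e1_12_5 : u1_12 * s 5 = 1 * u1_15 := (one_mul (u1_12 * s 5)).symm
theorem e1_15_5 : u1_15 * s 5 = 1 * u1_12 := tree_up (s_sq 5)
theorem e1_13_4 : u1_13 * s 4 = 1 * u1_16 := (one_mul (u1_13 * s 4)).symm
theorem e1_16_4 : u1_16 * s 4 = 1 * u1_13 := tree_up (s_sq 4)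
theorem e1_14_5 : u1_14 * s 5 = 1 * u1_17 := (one_mul (u1_14 * s 5)).symm
theorem e1_17_5 : u1_17 * s 5 = 1 * u1_14 := tree_up (s_sq 5)
theorem e1_15_6 : u1_15 * s 6 = 1 * u1_18 := (one_mul (u1_15 * s 6)).symm
theorem e1_18_6 : u1_18 * s 6 = 1 * u1_15 := tree_up (s_sq 6)
theorem e1_16_3 : u1_16 * s 3 = 1 * u1_19 := (one_mul (u1_16 * s 3)).symm
theorem e1_19_3 : u1_19 * s 3 = 1 * u1_16 := tree_up (s_sq 3)
theorem e1_16_5 : u1_16 * s 5 = 1 * u1_20 := (one_mul (u1_16 * s 5)).symm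
theorem e1_20_5 : u1_20 * s 5 = 1 * u1_16 := tree_up (s_sq 5)
theorem e1_17_6 : u1_17 * s 6 = 1 * u1_21 := (one_mul (u1_17 * s 6)).symm
theorem e1_21_6 : u1_21 * s 6 = 1 * u1_17 := tree_up (s_sq 6)
theorem e1_19_1 : u1_19 * s 1 = 1 * u1_22 := (one_mul (u1_19 * s 1)).symm
theorem e1_22_1 : u1_22 * s 1 = 1 * u1_19 := tree_up (s_sq 1)
theorem e1_19_5 : u1_19 * s 5 = 1 * u1_23 := (one_mul (u1_19 * s 5)).symm
theorem e1_23_5 : u1_23 * s 5 = 1 * u1_19 := tree_up (s_sq 5)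
theorem e1_20_6 : u1_20 * s 6 = 1 * u1_24 := (one_mul (u1_20 * s 6)).symm
theorem e1_24_6 : u1_24 * s 6 = 1 * u1_20 := tree_up (s_sq 6)
theorem e1_22_5 : u1_22 * s 5 = 1 * u1_25 := (one_mul (u1_22 * s 5)).symm
theorem e1_25_5 : u1_25 * s 5 = 1 * u1_22 := tree_up (s_sq 5)
theorem e1_23_4 : u1_23 * s 4 = 1 * u1_26 := (one_mul (u1_23 * s 4)).symm
theorem e1_26_4 : u1_26 * s 4 = 1 * u1_23 := tree_up (s_sq 4)
theorem e1_23_6 : u1_23 * s 6 = 1 * u1_27 := (one_mul (u1_23 * s 6)).symm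
theorem e1_27_6 : u1_27 * s 6 = 1 * u1_23 := tree_up (s_sq 6)
theorem e1_25_4 : u1_25 * s 4 = 1 * u1_28 := (one_mul (u1_25 * s 4)).symm
theorem e1_28_4 : u1_28 * s 4 = 1 * u1_25 := tree_up (s_sq 4)
theorem e1_25_6 : u1_25 * s 6 = 1 * u1_29 := (one_mul (u1_25 * s 6)).symm
theorem e1_29_6 : u1_29 * s 6 = 1 * u1_25 := tree_up (s_sq 6)
theorem e1_26_6 : u1_26 * s 6 = 1 * u1_30 := (one_mul (u1_26 * s 6)).symm
theorem e1_30_6 : u1_30 * s 6 = 1 * u1_26 := tree_up (s_sq 6)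
theorem e1_28_3 : u1_28 * s 3 = 1 * u1_31 := (one_mul (u1_28 * s 3)).symm
theorem e1_31_3 : u1_31 * s 3 = 1 * u1_28 := tree_up (s_sq 3)
theorem e1_28_6 : u1_28 * s 6 = 1 * u1_32 := (one_mul (u1_28 * s 6)).symm
theorem e1_32_6 : u1_32 * s 6 = 1 * u1_28 := tree_up (s_sq 6)
theorem e1_30_5 : u1_30 * s 5 = 1 * u1_33 := (one_mul (u1_30 * s 5)).symm
theorem e1_33_5 : u1_33 * s 5 = 1 * u1_30 := tree_up (s_sq 5)
theorem e1_31_2 : u1_31 * s 2 = 1 * u1_34 := (one_mul (u1_31 * s 2)).symm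
theorem e1_34_2 : u1_34 * s 2 = 1 * u1_31 := tree_up (s_sq 2)
theorem e1_31_6 : u1_31 * s 6 = 1 * u1_35 := (one_mul (u1_31 * s 6)).symm
theorem e1_35_6 : u1_35 * s 6 = 1 * u1_31 := tree_up (s_sq 6)
theorem e1_32_5 : u1_32 * s 5 = 1 * u1_36 := (one_mul (u1_32 * s 5)).symm
theorem e1_36_5 : u1_36 * s 5 = 1 * u1_32 := tree_up (s_sq 5)
theorem e1_34_0 : u1_34 * s 0 = 1 * u1_37 := (one_mul (u1_34 * s 0)).symm
theorem e1_37_0 : u1_37 * s 0 = 1 * u1_34 := tree_up (s_sq 0)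
theorem e1_34_6 : u1_34 * s 6 = 1 * u1_38 := (one_mul (u1_34 * s 6)).symm
theorem e1_38_6 : u1_38 * s 6 = 1 * u1_34 := tree_up (s_sq 6)
theorem e1_35_5 : u1_35 * s 5 = 1 * u1_39 := (one_mul (u1_35 * s 5)).symm
theorem e1_39_5 : u1_39 * s 5 = 1 * u1_35 := tree_up (s_sq 5)
theorem e1_37_6 : u1_37 * s 6 = 1 * u1_40 := (one_mul (u1_37 * s 6)).symm
theorem e1_40_6 : u1_40 * s 6 = 1 * u1_37 := tree_up (s_sq 6)
theorem e1_38_5 : u1_38 * s 5 = 1 * u1_41 := (one_mul (u1_38 * s 5)).symm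
theorem e1_41_5 : u1_41 * s 5 = 1 * u1_38 := tree_up (s_sq 5)
theorem e1_39_4 : u1_39 * s 4 = 1 * u1_42 := (one_mul (u1_39 * s 4)).symm
theorem e1_42_4 : u1_42 * s 4 = 1 * u1_39 := tree_up (s_sq 4)
theorem e1_40_5 : u1_40 * s 5 = 1 * u1_43 := (one_mul (u1_40 * s 5)).symm
theorem e1_43_5 : u1_43 * s 5 = 1 * u1_40 := tree_up (s_sq 5)
theorem e1_41_4 : u1_41 * s 4 = 1 * u1_44 := (one_mul (u1_41 * s 4)).symm
theorem e1_44_4 : u1_44 * s 4 = 1 * u1_41 := tree_up (s_sq 4)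
theorem e1_43_4 : u1_43 * s 4 = 1 * u1_45 := (one_mul (u1_43 * s 4)).symm
theorem e1_45_4 : u1_45 * s 4 = 1 * u1_43 := tree_up (s_sq 4)
theorem e1_44_3 : u1_44 * s 3 = 1 * u1_46 := (one_mul (u1_44 * s 3)).symm
theorem e1_46_3 : u1_46 * s 3 = 1 * u1_44 := tree_up (s_sq 3)
theorem e1_45_3 : u1_45 * s 3 = 1 * u1_47 := (one_mul (u1_45 * s 3)).symm
theorem e1_47_3 : u1_47 * s 3 = 1 * u1_45 := tree_up (s_sq 3)
theorem e1_46_1 : u1_46 * s 1 = 1 * u1_48 := (one_mul (u1_46 * s 1)).symm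
theorem e1_48_1 : u1_48 * s 1 = 1 * u1_46 := tree_up (s_sq 1)
theorem e1_47_1 : u1_47 * s 1 = 1 * u1_49 := (one_mul (u1_47 * s 1)).symm
theorem e1_49_1 : u1_49 * s 1 = 1 * u1_47 := tree_up (s_sq 1)
theorem e1_47_2 : u1_47 * s 2 = 1 * u1_50 := (one_mul (u1_47 * s 2)).symm
theorem e1_50_2 : u1_50 * s 2 = 1 * u1_47 := tree_up (s_sq 2)
theorem e1_49_2 : u1_49 * s 2 = 1 * u1_51 := (one_mul (u1_49 * s 2)).symm
theorem e1_51_2 : u1_51 * s 2 = 1 * u1_49 := tree_up (s_sq 2)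
theorem e1_51_3 : u1_51 * s 3 = 1 * u1_52 := (one_mul (u1_51 * s 3)).symm
theorem e1_52_3 : u1_52 * s 3 = 1 * u1_51 := tree_up (s_sq 3)
theorem e1_52_4 : u1_52 * s 4 = 1 * u1_53 := (one_mul (u1_52 * s 4)).symm
theorem e1_53_4 : u1_53 * s 4 = 1 * u1_52 := tree_up (s_sq 4)
theorem e1_53_5 : u1_53 * s 5 = 1 * u1_54 := (one_mul (u1_53 * s 5)).symm
theorem e1_54_5 : u1_54 * s 5 = 1 * u1_53 := tree_up (s_sq 5)
theorem e1_54_6 : u1_54 * s 6 = 1 * u1_55 := (one_mul (u1_54 * s 6)).symm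
theorem e1_55_6 : u1_55 * s 6 = 1 * u1_54 := tree_up (s_sq 6)
theorem e1_0_0 : u1_0 * s 0 = s 0 * u1_0 := (one_mul (s 0)).trans (mul_one (s 0)).symm
theorem e1_0_1 : u1_0 * s 1 = s 1 * u1_0 := (one_mul (s 1)).trans (mul_one (s 1)).symm
theorem e1_0_2 : u1_0 * s 2 = s 2 * u1_0 := (one_mul (s 2)).trans (mul_one (s 2)).symm
theorem e1_0_3 : u1_0 * s 3 = s 3 * u1_0 := (one_mul (s 3)).trans (mul_one (s 3)).symm
theorem e1_0_4 : u1_0 * s 4 = s 4 * u1_0 := (one_mul (s 4)).trans (mul_one (s 4)).symm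
theorem e1_0_5 : u1_0 * s 5 = s 5 * u1_0 := (one_mul (s 5)).trans (mul_one (s 5)).symm
theorem e1_1_0 : u1_1 * s 0 = s 0 * u1_1 := by
  simpa only [one_mul, mul_one] using ded2 r_0_6 e1_1_6 e1_0_0 e1_0_6
theorem e1_1_1 : u1_1 * s 1 = s 1 * u1_1 := by
  simpa only [one_mul, mul_one] using ded2 r_1_6 e1_1_6 e1_0_1 e1_0_6
theorem e1_1_2 : u1_1 * s 2 = s 2 * u1_1 := by
  simpa only [one_mul, mul_one] using ded2 r_2_6 e1_1_6 e1_0_2 e1_0_6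
theorem e1_1_3 : u1_1 * s 3 = s 3 * u1_1 := by
  simpa only [one_mul, mul_one] using ded2 r_3_6 e1_1_6 e1_0_3 e1_0_6
theorem e1_1_4 : u1_1 * s 4 = s 4 * u1_1 := by
  simpa only [one_mul, mul_one] using ded2 r_4_6 e1_1_6 e1_0_4 e1_0_6
theorem e1_2_6 : u1_2 * s 6 = s 5 * u1_2 := by
  simpa only [one_mul, mul_one] using ded3 r_6_5 e1_2_5 e1_1_6 e1_0_5 e1_0_6 e1_1_5
theorem e1_2_0 : u1_2 * s 0 = s 0 * u1_2 := by
  simpa only [one_mul, mul_one] using ded2 r_0_5 e1_2_5 e1_1_0 e1_1_5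
theorem e1_2_1 : u1_2 * s 1 = s 1 * u1_2 := by
  simpa only [one_mul, mul_one] using ded2 r_1_5 e1_2_5 e1_1_1 e1_1_5
theorem e1_2_2 : u1_2 * s 2 = s 2 * u1_2 := by
  simpa only [one_mul, mul_one] using ded2 r_2_5 e1_2_5 e1_1_2 e1_1_5
theorem e1_2_3 : u1_2 * s 3 = s 3 * u1_2 := by
  simpa only [one_mul, mul_one] using ded2 r_3_5 e1_2_5 e1_1_3 e1_1_5
theorem e1_3_5 : u1_3 * s 5 = s 4 * u1_3 := by
  simpa only [one_mul, mul_one] using ded3 r_5_4 e1_3_4 e1_2_5 e1_1_4 e1_1_5 e1_2_4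
theorem e1_3_0 : u1_3 * s 0 = s 0 * u1_3 := by
  simpa only [one_mul, mul_one] using ded2 r_0_4 e1_3_4 e1_2_0 e1_2_4
theorem e1_3_1 : u1_3 * s 1 = s 1 * u1_3 := by
  simpa only [one_mul, mul_one] using ded2 r_1_4 e1_3_4 e1_2_1 e1_2_4
theorem e1_3_2 : u1_3 * s 2 = s 2 * u1_3 := by
  simpa only [one_mul, mul_one] using ded2 r_2_4 e1_3_4 e1_2_2 e1_2_4
theorem e1_4_4 : u1_4 * s 4 = s 3 * u1_4 := by
  simpa only [one_mul, mul_one] using ded3 r_4_3 e1_4_3 e1_3_4 e1_2_3 e1_2_4 e1_3_3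
theorem e1_3_6 : u1_3 * s 6 = s 5 * u1_3 := by
  simpa only [one_mul, mul_one] using ded2 r_6_4 e1_3_4 e1_2_6 e1_2_4
theorem e1_4_0 : u1_4 * s 0 = s 0 * u1_4 := by
  simpa only [one_mul, mul_one] using ded2 r_0_3 e1_4_3 e1_3_0 e1_3_3
theorem e1_5_3 : u1_5 * s 3 = s 1 * u1_5 := by
  simpa only [one_mul, mul_one] using ded3 r_3_1 e1_5_1 e1_4_3 e1_3_1 e1_3_3 e1_4_1
theorem e1_6_3 : u1_6 * s 3 = s 2 * u1_6 := by
  simpa only [one_mul, mul_one] using ded3 r_3_2 e1_6_2 e1_4_3 e1_3_2 e1_3_3 e1_4_2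
theorem e1_4_5 : u1_4 * s 5 = s 4 * u1_4 := by
  simpa only [one_mul, mul_one] using ded2 r_5_3 e1_4_3 e1_3_5 e1_3_3
theorem e1_4_6 : u1_4 * s 6 = s 5 * u1_4 := by
  simpa only [one_mul, mul_one] using ded2 r_6_3 e1_4_3 e1_3_6 e1_3_3
theorem e1_5_0 : u1_5 * s 0 = s 0 * u1_5 := by
  simpa only [one_mul, mul_one] using ded2 r_0_1 e1_5_1 e1_4_0 e1_4_1
theorem e1_8_2 : u1_8 * s 2 = s 0 * u1_8 := by
  simpa only [one_mul, mul_one] using ded3 r_2_0 e1_8_0 e1_6_2 e1_4_0 e1_4_2 e1_6_0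
theorem e1_7_1 : u1_7 * s 1 = 1 * u1_6 := by
  simpa only [one_mul, mul_one] using ded2 r_1_2 e1_7_2 e1_5_1 e1_4_2
theorem e1_6_1 : u1_6 * s 1 = 1 * u1_7 := rev_edge (s_sq 1) e1_7_1
theorem e1_5_4 : u1_5 * s 4 = s 3 * u1_5 := by
  simpa only [one_mul, mul_one] using ded2 r_4_1 e1_5_1 e1_4_4 e1_4_1
theorem e1_5_5 : u1_5 * s 5 = s 4 * u1_5 := by
  simpa only [one_mul, mul_one] using ded2 r_5_1 e1_5_1 e1_4_5 e1_4_1
theorem e1_5_6 : u1_5 * s 6 = s 5 * u1_5 := by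
  simpa only [one_mul, mul_one] using ded2 r_6_1 e1_5_1 e1_4_6 e1_4_1
theorem e1_6_4 : u1_6 * s 4 = s 3 * u1_6 := by
  simpa only [one_mul, mul_one] using ded2 r_4_2 e1_6_2 e1_4_4 e1_4_2
theorem e1_6_5 : u1_6 * s 5 = s 4 * u1_6 := by
  simpa only [one_mul, mul_one] using ded2 r_5_2 e1_6_2 e1_4_5 e1_4_2
theorem e1_6_6 : u1_6 * s 6 = s 5 * u1_6 := by
  simpa only [one_mul, mul_one] using ded2 r_6_2 e1_6_2 e1_4_6 e1_4_2
theorem e1_9_2 : u1_9 * s 2 = s 0 * u1_9 := by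
  simpa only [one_mul, mul_one] using ded3 r_2_0 e1_9_0 e1_7_2 e1_5_0 e1_5_2 e1_7_0
theorem e1_10_2 : u1_10 * s 2 = s 1 * u1_10 := by
  simpa only [one_mul, mul_one] using ded3 r_2_3 e1_10_3 e1_7_2 e1_5_3 e1_5_2 e1_7_3
theorem e1_7_4 : u1_7 * s 4 = s 3 * u1_7 := by
  simpa only [one_mul, mul_one] using ded2 r_4_2 e1_7_2 e1_5_4 e1_5_2
theorem e1_7_5 : u1_7 * s 5 = s 4 * u1_7 := by
  simpa only [one_mul, mul_one] using ded2 r_5_2 e1_7_2 e1_5_5 e1_5_2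
theorem e1_7_6 : u1_7 * s 6 = s 5 * u1_7 := by
  simpa only [one_mul, mul_one] using ded2 r_6_2 e1_7_2 e1_5_6 e1_5_2
theorem e1_8_1 : u1_8 * s 1 = 1 * u1_9 := by
  simpa only [one_mul, mul_one] using ded2 r_1_0 e1_8_0 e1_6_1 e1_7_0
theorem e1_9_1 : u1_9 * s 1 = 1 * u1_8 := rev_edge (s_sq 1) e1_8_1
theorem e1_8_3 : u1_8 * s 3 = s 2 * u1_8 := by
  simpa only [one_mul, mul_one] using ded2 r_3_0 e1_8_0 e1_6_3 e1_6_0
theorem e1_8_4 : u1_8 * s 4 = s 3 * u1_8 := by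
  simpa only [one_mul, mul_one] using ded2 r_4_0 e1_8_0 e1_6_4 e1_6_0
theorem e1_8_5 : u1_8 * s 5 = s 4 * u1_8 := by
  simpa only [one_mul, mul_one] using ded2 r_5_0 e1_8_0 e1_6_5 e1_6_0
theorem e1_8_6 : u1_8 * s 6 = s 5 * u1_8 := by
  simpa only [one_mul, mul_one] using ded2 r_6_0 e1_8_0 e1_6_6 e1_6_0
theorem e1_10_1 : u1_10 * s 1 = s 2 * u1_10 := by
  simpa only [one_mul, mul_one] using ded3 r_1_3 e1_10_3 e1_7_1 e1_6_3 e1_6_1 e1_7_3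
theorem e1_11_0 : u1_11 * s 0 = 1 * u1_10 := by
  simpa only [one_mul, mul_one] using ded2 r_0_3 e1_11_3 e1_9_0 e1_7_3
theorem e1_10_0 : u1_10 * s 0 = 1 * u1_11 := rev_edge (s_sq 0) e1_11_0
theorem e1_9_4 : u1_9 * s 4 = s 3 * u1_9 := by
  simpa only [one_mul, mul_one] using ded2 r_4_0 e1_9_0 e1_7_4 e1_7_0
theorem e1_9_5 : u1_9 * s 5 = s 4 * u1_9 := by
  simpa only [one_mul, mul_one] using ded2 r_5_0 e1_9_0 e1_7_5 e1_7_0
theorem e1_9_6 : u1_9 * s 6 = s 5 * u1_9 := by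
  simpa only [one_mul, mul_one] using ded2 r_6_0 e1_9_0 e1_7_6 e1_7_0
theorem e1_12_3 : u1_12 * s 3 = s 3 * u1_12 := by
  simpa only [one_mul, mul_one] using ded3 r_3_4 e1_12_4 e1_10_3 e1_7_4 e1_7_3 e1_10_4
theorem e1_10_5 : u1_10 * s 5 = s 4 * u1_10 := by
  simpa only [one_mul, mul_one] using ded2 r_5_3 e1_10_3 e1_7_5 e1_7_3
theorem e1_10_6 : u1_10 * s 6 = s 5 * u1_10 := by
  simpa only [one_mul, mul_one] using ded2 r_6_3 e1_10_3 e1_7_6 e1_7_3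
theorem e1_11_1 : u1_11 * s 1 = s 2 * u1_11 := by
  simpa only [one_mul, mul_one] using ded3 r_1_3 e1_11_3 e1_9_1 e1_8_3 e1_8_1 e1_9_3
theorem e1_13_3 : u1_13 * s 3 = s 0 * u1_13 := by
  simpa only [one_mul, mul_one] using ded3 r_3_2 e1_13_2 e1_11_3 e1_9_2 e1_9_3 e1_11_2
theorem e1_14_3 : u1_14 * s 3 = s 3 * u1_14 := by
  simpa only [one_mul, mul_one] using ded3 r_3_4 e1_14_4 e1_11_3 e1_9_4 e1_9_3 e1_11_4
theorem e1_11_5 : u1_11 * s 5 = s 4 * u1_11 := by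
  simpa only [one_mul, mul_one] using ded2 r_5_3 e1_11_3 e1_9_5 e1_9_3
theorem e1_11_6 : u1_11 * s 6 = s 5 * u1_11 := by
  simpa only [one_mul, mul_one] using ded2 r_6_3 e1_11_3 e1_9_6 e1_9_3
theorem e1_13_0 : u1_13 * s 0 = s 1 * u1_13 := by
  simpa only [one_mul, mul_one] using ded3 r_0_2 e1_13_2 e1_11_0 e1_10_2 e1_10_0 e1_11_2
theorem e1_14_0 : u1_14 * s 0 = 1 * u1_12 := by
  simpa only [one_mul, mul_one] using ded2 r_0_4 e1_14_4 e1_11_0 e1_10_4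
theorem e1_12_0 : u1_12 * s 0 = 1 * u1_14 := rev_edge (s_sq 0) e1_14_0
theorem e1_12_1 : u1_12 * s 1 = s 2 * u1_12 := by
  simpa only [one_mul, mul_one] using ded2 r_1_4 e1_12_4 e1_10_1 e1_10_4
theorem e1_12_2 : u1_12 * s 2 = s 1 * u1_12 := by
  simpa only [one_mul, mul_one] using ded2 r_2_4 e1_12_4 e1_10_2 e1_10_4
theorem e1_15_4 : u1_15 * s 4 = s 4 * u1_15 := by
  simpa only [one_mul, mul_one] using ded3 r_4_5 e1_15_5 e1_12_4 e1_10_5 e1_10_4 e1_12_5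
theorem e1_12_6 : u1_12 * s 6 = s 5 * u1_12 := by
  simpa only [one_mul, mul_one] using ded2 r_6_4 e1_12_4 e1_10_6 e1_10_4
theorem e1_13_1 : u1_13 * s 1 = s 2 * u1_13 := by
  simpa only [one_mul, mul_one] using ded2 r_1_2 e1_13_2 e1_11_1 e1_11_2
theorem e1_14_1 : u1_14 * s 1 = s 2 * u1_14 := by
  simpa only [one_mul, mul_one] using ded2 r_1_4 e1_14_4 e1_11_1 e1_11_4
theorem e1_16_2 : u1_16 * s 2 = 1 * u1_14 := by
  simpa only [one_mul, mul_one] using ded2 r_2_4 e1_16_4 e1_13_2 e1_11_4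
theorem e1_14_2 : u1_14 * s 2 = 1 * u1_16 := rev_edge (s_sq 2) e1_16_2
theorem e1_13_5 : u1_13 * s 5 = s 4 * u1_13 := by
  simpa only [one_mul, mul_one] using ded2 r_5_2 e1_13_2 e1_11_5 e1_11_2
theorem e1_13_6 : u1_13 * s 6 = s 5 * u1_13 := by
  simpa only [one_mul, mul_one] using ded2 r_6_2 e1_13_2 e1_11_6 e1_11_2
theorem e1_17_4 : u1_17 * s 4 = s 4 * u1_17 := by
  simpa only [one_mul, mul_one] using ded3 r_4_5 e1_17_5 e1_14_4 e1_11_5 e1_11_4 e1_14_5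
theorem e1_14_6 : u1_14 * s 6 = s 5 * u1_14 := by
  simpa only [one_mul, mul_one] using ded2 r_6_4 e1_14_4 e1_11_6 e1_11_4
theorem e1_16_0 : u1_16 * s 0 = s 1 * u1_16 := by
  simpa only [one_mul, mul_one] using ded3 r_0_2 e1_16_2 e1_14_0 e1_12_2 e1_12_0 e1_14_2
theorem e1_17_0 : u1_17 * s 0 = 1 * u1_15 := by
  simpa only [one_mul, mul_one] using ded2 r_0_5 e1_17_5 e1_14_0 e1_12_5
theorem e1_15_0 : u1_15 * s 0 = 1 * u1_17 := rev_edge (s_sq 0) e1_17_0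
theorem e1_15_1 : u1_15 * s 1 = s 2 * u1_15 := by
  simpa only [one_mul, mul_one] using ded2 r_1_5 e1_15_5 e1_12_1 e1_12_5
theorem e1_15_2 : u1_15 * s 2 = s 1 * u1_15 := by
  simpa only [one_mul, mul_one] using ded2 r_2_5 e1_15_5 e1_12_2 e1_12_5
theorem e1_15_3 : u1_15 * s 3 = s 3 * u1_15 := by
  simpa only [one_mul, mul_one] using ded2 r_3_5 e1_15_5 e1_12_3 e1_12_5
theorem e1_18_5 : u1_18 * s 5 = s 5 * u1_18 := by
  simpa only [one_mul, mul_one] using ded3 r_5_6 e1_18_6 e1_15_5 e1_12_6 e1_12_5 e1_15_6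
theorem e1_16_1 : u1_16 * s 1 = s 2 * u1_16 := by
  simpa only [one_mul, mul_one] using ded2 r_1_4 e1_16_4 e1_13_1 e1_13_4
theorem e1_19_4 : u1_19 * s 4 = s 0 * u1_19 := by
  simpa only [one_mul, mul_one] using ded3 r_4_3 e1_19_3 e1_16_4 e1_13_3 e1_13_4 e1_16_3
theorem e1_20_4 : u1_20 * s 4 = s 4 * u1_20 := by
  simpa only [one_mul, mul_one] using ded3 r_4_5 e1_20_5 e1_16_4 e1_13_5 e1_13_4 e1_16_5
theorem e1_16_6 : u1_16 * s 6 = s 5 * u1_16 := by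
  simpa only [one_mul, mul_one] using ded2 r_6_4 e1_16_4 e1_13_6 e1_13_4
theorem e1_17_1 : u1_17 * s 1 = s 2 * u1_17 := by
  simpa only [one_mul, mul_one] using ded2 r_1_5 e1_17_5 e1_14_1 e1_14_5
theorem e1_19_2 : u1_19 * s 2 = s 3 * u1_19 := by
  simpa only [one_mul, mul_one] using ded3 r_2_3 e1_19_3 e1_16_2 e1_14_3 e1_14_2 e1_16_3
theorem e1_20_2 : u1_20 * s 2 = 1 * u1_17 := by
  simpa only [one_mul, mul_one] using ded2 r_2_5 e1_20_5 e1_16_2 e1_14_5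
theorem e1_17_2 : u1_17 * s 2 = 1 * u1_20 := rev_edge (s_sq 2) e1_20_2
theorem e1_17_3 : u1_17 * s 3 = s 3 * u1_17 := by
  simpa only [one_mul, mul_one] using ded2 r_3_5 e1_17_5 e1_14_3 e1_14_5
theorem e1_21_5 : u1_21 * s 5 = s 5 * u1_21 := by
  simpa only [one_mul, mul_one] using ded3 r_5_6 e1_21_6 e1_17_5 e1_14_6 e1_14_5 e1_17_6
theorem e1_20_0 : u1_20 * s 0 = s 1 * u1_20 := by
  simpa only [one_mul, mul_one] using ded3 r_0_2 e1_20_2 e1_17_0 e1_15_2 e1_15_0 e1_17_2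
theorem e1_21_0 : u1_21 * s 0 = 1 * u1_18 := by
  simpa only [one_mul, mul_one] using ded2 r_0_6 e1_21_6 e1_17_0 e1_15_6
theorem e1_18_0 : u1_18 * s 0 = 1 * u1_21 := rev_edge (s_sq 0) e1_21_0
theorem e1_18_1 : u1_18 * s 1 = s 2 * u1_18 := by
  simpa only [one_mul, mul_one] using ded2 r_1_6 e1_18_6 e1_15_1 e1_15_6
theorem e1_18_2 : u1_18 * s 2 = s 1 * u1_18 := by
  simpa only [one_mul, mul_one] using ded2 r_2_6 e1_18_6 e1_15_2 e1_15_6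
theorem e1_18_3 : u1_18 * s 3 = s 3 * u1_18 := by
  simpa only [one_mul, mul_one] using ded2 r_3_6 e1_18_6 e1_15_3 e1_15_6
theorem e1_18_4 : u1_18 * s 4 = s 4 * u1_18 := by
  simpa only [one_mul, mul_one] using ded2 r_4_6 e1_18_6 e1_15_4 e1_15_6
theorem e1_19_0 : u1_19 * s 0 = s 1 * u1_19 := by
  simpa only [one_mul, mul_one] using ded2 r_0_3 e1_19_3 e1_16_0 e1_16_3
theorem e1_22_3 : u1_22 * s 3 = s 2 * u1_22 := by
  simpa only [one_mul, mul_one] using ded3 r_3_1 e1_22_1 e1_19_3 e1_16_1 e1_16_3 e1_19_1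
theorem e1_20_1 : u1_20 * s 1 = s 2 * u1_20 := by
  simpa only [one_mul, mul_one] using ded2 r_1_5 e1_20_5 e1_16_1 e1_16_5
theorem e1_23_3 : u1_23 * s 3 = 1 * u1_20 := by
  simpa only [one_mul, mul_one] using ded2 r_3_5 e1_23_5 e1_19_3 e1_16_5
theorem e1_20_3 : u1_20 * s 3 = 1 * u1_23 := rev_edge (s_sq 3) e1_23_3
theorem e1_19_6 : u1_19 * s 6 = s 5 * u1_19 := by
  simpa only [one_mul, mul_one] using ded2 r_6_3 e1_19_3 e1_16_6 e1_16_3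
theorem e1_24_5 : u1_24 * s 5 = s 5 * u1_24 := by
  simpa only [one_mul, mul_one] using ded3 r_5_6 e1_24_6 e1_20_5 e1_16_6 e1_16_5 e1_20_6
theorem e1_21_1 : u1_21 * s 1 = s 2 * u1_21 := by
  simpa only [one_mul, mul_one] using ded2 r_1_6 e1_21_6 e1_17_1 e1_17_6
theorem e1_23_2 : u1_23 * s 2 = s 3 * u1_23 := by
  simpa only [one_mul, mul_one] using ded3 r_2_3 e1_23_3 e1_20_2 e1_17_3 e1_17_2 e1_20_3
theorem e1_24_2 : u1_24 * s 2 = 1 * u1_21 := by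
  simpa only [one_mul, mul_one] using ded2 r_2_6 e1_24_6 e1_20_2 e1_17_6
theorem e1_21_2 : u1_21 * s 2 = 1 * u1_24 := rev_edge (s_sq 2) e1_24_2
theorem e1_21_3 : u1_21 * s 3 = s 3 * u1_21 := by
  simpa only [one_mul, mul_one] using ded2 r_3_6 e1_21_6 e1_17_3 e1_17_6
theorem e1_21_4 : u1_21 * s 4 = s 4 * u1_21 := by
  simpa only [one_mul, mul_one] using ded2 r_4_6 e1_21_6 e1_17_4 e1_17_6
theorem e1_24_0 : u1_24 * s 0 = s 1 * u1_24 := by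
  simpa only [one_mul, mul_one] using ded3 r_0_2 e1_24_2 e1_21_0 e1_18_2 e1_18_0 e1_21_2
theorem e1_22_0 : u1_22 * s 0 = s 1 * u1_22 := by
  simpa only [one_mul, mul_one] using ded2 r_0_1 e1_22_1 e1_19_0 e1_19_1
theorem e1_23_0 : u1_23 * s 0 = s 1 * u1_23 := by
  simpa only [one_mul, mul_one] using ded2 r_0_5 e1_23_5 e1_19_0 e1_19_5
theorem e1_22_2 : u1_22 * s 2 = s 3 * u1_22 := by
  simpa only [one_mul, mul_one] using ded2 r_2_1 e1_22_1 e1_19_2 e1_19_1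
theorem e1_22_4 : u1_22 * s 4 = s 0 * u1_22 := by
  simpa only [one_mul, mul_one] using ded2 r_4_1 e1_22_1 e1_19_4 e1_19_1
theorem e1_25_1 : u1_25 * s 1 = 1 * u1_23 := by
  simpa only [one_mul, mul_one] using ded2 r_1_5 e1_25_5 e1_22_1 e1_19_5
theorem e1_23_1 : u1_23 * s 1 = 1 * u1_25 := rev_edge (s_sq 1) e1_25_1
theorem e1_22_6 : u1_22 * s 6 = s 5 * u1_22 := by
  simpa only [one_mul, mul_one] using ded2 r_6_1 e1_22_1 e1_19_6 e1_19_1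
theorem e1_26_5 : u1_26 * s 5 = s 0 * u1_26 := by
  simpa only [one_mul, mul_one] using ded3 r_5_4 e1_26_4 e1_23_5 e1_19_4 e1_19_5 e1_23_4
theorem e1_27_5 : u1_27 * s 5 = s 5 * u1_27 := by
  simpa only [one_mul, mul_one] using ded3 r_5_6 e1_27_6 e1_23_5 e1_19_6 e1_19_5 e1_23_6
theorem e1_25_3 : u1_25 * s 3 = s 2 * u1_25 := by
  simpa only [one_mul, mul_one] using ded3 r_3_1 e1_25_1 e1_23_3 e1_20_1 e1_20_3 e1_23_1
theorem e1_24_1 : u1_24 * s 1 = s 2 * u1_24 := by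
  simpa only [one_mul, mul_one] using ded2 r_1_6 e1_24_6 e1_20_1 e1_20_6
theorem e1_26_3 : u1_26 * s 3 = s 4 * u1_26 := by
  simpa only [one_mul, mul_one] using ded3 r_3_4 e1_26_4 e1_23_3 e1_20_4 e1_20_3 e1_23_4
theorem e1_27_3 : u1_27 * s 3 = 1 * u1_24 := by
  simpa only [one_mul, mul_one] using ded2 r_3_6 e1_27_6 e1_23_3 e1_20_6
theorem e1_24_3 : u1_24 * s 3 = 1 * u1_27 := rev_edge (s_sq 3) e1_27_3
theorem e1_24_4 : u1_24 * s 4 = s 4 * u1_24 := by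
  simpa only [one_mul, mul_one] using ded2 r_4_6 e1_24_6 e1_20_4 e1_20_6
theorem e1_27_2 : u1_27 * s 2 = s 3 * u1_27 := by
  simpa only [one_mul, mul_one] using ded3 r_2_3 e1_27_3 e1_24_2 e1_21_3 e1_21_2 e1_24_3
theorem e1_25_0 : u1_25 * s 0 = s 1 * u1_25 := by
  simpa only [one_mul, mul_one] using ded2 r_0_5 e1_25_5 e1_22_0 e1_22_5
theorem e1_25_2 : u1_25 * s 2 = s 3 * u1_25 := by
  simpa only [one_mul, mul_one] using ded2 r_2_5 e1_25_5 e1_22_2 e1_22_5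
theorem e1_28_5 : u1_28 * s 5 = s 0 * u1_28 := by
  simpa only [one_mul, mul_one] using ded3 r_5_4 e1_28_4 e1_25_5 e1_22_4 e1_22_5 e1_25_4
theorem e1_29_5 : u1_29 * s 5 = s 5 * u1_29 := by
  simpa only [one_mul, mul_one] using ded3 r_5_6 e1_29_6 e1_25_5 e1_22_6 e1_22_5 e1_25_6
theorem e1_26_0 : u1_26 * s 0 = s 1 * u1_26 := by
  simpa only [one_mul, mul_one] using ded2 r_0_4 e1_26_4 e1_23_0 e1_23_4
theorem e1_27_0 : u1_27 * s 0 = s 1 * u1_27 := by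
  simpa only [one_mul, mul_one] using ded2 r_0_6 e1_27_6 e1_23_0 e1_23_6
theorem e1_28_1 : u1_28 * s 1 = 1 * u1_26 := by
  simpa only [one_mul, mul_one] using ded2 r_1_4 e1_28_4 e1_25_1 e1_23_4
theorem e1_26_1 : u1_26 * s 1 = 1 * u1_28 := rev_edge (s_sq 1) e1_28_1
theorem e1_29_1 : u1_29 * s 1 = 1 * u1_27 := by
  simpa only [one_mul, mul_one] using ded2 r_1_6 e1_29_6 e1_25_1 e1_23_6
theorem e1_27_1 : u1_27 * s 1 = 1 * u1_29 := rev_edge (s_sq 1) e1_29_1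
theorem e1_26_2 : u1_26 * s 2 = s 3 * u1_26 := by
  simpa only [one_mul, mul_one] using ded2 r_2_4 e1_26_4 e1_23_2 e1_23_4
theorem e1_30_4 : u1_30 * s 4 = 1 * u1_27 := by
  simpa only [one_mul, mul_one] using ded2 r_4_6 e1_30_6 e1_26_4 e1_23_6
theorem e1_27_4 : u1_27 * s 4 = 1 * u1_30 := rev_edge (s_sq 4) e1_30_4
theorem e1_29_3 : u1_29 * s 3 = s 2 * u1_29 := by
  simpa only [one_mul, mul_one] using ded3 r_3_1 e1_29_1 e1_27_3 e1_24_1 e1_24_3 e1_27_1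
theorem e1_30_3 : u1_30 * s 3 = s 4 * u1_30 := by
  simpa only [one_mul, mul_one] using ded3 r_3_4 e1_30_4 e1_27_3 e1_24_4 e1_24_3 e1_27_4
theorem e1_28_0 : u1_28 * s 0 = s 1 * u1_28 := by
  simpa only [one_mul, mul_one] using ded2 r_0_4 e1_28_4 e1_25_0 e1_25_4
theorem e1_29_0 : u1_29 * s 0 = s 1 * u1_29 := by
  simpa only [one_mul, mul_one] using ded2 r_0_6 e1_29_6 e1_25_0 e1_25_6
theorem e1_28_2 : u1_28 * s 2 = s 3 * u1_28 := by
  simpa only [one_mul, mul_one] using ded2 r_2_4 e1_28_4 e1_25_2 e1_25_4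
theorem e1_29_2 : u1_29 * s 2 = s 3 * u1_29 := by
  simpa only [one_mul, mul_one] using ded2 r_2_6 e1_29_6 e1_25_2 e1_25_6
theorem e1_31_4 : u1_31 * s 4 = s 2 * u1_31 := by
  simpa only [one_mul, mul_one] using ded3 r_4_3 e1_31_3 e1_28_4 e1_25_3 e1_25_4 e1_28_3
theorem e1_32_4 : u1_32 * s 4 = 1 * u1_29 := by
  simpa only [one_mul, mul_one] using ded2 r_4_6 e1_32_6 e1_28_4 e1_25_6
theorem e1_29_4 : u1_29 * s 4 = 1 * u1_32 := rev_edge (s_sq 4) e1_32_4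
theorem e1_30_0 : u1_30 * s 0 = s 1 * u1_30 := by
  simpa only [one_mul, mul_one] using ded2 r_0_6 e1_30_6 e1_26_0 e1_26_6
theorem e1_31_1 : u1_31 * s 1 = s 4 * u1_31 := by
  simpa only [one_mul, mul_one] using ded3 r_1_3 e1_31_3 e1_28_1 e1_26_3 e1_26_1 e1_28_3
theorem e1_32_1 : u1_32 * s 1 = 1 * u1_30 := by
  simpa only [one_mul, mul_one] using ded2 r_1_6 e1_32_6 e1_28_1 e1_26_6
theorem e1_30_1 : u1_30 * s 1 = 1 * u1_32 := rev_edge (s_sq 1) e1_32_1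
theorem e1_30_2 : u1_30 * s 2 = s 3 * u1_30 := by
  simpa only [one_mul, mul_one] using ded2 r_2_6 e1_30_6 e1_26_2 e1_26_6
theorem e1_33_6 : u1_33 * s 6 = s 0 * u1_33 := by
  simpa only [one_mul, mul_one] using ded3 r_6_5 e1_33_5 e1_30_6 e1_26_5 e1_26_6 e1_30_5
theorem e1_33_4 : u1_33 * s 4 = s 5 * u1_33 := by
  simpa only [one_mul, mul_one] using ded3 r_4_5 e1_33_5 e1_30_4 e1_27_5 e1_27_4 e1_30_5
theorem e1_31_0 : u1_31 * s 0 = s 1 * u1_31 := by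
  simpa only [one_mul, mul_one] using ded2 r_0_3 e1_31_3 e1_28_0 e1_28_3
theorem e1_32_0 : u1_32 * s 0 = s 1 * u1_32 := by
  simpa only [one_mul, mul_one] using ded2 r_0_6 e1_32_6 e1_28_0 e1_28_6
theorem e1_34_3 : u1_34 * s 3 = s 3 * u1_34 := by
  simpa only [one_mul, mul_one] using ded3 r_3_2 e1_34_2 e1_31_3 e1_28_2 e1_28_3 e1_31_2
theorem e1_32_2 : u1_32 * s 2 = s 3 * u1_32 := by
  simpa only [one_mul, mul_one] using ded2 r_2_6 e1_32_6 e1_28_2 e1_28_6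
theorem e1_31_5 : u1_31 * s 5 = s 0 * u1_31 := by
  simpa only [one_mul, mul_one] using ded2 r_5_3 e1_31_3 e1_28_5 e1_28_3
theorem e1_35_3 : u1_35 * s 3 = 1 * u1_32 := by
  simpa only [one_mul, mul_one] using ded2 r_3_6 e1_35_6 e1_31_3 e1_28_6
theorem e1_32_3 : u1_32 * s 3 = 1 * u1_35 := rev_edge (s_sq 3) e1_35_3
theorem e1_36_6 : u1_36 * s 6 = s 0 * u1_36 := by
  simpa only [one_mul, mul_one] using ded3 r_6_5 e1_36_5 e1_32_6 e1_28_5 e1_28_6 e1_32_5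
theorem e1_35_4 : u1_35 * s 4 = s 2 * u1_35 := by
  simpa only [one_mul, mul_one] using ded3 r_4_3 e1_35_3 e1_32_4 e1_29_3 e1_29_4 e1_32_3
theorem e1_36_4 : u1_36 * s 4 = s 5 * u1_36 := by
  simpa only [one_mul, mul_one] using ded3 r_4_5 e1_36_5 e1_32_4 e1_29_5 e1_29_4 e1_32_5
theorem e1_33_0 : u1_33 * s 0 = s 1 * u1_33 := by
  simpa only [one_mul, mul_one] using ded2 r_0_5 e1_33_5 e1_30_0 e1_30_5
theorem e1_35_1 : u1_35 * s 1 = s 4 * u1_35 := by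
  simpa only [one_mul, mul_one] using ded3 r_1_3 e1_35_3 e1_32_1 e1_30_3 e1_30_1 e1_32_3
theorem e1_36_1 : u1_36 * s 1 = 1 * u1_33 := by
  simpa only [one_mul, mul_one] using ded2 r_1_5 e1_36_5 e1_32_1 e1_30_5
theorem e1_33_1 : u1_33 * s 1 = 1 * u1_36 := rev_edge (s_sq 1) e1_36_1
theorem e1_33_2 : u1_33 * s 2 = s 3 * u1_33 := by
  simpa only [one_mul, mul_one] using ded2 r_2_5 e1_33_5 e1_30_2 e1_30_5
theorem e1_33_3 : u1_33 * s 3 = s 4 * u1_33 := by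
  simpa only [one_mul, mul_one] using ded2 r_3_5 e1_33_5 e1_30_3 e1_30_5
theorem e1_37_2 : u1_37 * s 2 = s 1 * u1_37 := by
  simpa only [one_mul, mul_one] using ded3 r_2_0 e1_37_0 e1_34_2 e1_31_0 e1_31_2 e1_34_0
theorem e1_35_0 : u1_35 * s 0 = s 1 * u1_35 := by
  simpa only [one_mul, mul_one] using ded2 r_0_6 e1_35_6 e1_31_0 e1_31_6
theorem e1_34_1 : u1_34 * s 1 = s 4 * u1_34 := by
  simpa only [one_mul, mul_one] using ded2 r_1_2 e1_34_2 e1_31_1 e1_31_2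
theorem e1_34_4 : u1_34 * s 4 = s 2 * u1_34 := by
  simpa only [one_mul, mul_one] using ded2 r_4_2 e1_34_2 e1_31_4 e1_31_2
theorem e1_34_5 : u1_34 * s 5 = s 0 * u1_34 := by
  simpa only [one_mul, mul_one] using ded2 r_5_2 e1_34_2 e1_31_5 e1_31_2
theorem e1_38_2 : u1_38 * s 2 = 1 * u1_35 := by
  simpa only [one_mul, mul_one] using ded2 r_2_6 e1_38_6 e1_34_2 e1_31_6
theorem e1_35_2 : u1_35 * s 2 = 1 * u1_38 := rev_edge (s_sq 2) e1_38_2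
theorem e1_39_6 : u1_39 * s 6 = s 0 * u1_39 := by
  simpa only [one_mul, mul_one] using ded3 r_6_5 e1_39_5 e1_35_6 e1_31_5 e1_31_6 e1_35_5
theorem e1_36_0 : u1_36 * s 0 = s 1 * u1_36 := by
  simpa only [one_mul, mul_one] using ded2 r_0_5 e1_36_5 e1_32_0 e1_32_5
theorem e1_38_3 : u1_38 * s 3 = s 3 * u1_38 := by
  simpa only [one_mul, mul_one] using ded3 r_3_2 e1_38_2 e1_35_3 e1_32_2 e1_32_3 e1_35_2
theorem e1_36_2 : u1_36 * s 2 = s 3 * u1_36 := by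
  simpa only [one_mul, mul_one] using ded2 r_2_5 e1_36_5 e1_32_2 e1_32_5
theorem e1_39_3 : u1_39 * s 3 = 1 * u1_36 := by
  simpa only [one_mul, mul_one] using ded2 r_3_5 e1_39_5 e1_35_3 e1_32_5
theorem e1_36_3 : u1_36 * s 3 = 1 * u1_39 := rev_edge (s_sq 3) e1_39_3
theorem e1_39_1 : u1_39 * s 1 = s 4 * u1_39 := by
  simpa only [one_mul, mul_one] using ded3 r_1_3 e1_39_3 e1_36_1 e1_33_3 e1_33_1 e1_36_3
theorem e1_37_1 : u1_37 * s 1 = s 4 * u1_37 := by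
  simpa only [one_mul, mul_one] using ded2 r_1_0 e1_37_0 e1_34_1 e1_34_0
theorem e1_37_3 : u1_37 * s 3 = s 3 * u1_37 := by
  simpa only [one_mul, mul_one] using ded2 r_3_0 e1_37_0 e1_34_3 e1_34_0
theorem e1_37_4 : u1_37 * s 4 = s 2 * u1_37 := by
  simpa only [one_mul, mul_one] using ded2 r_4_0 e1_37_0 e1_34_4 e1_34_0
theorem e1_37_5 : u1_37 * s 5 = s 0 * u1_37 := by
  simpa only [one_mul, mul_one] using ded2 r_5_0 e1_37_0 e1_34_5 e1_34_0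
theorem e1_40_0 : u1_40 * s 0 = 1 * u1_38 := by
  simpa only [one_mul, mul_one] using ded2 r_0_6 e1_40_6 e1_37_0 e1_34_6
theorem e1_38_0 : u1_38 * s 0 = 1 * u1_40 := rev_edge (s_sq 0) e1_40_0
theorem e1_38_1 : u1_38 * s 1 = s 4 * u1_38 := by
  simpa only [one_mul, mul_one] using ded2 r_1_6 e1_38_6 e1_34_1 e1_34_6
theorem e1_38_4 : u1_38 * s 4 = s 2 * u1_38 := by
  simpa only [one_mul, mul_one] using ded2 r_4_6 e1_38_6 e1_34_4 e1_34_6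
theorem e1_41_6 : u1_41 * s 6 = s 0 * u1_41 := by
  simpa only [one_mul, mul_one] using ded3 r_6_5 e1_41_5 e1_38_6 e1_34_5 e1_34_6 e1_38_5
theorem e1_40_2 : u1_40 * s 2 = s 1 * u1_40 := by
  simpa only [one_mul, mul_one] using ded3 r_2_0 e1_40_0 e1_38_2 e1_35_0 e1_35_2 e1_38_0
theorem e1_39_0 : u1_39 * s 0 = s 1 * u1_39 := by
  simpa only [one_mul, mul_one] using ded2 r_0_5 e1_39_5 e1_35_0 e1_35_5
theorem e1_41_2 : u1_41 * s 2 = 1 * u1_39 := by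
  simpa only [one_mul, mul_one] using ded2 r_2_5 e1_41_5 e1_38_2 e1_35_5
theorem e1_39_2 : u1_39 * s 2 = 1 * u1_41 := rev_edge (s_sq 2) e1_41_2
theorem e1_42_5 : u1_42 * s 5 = s 2 * u1_42 := by
  simpa only [one_mul, mul_one] using ded3 r_5_4 e1_42_4 e1_39_5 e1_35_4 e1_35_5 e1_39_4
theorem e1_41_3 : u1_41 * s 3 = s 3 * u1_41 := by
  simpa only [one_mul, mul_one] using ded3 r_3_2 e1_41_2 e1_39_3 e1_36_2 e1_36_3 e1_39_2
theorem e1_42_3 : u1_42 * s 3 = s 5 * u1_42 := by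
  simpa only [one_mul, mul_one] using ded3 r_3_4 e1_42_4 e1_39_3 e1_36_4 e1_36_3 e1_39_4
theorem e1_40_1 : u1_40 * s 1 = s 4 * u1_40 := by
  simpa only [one_mul, mul_one] using ded2 r_1_6 e1_40_6 e1_37_1 e1_37_6
theorem e1_40_3 : u1_40 * s 3 = s 3 * u1_40 := by
  simpa only [one_mul, mul_one] using ded2 r_3_6 e1_40_6 e1_37_3 e1_37_6
theorem e1_40_4 : u1_40 * s 4 = s 2 * u1_40 := by
  simpa only [one_mul, mul_one] using ded2 r_4_6 e1_40_6 e1_37_4 e1_37_6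
theorem e1_43_6 : u1_43 * s 6 = s 0 * u1_43 := by
  simpa only [one_mul, mul_one] using ded3 r_6_5 e1_43_5 e1_40_6 e1_37_5 e1_37_6 e1_40_5
theorem e1_43_0 : u1_43 * s 0 = 1 * u1_41 := by
  simpa only [one_mul, mul_one] using ded2 r_0_5 e1_43_5 e1_40_0 e1_38_5
theorem e1_41_0 : u1_41 * s 0 = 1 * u1_43 := rev_edge (s_sq 0) e1_43_0
theorem e1_41_1 : u1_41 * s 1 = s 4 * u1_41 := by
  simpa only [one_mul, mul_one] using ded2 r_1_5 e1_41_5 e1_38_1 e1_38_5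
theorem e1_44_5 : u1_44 * s 5 = s 2 * u1_44 := by
  simpa only [one_mul, mul_one] using ded3 r_5_4 e1_44_4 e1_41_5 e1_38_4 e1_38_5 e1_41_4
theorem e1_43_2 : u1_43 * s 2 = s 1 * u1_43 := by
  simpa only [one_mul, mul_one] using ded3 r_2_0 e1_43_0 e1_41_2 e1_39_0 e1_39_2 e1_41_0
theorem e1_42_0 : u1_42 * s 0 = s 1 * u1_42 := by
  simpa only [one_mul, mul_one] using ded2 r_0_4 e1_42_4 e1_39_0 e1_39_4
theorem e1_42_1 : u1_42 * s 1 = s 4 * u1_42 := by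
  simpa only [one_mul, mul_one] using ded2 r_1_4 e1_42_4 e1_39_1 e1_39_4
theorem e1_44_2 : u1_44 * s 2 = 1 * u1_42 := by
  simpa only [one_mul, mul_one] using ded2 r_2_4 e1_44_4 e1_41_2 e1_39_4
theorem e1_42_2 : u1_42 * s 2 = 1 * u1_44 := rev_edge (s_sq 2) e1_44_2
theorem e1_42_6 : u1_42 * s 6 = s 0 * u1_42 := by
  simpa only [one_mul, mul_one] using ded2 r_6_4 e1_42_4 e1_39_6 e1_39_4
theorem e1_43_1 : u1_43 * s 1 = s 4 * u1_43 := by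
  simpa only [one_mul, mul_one] using ded2 r_1_5 e1_43_5 e1_40_1 e1_40_5
theorem e1_43_3 : u1_43 * s 3 = s 3 * u1_43 := by
  simpa only [one_mul, mul_one] using ded2 r_3_5 e1_43_5 e1_40_3 e1_40_5
theorem e1_45_5 : u1_45 * s 5 = s 2 * u1_45 := by
  simpa only [one_mul, mul_one] using ded3 r_5_4 e1_45_4 e1_43_5 e1_40_4 e1_40_5 e1_43_4
theorem e1_45_0 : u1_45 * s 0 = 1 * u1_44 := by
  simpa only [one_mul, mul_one] using ded2 r_0_4 e1_45_4 e1_43_0 e1_41_4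
theorem e1_44_0 : u1_44 * s 0 = 1 * u1_45 := rev_edge (s_sq 0) e1_45_0
theorem e1_44_1 : u1_44 * s 1 = s 4 * u1_44 := by
  simpa only [one_mul, mul_one] using ded2 r_1_4 e1_44_4 e1_41_1 e1_41_4
theorem e1_46_4 : u1_46 * s 4 = s 3 * u1_46 := by
  simpa only [one_mul, mul_one] using ded3 r_4_3 e1_46_3 e1_44_4 e1_41_3 e1_41_4 e1_44_3
theorem e1_44_6 : u1_44 * s 6 = s 0 * u1_44 := by
  simpa only [one_mul, mul_one] using ded2 r_6_4 e1_44_4 e1_41_6 e1_41_4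
theorem e1_45_2 : u1_45 * s 2 = s 1 * u1_45 := by
  simpa only [one_mul, mul_one] using ded3 r_2_0 e1_45_0 e1_44_2 e1_42_0 e1_42_2 e1_44_0
theorem e1_46_2 : u1_46 * s 2 = s 5 * u1_46 := by
  simpa only [one_mul, mul_one] using ded3 r_2_3 e1_46_3 e1_44_2 e1_42_3 e1_42_2 e1_44_3
theorem e1_45_1 : u1_45 * s 1 = s 4 * u1_45 := by
  simpa only [one_mul, mul_one] using ded2 r_1_4 e1_45_4 e1_43_1 e1_43_4
theorem e1_47_4 : u1_47 * s 4 = s 3 * u1_47 := by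
  simpa only [one_mul, mul_one] using ded3 r_4_3 e1_47_3 e1_45_4 e1_43_3 e1_43_4 e1_45_3
theorem e1_45_6 : u1_45 * s 6 = s 0 * u1_45 := by
  simpa only [one_mul, mul_one] using ded2 r_6_4 e1_45_4 e1_43_6 e1_43_4
theorem e1_47_0 : u1_47 * s 0 = 1 * u1_46 := by
  simpa only [one_mul, mul_one] using ded2 r_0_3 e1_47_3 e1_45_0 e1_44_3
theorem e1_46_0 : u1_46 * s 0 = 1 * u1_47 := rev_edge (s_sq 0) e1_47_0
theorem e1_48_3 : u1_48 * s 3 = s 4 * u1_48 := by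
  simpa only [one_mul, mul_one] using ded3 r_3_1 e1_48_1 e1_46_3 e1_44_1 e1_44_3 e1_46_1
theorem e1_46_5 : u1_46 * s 5 = s 2 * u1_46 := by
  simpa only [one_mul, mul_one] using ded2 r_5_3 e1_46_3 e1_44_5 e1_44_3
theorem e1_46_6 : u1_46 * s 6 = s 0 * u1_46 := by
  simpa only [one_mul, mul_one] using ded2 r_6_3 e1_46_3 e1_44_6 e1_44_3
theorem e1_49_3 : u1_49 * s 3 = s 4 * u1_49 := by
  simpa only [one_mul, mul_one] using ded3 r_3_1 e1_49_1 e1_47_3 e1_45_1 e1_45_3 e1_47_1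
theorem e1_50_3 : u1_50 * s 3 = s 1 * u1_50 := by
  simpa only [one_mul, mul_one] using ded3 r_3_2 e1_50_2 e1_47_3 e1_45_2 e1_45_3 e1_47_2
theorem e1_47_5 : u1_47 * s 5 = s 2 * u1_47 := by
  simpa only [one_mul, mul_one] using ded2 r_5_3 e1_47_3 e1_45_5 e1_45_3
theorem e1_47_6 : u1_47 * s 6 = s 0 * u1_47 := by
  simpa only [one_mul, mul_one] using ded2 r_6_3 e1_47_3 e1_45_6 e1_45_3
theorem e1_49_0 : u1_49 * s 0 = 1 * u1_48 := by
  simpa only [one_mul, mul_one] using ded2 r_0_1 e1_49_1 e1_47_0 e1_46_1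
theorem e1_48_0 : u1_48 * s 0 = 1 * u1_49 := rev_edge (s_sq 0) e1_49_0
theorem e1_50_0 : u1_50 * s 0 = s 5 * u1_50 := by
  simpa only [one_mul, mul_one] using ded3 r_0_2 e1_50_2 e1_47_0 e1_46_2 e1_46_0 e1_47_2
theorem e1_48_2 : u1_48 * s 2 = s 5 * u1_48 := by
  simpa only [one_mul, mul_one] using ded2 r_2_1 e1_48_1 e1_46_2 e1_46_1
theorem e1_48_4 : u1_48 * s 4 = s 3 * u1_48 := by
  simpa only [one_mul, mul_one] using ded2 r_4_1 e1_48_1 e1_46_4 e1_46_1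
theorem e1_48_5 : u1_48 * s 5 = s 2 * u1_48 := by
  simpa only [one_mul, mul_one] using ded2 r_5_1 e1_48_1 e1_46_5 e1_46_1
theorem e1_48_6 : u1_48 * s 6 = s 0 * u1_48 := by
  simpa only [one_mul, mul_one] using ded2 r_6_1 e1_48_1 e1_46_6 e1_46_1
theorem e1_51_1 : u1_51 * s 1 = 1 * u1_50 := by
  simpa only [one_mul, mul_one] using ded2 r_1_2 e1_51_2 e1_49_1 e1_47_2
theorem e1_50_1 : u1_50 * s 1 = 1 * u1_51 := rev_edge (s_sq 1) e1_51_1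
theorem e1_49_4 : u1_49 * s 4 = s 3 * u1_49 := by
  simpa only [one_mul, mul_one] using ded2 r_4_1 e1_49_1 e1_47_4 e1_47_1
theorem e1_49_5 : u1_49 * s 5 = s 2 * u1_49 := by
  simpa only [one_mul, mul_one] using ded2 r_5_1 e1_49_1 e1_47_5 e1_47_1
theorem e1_49_6 : u1_49 * s 6 = s 0 * u1_49 := by
  simpa only [one_mul, mul_one] using ded2 r_6_1 e1_49_1 e1_47_6 e1_47_1
theorem e1_50_4 : u1_50 * s 4 = s 3 * u1_50 := by
  simpa only [one_mul, mul_one] using ded2 r_4_2 e1_50_2 e1_47_4 e1_47_2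
theorem e1_50_5 : u1_50 * s 5 = s 2 * u1_50 := by
  simpa only [one_mul, mul_one] using ded2 r_5_2 e1_50_2 e1_47_5 e1_47_2
theorem e1_50_6 : u1_50 * s 6 = s 0 * u1_50 := by
  simpa only [one_mul, mul_one] using ded2 r_6_2 e1_50_2 e1_47_6 e1_47_2
theorem e1_51_0 : u1_51 * s 0 = s 5 * u1_51 := by
  simpa only [one_mul, mul_one] using ded3 r_0_2 e1_51_2 e1_49_0 e1_48_2 e1_48_0 e1_49_2
theorem e1_52_2 : u1_52 * s 2 = s 4 * u1_52 := by
  simpa only [one_mul, mul_one] using ded3 r_2_3 e1_52_3 e1_51_2 e1_49_3 e1_49_2 e1_51_3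
theorem e1_51_4 : u1_51 * s 4 = s 3 * u1_51 := by
  simpa only [one_mul, mul_one] using ded2 r_4_2 e1_51_2 e1_49_4 e1_49_2
theorem e1_51_5 : u1_51 * s 5 = s 2 * u1_51 := by
  simpa only [one_mul, mul_one] using ded2 r_5_2 e1_51_2 e1_49_5 e1_49_2
theorem e1_51_6 : u1_51 * s 6 = s 0 * u1_51 := by
  simpa only [one_mul, mul_one] using ded2 r_6_2 e1_51_2 e1_49_6 e1_49_2
theorem e1_52_1 : u1_52 * s 1 = s 1 * u1_52 := by
  simpa only [one_mul, mul_one] using ded3 r_1_3 e1_52_3 e1_51_1 e1_50_3 e1_50_1 e1_51_3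
theorem e1_52_0 : u1_52 * s 0 = s 5 * u1_52 := by
  simpa only [one_mul, mul_one] using ded2 r_0_3 e1_52_3 e1_51_0 e1_51_3
theorem e1_53_3 : u1_53 * s 3 = s 3 * u1_53 := by
  simpa only [one_mul, mul_one] using ded3 r_3_4 e1_53_4 e1_52_3 e1_51_4 e1_51_3 e1_52_4
theorem e1_52_5 : u1_52 * s 5 = s 2 * u1_52 := by
  simpa only [one_mul, mul_one] using ded2 r_5_3 e1_52_3 e1_51_5 e1_51_3
theorem e1_52_6 : u1_52 * s 6 = s 0 * u1_52 := by
  simpa only [one_mul, mul_one] using ded2 r_6_3 e1_52_3 e1_51_6 e1_51_3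
theorem e1_53_0 : u1_53 * s 0 = s 5 * u1_53 := by
  simpa only [one_mul, mul_one] using ded2 r_0_4 e1_53_4 e1_52_0 e1_52_4
theorem e1_53_1 : u1_53 * s 1 = s 1 * u1_53 := by
  simpa only [one_mul, mul_one] using ded2 r_1_4 e1_53_4 e1_52_1 e1_52_4
theorem e1_53_2 : u1_53 * s 2 = s 4 * u1_53 := by
  simpa only [one_mul, mul_one] using ded2 r_2_4 e1_53_4 e1_52_2 e1_52_4
theorem e1_54_4 : u1_54 * s 4 = s 2 * u1_54 := by
  simpa only [one_mul, mul_one] using ded3 r_4_5 e1_54_5 e1_53_4 e1_52_5 e1_52_4 e1_53_5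
theorem e1_53_6 : u1_53 * s 6 = s 0 * u1_53 := by
  simpa only [one_mul, mul_one] using ded2 r_6_4 e1_53_4 e1_52_6 e1_52_4
theorem e1_54_0 : u1_54 * s 0 = s 5 * u1_54 := by
  simpa only [one_mul, mul_one] using ded2 r_0_5 e1_54_5 e1_53_0 e1_53_5
theorem e1_54_1 : u1_54 * s 1 = s 1 * u1_54 := by
  simpa only [one_mul, mul_one] using ded2 r_1_5 e1_54_5 e1_53_1 e1_53_5
theorem e1_54_2 : u1_54 * s 2 = s 4 * u1_54 := by
  simpa only [one_mul, mul_one] using ded2 r_2_5 e1_54_5 e1_53_2 e1_53_5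
theorem e1_54_3 : u1_54 * s 3 = s 3 * u1_54 := by
  simpa only [one_mul, mul_one] using ded2 r_3_5 e1_54_5 e1_53_3 e1_53_5
theorem e1_55_5 : u1_55 * s 5 = s 0 * u1_55 := by
  simpa only [one_mul, mul_one] using ded3 r_5_6 e1_55_6 e1_54_5 e1_53_6 e1_53_5 e1_54_6
theorem e1_55_0 : u1_55 * s 0 = s 5 * u1_55 := by
  simpa only [one_mul, mul_one] using ded2 r_0_6 e1_55_6 e1_54_0 e1_54_6
theorem e1_55_1 : u1_55 * s 1 = s 1 * u1_55 := by
  simpa only [one_mul, mul_one] using ded2 r_1_6 e1_55_6 e1_54_1 e1_54_6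
theorem e1_55_2 : u1_55 * s 2 = s 4 * u1_55 := by
  simpa only [one_mul, mul_one] using ded2 r_2_6 e1_55_6 e1_54_2 e1_54_6
theorem e1_55_3 : u1_55 * s 3 = s 3 * u1_55 := by
  simpa only [one_mul, mul_one] using ded2 r_3_6 e1_55_6 e1_54_3 e1_54_6
theorem e1_55_4 : u1_55 * s 4 = s 2 * u1_55 := by
  simpa only [one_mul, mul_one] using ded2 r_4_6 e1_55_6 e1_54_4 e1_54_6
def P1 (u : W) : Prop := u ∈ Subgroup.closure (gens M J1) ∧ ∀ x ∈ gens M J1, ∃ h ∈ Subgroup.closure (gens M J2), ∃ u' ∈ reps1, u * x = h * u'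
theorem mr1_0 : u1_0 ∈ reps1 := List.getElem_mem (l := reps1) (n := 0) (by decide)
theorem mr1_1 : u1_1 ∈ reps1 := List.getElem_mem (l := reps1) (n := 1) (by decide)
theorem mr1_2 : u1_2 ∈ reps1 := List.getElem_mem (l := reps1) (n := 2) (by decide)
theorem mr1_3 : u1_3 ∈ reps1 := List.getElem_mem (l := reps1) (n := 3) (by decide)
theorem mr1_4 : u1_4 ∈ reps1 := List.getElem_mem (l := reps1) (n := 4) (by decide)
theorem mr1_5 : u1_5 ∈ reps1 := List.getElem_mem (l := reps1) (n := 5) (by decide)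
theorem mr1_6 : u1_6 ∈ reps1 := List.getElem_mem (l := reps1) (n := 6) (by decide)
theorem mr1_7 : u1_7 ∈ reps1 := List.getElem_mem (l := reps1) (n := 7) (by decide)
theorem mr1_8 : u1_8 ∈ reps1 := List.getElem_mem (l := reps1) (n := 8) (by decide)
theorem mr1_9 : u1_9 ∈ reps1 := List.getElem_mem (l := reps1) (n := 9) (by decide)
theorem mr1_10 : u1_10 ∈ reps1 := List.getElem_mem (l := reps1) (n := 10) (by decide)
theorem mr1_11 : u1_11 ∈ reps1 := List.getElem_mem (l := reps1) (n := 11) (by decide)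
theorem mr1_12 : u1_12 ∈ reps1 := List.getElem_mem (l := reps1) (n := 12) (by decide)
theorem mr1_13 : u1_13 ∈ reps1 := List.getElem_mem (l := reps1) (n := 13) (by decide)
theorem mr1_14 : u1_14 ∈ reps1 := List.getElem_mem (l := reps1) (n := 14) (by decide)
theorem mr1_15 : u1_15 ∈ reps1 := List.getElem_mem (l := reps1) (n := 15) (by decide)
theorem mr1_16 : u1_16 ∈ reps1 := List.getElem_mem (l := reps1) (n := 16) (by decide)
theorem mr1_17 : u1_17 ∈ reps1 := List.getElem_mem (l := reps1) (n := 17) (by decide)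
theorem mr1_18 : u1_18 ∈ reps1 := List.getElem_mem (l := reps1) (n := 18) (by decide)
theorem mr1_19 : u1_19 ∈ reps1 := List.getElem_mem (l := reps1) (n := 19) (by decide)
theorem mr1_20 : u1_20 ∈ reps1 := List.getElem_mem (l := reps1) (n := 20) (by decide)
theorem mr1_21 : u1_21 ∈ reps1 := List.getElem_mem (l := reps1) (n := 21) (by decide)
theorem mr1_22 : u1_22 ∈ reps1 := List.getElem_mem (l := reps1) (n := 22) (by decide)
theorem mr1_23 : u1_23 ∈ reps1 := List.getElem_mem (l := reps1) (n := 23) (by decide)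
theorem mr1_24 : u1_24 ∈ reps1 := List.getElem_mem (l := reps1) (n := 24) (by decide)
theorem mr1_25 : u1_25 ∈ reps1 := List.getElem_mem (l := reps1) (n := 25) (by decide)
theorem mr1_26 : u1_26 ∈ reps1 := List.getElem_mem (l := reps1) (n := 26) (by decide)
theorem mr1_27 : u1_27 ∈ reps1 := List.getElem_mem (l := reps1) (n := 27) (by decide)
theorem mr1_28 : u1_28 ∈ reps1 := List.getElem_mem (l := reps1) (n := 28) (by decide)
theorem mr1_29 : u1_29 ∈ reps1 := List.getElem_mem (l := reps1) (n := 29) (by decide)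
theorem mr1_30 : u1_30 ∈ reps1 := List.getElem_mem (l := reps1) (n := 30) (by decide)
theorem mr1_31 : u1_31 ∈ reps1 := List.getElem_mem (l := reps1) (n := 31) (by decide)
theorem mr1_32 : u1_32 ∈ reps1 := List.getElem_mem (l := reps1) (n := 32) (by decide)
theorem mr1_33 : u1_33 ∈ reps1 := List.getElem_mem (l := reps1) (n := 33) (by decide)
theorem mr1_34 : u1_34 ∈ reps1 := List.getElem_mem (l := reps1) (n := 34) (by decide)
theorem mr1_35 : u1_35 ∈ reps1 := List.getElem_mem (l := reps1) (n := 35) (by decide)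
theorem mr1_36 : u1_36 ∈ reps1 := List.getElem_mem (l := reps1) (n := 36) (by decide)
theorem mr1_37 : u1_37 ∈ reps1 := List.getElem_mem (l := reps1) (n := 37) (by decide)
theorem mr1_38 : u1_38 ∈ reps1 := List.getElem_mem (l := reps1) (n := 38) (by decide)
theorem mr1_39 : u1_39 ∈ reps1 := List.getElem_mem (l := reps1) (n := 39) (by decide)
theorem mr1_40 : u1_40 ∈ reps1 := List.getElem_mem (l := reps1) (n := 40) (by decide)
theorem mr1_41 : u1_41 ∈ reps1 := List.getElem_mem (l := reps1) (n := 41) (by decide)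
theorem mr1_42 : u1_42 ∈ reps1 := List.getElem_mem (l := reps1) (n := 42) (by decide)
theorem mr1_43 : u1_43 ∈ reps1 := List.getElem_mem (l := reps1) (n := 43) (by decide)
theorem mr1_44 : u1_44 ∈ reps1 := List.getElem_mem (l := reps1) (n := 44) (by decide)
theorem mr1_45 : u1_45 ∈ reps1 := List.getElem_mem (l := reps1) (n := 45) (by decide)
theorem mr1_46 : u1_46 ∈ reps1 := List.getElem_mem (l := reps1) (n := 46) (by decide)
theorem mr1_47 : u1_47 ∈ reps1 := List.getElem_mem (l := reps1) (n := 47) (by decide)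
theorem mr1_48 : u1_48 ∈ reps1 := List.getElem_mem (l := reps1) (n := 48) (by decide)
theorem mr1_49 : u1_49 ∈ reps1 := List.getElem_mem (l := reps1) (n := 49) (by decide)
theorem mr1_50 : u1_50 ∈ reps1 := List.getElem_mem (l := reps1) (n := 50) (by decide)
theorem mr1_51 : u1_51 ∈ reps1 := List.getElem_mem (l := reps1) (n := 51) (by decide)
theorem mr1_52 : u1_52 ∈ reps1 := List.getElem_mem (l := reps1) (n := 52) (by decide)
theorem mr1_53 : u1_53 ∈ reps1 := List.getElem_mem (l := reps1) (n := 53) (by decide)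
theorem mr1_54 : u1_54 ∈ reps1 := List.getElem_mem (l := reps1) (n := 54) (by decide)
theorem mr1_55 : u1_55 ∈ reps1 := List.getElem_mem (l := reps1) (n := 55) (by decide)
theorem mm1_0 : u1_0 ∈ Subgroup.closure (gens M J1) := one_mem _
theorem mm1_1 : u1_1 ∈ Subgroup.closure (gens M J1) := mul_mem mm1_0 (Subgroup.subset_closure ⟨6, by decide, rfl⟩)
theorem mm1_2 : u1_2 ∈ Subgroup.closure (gens M J1) := mul_mem mm1_1 (Subgroup.subset_closure ⟨5, by decide, rfl⟩)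
theorem mm1_3 : u1_3 ∈ Subgroup.closure (gens M J1) := mul_mem mm1_2 (Subgroup.subset_closure ⟨4, by decide, rfl⟩)
theorem mm1_4 : u1_4 ∈ Subgroup.closure (gens M J1) := mul_mem mm1_3 (Subgroup.subset_closure ⟨3, by decide, rfl⟩)
theorem mm1_5 : u1_5 ∈ Subgroup.closure (gens M J1) := mul_mem mm1_4 (Subgroup.subset_closure ⟨1, by decide, rfl⟩)
theorem mm1_6 : u1_6 ∈ Subgroup.closure (gens M J1) := mul_mem mm1_4 (Subgroup.subset_closure ⟨2, by decide, rfl⟩)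
theorem mm1_7 : u1_7 ∈ Subgroup.closure (gens M J1) := mul_mem mm1_5 (Subgroup.subset_closure ⟨2, by decide, rfl⟩)
theorem mm1_8 : u1_8 ∈ Subgroup.closure (gens M J1) := mul_mem mm1_6 (Subgroup.subset_closure ⟨0, by decide, rfl⟩)
theorem mm1_9 : u1_9 ∈ Subgroup.closure (gens M J1) := mul_mem mm1_7 (Subgroup.subset_closure ⟨0, by decide, rfl⟩)
theorem mm1_10 : u1_10 ∈ Subgroup.closure (gens M J1) := mul_mem mm1_7 (Subgroup.subset_closure ⟨3, by decide, rfl⟩)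
theorem mm1_11 : u1_11 ∈ Subgroup.closure (gens M J1) := mul_mem mm1_9 (Subgroup.subset_closure ⟨3, by decide, rfl⟩)
theorem mm1_12 : u1_12 ∈ Subgroup.closure (gens M J1) := mul_mem mm1_10 (Subgroup.subset_closure ⟨4, by decide, rfl⟩)
theorem mm1_13 : u1_13 ∈ Subgroup.closure (gens M J1) := mul_mem mm1_11 (Subgroup.subset_closure ⟨2, by decide, rfl⟩)
theorem mm1_14 : u1_14 ∈ Subgroup.closure (gens M J1) := mul_mem mm1_11 (Subgroup.subset_closure ⟨4, by decide, rfl⟩)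
theorem mm1_15 : u1_15 ∈ Subgroup.closure (gens M J1) := mul_mem mm1_12 (Subgroup.subset_closure ⟨5, by decide, rfl⟩)
theorem mm1_16 : u1_16 ∈ Subgroup.closure (gens M J1) := mul_mem mm1_13 (Subgroup.subset_closure ⟨4, by decide, rfl⟩)
theorem mm1_17 : u1_17 ∈ Subgroup.closure (gens M J1) := mul_mem mm1_14 (Subgroup.subset_closure ⟨5, by decide, rfl⟩)
theorem mm1_18 : u1_18 ∈ Subgroup.closure (gens M J1) := mul_mem mm1_15 (Subgroup.subset_closure ⟨6, by decide, rfl⟩)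
theorem mm1_19 : u1_19 ∈ Subgroup.closure (gens M J1) := mul_mem mm1_16 (Subgroup.subset_closure ⟨3, by decide, rfl⟩)
theorem mm1_20 : u1_20 ∈ Subgroup.closure (gens M J1) := mul_mem mm1_16 (Subgroup.subset_closure ⟨5, by decide, rfl⟩)
theorem mm1_21 : u1_21 ∈ Subgroup.closure (gens M J1) := mul_mem mm1_17 (Subgroup.subset_closure ⟨6, by decide, rfl⟩)
theorem mm1_22 : u1_22 ∈ Subgroup.closure (gens M J1) := mul_mem mm1_19 (Subgroup.subset_closure ⟨1, by decide, rfl⟩)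
theorem mm1_23 : u1_23 ∈ Subgroup.closure (gens M J1) := mul_mem mm1_19 (Subgroup.subset_closure ⟨5, by decide, rfl⟩)
theorem mm1_24 : u1_24 ∈ Subgroup.closure (gens M J1) := mul_mem mm1_20 (Subgroup.subset_closure ⟨6, by decide, rfl⟩)
theorem mm1_25 : u1_25 ∈ Subgroup.closure (gens M J1) := mul_mem mm1_22 (Subgroup.subset_closure ⟨5, by decide, rfl⟩)
theorem mm1_26 : u1_26 ∈ Subgroup.closure (gens M J1) := mul_mem mm1_23 (Subgroup.subset_closure ⟨4, by decide, rfl⟩)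
theorem mm1_27 : u1_27 ∈ Subgroup.closure (gens M J1) := mul_mem mm1_23 (Subgroup.subset_closure ⟨6, by decide, rfl⟩)
theorem mm1_28 : u1_28 ∈ Subgroup.closure (gens M J1) := mul_mem mm1_25 (Subgroup.subset_closure ⟨4, by decide, rfl⟩)
theorem mm1_29 : u1_29 ∈ Subgroup.closure (gens M J1) := mul_mem mm1_25 (Subgroup.subset_closure ⟨6, by decide, rfl⟩)
theorem mm1_30 : u1_30 ∈ Subgroup.closure (gens M J1) := mul_mem mm1_26 (Subgroup.subset_closure ⟨6, by decide, rfl⟩)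
theorem mm1_31 : u1_31 ∈ Subgroup.closure (gens M J1) := mul_mem mm1_28 (Subgroup.subset_closure ⟨3, by decide, rfl⟩)
theorem mm1_32 : u1_32 ∈ Subgroup.closure (gens M J1) := mul_mem mm1_28 (Subgroup.subset_closure ⟨6, by decide, rfl⟩)
theorem mm1_33 : u1_33 ∈ Subgroup.closure (gens M J1) := mul_mem mm1_30 (Subgroup.subset_closure ⟨5, by decide, rfl⟩)
theorem mm1_34 : u1_34 ∈ Subgroup.closure (gens M J1) := mul_mem mm1_31 (Subgroup.subset_closure ⟨2, by decide, rfl⟩)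
theorem mm1_35 : u1_35 ∈ Subgroup.closure (gens M J1) := mul_mem mm1_31 (Subgroup.subset_closure ⟨6, by decide, rfl⟩)
theorem mm1_36 : u1_36 ∈ Subgroup.closure (gens M J1) := mul_mem mm1_32 (Subgroup.subset_closure ⟨5, by decide, rfl⟩)
theorem mm1_37 : u1_37 ∈ Subgroup.closure (gens M J1) := mul_mem mm1_34 (Subgroup.subset_closure ⟨0, by decide, rfl⟩)
theorem mm1_38 : u1_38 ∈ Subgroup.closure (gens M J1) := mul_mem mm1_34 (Subgroup.subset_closure ⟨6, by decide, rfl⟩)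
theorem mm1_39 : u1_39 ∈ Subgroup.closure (gens M J1) := mul_mem mm1_35 (Subgroup.subset_closure ⟨5, by decide, rfl⟩)
theorem mm1_40 : u1_40 ∈ Subgroup.closure (gens M J1) := mul_mem mm1_37 (Subgroup.subset_closure ⟨6, by decide, rfl⟩)
theorem mm1_41 : u1_41 ∈ Subgroup.closure (gens M J1) := mul_mem mm1_38 (Subgroup.subset_closure ⟨5, by decide, rfl⟩)
theorem mm1_42 : u1_42 ∈ Subgroup.closure (gens M J1) := mul_mem mm1_39 (Subgroup.subset_closure ⟨4, by decide, rfl⟩)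
theorem mm1_43 : u1_43 ∈ Subgroup.closure (gens M J1) := mul_mem mm1_40 (Subgroup.subset_closure ⟨5, by decide, rfl⟩)
theorem mm1_44 : u1_44 ∈ Subgroup.closure (gens M J1) := mul_mem mm1_41 (Subgroup.subset_closure ⟨4, by decide, rfl⟩)
theorem mm1_45 : u1_45 ∈ Subgroup.closure (gens M J1) := mul_mem mm1_43 (Subgroup.subset_closure ⟨4, by decide, rfl⟩)
theorem mm1_46 : u1_46 ∈ Subgroup.closure (gens M J1) := mul_mem mm1_44 (Subgroup.subset_closure ⟨3, by decide, rfl⟩)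
theorem mm1_47 : u1_47 ∈ Subgroup.closure (gens M J1) := mul_mem mm1_45 (Subgroup.subset_closure ⟨3, by decide, rfl⟩)
theorem mm1_48 : u1_48 ∈ Subgroup.closure (gens M J1) := mul_mem mm1_46 (Subgroup.subset_closure ⟨1, by decide, rfl⟩)
theorem mm1_49 : u1_49 ∈ Subgroup.closure (gens M J1) := mul_mem mm1_47 (Subgroup.subset_closure ⟨1, by decide, rfl⟩)
theorem mm1_50 : u1_50 ∈ Subgroup.closure (gens M J1) := mul_mem mm1_47 (Subgroup.subset_closure ⟨2, by decide, rfl⟩)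
theorem mm1_51 : u1_51 ∈ Subgroup.closure (gens M J1) := mul_mem mm1_49 (Subgroup.subset_closure ⟨2, by decide, rfl⟩)
theorem mm1_52 : u1_52 ∈ Subgroup.closure (gens M J1) := mul_mem mm1_51 (Subgroup.subset_closure ⟨3, by decide, rfl⟩)
theorem mm1_53 : u1_53 ∈ Subgroup.closure (gens M J1) := mul_mem mm1_52 (Subgroup.subset_closure ⟨4, by decide, rfl⟩)
theorem mm1_54 : u1_54 ∈ Subgroup.closure (gens M J1) := mul_mem mm1_53 (Subgroup.subset_closure ⟨5, by decide, rfl⟩)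
theorem mm1_55 : u1_55 ∈ Subgroup.closure (gens M J1) := mul_mem mm1_54 (Subgroup.subset_closure ⟨6, by decide, rfl⟩)
theorem c1_0 : P1 u1_0 := by
  refine ⟨mm1_0, ?_⟩
  rintro x ⟨j, hj, rfl⟩
  simp only [J1, List.mem_cons, List.not_mem_nil, or_false] at hj
  rcases hj with rfl | rfl | rfl | rfl | rfl | rfl | rfl
  · exact ⟨s 0, Subgroup.subset_closure ⟨0, by decide, rfl⟩, u1_0, mr1_0, e1_0_0⟩
  · exact ⟨s 1, Subgroup.subset_closure ⟨1, by decide, rfl⟩, u1_0, mr1_0, e1_0_1⟩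
  · exact ⟨s 2, Subgroup.subset_closure ⟨2, by decide, rfl⟩, u1_0, mr1_0, e1_0_2⟩
  · exact ⟨s 3, Subgroup.subset_closure ⟨3, by decide, rfl⟩, u1_0, mr1_0, e1_0_3⟩
  · exact ⟨s 4, Subgroup.subset_closure ⟨4, by decide, rfl⟩, u1_0, mr1_0, e1_0_4⟩
  · exact ⟨s 5, Subgroup.subset_closure ⟨5, by decide, rfl⟩, u1_0, mr1_0, e1_0_5⟩
  · exact ⟨1, one_mem _, u1_1, mr1_1, e1_0_6⟩
theorem c1_1 : P1 u1_1 := by
  refine ⟨mm1_1, ?_⟩
  rintro x ⟨j, hj, rfl⟩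
  simp only [J1, List.mem_cons, List.not_mem_nil, or_false] at hj
  rcases hj with rfl | rfl | rfl | rfl | rfl | rfl | rfl
  · exact ⟨s 0, Subgroup.subset_closure ⟨0, by decide, rfl⟩, u1_1, mr1_1, e1_1_0⟩
  · exact ⟨s 1, Subgroup.subset_closure ⟨1, by decide, rfl⟩, u1_1, mr1_1, e1_1_1⟩
  · exact ⟨s 2, Subgroup.subset_closure ⟨2, by decide, rfl⟩, u1_1, mr1_1, e1_1_2⟩
  · exact ⟨s 3, Subgroup.subset_closure ⟨3, by decide, rfl⟩, u1_1, mr1_1, e1_1_3⟩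
  · exact ⟨s 4, Subgroup.subset_closure ⟨4, by decide, rfl⟩, u1_1, mr1_1, e1_1_4⟩
  · exact ⟨1, one_mem _, u1_2, mr1_2, e1_1_5⟩
  · exact ⟨1, one_mem _, u1_0, mr1_0, e1_1_6⟩
theorem c1_2 : P1 u1_2 := by
  refine ⟨mm1_2, ?_⟩
  rintro x ⟨j, hj, rfl⟩
  simp only [J1, List.mem_cons, List.not_mem_nil, or_false] at hj
  rcases hj with rfl | rfl | rfl | rfl | rfl | rfl | rfl
  · exact ⟨s 0, Subgroup.subset_closure ⟨0, by decide, rfl⟩, u1_2, mr1_2, e1_2_0⟩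
  · exact ⟨s 1, Subgroup.subset_closure ⟨1, by decide, rfl⟩, u1_2, mr1_2, e1_2_1⟩
  · exact ⟨s 2, Subgroup.subset_closure ⟨2, by decide, rfl⟩, u1_2, mr1_2, e1_2_2⟩
  · exact ⟨s 3, Subgroup.subset_closure ⟨3, by decide, rfl⟩, u1_2, mr1_2, e1_2_3⟩
  · exact ⟨1, one_mem _, u1_3, mr1_3, e1_2_4⟩
  · exact ⟨1, one_mem _, u1_1, mr1_1, e1_2_5⟩
  · exact ⟨s 5, Subgroup.subset_closure ⟨5, by decide, rfl⟩, u1_2, mr1_2, e1_2_6⟩
theorem c1_3 : P1 u1_3 := by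
  refine ⟨mm1_3, ?_⟩
  rintro x ⟨j, hj, rfl⟩
  simp only [J1, List.mem_cons, List.not_mem_nil, or_false] at hj
  rcases hj with rfl | rfl | rfl | rfl | rfl | rfl | rfl
  · exact ⟨s 0, Subgroup.subset_closure ⟨0, by decide, rfl⟩, u1_3, mr1_3, e1_3_0⟩
  · exact ⟨s 1, Subgroup.subset_closure ⟨1, by decide, rfl⟩, u1_3, mr1_3, e1_3_1⟩
  · exact ⟨s 2, Subgroup.subset_closure ⟨2, by decide, rfl⟩, u1_3, mr1_3, e1_3_2⟩
  · exact ⟨1, one_mem _, u1_4, mr1_4, e1_3_3⟩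
  · exact ⟨1, one_mem _, u1_2, mr1_2, e1_3_4⟩
  · exact ⟨s 4, Subgroup.subset_closure ⟨4, by decide, rfl⟩, u1_3, mr1_3, e1_3_5⟩
  · exact ⟨s 5, Subgroup.subset_closure ⟨5, by decide, rfl⟩, u1_3, mr1_3, e1_3_6⟩
theorem c1_4 : P1 u1_4 := by
  refine ⟨mm1_4, ?_⟩
  rintro x ⟨j, hj, rfl⟩
  simp only [J1, List.mem_cons, List.not_mem_nil, or_false] at hj
  rcases hj with rfl | rfl | rfl | rfl | rfl | rfl | rfl
  · exact ⟨s 0, Subgroup.subset_closure ⟨0, by decide, rfl⟩, u1_4, mr1_4, e1_4_0⟩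
  · exact ⟨1, one_mem _, u1_5, mr1_5, e1_4_1⟩
  · exact ⟨1, one_mem _, u1_6, mr1_6, e1_4_2⟩
  · exact ⟨1, one_mem _, u1_3, mr1_3, e1_4_3⟩
  · exact ⟨s 3, Subgroup.subset_closure ⟨3, by decide, rfl⟩, u1_4, mr1_4, e1_4_4⟩
  · exact ⟨s 4, Subgroup.subset_closure ⟨4, by decide, rfl⟩, u1_4, mr1_4, e1_4_5⟩
  · exact ⟨s 5, Subgroup.subset_closure ⟨5, by decide, rfl⟩, u1_4, mr1_4, e1_4_6⟩
theorem c1_5 : P1 u1_5 := by
  refine ⟨mm1_5, ?_⟩
  rintro x ⟨j, hj, rfl⟩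
  simp only [J1, List.mem_cons, List.not_mem_nil, or_false] at hj
  rcases hj with rfl | rfl | rfl | rfl | rfl | rfl | rfl
  · exact ⟨s 0, Subgroup.subset_closure ⟨0, by decide, rfl⟩, u1_5, mr1_5, e1_5_0⟩
  · exact ⟨1, one_mem _, u1_4, mr1_4, e1_5_1⟩
  · exact ⟨1, one_mem _, u1_7, mr1_7, e1_5_2⟩
  · exact ⟨s 1, Subgroup.subset_closure ⟨1, by decide, rfl⟩, u1_5, mr1_5, e1_5_3⟩
  · exact ⟨s 3, Subgroup.subset_closure ⟨3, by decide, rfl⟩, u1_5, mr1_5, e1_5_4⟩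
  · exact ⟨s 4, Subgroup.subset_closure ⟨4, by decide, rfl⟩, u1_5, mr1_5, e1_5_5⟩
  · exact ⟨s 5, Subgroup.subset_closure ⟨5, by decide, rfl⟩, u1_5, mr1_5, e1_5_6⟩
theorem c1_6 : P1 u1_6 := by
  refine ⟨mm1_6, ?_⟩
  rintro x ⟨j, hj, rfl⟩
  simp only [J1, List.mem_cons, List.not_mem_nil, or_false] at hj
  rcases hj with rfl | rfl | rfl | rfl | rfl | rfl | rfl
  · exact ⟨1, one_mem _, u1_8, mr1_8, e1_6_0⟩
  · exact ⟨1, one_mem _, u1_7, mr1_7, e1_6_1⟩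
  · exact ⟨1, one_mem _, u1_4, mr1_4, e1_6_2⟩
  · exact ⟨s 2, Subgroup.subset_closure ⟨2, by decide, rfl⟩, u1_6, mr1_6, e1_6_3⟩
  · exact ⟨s 3, Subgroup.subset_closure ⟨3, by decide, rfl⟩, u1_6, mr1_6, e1_6_4⟩
  · exact ⟨s 4, Subgroup.subset_closure ⟨4, by decide, rfl⟩, u1_6, mr1_6, e1_6_5⟩
  · exact ⟨s 5, Subgroup.subset_closure ⟨5, by decide, rfl⟩, u1_6, mr1_6, e1_6_6⟩
theorem c1_7 : P1 u1_7 := by
  refine ⟨mm1_7, ?_⟩
  rintro x ⟨j, hj, rfl⟩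
  simp only [J1, List.mem_cons, List.not_mem_nil, or_false] at hj
  rcases hj with rfl | rfl | rfl | rfl | rfl | rfl | rfl
  · exact ⟨1, one_mem _, u1_9, mr1_9, e1_7_0⟩
  · exact ⟨1, one_mem _, u1_6, mr1_6, e1_7_1⟩
  · exact ⟨1, one_mem _, u1_5, mr1_5, e1_7_2⟩
  · exact ⟨1, one_mem _, u1_10, mr1_10, e1_7_3⟩
  · exact ⟨s 3, Subgroup.subset_closure ⟨3, by decide, rfl⟩, u1_7, mr1_7, e1_7_4⟩
  · exact ⟨s 4, Subgroup.subset_closure ⟨4, by decide, rfl⟩, u1_7, mr1_7, e1_7_5⟩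
  · exact ⟨s 5, Subgroup.subset_closure ⟨5, by decide, rfl⟩, u1_7, mr1_7, e1_7_6⟩
theorem c1_8 : P1 u1_8 := by
  refine ⟨mm1_8, ?_⟩
  rintro x ⟨j, hj, rfl⟩
  simp only [J1, List.mem_cons, List.not_mem_nil, or_false] at hj
  rcases hj with rfl | rfl | rfl | rfl | rfl | rfl | rfl
  · exact ⟨1, one_mem _, u1_6, mr1_6, e1_8_0⟩
  · exact ⟨1, one_mem _, u1_9, mr1_9, e1_8_1⟩
  · exact ⟨s 0, Subgroup.subset_closure ⟨0, by decide, rfl⟩, u1_8, mr1_8, e1_8_2⟩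
  · exact ⟨s 2, Subgroup.subset_closure ⟨2, by decide, rfl⟩, u1_8, mr1_8, e1_8_3⟩
  · exact ⟨s 3, Subgroup.subset_closure ⟨3, by decide, rfl⟩, u1_8, mr1_8, e1_8_4⟩
  · exact ⟨s 4, Subgroup.subset_closure ⟨4, by decide, rfl⟩, u1_8, mr1_8, e1_8_5⟩
  · exact ⟨s 5, Subgroup.subset_closure ⟨5, by decide, rfl⟩, u1_8, mr1_8, e1_8_6⟩
theorem c1_9 : P1 u1_9 := by
  refine ⟨mm1_9, ?_⟩
  rintro x ⟨j, hj, rfl⟩
  simp only [J1, List.mem_cons, List.not_mem_nil, or_false] at hj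
  rcases hj with rfl | rfl | rfl | rfl | rfl | rfl | rfl
  · exact ⟨1, one_mem _, u1_7, mr1_7, e1_9_0⟩
  · exact ⟨1, one_mem _, u1_8, mr1_8, e1_9_1⟩
  · exact ⟨s 0, Subgroup.subset_closure ⟨0, by decide, rfl⟩, u1_9, mr1_9, e1_9_2⟩
  · exact ⟨1, one_mem _, u1_11, mr1_11, e1_9_3⟩
  · exact ⟨s 3, Subgroup.subset_closure ⟨3, by decide, rfl⟩, u1_9, mr1_9, e1_9_4⟩
  · exact ⟨s 4, Subgroup.subset_closure ⟨4, by decide, rfl⟩, u1_9, mr1_9, e1_9_5⟩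
  · exact ⟨s 5, Subgroup.subset_closure ⟨5, by decide, rfl⟩, u1_9, mr1_9, e1_9_6⟩
theorem c1_10 : P1 u1_10 := by
  refine ⟨mm1_10, ?_⟩
  rintro x ⟨j, hj, rfl⟩
  simp only [J1, List.mem_cons, List.not_mem_nil, or_false] at hj
  rcases hj with rfl | rfl | rfl | rfl | rfl | rfl | rfl
  · exact ⟨1, one_mem _, u1_11, mr1_11, e1_10_0⟩
  · exact ⟨s 2, Subgroup.subset_closure ⟨2, by decide, rfl⟩, u1_10, mr1_10, e1_10_1⟩
  · exact ⟨s 1, Subgroup.subset_closure ⟨1, by decide, rfl⟩, u1_10, mr1_10, e1_10_2⟩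
  · exact ⟨1, one_mem _, u1_7, mr1_7, e1_10_3⟩
  · exact ⟨1, one_mem _, u1_12, mr1_12, e1_10_4⟩
  · exact ⟨s 4, Subgroup.subset_closure ⟨4, by decide, rfl⟩, u1_10, mr1_10, e1_10_5⟩
  · exact ⟨s 5, Subgroup.subset_closure ⟨5, by decide, rfl⟩, u1_10, mr1_10, e1_10_6⟩
theorem c1_11 : P1 u1_11 := by
  refine ⟨mm1_11, ?_⟩
  rintro x ⟨j, hj, rfl⟩
  simp only [J1, List.mem_cons, List.not_mem_nil, or_false] at hj
  rcases hj with rfl | rfl | rfl | rfl | rfl | rfl | rfl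
  · exact ⟨1, one_mem _, u1_10, mr1_10, e1_11_0⟩
  · exact ⟨s 2, Subgroup.subset_closure ⟨2, by decide, rfl⟩, u1_11, mr1_11, e1_11_1⟩
  · exact ⟨1, one_mem _, u1_13, mr1_13, e1_11_2⟩
  · exact ⟨1, one_mem _, u1_9, mr1_9, e1_11_3⟩
  · exact ⟨1, one_mem _, u1_14, mr1_14, e1_11_4⟩
  · exact ⟨s 4, Subgroup.subset_closure ⟨4, by decide, rfl⟩, u1_11, mr1_11, e1_11_5⟩
  · exact ⟨s 5, Subgroup.subset_closure ⟨5, by decide, rfl⟩, u1_11, mr1_11, e1_11_6⟩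
theorem c1_12 : P1 u1_12 := by
  refine ⟨mm1_12, ?_⟩
  rintro x ⟨j, hj, rfl⟩
  simp only [J1, List.mem_cons, List.not_mem_nil, or_false] at hj
  rcases hj with rfl | rfl | rfl | rfl | rfl | rfl | rfl
  · exact ⟨1, one_mem _, u1_14, mr1_14, e1_12_0⟩
  · exact ⟨s 2, Subgroup.subset_closure ⟨2, by decide, rfl⟩, u1_12, mr1_12, e1_12_1⟩
  · exact ⟨s 1, Subgroup.subset_closure ⟨1, by decide, rfl⟩, u1_12, mr1_12, e1_12_2⟩
  · exact ⟨s 3, Subgroup.subset_closure ⟨3, by decide, rfl⟩, u1_12, mr1_12, e1_12_3⟩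
  · exact ⟨1, one_mem _, u1_10, mr1_10, e1_12_4⟩
  · exact ⟨1, one_mem _, u1_15, mr1_15, e1_12_5⟩
  · exact ⟨s 5, Subgroup.subset_closure ⟨5, by decide, rfl⟩, u1_12, mr1_12, e1_12_6⟩
theorem c1_13 : P1 u1_13 := by
  refine ⟨mm1_13, ?_⟩
  rintro x ⟨j, hj, rfl⟩
  simp only [J1, List.mem_cons, List.not_mem_nil, or_false] at hj
  rcases hj with rfl | rfl | rfl | rfl | rfl | rfl | rfl
  · exact ⟨s 1, Subgroup.subset_closure ⟨1, by decide, rfl⟩, u1_13, mr1_13, e1_13_0⟩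
  · exact ⟨s 2, Subgroup.subset_closure ⟨2, by decide, rfl⟩, u1_13, mr1_13, e1_13_1⟩
  · exact ⟨1, one_mem _, u1_11, mr1_11, e1_13_2⟩
  · exact ⟨s 0, Subgroup.subset_closure ⟨0, by decide, rfl⟩, u1_13, mr1_13, e1_13_3⟩
  · exact ⟨1, one_mem _, u1_16, mr1_16, e1_13_4⟩
  · exact ⟨s 4, Subgroup.subset_closure ⟨4, by decide, rfl⟩, u1_13, mr1_13, e1_13_5⟩
  · exact ⟨s 5, Subgroup.subset_closure ⟨5, by decide, rfl⟩, u1_13, mr1_13, e1_13_6⟩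
theorem c1_14 : P1 u1_14 := by
  refine ⟨mm1_14, ?_⟩
  rintro x ⟨j, hj, rfl⟩
  simp only [J1, List.mem_cons, List.not_mem_nil, or_false] at hj
  rcases hj with rfl | rfl | rfl | rfl | rfl | rfl | rfl
  · exact ⟨1, one_mem _, u1_12, mr1_12, e1_14_0⟩
  · exact ⟨s 2, Subgroup.subset_closure ⟨2, by decide, rfl⟩, u1_14, mr1_14, e1_14_1⟩
  · exact ⟨1, one_mem _, u1_16, mr1_16, e1_14_2⟩
  · exact ⟨s 3, Subgroup.subset_closure ⟨3, by decide, rfl⟩, u1_14, mr1_14, e1_14_3⟩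
  · exact ⟨1, one_mem _, u1_11, mr1_11, e1_14_4⟩
  · exact ⟨1, one_mem _, u1_17, mr1_17, e1_14_5⟩
  · exact ⟨s 5, Subgroup.subset_closure ⟨5, by decide, rfl⟩, u1_14, mr1_14, e1_14_6⟩
theorem c1_15 : P1 u1_15 := by
  refine ⟨mm1_15, ?_⟩
  rintro x ⟨j, hj, rfl⟩
  simp only [J1, List.mem_cons, List.not_mem_nil, or_false] at hj
  rcases hj with rfl | rfl | rfl | rfl | rfl | rfl | rfl
  · exact ⟨1, one_mem _, u1_17, mr1_17, e1_15_0⟩
  · exact ⟨s 2, Subgroup.subset_closure ⟨2, by decide, rfl⟩, u1_15, mr1_15, e1_15_1⟩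
  · exact ⟨s 1, Subgroup.subset_closure ⟨1, by decide, rfl⟩, u1_15, mr1_15, e1_15_2⟩
  · exact ⟨s 3, Subgroup.subset_closure ⟨3, by decide, rfl⟩, u1_15, mr1_15, e1_15_3⟩
  · exact ⟨s 4, Subgroup.subset_closure ⟨4, by decide, rfl⟩, u1_15, mr1_15, e1_15_4⟩
  · exact ⟨1, one_mem _, u1_12, mr1_12, e1_15_5⟩
  · exact ⟨1, one_mem _, u1_18, mr1_18, e1_15_6⟩
theorem c1_16 : P1 u1_16 := by
  refine ⟨mm1_16, ?_⟩
  rintro x ⟨j, hj, rfl⟩
  simp only [J1, List.mem_cons, List.not_mem_nil, or_false] at hj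
  rcases hj with rfl | rfl | rfl | rfl | rfl | rfl | rfl
  · exact ⟨s 1, Subgroup.subset_closure ⟨1, by decide, rfl⟩, u1_16, mr1_16, e1_16_0⟩
  · exact ⟨s 2, Subgroup.subset_closure ⟨2, by decide, rfl⟩, u1_16, mr1_16, e1_16_1⟩
  · exact ⟨1, one_mem _, u1_14, mr1_14, e1_16_2⟩
  · exact ⟨1, one_mem _, u1_19, mr1_19, e1_16_3⟩
  · exact ⟨1, one_mem _, u1_13, mr1_13, e1_16_4⟩
  · exact ⟨1, one_mem _, u1_20, mr1_20, e1_16_5⟩
  · exact ⟨s 5, Subgroup.subset_closure ⟨5, by decide, rfl⟩, u1_16, mr1_16, e1_16_6⟩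
theorem c1_17 : P1 u1_17 := by
  refine ⟨mm1_17, ?_⟩
  rintro x ⟨j, hj, rfl⟩
  simp only [J1, List.mem_cons, List.not_mem_nil, or_false] at hj
  rcases hj with rfl | rfl | rfl | rfl | rfl | rfl | rfl
  · exact ⟨1, one_mem _, u1_15, mr1_15, e1_17_0⟩
  · exact ⟨s 2, Subgroup.subset_closure ⟨2, by decide, rfl⟩, u1_17, mr1_17, e1_17_1⟩
  · exact ⟨1, one_mem _, u1_20, mr1_20, e1_17_2⟩
  · exact ⟨s 3, Subgroup.subset_closure ⟨3, by decide, rfl⟩, u1_17, mr1_17, e1_17_3⟩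
  · exact ⟨s 4, Subgroup.subset_closure ⟨4, by decide, rfl⟩, u1_17, mr1_17, e1_17_4⟩
  · exact ⟨1, one_mem _, u1_14, mr1_14, e1_17_5⟩
  · exact ⟨1, one_mem _, u1_21, mr1_21, e1_17_6⟩
theorem c1_18 : P1 u1_18 := by
  refine ⟨mm1_18, ?_⟩
  rintro x ⟨j, hj, rfl⟩
  simp only [J1, List.mem_cons, List.not_mem_nil, or_false] at hj
  rcases hj with rfl | rfl | rfl | rfl | rfl | rfl | rfl
  · exact ⟨1, one_mem _, u1_21, mr1_21, e1_18_0⟩
  · exact ⟨s 2, Subgroup.subset_closure ⟨2, by decide, rfl⟩, u1_18, mr1_18, e1_18_1⟩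
  · exact ⟨s 1, Subgroup.subset_closure ⟨1, by decide, rfl⟩, u1_18, mr1_18, e1_18_2⟩
  · exact ⟨s 3, Subgroup.subset_closure ⟨3, by decide, rfl⟩, u1_18, mr1_18, e1_18_3⟩
  · exact ⟨s 4, Subgroup.subset_closure ⟨4, by decide, rfl⟩, u1_18, mr1_18, e1_18_4⟩
  · exact ⟨s 5, Subgroup.subset_closure ⟨5, by decide, rfl⟩, u1_18, mr1_18, e1_18_5⟩
  · exact ⟨1, one_mem _, u1_15, mr1_15, e1_18_6⟩
theorem c1_19 : P1 u1_19 := by
  refine ⟨mm1_19, ?_⟩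
  rintro x ⟨j, hj, rfl⟩
  simp only [J1, List.mem_cons, List.not_mem_nil, or_false] at hj
  rcases hj with rfl | rfl | rfl | rfl | rfl | rfl | rfl
  · exact ⟨s 1, Subgroup.subset_closure ⟨1, by decide, rfl⟩, u1_19, mr1_19, e1_19_0⟩
  · exact ⟨1, one_mem _, u1_22, mr1_22, e1_19_1⟩
  · exact ⟨s 3, Subgroup.subset_closure ⟨3, by decide, rfl⟩, u1_19, mr1_19, e1_19_2⟩
  · exact ⟨1, one_mem _, u1_16, mr1_16, e1_19_3⟩
  · exact ⟨s 0, Subgroup.subset_closure ⟨0, by decide, rfl⟩, u1_19, mr1_19, e1_19_4⟩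
  · exact ⟨1, one_mem _, u1_23, mr1_23, e1_19_5⟩
  · exact ⟨s 5, Subgroup.subset_closure ⟨5, by decide, rfl⟩, u1_19, mr1_19, e1_19_6⟩
theorem c1_20 : P1 u1_20 := by
  refine ⟨mm1_20, ?_⟩
  rintro x ⟨j, hj, rfl⟩
  simp only [J1, List.mem_cons, List.not_mem_nil, or_false] at hj
  rcases hj with rfl | rfl | rfl | rfl | rfl | rfl | rfl
  · exact ⟨s 1, Subgroup.subset_closure ⟨1, by decide, rfl⟩, u1_20, mr1_20, e1_20_0⟩
  · exact ⟨s 2, Subgroup.subset_closure ⟨2, by decide, rfl⟩, u1_20, mr1_20, e1_20_1⟩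
  · exact ⟨1, one_mem _, u1_17, mr1_17, e1_20_2⟩
  · exact ⟨1, one_mem _, u1_23, mr1_23, e1_20_3⟩
  · exact ⟨s 4, Subgroup.subset_closure ⟨4, by decide, rfl⟩, u1_20, mr1_20, e1_20_4⟩
  · exact ⟨1, one_mem _, u1_16, mr1_16, e1_20_5⟩
  · exact ⟨1, one_mem _, u1_24, mr1_24, e1_20_6⟩
theorem c1_21 : P1 u1_21 := by
  refine ⟨mm1_21, ?_⟩
  rintro x ⟨j, hj, rfl⟩
  simp only [J1, List.mem_cons, List.not_mem_nil, or_false] at hj
  rcases hj with rfl | rfl | rfl | rfl | rfl | rfl | rfl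
  · exact ⟨1, one_mem _, u1_18, mr1_18, e1_21_0⟩
  · exact ⟨s 2, Subgroup.subset_closure ⟨2, by decide, rfl⟩, u1_21, mr1_21, e1_21_1⟩
  · exact ⟨1, one_mem _, u1_24, mr1_24, e1_21_2⟩
  · exact ⟨s 3, Subgroup.subset_closure ⟨3, by decide, rfl⟩, u1_21, mr1_21, e1_21_3⟩
  · exact ⟨s 4, Subgroup.subset_closure ⟨4, by decide, rfl⟩, u1_21, mr1_21, e1_21_4⟩
  · exact ⟨s 5, Subgroup.subset_closure ⟨5, by decide, rfl⟩, u1_21, mr1_21, e1_21_5⟩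
  · exact ⟨1, one_mem _, u1_17, mr1_17, e1_21_6⟩
theorem c1_22 : P1 u1_22 := by
  refine ⟨mm1_22, ?_⟩
  rintro x ⟨j, hj, rfl⟩
  simp only [J1, List.mem_cons, List.not_mem_nil, or_false] at hj
  rcases hj with rfl | rfl | rfl | rfl | rfl | rfl | rfl
  · exact ⟨s 1, Subgroup.subset_closure ⟨1, by decide, rfl⟩, u1_22, mr1_22, e1_22_0⟩
  · exact ⟨1, one_mem _, u1_19, mr1_19, e1_22_1⟩
  · exact ⟨s 3, Subgroup.subset_closure ⟨3, by decide, rfl⟩, u1_22, mr1_22, e1_22_2⟩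
  · exact ⟨s 2, Subgroup.subset_closure ⟨2, by decide, rfl⟩, u1_22, mr1_22, e1_22_3⟩
  · exact ⟨s 0, Subgroup.subset_closure ⟨0, by decide, rfl⟩, u1_22, mr1_22, e1_22_4⟩
  · exact ⟨1, one_mem _, u1_25, mr1_25, e1_22_5⟩
  · exact ⟨s 5, Subgroup.subset_closure ⟨5, by decide, rfl⟩, u1_22, mr1_22, e1_22_6⟩
theorem c1_23 : P1 u1_23 := by
  refine ⟨mm1_23, ?_⟩
  rintro x ⟨j, hj, rfl⟩
  simp only [J1, List.mem_cons, List.not_mem_nil, or_false] at hj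
  rcases hj with rfl | rfl | rfl | rfl | rfl | rfl | rfl
  · exact ⟨s 1, Subgroup.subset_closure ⟨1, by decide, rfl⟩, u1_23, mr1_23, e1_23_0⟩
  · exact ⟨1, one_mem _, u1_25, mr1_25, e1_23_1⟩
  · exact ⟨s 3, Subgroup.subset_closure ⟨3, by decide, rfl⟩, u1_23, mr1_23, e1_23_2⟩
  · exact ⟨1, one_mem _, u1_20, mr1_20, e1_23_3⟩
  · exact ⟨1, one_mem _, u1_26, mr1_26, e1_23_4⟩
  · exact ⟨1, one_mem _, u1_19, mr1_19, e1_23_5⟩
  · exact ⟨1, one_mem _, u1_27, mr1_27, e1_23_6⟩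
theorem c1_24 : P1 u1_24 := by
  refine ⟨mm1_24, ?_⟩
  rintro x ⟨j, hj, rfl⟩
  simp only [J1, List.mem_cons, List.not_mem_nil, or_false] at hj
  rcases hj with rfl | rfl | rfl | rfl | rfl | rfl | rfl
  · exact ⟨s 1, Subgroup.subset_closure ⟨1, by decide, rfl⟩, u1_24, mr1_24, e1_24_0⟩
  · exact ⟨s 2, Subgroup.subset_closure ⟨2, by decide, rfl⟩, u1_24, mr1_24, e1_24_1⟩
  · exact ⟨1, one_mem _, u1_21, mr1_21, e1_24_2⟩
  · exact ⟨1, one_mem _, u1_27, mr1_27, e1_24_3⟩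
  · exact ⟨s 4, Subgroup.subset_closure ⟨4, by decide, rfl⟩, u1_24, mr1_24, e1_24_4⟩
  · exact ⟨s 5, Subgroup.subset_closure ⟨5, by decide, rfl⟩, u1_24, mr1_24, e1_24_5⟩
  · exact ⟨1, one_mem _, u1_20, mr1_20, e1_24_6⟩
theorem c1_25 : P1 u1_25 := by
  refine ⟨mm1_25, ?_⟩
  rintro x ⟨j, hj, rfl⟩
  simp only [J1, List.mem_cons, List.not_mem_nil, or_false] at hj
  rcases hj with rfl | rfl | rfl | rfl | rfl | rfl | rfl
  · exact ⟨s 1, Subgroup.subset_closure ⟨1, by decide, rfl⟩, u1_25, mr1_25, e1_25_0⟩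
  · exact ⟨1, one_mem _, u1_23, mr1_23, e1_25_1⟩
  · exact ⟨s 3, Subgroup.subset_closure ⟨3, by decide, rfl⟩, u1_25, mr1_25, e1_25_2⟩
  · exact ⟨s 2, Subgroup.subset_closure ⟨2, by decide, rfl⟩, u1_25, mr1_25, e1_25_3⟩
  · exact ⟨1, one_mem _, u1_28, mr1_28, e1_25_4⟩
  · exact ⟨1, one_mem _, u1_22, mr1_22, e1_25_5⟩
  · exact ⟨1, one_mem _, u1_29, mr1_29, e1_25_6⟩
theorem c1_26 : P1 u1_26 := by
  refine ⟨mm1_26, ?_⟩
  rintro x ⟨j, hj, rfl⟩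
  simp only [J1, List.mem_cons, List.not_mem_nil, or_false] at hj
  rcases hj with rfl | rfl | rfl | rfl | rfl | rfl | rfl
  · exact ⟨s 1, Subgroup.subset_closure ⟨1, by decide, rfl⟩, u1_26, mr1_26, e1_26_0⟩
  · exact ⟨1, one_mem _, u1_28, mr1_28, e1_26_1⟩
  · exact ⟨s 3, Subgroup.subset_closure ⟨3, by decide, rfl⟩, u1_26, mr1_26, e1_26_2⟩
  · exact ⟨s 4, Subgroup.subset_closure ⟨4, by decide, rfl⟩, u1_26, mr1_26, e1_26_3⟩
  · exact ⟨1, one_mem _, u1_23, mr1_23, e1_26_4⟩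
  · exact ⟨s 0, Subgroup.subset_closure ⟨0, by decide, rfl⟩, u1_26, mr1_26, e1_26_5⟩
  · exact ⟨1, one_mem _, u1_30, mr1_30, e1_26_6⟩
theorem c1_27 : P1 u1_27 := by
  refine ⟨mm1_27, ?_⟩
  rintro x ⟨j, hj, rfl⟩
  simp only [J1, List.mem_cons, List.not_mem_nil, or_false] at hj
  rcases hj with rfl | rfl | rfl | rfl | rfl | rfl | rfl
  · exact ⟨s 1, Subgroup.subset_closure ⟨1, by decide, rfl⟩, u1_27, mr1_27, e1_27_0⟩
  · exact ⟨1, one_mem _, u1_29, mr1_29, e1_27_1⟩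
  · exact ⟨s 3, Subgroup.subset_closure ⟨3, by decide, rfl⟩, u1_27, mr1_27, e1_27_2⟩
  · exact ⟨1, one_mem _, u1_24, mr1_24, e1_27_3⟩
  · exact ⟨1, one_mem _, u1_30, mr1_30, e1_27_4⟩
  · exact ⟨s 5, Subgroup.subset_closure ⟨5, by decide, rfl⟩, u1_27, mr1_27, e1_27_5⟩
  · exact ⟨1, one_mem _, u1_23, mr1_23, e1_27_6⟩
theorem c1_28 : P1 u1_28 := by
  refine ⟨mm1_28, ?_⟩
  rintro x ⟨j, hj, rfl⟩
  simp only [J1, List.mem_cons, List.not_mem_nil, or_false] at hj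
  rcases hj with rfl | rfl | rfl | rfl | rfl | rfl | rfl
  · exact ⟨s 1, Subgroup.subset_closure ⟨1, by decide, rfl⟩, u1_28, mr1_28, e1_28_0⟩
  · exact ⟨1, one_mem _, u1_26, mr1_26, e1_28_1⟩
  · exact ⟨s 3, Subgroup.subset_closure ⟨3, by decide, rfl⟩, u1_28, mr1_28, e1_28_2⟩
  · exact ⟨1, one_mem _, u1_31, mr1_31, e1_28_3⟩
  · exact ⟨1, one_mem _, u1_25, mr1_25, e1_28_4⟩
  · exact ⟨s 0, Subgroup.subset_closure ⟨0, by decide, rfl⟩, u1_28, mr1_28, e1_28_5⟩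
  · exact ⟨1, one_mem _, u1_32, mr1_32, e1_28_6⟩
theorem c1_29 : P1 u1_29 := by
  refine ⟨mm1_29, ?_⟩
  rintro x ⟨j, hj, rfl⟩
  simp only [J1, List.mem_cons, List.not_mem_nil, or_false] at hj
  rcases hj with rfl | rfl | rfl | rfl | rfl | rfl | rfl
  · exact ⟨s 1, Subgroup.subset_closure ⟨1, by decide, rfl⟩, u1_29, mr1_29, e1_29_0⟩
  · exact ⟨1, one_mem _, u1_27, mr1_27, e1_29_1⟩
  · exact ⟨s 3, Subgroup.subset_closure ⟨3, by decide, rfl⟩, u1_29, mr1_29, e1_29_2⟩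
  · exact ⟨s 2, Subgroup.subset_closure ⟨2, by decide, rfl⟩, u1_29, mr1_29, e1_29_3⟩
  · exact ⟨1, one_mem _, u1_32, mr1_32, e1_29_4⟩
  · exact ⟨s 5, Subgroup.subset_closure ⟨5, by decide, rfl⟩, u1_29, mr1_29, e1_29_5⟩
  · exact ⟨1, one_mem _, u1_25, mr1_25, e1_29_6⟩
theorem c1_30 : P1 u1_30 := by
  refine ⟨mm1_30, ?_⟩
  rintro x ⟨j, hj, rfl⟩
  simp only [J1, List.mem_cons, List.not_mem_nil, or_false] at hj
  rcases hj with rfl | rfl | rfl | rfl | rfl | rfl | rfl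
  · exact ⟨s 1, Subgroup.subset_closure ⟨1, by decide, rfl⟩, u1_30, mr1_30, e1_30_0⟩
  · exact ⟨1, one_mem _, u1_32, mr1_32, e1_30_1⟩
  · exact ⟨s 3, Subgroup.subset_closure ⟨3, by decide, rfl⟩, u1_30, mr1_30, e1_30_2⟩
  · exact ⟨s 4, Subgroup.subset_closure ⟨4, by decide, rfl⟩, u1_30, mr1_30, e1_30_3⟩
  · exact ⟨1, one_mem _, u1_27, mr1_27, e1_30_4⟩
  · exact ⟨1, one_mem _, u1_33, mr1_33, e1_30_5⟩
  · exact ⟨1, one_mem _, u1_26, mr1_26, e1_30_6⟩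
theorem c1_31 : P1 u1_31 := by
  refine ⟨mm1_31, ?_⟩
  rintro x ⟨j, hj, rfl⟩
  simp only [J1, List.mem_cons, List.not_mem_nil, or_false] at hj
  rcases hj with rfl | rfl | rfl | rfl | rfl | rfl | rfl
  · exact ⟨s 1, Subgroup.subset_closure ⟨1, by decide, rfl⟩, u1_31, mr1_31, e1_31_0⟩
  · exact ⟨s 4, Subgroup.subset_closure ⟨4, by decide, rfl⟩, u1_31, mr1_31, e1_31_1⟩
  · exact ⟨1, one_mem _, u1_34, mr1_34, e1_31_2⟩
  · exact ⟨1, one_mem _, u1_28, mr1_28, e1_31_3⟩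
  · exact ⟨s 2, Subgroup.subset_closure ⟨2, by decide, rfl⟩, u1_31, mr1_31, e1_31_4⟩
  · exact ⟨s 0, Subgroup.subset_closure ⟨0, by decide, rfl⟩, u1_31, mr1_31, e1_31_5⟩
  · exact ⟨1, one_mem _, u1_35, mr1_35, e1_31_6⟩
theorem c1_32 : P1 u1_32 := by
  refine ⟨mm1_32, ?_⟩
  rintro x ⟨j, hj, rfl⟩
  simp only [J1, List.mem_cons, List.not_mem_nil, or_false] at hj
  rcases hj with rfl | rfl | rfl | rfl | rfl | rfl | rfl
  · exact ⟨s 1, Subgroup.subset_closure ⟨1, by decide, rfl⟩, u1_32, mr1_32, e1_32_0⟩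
  · exact ⟨1, one_mem _, u1_30, mr1_30, e1_32_1⟩
  · exact ⟨s 3, Subgroup.subset_closure ⟨3, by decide, rfl⟩, u1_32, mr1_32, e1_32_2⟩
  · exact ⟨1, one_mem _, u1_35, mr1_35, e1_32_3⟩
  · exact ⟨1, one_mem _, u1_29, mr1_29, e1_32_4⟩
  · exact ⟨1, one_mem _, u1_36, mr1_36, e1_32_5⟩
  · exact ⟨1, one_mem _, u1_28, mr1_28, e1_32_6⟩
theorem c1_33 : P1 u1_33 := by
  refine ⟨mm1_33, ?_⟩
  rintro x ⟨j, hj, rfl⟩
  simp only [J1, List.mem_cons, List.not_mem_nil, or_false] at hj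
  rcases hj with rfl | rfl | rfl | rfl | rfl | rfl | rfl
  · exact ⟨s 1, Subgroup.subset_closure ⟨1, by decide, rfl⟩, u1_33, mr1_33, e1_33_0⟩
  · exact ⟨1, one_mem _, u1_36, mr1_36, e1_33_1⟩
  · exact ⟨s 3, Subgroup.subset_closure ⟨3, by decide, rfl⟩, u1_33, mr1_33, e1_33_2⟩
  · exact ⟨s 4, Subgroup.subset_closure ⟨4, by decide, rfl⟩, u1_33, mr1_33, e1_33_3⟩
  · exact ⟨s 5, Subgroup.subset_closure ⟨5, by decide, rfl⟩, u1_33, mr1_33, e1_33_4⟩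
  · exact ⟨1, one_mem _, u1_30, mr1_30, e1_33_5⟩
  · exact ⟨s 0, Subgroup.subset_closure ⟨0, by decide, rfl⟩, u1_33, mr1_33, e1_33_6⟩
theorem c1_34 : P1 u1_34 := by
  refine ⟨mm1_34, ?_⟩
  rintro x ⟨j, hj, rfl⟩
  simp only [J1, List.mem_cons, List.not_mem_nil, or_false] at hj
  rcases hj with rfl | rfl | rfl | rfl | rfl | rfl | rfl
  · exact ⟨1, one_mem _, u1_37, mr1_37, e1_34_0⟩
  · exact ⟨s 4, Subgroup.subset_closure ⟨4, by decide, rfl⟩, u1_34, mr1_34, e1_34_1⟩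
  · exact ⟨1, one_mem _, u1_31, mr1_31, e1_34_2⟩
  · exact ⟨s 3, Subgroup.subset_closure ⟨3, by decide, rfl⟩, u1_34, mr1_34, e1_34_3⟩
  · exact ⟨s 2, Subgroup.subset_closure ⟨2, by decide, rfl⟩, u1_34, mr1_34, e1_34_4⟩
  · exact ⟨s 0, Subgroup.subset_closure ⟨0, by decide, rfl⟩, u1_34, mr1_34, e1_34_5⟩
  · exact ⟨1, one_mem _, u1_38, mr1_38, e1_34_6⟩
theorem c1_35 : P1 u1_35 := by
  refine ⟨mm1_35, ?_⟩
  rintro x ⟨j, hj, rfl⟩
  simp only [J1, List.mem_cons, List.not_mem_nil, or_false] at hj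
  rcases hj with rfl | rfl | rfl | rfl | rfl | rfl | rfl
  · exact ⟨s 1, Subgroup.subset_closure ⟨1, by decide, rfl⟩, u1_35, mr1_35, e1_35_0⟩
  · exact ⟨s 4, Subgroup.subset_closure ⟨4, by decide, rfl⟩, u1_35, mr1_35, e1_35_1⟩
  · exact ⟨1, one_mem _, u1_38, mr1_38, e1_35_2⟩
  · exact ⟨1, one_mem _, u1_32, mr1_32, e1_35_3⟩
  · exact ⟨s 2, Subgroup.subset_closure ⟨2, by decide, rfl⟩, u1_35, mr1_35, e1_35_4⟩
  · exact ⟨1, one_mem _, u1_39, mr1_39, e1_35_5⟩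
  · exact ⟨1, one_mem _, u1_31, mr1_31, e1_35_6⟩
theorem c1_36 : P1 u1_36 := by
  refine ⟨mm1_36, ?_⟩
  rintro x ⟨j, hj, rfl⟩
  simp only [J1, List.mem_cons, List.not_mem_nil, or_false] at hj
  rcases hj with rfl | rfl | rfl | rfl | rfl | rfl | rfl
  · exact ⟨s 1, Subgroup.subset_closure ⟨1, by decide, rfl⟩, u1_36, mr1_36, e1_36_0⟩
  · exact ⟨1, one_mem _, u1_33, mr1_33, e1_36_1⟩
  · exact ⟨s 3, Subgroup.subset_closure ⟨3, by decide, rfl⟩, u1_36, mr1_36, e1_36_2⟩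
  · exact ⟨1, one_mem _, u1_39, mr1_39, e1_36_3⟩
  · exact ⟨s 5, Subgroup.subset_closure ⟨5, by decide, rfl⟩, u1_36, mr1_36, e1_36_4⟩
  · exact ⟨1, one_mem _, u1_32, mr1_32, e1_36_5⟩
  · exact ⟨s 0, Subgroup.subset_closure ⟨0, by decide, rfl⟩, u1_36, mr1_36, e1_36_6⟩
theorem c1_37 : P1 u1_37 := by
  refine ⟨mm1_37, ?_⟩
  rintro x ⟨j, hj, rfl⟩
  simp only [J1, List.mem_cons, List.not_mem_nil, or_false] at hj
  rcases hj with rfl | rfl | rfl | rfl | rfl | rfl | rfl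
  · exact ⟨1, one_mem _, u1_34, mr1_34, e1_37_0⟩
  · exact ⟨s 4, Subgroup.subset_closure ⟨4, by decide, rfl⟩, u1_37, mr1_37, e1_37_1⟩
  · exact ⟨s 1, Subgroup.subset_closure ⟨1, by decide, rfl⟩, u1_37, mr1_37, e1_37_2⟩
  · exact ⟨s 3, Subgroup.subset_closure ⟨3, by decide, rfl⟩, u1_37, mr1_37, e1_37_3⟩
  · exact ⟨s 2, Subgroup.subset_closure ⟨2, by decide, rfl⟩, u1_37, mr1_37, e1_37_4⟩
  · exact ⟨s 0, Subgroup.subset_closure ⟨0, by decide, rfl⟩, u1_37, mr1_37, e1_37_5⟩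
  · exact ⟨1, one_mem _, u1_40, mr1_40, e1_37_6⟩
theorem c1_38 : P1 u1_38 := by
  refine ⟨mm1_38, ?_⟩
  rintro x ⟨j, hj, rfl⟩
  simp only [J1, List.mem_cons, List.not_mem_nil, or_false] at hj
  rcases hj with rfl | rfl | rfl | rfl | rfl | rfl | rfl
  · exact ⟨1, one_mem _, u1_40, mr1_40, e1_38_0⟩
  · exact ⟨s 4, Subgroup.subset_closure ⟨4, by decide, rfl⟩, u1_38, mr1_38, e1_38_1⟩
  · exact ⟨1, one_mem _, u1_35, mr1_35, e1_38_2⟩
  · exact ⟨s 3, Subgroup.subset_closure ⟨3, by decide, rfl⟩, u1_38, mr1_38, e1_38_3⟩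
  · exact ⟨s 2, Subgroup.subset_closure ⟨2, by decide, rfl⟩, u1_38, mr1_38, e1_38_4⟩
  · exact ⟨1, one_mem _, u1_41, mr1_41, e1_38_5⟩
  · exact ⟨1, one_mem _, u1_34, mr1_34, e1_38_6⟩
theorem c1_39 : P1 u1_39 := by
  refine ⟨mm1_39, ?_⟩
  rintro x ⟨j, hj, rfl⟩
  simp only [J1, List.mem_cons, List.not_mem_nil, or_false] at hj
  rcases hj with rfl | rfl | rfl | rfl | rfl | rfl | rfl
  · exact ⟨s 1, Subgroup.subset_closure ⟨1, by decide, rfl⟩, u1_39, mr1_39, e1_39_0⟩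
  · exact ⟨s 4, Subgroup.subset_closure ⟨4, by decide, rfl⟩, u1_39, mr1_39, e1_39_1⟩
  · exact ⟨1, one_mem _, u1_41, mr1_41, e1_39_2⟩
  · exact ⟨1, one_mem _, u1_36, mr1_36, e1_39_3⟩
  · exact ⟨1, one_mem _, u1_42, mr1_42, e1_39_4⟩
  · exact ⟨1, one_mem _, u1_35, mr1_35, e1_39_5⟩
  · exact ⟨s 0, Subgroup.subset_closure ⟨0, by decide, rfl⟩, u1_39, mr1_39, e1_39_6⟩
theorem c1_40 : P1 u1_40 := by
  refine ⟨mm1_40, ?_⟩
  rintro x ⟨j, hj, rfl⟩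
  simp only [J1, List.mem_cons, List.not_mem_nil, or_false] at hj
  rcases hj with rfl | rfl | rfl | rfl | rfl | rfl | rfl
  · exact ⟨1, one_mem _, u1_38, mr1_38, e1_40_0⟩
  · exact ⟨s 4, Subgroup.subset_closure ⟨4, by decide, rfl⟩, u1_40, mr1_40, e1_40_1⟩
  · exact ⟨s 1, Subgroup.subset_closure ⟨1, by decide, rfl⟩, u1_40, mr1_40, e1_40_2⟩
  · exact ⟨s 3, Subgroup.subset_closure ⟨3, by decide, rfl⟩, u1_40, mr1_40, e1_40_3⟩
  · exact ⟨s 2, Subgroup.subset_closure ⟨2, by decide, rfl⟩, u1_40, mr1_40, e1_40_4⟩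
  · exact ⟨1, one_mem _, u1_43, mr1_43, e1_40_5⟩
  · exact ⟨1, one_mem _, u1_37, mr1_37, e1_40_6⟩
theorem c1_41 : P1 u1_41 := by
  refine ⟨mm1_41, ?_⟩
  rintro x ⟨j, hj, rfl⟩
  simp only [J1, List.mem_cons, List.not_mem_nil, or_false] at hj
  rcases hj with rfl | rfl | rfl | rfl | rfl | rfl | rfl
  · exact ⟨1, one_mem _, u1_43, mr1_43, e1_41_0⟩
  · exact ⟨s 4, Subgroup.subset_closure ⟨4, by decide, rfl⟩, u1_41, mr1_41, e1_41_1⟩
  · exact ⟨1, one_mem _, u1_39, mr1_39, e1_41_2⟩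
  · exact ⟨s 3, Subgroup.subset_closure ⟨3, by decide, rfl⟩, u1_41, mr1_41, e1_41_3⟩
  · exact ⟨1, one_mem _, u1_44, mr1_44, e1_41_4⟩
  · exact ⟨1, one_mem _, u1_38, mr1_38, e1_41_5⟩
  · exact ⟨s 0, Subgroup.subset_closure ⟨0, by decide, rfl⟩, u1_41, mr1_41, e1_41_6⟩
theorem c1_42 : P1 u1_42 := by
  refine ⟨mm1_42, ?_⟩
  rintro x ⟨j, hj, rfl⟩
  simp only [J1, List.mem_cons, List.not_mem_nil, or_false] at hj
  rcases hj with rfl | rfl | rfl | rfl | rfl | rfl | rfl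
  · exact ⟨s 1, Subgroup.subset_closure ⟨1, by decide, rfl⟩, u1_42, mr1_42, e1_42_0⟩
  · exact ⟨s 4, Subgroup.subset_closure ⟨4, by decide, rfl⟩, u1_42, mr1_42, e1_42_1⟩
  · exact ⟨1, one_mem _, u1_44, mr1_44, e1_42_2⟩
  · exact ⟨s 5, Subgroup.subset_closure ⟨5, by decide, rfl⟩, u1_42, mr1_42, e1_42_3⟩
  · exact ⟨1, one_mem _, u1_39, mr1_39, e1_42_4⟩
  · exact ⟨s 2, Subgroup.subset_closure ⟨2, by decide, rfl⟩, u1_42, mr1_42, e1_42_5⟩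
  · exact ⟨s 0, Subgroup.subset_closure ⟨0, by decide, rfl⟩, u1_42, mr1_42, e1_42_6⟩
theorem c1_43 : P1 u1_43 := by
  refine ⟨mm1_43, ?_⟩
  rintro x ⟨j, hj, rfl⟩
  simp only [J1, List.mem_cons, List.not_mem_nil, or_false] at hj
  rcases hj with rfl | rfl | rfl | rfl | rfl | rfl | rfl
  · exact ⟨1, one_mem _, u1_41, mr1_41, e1_43_0⟩
  · exact ⟨s 4, Subgroup.subset_closure ⟨4, by decide, rfl⟩, u1_43, mr1_43, e1_43_1⟩
  · exact ⟨s 1, Subgroup.subset_closure ⟨1, by decide, rfl⟩, u1_43, mr1_43, e1_43_2⟩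
  · exact ⟨s 3, Subgroup.subset_closure ⟨3, by decide, rfl⟩, u1_43, mr1_43, e1_43_3⟩
  · exact ⟨1, one_mem _, u1_45, mr1_45, e1_43_4⟩
  · exact ⟨1, one_mem _, u1_40, mr1_40, e1_43_5⟩
  · exact ⟨s 0, Subgroup.subset_closure ⟨0, by decide, rfl⟩, u1_43, mr1_43, e1_43_6⟩
theorem c1_44 : P1 u1_44 := by
  refine ⟨mm1_44, ?_⟩
  rintro x ⟨j, hj, rfl⟩
  simp only [J1, List.mem_cons, List.not_mem_nil, or_false] at hj
  rcases hj with rfl | rfl | rfl | rfl | rfl | rfl | rfl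
  · exact ⟨1, one_mem _, u1_45, mr1_45, e1_44_0⟩
  · exact ⟨s 4, Subgroup.subset_closure ⟨4, by decide, rfl⟩, u1_44, mr1_44, e1_44_1⟩
  · exact ⟨1, one_mem _, u1_42, mr1_42, e1_44_2⟩
  · exact ⟨1, one_mem _, u1_46, mr1_46, e1_44_3⟩
  · exact ⟨1, one_mem _, u1_41, mr1_41, e1_44_4⟩
  · exact ⟨s 2, Subgroup.subset_closure ⟨2, by decide, rfl⟩, u1_44, mr1_44, e1_44_5⟩
  · exact ⟨s 0, Subgroup.subset_closure ⟨0, by decide, rfl⟩, u1_44, mr1_44, e1_44_6⟩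
theorem c1_45 : P1 u1_45 := by
  refine ⟨mm1_45, ?_⟩
  rintro x ⟨j, hj, rfl⟩
  simp only [J1, List.mem_cons, List.not_mem_nil, or_false] at hj
  rcases hj with rfl | rfl | rfl | rfl | rfl | rfl | rfl
  · exact ⟨1, one_mem _, u1_44, mr1_44, e1_45_0⟩
  · exact ⟨s 4, Subgroup.subset_closure ⟨4, by decide, rfl⟩, u1_45, mr1_45, e1_45_1⟩
  · exact ⟨s 1, Subgroup.subset_closure ⟨1, by decide, rfl⟩, u1_45, mr1_45, e1_45_2⟩
  · exact ⟨1, one_mem _, u1_47, mr1_47, e1_45_3⟩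
  · exact ⟨1, one_mem _, u1_43, mr1_43, e1_45_4⟩
  · exact ⟨s 2, Subgroup.subset_closure ⟨2, by decide, rfl⟩, u1_45, mr1_45, e1_45_5⟩
  · exact ⟨s 0, Subgroup.subset_closure ⟨0, by decide, rfl⟩, u1_45, mr1_45, e1_45_6⟩
theorem c1_46 : P1 u1_46 := by
  refine ⟨mm1_46, ?_⟩
  rintro x ⟨j, hj, rfl⟩
  simp only [J1, List.mem_cons, List.not_mem_nil, or_false] at hj
  rcases hj with rfl | rfl | rfl | rfl | rfl | rfl | rfl
  · exact ⟨1, one_mem _, u1_47, mr1_47, e1_46_0⟩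
  · exact ⟨1, one_mem _, u1_48, mr1_48, e1_46_1⟩
  · exact ⟨s 5, Subgroup.subset_closure ⟨5, by decide, rfl⟩, u1_46, mr1_46, e1_46_2⟩
  · exact ⟨1, one_mem _, u1_44, mr1_44, e1_46_3⟩
  · exact ⟨s 3, Subgroup.subset_closure ⟨3, by decide, rfl⟩, u1_46, mr1_46, e1_46_4⟩
  · exact ⟨s 2, Subgroup.subset_closure ⟨2, by decide, rfl⟩, u1_46, mr1_46, e1_46_5⟩
  · exact ⟨s 0, Subgroup.subset_closure ⟨0, by decide, rfl⟩, u1_46, mr1_46, e1_46_6⟩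
theorem c1_47 : P1 u1_47 := by
  refine ⟨mm1_47, ?_⟩
  rintro x ⟨j, hj, rfl⟩
  simp only [J1, List.mem_cons, List.not_mem_nil, or_false] at hj
  rcases hj with rfl | rfl | rfl | rfl | rfl | rfl | rfl
  · exact ⟨1, one_mem _, u1_46, mr1_46, e1_47_0⟩
  · exact ⟨1, one_mem _, u1_49, mr1_49, e1_47_1⟩
  · exact ⟨1, one_mem _, u1_50, mr1_50, e1_47_2⟩
  · exact ⟨1, one_mem _, u1_45, mr1_45, e1_47_3⟩
  · exact ⟨s 3, Subgroup.subset_closure ⟨3, by decide, rfl⟩, u1_47, mr1_47, e1_47_4⟩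
  · exact ⟨s 2, Subgroup.subset_closure ⟨2, by decide, rfl⟩, u1_47, mr1_47, e1_47_5⟩
  · exact ⟨s 0, Subgroup.subset_closure ⟨0, by decide, rfl⟩, u1_47, mr1_47, e1_47_6⟩
theorem c1_48 : P1 u1_48 := by
  refine ⟨mm1_48, ?_⟩
  rintro x ⟨j, hj, rfl⟩
  simp only [J1, List.mem_cons, List.not_mem_nil, or_false] at hj
  rcases hj with rfl | rfl | rfl | rfl | rfl | rfl | rfl
  · exact ⟨1, one_mem _, u1_49, mr1_49, e1_48_0⟩
  · exact ⟨1, one_mem _, u1_46, mr1_46, e1_48_1⟩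
  · exact ⟨s 5, Subgroup.subset_closure ⟨5, by decide, rfl⟩, u1_48, mr1_48, e1_48_2⟩
  · exact ⟨s 4, Subgroup.subset_closure ⟨4, by decide, rfl⟩, u1_48, mr1_48, e1_48_3⟩
  · exact ⟨s 3, Subgroup.subset_closure ⟨3, by decide, rfl⟩, u1_48, mr1_48, e1_48_4⟩
  · exact ⟨s 2, Subgroup.subset_closure ⟨2, by decide, rfl⟩, u1_48, mr1_48, e1_48_5⟩
  · exact ⟨s 0, Subgroup.subset_closure ⟨0, by decide, rfl⟩, u1_48, mr1_48, e1_48_6⟩
theorem c1_49 : P1 u1_49 := by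
  refine ⟨mm1_49, ?_⟩
  rintro x ⟨j, hj, rfl⟩
  simp only [J1, List.mem_cons, List.not_mem_nil, or_false] at hj
  rcases hj with rfl | rfl | rfl | rfl | rfl | rfl | rfl
  · exact ⟨1, one_mem _, u1_48, mr1_48, e1_49_0⟩
  · exact ⟨1, one_mem _, u1_47, mr1_47, e1_49_1⟩
  · exact ⟨1, one_mem _, u1_51, mr1_51, e1_49_2⟩
  · exact ⟨s 4, Subgroup.subset_closure ⟨4, by decide, rfl⟩, u1_49, mr1_49, e1_49_3⟩
  · exact ⟨s 3, Subgroup.subset_closure ⟨3, by decide, rfl⟩, u1_49, mr1_49, e1_49_4⟩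
  · exact ⟨s 2, Subgroup.subset_closure ⟨2, by decide, rfl⟩, u1_49, mr1_49, e1_49_5⟩
  · exact ⟨s 0, Subgroup.subset_closure ⟨0, by decide, rfl⟩, u1_49, mr1_49, e1_49_6⟩
theorem c1_50 : P1 u1_50 := by
  refine ⟨mm1_50, ?_⟩
  rintro x ⟨j, hj, rfl⟩
  simp only [J1, List.mem_cons, List.not_mem_nil, or_false] at hj
  rcases hj with rfl | rfl | rfl | rfl | rfl | rfl | rfl
  · exact ⟨s 5, Subgroup.subset_closure ⟨5, by decide, rfl⟩, u1_50, mr1_50, e1_50_0⟩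
  · exact ⟨1, one_mem _, u1_51, mr1_51, e1_50_1⟩
  · exact ⟨1, one_mem _, u1_47, mr1_47, e1_50_2⟩
  · exact ⟨s 1, Subgroup.subset_closure ⟨1, by decide, rfl⟩, u1_50, mr1_50, e1_50_3⟩
  · exact ⟨s 3, Subgroup.subset_closure ⟨3, by decide, rfl⟩, u1_50, mr1_50, e1_50_4⟩
  · exact ⟨s 2, Subgroup.subset_closure ⟨2, by decide, rfl⟩, u1_50, mr1_50, e1_50_5⟩
  · exact ⟨s 0, Subgroup.subset_closure ⟨0, by decide, rfl⟩, u1_50, mr1_50, e1_50_6⟩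
theorem c1_51 : P1 u1_51 := by
  refine ⟨mm1_51, ?_⟩
  rintro x ⟨j, hj, rfl⟩
  simp only [J1, List.mem_cons, List.not_mem_nil, or_false] at hj
  rcases hj with rfl | rfl | rfl | rfl | rfl | rfl | rfl
  · exact ⟨s 5, Subgroup.subset_closure ⟨5, by decide, rfl⟩, u1_51, mr1_51, e1_51_0⟩
  · exact ⟨1, one_mem _, u1_50, mr1_50, e1_51_1⟩
  · exact ⟨1, one_mem _, u1_49, mr1_49, e1_51_2⟩
  · exact ⟨1, one_mem _, u1_52, mr1_52, e1_51_3⟩
  · exact ⟨s 3, Subgroup.subset_closure ⟨3, by decide, rfl⟩, u1_51, mr1_51, e1_51_4⟩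
  · exact ⟨s 2, Subgroup.subset_closure ⟨2, by decide, rfl⟩, u1_51, mr1_51, e1_51_5⟩
  · exact ⟨s 0, Subgroup.subset_closure ⟨0, by decide, rfl⟩, u1_51, mr1_51, e1_51_6⟩
theorem c1_52 : P1 u1_52 := by
  refine ⟨mm1_52, ?_⟩
  rintro x ⟨j, hj, rfl⟩
  simp only [J1, List.mem_cons, List.not_mem_nil, or_false] at hj
  rcases hj with rfl | rfl | rfl | rfl | rfl | rfl | rfl
  · exact ⟨s 5, Subgroup.subset_closure ⟨5, by decide, rfl⟩, u1_52, mr1_52, e1_52_0⟩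
  · exact ⟨s 1, Subgroup.subset_closure ⟨1, by decide, rfl⟩, u1_52, mr1_52, e1_52_1⟩
  · exact ⟨s 4, Subgroup.subset_closure ⟨4, by decide, rfl⟩, u1_52, mr1_52, e1_52_2⟩
  · exact ⟨1, one_mem _, u1_51, mr1_51, e1_52_3⟩
  · exact ⟨1, one_mem _, u1_53, mr1_53, e1_52_4⟩
  · exact ⟨s 2, Subgroup.subset_closure ⟨2, by decide, rfl⟩, u1_52, mr1_52, e1_52_5⟩
  · exact ⟨s 0, Subgroup.subset_closure ⟨0, by decide, rfl⟩, u1_52, mr1_52, e1_52_6⟩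
theorem c1_53 : P1 u1_53 := by
  refine ⟨mm1_53, ?_⟩
  rintro x ⟨j, hj, rfl⟩
  simp only [J1, List.mem_cons, List.not_mem_nil, or_false] at hj
  rcases hj with rfl | rfl | rfl | rfl | rfl | rfl | rfl
  · exact ⟨s 5, Subgroup.subset_closure ⟨5, by decide, rfl⟩, u1_53, mr1_53, e1_53_0⟩
  · exact ⟨s 1, Subgroup.subset_closure ⟨1, by decide, rfl⟩, u1_53, mr1_53, e1_53_1⟩
  · exact ⟨s 4, Subgroup.subset_closure ⟨4, by decide, rfl⟩, u1_53, mr1_53, e1_53_2⟩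
  · exact ⟨s 3, Subgroup.subset_closure ⟨3, by decide, rfl⟩, u1_53, mr1_53, e1_53_3⟩
  · exact ⟨1, one_mem _, u1_52, mr1_52, e1_53_4⟩
  · exact ⟨1, one_mem _, u1_54, mr1_54, e1_53_5⟩
  · exact ⟨s 0, Subgroup.subset_closure ⟨0, by decide, rfl⟩, u1_53, mr1_53, e1_53_6⟩
theorem c1_54 : P1 u1_54 := by
  refine ⟨mm1_54, ?_⟩
  rintro x ⟨j, hj, rfl⟩
  simp only [J1, List.mem_cons, List.not_mem_nil, or_false] at hj
  rcases hj with rfl | rfl | rfl | rfl | rfl | rfl | rfl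
  · exact ⟨s 5, Subgroup.subset_closure ⟨5, by decide, rfl⟩, u1_54, mr1_54, e1_54_0⟩
  · exact ⟨s 1, Subgroup.subset_closure ⟨1, by decide, rfl⟩, u1_54, mr1_54, e1_54_1⟩
  · exact ⟨s 4, Subgroup.subset_closure ⟨4, by decide, rfl⟩, u1_54, mr1_54, e1_54_2⟩
  · exact ⟨s 3, Subgroup.subset_closure ⟨3, by decide, rfl⟩, u1_54, mr1_54, e1_54_3⟩
  · exact ⟨s 2, Subgroup.subset_closure ⟨2, by decide, rfl⟩, u1_54, mr1_54, e1_54_4⟩
  · exact ⟨1, one_mem _, u1_53, mr1_53, e1_54_5⟩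
  · exact ⟨1, one_mem _, u1_55, mr1_55, e1_54_6⟩
theorem c1_55 : P1 u1_55 := by
  refine ⟨mm1_55, ?_⟩
  rintro x ⟨j, hj, rfl⟩
  simp only [J1, List.mem_cons, List.not_mem_nil, or_false] at hj
  rcases hj with rfl | rfl | rfl | rfl | rfl | rfl | rfl
  · exact ⟨s 5, Subgroup.subset_closure ⟨5, by decide, rfl⟩, u1_55, mr1_55, e1_55_0⟩
  · exact ⟨s 1, Subgroup.subset_closure ⟨1, by decide, rfl⟩, u1_55, mr1_55, e1_55_1⟩
  · exact ⟨s 4, Subgroup.subset_closure ⟨4, by decide, rfl⟩, u1_55, mr1_55, e1_55_2⟩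
  · exact ⟨s 3, Subgroup.subset_closure ⟨3, by decide, rfl⟩, u1_55, mr1_55, e1_55_3⟩
  · exact ⟨s 2, Subgroup.subset_closure ⟨2, by decide, rfl⟩, u1_55, mr1_55, e1_55_4⟩
  · exact ⟨s 0, Subgroup.subset_closure ⟨0, by decide, rfl⟩, u1_55, mr1_55, e1_55_5⟩
  · exact ⟨1, one_mem _, u1_54, mr1_54, e1_55_6⟩
def preps1 : List {u : W // P1 u} := [⟨u1_0, c1_0⟩, ⟨u1_1, c1_1⟩, ⟨u1_2, c1_2⟩, ⟨u1_3, c1_3⟩, ⟨u1_4, c1_4⟩, ⟨u1_5, c1_5⟩, ⟨u1_6, c1_6⟩, ⟨u1_7, c1_7⟩, ⟨u1_8, c1_8⟩, ⟨u1_9, c1_9⟩, ⟨u1_10, c1_10⟩, ⟨u1_11, c1_11⟩, ⟨u1_12, c1_12⟩, ⟨u1_13, c1_13⟩, ⟨u1_14, c1_14⟩, ⟨u1_15, c1_15⟩, ⟨u1_16, c1_16⟩, ⟨u1_17, c1_17⟩, ⟨u1_18, c1_18⟩, ⟨u1_19, c1_19⟩, ⟨u1_20, c1_20⟩, ⟨u1_21, c1_21⟩, ⟨u1_22, c1_22⟩, ⟨u1_23, c1_23⟩, ⟨u1_24, c1_24⟩, ⟨u1_25, c1_25⟩, ⟨u1_26, c1_26⟩, ⟨u1_27, c1_27⟩, ⟨u1_28, c1_28⟩, ⟨u1_29, c1_29⟩, ⟨u1_30, c1_30⟩, ⟨u1_31, c1_31⟩, ⟨u1_32, c1_32⟩, ⟨u1_33, c1_33⟩, ⟨u1_34, c1_34⟩,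 ⟨u1_35, c1_35⟩, ⟨u1_36, c1_36⟩, ⟨u1_37, c1_37⟩, ⟨u1_38, c1_38⟩, ⟨u1_39, c1_39⟩, ⟨u1_40, c1_40⟩, ⟨u1_41, c1_41⟩, ⟨u1_42, c1_42⟩, ⟨u1_43, c1_43⟩, ⟨u1_44, c1_44⟩, ⟨u1_45, c1_45⟩, ⟨u1_46, c1_46⟩, ⟨u1_47, c1_47⟩, ⟨u1_48, c1_48⟩, ⟨u1_49, c1_49⟩, ⟨u1_50, c1_50⟩, ⟨u1_51, c1_51⟩, ⟨u1_52, c1_52⟩, ⟨u1_53, c1_53⟩, ⟨u1_54, c1_54⟩, ⟨u1_55, c1_55⟩]
theorem preps1_map : preps1.map Subtype.val = reps1 := rfl
theorem allP1 : ∀ u ∈ reps1, P1 u := by
  intro u hu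
  rw [← preps1_map, List.mem_map] at hu
  obtain ⟨x, _, rfl⟩ := hu
  exact x.2
def vecs1 : List (Fin 8 → ℤ) := [(![0, 0, 0, 0, 0, 0, 1, 0] : Fin 8 → ℤ), (![0, 0, 0, 0, 0, 1, -1, 1] : Fin 8 → ℤ), (![0, 0, 0, 0, 1, -1, 0, 1] : Fin 8 → ℤ), (![0, 0, 0, 1, -1, 0, 0, 1] : Fin 8 → ℤ), (![0, 1, 1, -1, 0, 0, 0, 1] : Fin 8 → ℤ), (![0, -1, 1, 0, 0, 0, 0, 1] : Fin 8 → ℤ), (![1, 1, -1, 0, 0, 0, 0, 1] : Fin 8 → ℤ), (![1, -1, -1, 1, 0, 0, 0, 1] : Fin 8 → ℤ), (![-1, 1, 0, 0, 0, 0, 0, 1] : Fin 8 → ℤ), (![-1, -1, 0, 1, 0, 0, 0, 1] : Fin 8 → ℤ), (![1, 0, 0, -1, 1, 0, 0, 1] : Fin 8 → ℤ), (![-1, 0, 1, -1, 1, 0, 0, 1] : Fin 8 → ℤ), (![1, 0, 0, 0, -1, 1, 0, 1] : Fin 8 → ℤ), (![0, 0, -1, 0, 1, 0, 0, 1] : Fin 8 → ℤ), (![-1, 0, 1, 0, -1, 1, 0, 1] : Fin 8 → ℤ), (![1, 0, 0, 0, 0, -1, 1, 1] : Fin 8 → ℤ), (![0, 0, -1, 1, -1, 1, 0, 1] : Fin 8 → ℤ), (![-1, 0, 1, 0, 0, -1, 1, 1] : Fin 8 → ℤ), (![1,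 0, 0, 0, 0, 0, -1, 2] : Fin 8 → ℤ), (![0, 1, 0, -1, 0, 1, 0, 1] : Fin 8 → ℤ), (![0, 0, -1, 1, 0, -1, 1, 1] : Fin 8 → ℤ), (![-1, 0, 1, 0, 0, 0, -1, 2] : Fin 8 → ℤ), (![0, -1, 0, 0, 0, 1, 0, 1] : Fin 8 → ℤ), (![0, 1, 0, -1, 1, -1, 1, 1] : Fin 8 → ℤ), (![0, 0, -1, 1, 0, 0, -1, 2] : Fin 8 → ℤ), (![0, -1, 0, 0, 1, -1, 1, 1] : Fin 8 → ℤ), (![0, 1, 0, 0, -1, 0, 1, 1] : Fin 8 → ℤ), (![0, 1, 0, -1, 1, 0, -1, 2] : Fin 8 → ℤ), (![0, -1, 0, 1, -1, 0, 1, 1] : Fin 8 → ℤ), (![0, -1, 0, 0, 1, 0, -1, 2] : Fin 8 → ℤ), (![0, 1, 0, 0, -1, 1, -1, 2] : Fin 8 → ℤ), (![0, 0, 1, -1, 0, 0, 1, 1] : Fin 8 → ℤ), (![0, -1, 0, 1, -1, 1, -1, 2] : Fin 8 → ℤ), (![0, 1, 0, 0, 0, -1, 0, 2] : Fin 8 → ℤ), (![1, 0, -1, 0, 0, 0, 1, 1] : Fin 8 → ℤ), (![0, 0, 1, -1, 0, 1, -1, 2] : Fin 8 → ℤ), (![0, -1, 0, 1, 0, -1, 0, 2] : Fin 8 → ℤ), (![-1, 0, 0, 0, 0, 0, 1, 1] : Fin 8 → ℤ), (![1, 0, -1, 0, 0, 1, -1, 2]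 : Fin 8 → ℤ), (![0, 0, 1, -1, 1, -1, 0, 2] : Fin 8 → ℤ), (![-1, 0, 0, 0, 0, 1, -1, 2] : Fin 8 → ℤ), (![1, 0, -1, 0, 1, -1, 0, 2] : Fin 8 → ℤ), (![0, 0, 1, 0, -1, 0, 0, 2] : Fin 8 → ℤ), (![-1, 0, 0, 0, 1, -1, 0, 2] : Fin 8 → ℤ), (![1, 0, -1, 1, -1, 0, 0, 2] : Fin 8 → ℤ), (![-1, 0, 0, 1, -1, 0, 0, 2] : Fin 8 → ℤ), (![1, 1, 0, -1, 0, 0, 0, 2] : Fin 8 → ℤ), (![-1, 1, 1, -1, 0, 0, 0, 2] : Fin 8 → ℤ), (![1, -1, 0, 0, 0, 0, 0, 2] : Fin 8 → ℤ), (![-1, -1, 1, 0, 0, 0, 0, 2] : Fin 8 → ℤ), (![0, 1, -1, 0, 0, 0, 0, 2] : Fin 8 → ℤ), (![0, -1, -1, 1, 0, 0, 0, 2] : Fin 8 → ℤ), (![0, 0, 0, -1, 1, 0, 0, 2] : Fin 8 → ℤ), (![0, 0, 0, 0, -1, 1, 0, 2] : Fin 8 → ℤ), (![0, 0, 0, 0, 0, -1, 1, 2] : Fin 8 → ℤ), (![0, 0, 0, 0, 0, 0, -1, 3] : Fin 8 → ℤ)]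
theorem map1 : reps1.map fv1 = vecs1 := by
  simp only [reps1, List.map_cons, List.map_nil, v1_0, v1_1, v1_2, v1_3, v1_4, v1_5, v1_6, v1_7, v1_8, v1_9, v1_10, v1_11, v1_12, v1_13, v1_14, v1_15, v1_16, v1_17, v1_18, v1_19, v1_20, v1_21, v1_22, v1_23, v1_24, v1_25, v1_26, v1_27, v1_28, v1_29, v1_30, v1_31, v1_32, v1_33, v1_34, v1_35, v1_36, v1_37, v1_38, v1_39, v1_40, v1_41, v1_42, v1_43, v1_44, v1_45, v1_46, v1_47, v1_48, v1_49, v1_50, v1_51, v1_52, v1_53, v1_54, v1_55]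
  rfl
theorem nd1 : (reps1.map fv1).Nodup := by rw [map1]; decide +kernel
theorem fix1 : ∀ h ∈ gens M J2, ∀ w, fv1 (h * w) = fv1 w := by
  rintro h ⟨j, hj, rfl⟩ w
  simp only [J2, List.mem_cons, List.not_mem_nil, or_false] at hj
  rcases hj with rfl | rfl | rfl | rfl | rfl | rfl
  all_goals exact fvec_fix M A hA base1 _ (by decide +kernel) w
theorem sub1 : gens M J2 ⊆ gens M J1 := gens_mono M (by decide)
theorem card1 : Nat.card (Subgroup.closure (gens M J1)) = Nat.card (Subgroup.closure (gens M J2)) * 56 :=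
  level_card (gens M J1) (gens M J2) sub1 (gens_inv M J1) reps1 mr1_0 (fun u hu => (allP1 u hu).1) (fun u hu => (allP1 u hu).2) fv1 fix1 nd1
theorem ker1 : ∀ w ∈ Subgroup.closure (gens M J1), fv1 w = fv1 1 → w ∈ Subgroup.closure (gens M J2) :=
  level_ker (gens M J1) (gens M J2) (gens_inv M J1) reps1 mr1_0 (fun u hu => (allP1 u hu).2) fv1 fix1 nd1

-- level 2: index 27
def base2 : Fin 8 → ℤ := ![1, 0, 0, 0, 0, 0, 0, 0]
def fv2 : W → (Fin 8 → ℤ) := fvec M A hA base2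
def u2_0 : W := 1
def u2_1 : W := u2_0 * s 0
def u2_2 : W := u2_1 * s 2
def u2_3 : W := u2_2 * s 3
def u2_4 : W := u2_3 * s 1
def u2_5 : W := u2_3 * s 4
def u2_6 : W := u2_4 * s 4
def u2_7 : W := u2_5 * s 5
def u2_8 : W := u2_6 * s 3
def u2_9 : W := u2_6 * s 5
def u2_10 : W := u2_8 * s 2
def u2_11 : W := u2_8 * s 5
def u2_12 : W := u2_10 * s 0
def u2_13 : W := u2_10 * s 5
def u2_14 : W := u2_11 * s 4
def u2_15 : W := u2_12 * s 5
def u2_16 : W := u2_13 * s 4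
def u2_17 : W := u2_15 * s 4
def u2_18 : W := u2_16 * s 3
def u2_19 : W := u2_17 * s 3
def u2_20 : W := u2_18 * s 1
def u2_21 : W := u2_19 * s 1
def u2_22 : W := u2_19 * s 2
def u2_23 : W := u2_21 * s 2
def u2_24 : W := u2_23 * s 3
def u2_25 : W := u2_24 * s 4
def u2_26 : W := u2_25 * s 5
def reps2 : List W := [u2_0, u2_1, u2_2, u2_3, u2_4, u2_5, u2_6, u2_7, u2_8, u2_9, u2_10, u2_11, u2_12, u2_13, u2_14, u2_15, u2_16, u2_17, u2_18, u2_19, u2_20, u2_21, u2_22, u2_23, u2_24, u2_25, u2_26]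
theorem v2_0 : fv2 u2_0 = ![1, 0, 0, 0, 0, 0, 0, 0] := fvec_one M A hA base2
theorem v2_1 : fv2 u2_1 = ![-1, 0, 1, 0, 0, 0, 0, 0] := by
  show fvec M A hA base2 (u2_0 * M.simple 0) = _
  rw [fvec_mul_simple]; show reflVec A 0 (fv2 u2_0) = _; rw [v2_0]; decide +kernel
theorem v2_2 : fv2 u2_2 = ![0, 0, -1, 1, 0, 0, 0, 0] := by
  show fvec M A hA base2 (u2_1 * M.simple 2) = _
  rw [fvec_mul_simple]; show reflVec A 2 (fv2 u2_1) = _; rw [v2_1]; decide +kernel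
theorem v2_3 : fv2 u2_3 = ![0, 1, 0, -1, 1, 0, 0, 0] := by
  show fvec M A hA base2 (u2_2 * M.simple 3) = _
  rw [fvec_mul_simple]; show reflVec A 3 (fv2 u2_2) = _; rw [v2_2]; decide +kernel
theorem v2_4 : fv2 u2_4 = ![0, -1, 0, 0, 1, 0, 0, 0] := by
  show fvec M A hA base2 (u2_3 * M.simple 1) = _
  rw [fvec_mul_simple]; show reflVec A 1 (fv2 u2_3) = _; rw [v2_3]; decide +kernel
theorem v2_5 : fv2 u2_5 = ![0, 1, 0, 0, -1, 1, 0, 0] := by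
  show fvec M A hA base2 (u2_3 * M.simple 4) = _
  rw [fvec_mul_simple]; show reflVec A 4 (fv2 u2_3) = _; rw [v2_3]; decide +kernel
theorem v2_6 : fv2 u2_6 = ![0, -1, 0, 1, -1, 1, 0, 0] := by
  show fvec M A hA base2 (u2_4 * M.simple 4) = _
  rw [fvec_mul_simple]; show reflVec A 4 (fv2 u2_4) = _; rw [v2_4]; decide +kernel
theorem v2_7 : fv2 u2_7 = ![0, 1, 0, 0, 0, -1, 1, 0] := by
  show fvec M A hA base2 (u2_5 * M.simple 5) = _
  rw [fvec_mul_simple]; show reflVec A 5 (fv2 u2_5) = _; rw [v2_5]; decide +kernel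
theorem v2_8 : fv2 u2_8 = ![0, 0, 1, -1, 0, 1, 0, 0] := by
  show fvec M A hA base2 (u2_6 * M.simple 3) = _
  rw [fvec_mul_simple]; show reflVec A 3 (fv2 u2_6) = _; rw [v2_6]; decide +kernel
theorem v2_9 : fv2 u2_9 = ![0, -1, 0, 1, 0, -1, 1, 0] := by
  show fvec M A hA base2 (u2_6 * M.simple 5) = _
  rw [fvec_mul_simple]; show reflVec A 5 (fv2 u2_6) = _; rw [v2_6]; decide +kernel
theorem v2_10 : fv2 u2_10 = ![1, 0, -1, 0, 0, 1, 0, 0] := by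
  show fvec M A hA base2 (u2_8 * M.simple 2) = _
  rw [fvec_mul_simple]; show reflVec A 2 (fv2 u2_8) = _; rw [v2_8]; decide +kernel
theorem v2_11 : fv2 u2_11 = ![0, 0, 1, -1, 1, -1, 1, 0] := by
  show fvec M A hA base2 (u2_8 * M.simple 5) = _
  rw [fvec_mul_simple]; show reflVec A 5 (fv2 u2_8) = _; rw [v2_8]; decide +kernel
theorem v2_12 : fv2 u2_12 = ![-1, 0, 0, 0, 0, 1, 0, 0] := by
  show fvec M A hA base2 (u2_10 * M.simple 0) = _
  rw [fvec_mul_simple]; show reflVec A 0 (fv2 u2_10) = _; rw [v2_10]; decide +kernel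
theorem v2_13 : fv2 u2_13 = ![1, 0, -1, 0, 1, -1, 1, 0] := by
  show fvec M A hA base2 (u2_10 * M.simple 5) = _
  rw [fvec_mul_simple]; show reflVec A 5 (fv2 u2_10) = _; rw [v2_10]; decide +kernel
theorem v2_14 : fv2 u2_14 = ![0, 0, 1, 0, -1, 0, 1, 0] := by
  show fvec M A hA base2 (u2_11 * M.simple 4) = _
  rw [fvec_mul_simple]; show reflVec A 4 (fv2 u2_11) = _; rw [v2_11]; decide +kernel
theorem v2_15 : fv2 u2_15 = ![-1, 0, 0, 0, 1, -1, 1, 0] := by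
  show fvec M A hA base2 (u2_12 * M.simple 5) = _
  rw [fvec_mul_simple]; show reflVec A 5 (fv2 u2_12) = _; rw [v2_12]; decide +kernel
theorem v2_16 : fv2 u2_16 = ![1, 0, -1, 1, -1, 0, 1, 0] := by
  show fvec M A hA base2 (u2_13 * M.simple 4) = _
  rw [fvec_mul_simple]; show reflVec A 4 (fv2 u2_13) = _; rw [v2_13]; decide +kernel
theorem v2_17 : fv2 u2_17 = ![-1, 0, 0, 1, -1, 0, 1, 0] := by
  show fvec M A hA base2 (u2_15 * M.simple 4) = _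
  rw [fvec_mul_simple]; show reflVec A 4 (fv2 u2_15) = _; rw [v2_15]; decide +kernel
theorem v2_18 : fv2 u2_18 = ![1, 1, 0, -1, 0, 0, 1, 0] := by
  show fvec M A hA base2 (u2_16 * M.simple 3) = _
  rw [fvec_mul_simple]; show reflVec A 3 (fv2 u2_16) = _; rw [v2_16]; decide +kernel
theorem v2_19 : fv2 u2_19 = ![-1, 1, 1, -1, 0, 0, 1, 0] := by
  show fvec M A hA base2 (u2_17 * M.simple 3) = _
  rw [fvec_mul_simple]; show reflVec A 3 (fv2 u2_17) = _; rw [v2_17]; decide +kernel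
theorem v2_20 : fv2 u2_20 = ![1, -1, 0, 0, 0, 0, 1, 0] := by
  show fvec M A hA base2 (u2_18 * M.simple 1) = _
  rw [fvec_mul_simple]; show reflVec A 1 (fv2 u2_18) = _; rw [v2_18]; decide +kernel
theorem v2_21 : fv2 u2_21 = ![-1, -1, 1, 0, 0, 0, 1, 0] := by
  show fvec M A hA base2 (u2_19 * M.simple 1) = _
  rw [fvec_mul_simple]; show reflVec A 1 (fv2 u2_19) = _; rw [v2_19]; decide +kernel
theorem v2_22 : fv2 u2_22 = ![0, 1, -1, 0, 0, 0, 1, 0] := by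
  show fvec M A hA base2 (u2_19 * M.simple 2) = _
  rw [fvec_mul_simple]; show reflVec A 2 (fv2 u2_19) = _; rw [v2_19]; decide +kernel
theorem v2_23 : fv2 u2_23 = ![0, -1, -1, 1, 0, 0, 1, 0] := by
  show fvec M A hA base2 (u2_21 * M.simple 2) = _
  rw [fvec_mul_simple]; show reflVec A 2 (fv2 u2_21) = _; rw [v2_21]; decide +kernel
theorem v2_24 : fv2 u2_24 = ![0, 0, 0, -1, 1, 0, 1, 0] := by
  show fvec M A hA base2 (u2_23 * M.simple 3) = _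
  rw [fvec_mul_simple]; show reflVec A 3 (fv2 u2_23) = _; rw [v2_23]; decide +kernel
theorem v2_25 : fv2 u2_25 = ![0, 0, 0, 0, -1, 1, 1, 0] := by
  show fvec M A hA base2 (u2_24 * M.simple 4) = _
  rw [fvec_mul_simple]; show reflVec A 4 (fv2 u2_24) = _; rw [v2_24]; decide +kernel
theorem v2_26 : fv2 u2_26 = ![0, 0, 0, 0, 0, -1, 2, 0] := by
  show fvec M A hA base2 (u2_25 * M.simple 5) = _
  rw [fvec_mul_simple]; show reflVec A 5 (fv2 u2_25) = _; rw [v2_25]; decide +kernel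
theorem e2_0_0 : u2_0 * s 0 = 1 * u2_1 := (one_mul (u2_0 * s 0)).symm
theorem e2_1_0 : u2_1 * s 0 = 1 * u2_0 := tree_up (s_sq 0)
theorem e2_1_2 : u2_1 * s 2 = 1 * u2_2 := (one_mul (u2_1 * s 2)).symm
theorem e2_2_2 : u2_2 * s 2 = 1 * u2_1 := tree_up (s_sq 2)
theorem e2_2_3 : u2_2 * s 3 = 1 * u2_3 := (one_mul (u2_2 * s 3)).symm
theorem e2_3_3 : u2_3 * s 3 = 1 * u2_2 := tree_up (s_sq 3)
theorem e2_3_1 : u2_3 * s 1 = 1 * u2_4 := (one_mul (u2_3 * s 1)).symm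
theorem e2_4_1 : u2_4 * s 1 = 1 * u2_3 := tree_up (s_sq 1)
theorem e2_3_4 : u2_3 * s 4 = 1 * u2_5 := (one_mul (u2_3 * s 4)).symm
theorem e2_5_4 : u2_5 * s 4 = 1 * u2_3 := tree_up (s_sq 4)
theorem e2_4_4 : u2_4 * s 4 = 1 * u2_6 := (one_mul (u2_4 * s 4)).symm
theorem e2_6_4 : u2_6 * s 4 = 1 * u2_4 := tree_up (s_sq 4)
theorem e2_5_5 : u2_5 * s 5 = 1 * u2_7 := (one_mul (u2_5 * s 5)).symm
theorem e2_7_5 : u2_7 * s 5 = 1 * u2_5 := tree_up (s_sq 5)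
theorem e2_6_3 : u2_6 * s 3 = 1 * u2_8 := (one_mul (u2_6 * s 3)).symm
theorem e2_8_3 : u2_8 * s 3 = 1 * u2_6 := tree_up (s_sq 3)
theorem e2_6_5 : u2_6 * s 5 = 1 * u2_9 := (one_mul (u2_6 * s 5)).symm
theorem e2_9_5 : u2_9 * s 5 = 1 * u2_6 := tree_up (s_sq 5)
theorem e2_8_2 : u2_8 * s 2 = 1 * u2_10 := (one_mul (u2_8 * s 2)).symm
theorem e2_10_2 : u2_10 * s 2 = 1 * u2_8 := tree_up (s_sq 2)
theorem e2_8_5 : u2_8 * s 5 = 1 * u2_11 := (one_mul (u2_8 * s 5)).symm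
theorem e2_11_5 : u2_11 * s 5 = 1 * u2_8 := tree_up (s_sq 5)
theorem e2_10_0 : u2_10 * s 0 = 1 * u2_12 := (one_mul (u2_10 * s 0)).symm
theorem e2_12_0 : u2_12 * s 0 = 1 * u2_10 := tree_up (s_sq 0)
theorem e2_10_5 : u2_10 * s 5 = 1 * u2_13 := (one_mul (u2_10 * s 5)).symm
theorem e2_13_5 : u2_13 * s 5 = 1 * u2_10 := tree_up (s_sq 5)
theorem e2_11_4 : u2_11 * s 4 = 1 * u2_14 := (one_mul (u2_11 * s 4)).symm
theorem e2_14_4 : u2_14 * s 4 = 1 * u2_11 := tree_up (s_sq 4)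
theorem e2_12_5 : u2_12 * s 5 = 1 * u2_15 := (one_mul (u2_12 * s 5)).symm
theorem e2_15_5 : u2_15 * s 5 = 1 * u2_12 := tree_up (s_sq 5)
theorem e2_13_4 : u2_13 * s 4 = 1 * u2_16 := (one_mul (u2_13 * s 4)).symm
theorem e2_16_4 : u2_16 * s 4 = 1 * u2_13 := tree_up (s_sq 4)
theorem e2_15_4 : u2_15 * s 4 = 1 * u2_17 := (one_mul (u2_15 * s 4)).symm
theorem e2_17_4 : u2_17 * s 4 = 1 * u2_15 := tree_up (s_sq 4)
theorem e2_16_3 : u2_16 * s 3 = 1 * u2_18 := (one_mul (u2_16 * s 3)).symm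
theorem e2_18_3 : u2_18 * s 3 = 1 * u2_16 := tree_up (s_sq 3)
theorem e2_17_3 : u2_17 * s 3 = 1 * u2_19 := (one_mul (u2_17 * s 3)).symm
theorem e2_19_3 : u2_19 * s 3 = 1 * u2_17 := tree_up (s_sq 3)
theorem e2_18_1 : u2_18 * s 1 = 1 * u2_20 := (one_mul (u2_18 * s 1)).symm
theorem e2_20_1 : u2_20 * s 1 = 1 * u2_18 := tree_up (s_sq 1)
theorem e2_19_1 : u2_19 * s 1 = 1 * u2_21 := (one_mul (u2_19 * s 1)).symm
theorem e2_21_1 : u2_21 * s 1 = 1 * u2_19 := tree_up (s_sq 1)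
theorem e2_19_2 : u2_19 * s 2 = 1 * u2_22 := (one_mul (u2_19 * s 2)).symm
theorem e2_22_2 : u2_22 * s 2 = 1 * u2_19 := tree_up (s_sq 2)
theorem e2_21_2 : u2_21 * s 2 = 1 * u2_23 := (one_mul (u2_21 * s 2)).symm
theorem e2_23_2 : u2_23 * s 2 = 1 * u2_21 := tree_up (s_sq 2)
theorem e2_23_3 : u2_23 * s 3 = 1 * u2_24 := (one_mul (u2_23 * s 3)).symm
theorem e2_24_3 : u2_24 * s 3 = 1 * u2_23 := tree_up (s_sq 3)
theorem e2_24_4 : u2_24 * s 4 = 1 * u2_25 := (one_mul (u2_24 * s 4)).symm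
theorem e2_25_4 : u2_25 * s 4 = 1 * u2_24 := tree_up (s_sq 4)
theorem e2_25_5 : u2_25 * s 5 = 1 * u2_26 := (one_mul (u2_25 * s 5)).symm
theorem e2_26_5 : u2_26 * s 5 = 1 * u2_25 := tree_up (s_sq 5)
theorem e2_0_1 : u2_0 * s 1 = s 1 * u2_0 := (one_mul (s 1)).trans (mul_one (s 1)).symm
theorem e2_0_2 : u2_0 * s 2 = s 2 * u2_0 := (one_mul (s 2)).trans (mul_one (s 2)).symm
theorem e2_0_3 : u2_0 * s 3 = s 3 * u2_0 := (one_mul (s 3)).trans (mul_one (s 3)).symm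
theorem e2_0_4 : u2_0 * s 4 = s 4 * u2_0 := (one_mul (s 4)).trans (mul_one (s 4)).symm
theorem e2_0_5 : u2_0 * s 5 = s 5 * u2_0 := (one_mul (s 5)).trans (mul_one (s 5)).symm
theorem e2_1_1 : u2_1 * s 1 = s 1 * u2_1 := by
  simpa only [one_mul, mul_one] using ded2 r_1_0 e2_1_0 e2_0_1 e2_0_0
theorem e2_2_0 : u2_2 * s 0 = s 2 * u2_2 := by
  simpa only [one_mul, mul_one] using ded3 r_0_2 e2_2_2 e2_1_0 e2_0_2 e2_0_0 e2_1_2
theorem e2_1_3 : u2_1 * s 3 = s 3 * u2_1 := by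
  simpa only [one_mul, mul_one] using ded2 r_3_0 e2_1_0 e2_0_3 e2_0_0
theorem e2_1_4 : u2_1 * s 4 = s 4 * u2_1 := by
  simpa only [one_mul, mul_one] using ded2 r_4_0 e2_1_0 e2_0_4 e2_0_0
theorem e2_1_5 : u2_1 * s 5 = s 5 * u2_1 := by
  simpa only [one_mul, mul_one] using ded2 r_5_0 e2_1_0 e2_0_5 e2_0_0
theorem e2_2_1 : u2_2 * s 1 = s 1 * u2_2 := by
  simpa only [one_mul, mul_one] using ded2 r_1_2 e2_2_2 e2_1_1 e2_1_2
theorem e2_3_2 : u2_3 * s 2 = s 3 * u2_3 := by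
  simpa only [one_mul, mul_one] using ded3 r_2_3 e2_3_3 e2_2_2 e2_1_3 e2_1_2 e2_2_3
theorem e2_2_4 : u2_2 * s 4 = s 4 * u2_2 := by
  simpa only [one_mul, mul_one] using ded2 r_4_2 e2_2_2 e2_1_4 e2_1_2
theorem e2_2_5 : u2_2 * s 5 = s 5 * u2_2 := by
  simpa only [one_mul, mul_one] using ded2 r_5_2 e2_2_2 e2_1_5 e2_1_2
theorem e2_3_0 : u2_3 * s 0 = s 2 * u2_3 := by
  simpa only [one_mul, mul_one] using ded2 r_0_3 e2_3_3 e2_2_0 e2_2_3
theorem e2_4_3 : u2_4 * s 3 = s 1 * u2_4 := by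
  simpa only [one_mul, mul_one] using ded3 r_3_1 e2_4_1 e2_3_3 e2_2_1 e2_2_3 e2_3_1
theorem e2_5_3 : u2_5 * s 3 = s 4 * u2_5 := by
  simpa only [one_mul, mul_one] using ded3 r_3_4 e2_5_4 e2_3_3 e2_2_4 e2_2_3 e2_3_4
theorem e2_3_5 : u2_3 * s 5 = s 5 * u2_3 := by
  simpa only [one_mul, mul_one] using ded2 r_5_3 e2_3_3 e2_2_5 e2_2_3
theorem e2_4_0 : u2_4 * s 0 = s 2 * u2_4 := by
  simpa only [one_mul, mul_one] using ded2 r_0_1 e2_4_1 e2_3_0 e2_3_1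
theorem e2_5_0 : u2_5 * s 0 = s 2 * u2_5 := by
  simpa only [one_mul, mul_one] using ded2 r_0_4 e2_5_4 e2_3_0 e2_3_4
theorem e2_4_2 : u2_4 * s 2 = s 3 * u2_4 := by
  simpa only [one_mul, mul_one] using ded2 r_2_1 e2_4_1 e2_3_2 e2_3_1
theorem e2_6_1 : u2_6 * s 1 = 1 * u2_5 := by
  simpa only [one_mul, mul_one] using ded2 r_1_4 e2_6_4 e2_4_1 e2_3_4
theorem e2_5_1 : u2_5 * s 1 = 1 * u2_6 := rev_edge (s_sq 1) e2_6_1
theorem e2_4_5 : u2_4 * s 5 = s 5 * u2_4 := by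
  simpa only [one_mul, mul_one] using ded2 r_5_1 e2_4_1 e2_3_5 e2_3_1
theorem e2_5_2 : u2_5 * s 2 = s 3 * u2_5 := by
  simpa only [one_mul, mul_one] using ded2 r_2_4 e2_5_4 e2_3_2 e2_3_4
theorem e2_7_4 : u2_7 * s 4 = s 5 * u2_7 := by
  simpa only [one_mul, mul_one] using ded3 r_4_5 e2_7_5 e2_5_4 e2_3_5 e2_3_4 e2_5_5
theorem e2_6_0 : u2_6 * s 0 = s 2 * u2_6 := by
  simpa only [one_mul, mul_one] using ded2 r_0_4 e2_6_4 e2_4_0 e2_4_4
theorem e2_6_2 : u2_6 * s 2 = s 3 * u2_6 := by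
  simpa only [one_mul, mul_one] using ded2 r_2_4 e2_6_4 e2_4_2 e2_4_4
theorem e2_8_4 : u2_8 * s 4 = s 1 * u2_8 := by
  simpa only [one_mul, mul_one] using ded3 r_4_3 e2_8_3 e2_6_4 e2_4_3 e2_4_4 e2_6_3
theorem e2_9_4 : u2_9 * s 4 = s 5 * u2_9 := by
  simpa only [one_mul, mul_one] using ded3 r_4_5 e2_9_5 e2_6_4 e2_4_5 e2_4_4 e2_6_5
theorem e2_7_0 : u2_7 * s 0 = s 2 * u2_7 := by
  simpa only [one_mul, mul_one] using ded2 r_0_5 e2_7_5 e2_5_0 e2_5_5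
theorem e2_8_1 : u2_8 * s 1 = s 4 * u2_8 := by
  simpa only [one_mul, mul_one] using ded3 r_1_3 e2_8_3 e2_6_1 e2_5_3 e2_5_1 e2_6_3
theorem e2_9_1 : u2_9 * s 1 = 1 * u2_7 := by
  simpa only [one_mul, mul_one] using ded2 r_1_5 e2_9_5 e2_6_1 e2_5_5
theorem e2_7_1 : u2_7 * s 1 = 1 * u2_9 := rev_edge (s_sq 1) e2_9_1
theorem e2_7_2 : u2_7 * s 2 = s 3 * u2_7 := by
  simpa only [one_mul, mul_one] using ded2 r_2_5 e2_7_5 e2_5_2 e2_5_5
theorem e2_7_3 : u2_7 * s 3 = s 4 * u2_7 := by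
  simpa only [one_mul, mul_one] using ded2 r_3_5 e2_7_5 e2_5_3 e2_5_5
theorem e2_8_0 : u2_8 * s 0 = s 2 * u2_8 := by
  simpa only [one_mul, mul_one] using ded2 r_0_3 e2_8_3 e2_6_0 e2_6_3
theorem e2_9_0 : u2_9 * s 0 = s 2 * u2_9 := by
  simpa only [one_mul, mul_one] using ded2 r_0_5 e2_9_5 e2_6_0 e2_6_5
theorem e2_10_3 : u2_10 * s 3 = s 3 * u2_10 := by
  simpa only [one_mul, mul_one] using ded3 r_3_2 e2_10_2 e2_8_3 e2_6_2 e2_6_3 e2_8_2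
theorem e2_9_2 : u2_9 * s 2 = s 3 * u2_9 := by
  simpa only [one_mul, mul_one] using ded2 r_2_5 e2_9_5 e2_6_2 e2_6_5
theorem e2_11_3 : u2_11 * s 3 = 1 * u2_9 := by
  simpa only [one_mul, mul_one] using ded2 r_3_5 e2_11_5 e2_8_3 e2_6_5
theorem e2_9_3 : u2_9 * s 3 = 1 * u2_11 := rev_edge (s_sq 3) e2_11_3
theorem e2_11_1 : u2_11 * s 1 = s 4 * u2_11 := by
  simpa only [one_mul, mul_one] using ded3 r_1_3 e2_11_3 e2_9_1 e2_7_3 e2_7_1 e2_9_3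
theorem e2_12_2 : u2_12 * s 2 = s 2 * u2_12 := by
  simpa only [one_mul, mul_one] using ded3 r_2_0 e2_12_0 e2_10_2 e2_8_0 e2_8_2 e2_10_0
theorem e2_11_0 : u2_11 * s 0 = s 2 * u2_11 := by
  simpa only [one_mul, mul_one] using ded2 r_0_5 e2_11_5 e2_8_0 e2_8_5
theorem e2_10_1 : u2_10 * s 1 = s 4 * u2_10 := by
  simpa only [one_mul, mul_one] using ded2 r_1_2 e2_10_2 e2_8_1 e2_8_2
theorem e2_10_4 : u2_10 * s 4 = s 1 * u2_10 := by
  simpa only [one_mul, mul_one] using ded2 r_4_2 e2_10_2 e2_8_4 e2_8_2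
theorem e2_13_2 : u2_13 * s 2 = 1 * u2_11 := by
  simpa only [one_mul, mul_one] using ded2 r_2_5 e2_13_5 e2_10_2 e2_8_5
theorem e2_11_2 : u2_11 * s 2 = 1 * u2_13 := rev_edge (s_sq 2) e2_13_2
theorem e2_14_5 : u2_14 * s 5 = s 1 * u2_14 := by
  simpa only [one_mul, mul_one] using ded3 r_5_4 e2_14_4 e2_11_5 e2_8_4 e2_8_5 e2_11_4
theorem e2_13_3 : u2_13 * s 3 = s 3 * u2_13 := by
  simpa only [one_mul, mul_one] using ded3 r_3_2 e2_13_2 e2_11_3 e2_9_2 e2_9_3 e2_11_2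
theorem e2_14_3 : u2_14 * s 3 = s 5 * u2_14 := by
  simpa only [one_mul, mul_one] using ded3 r_3_4 e2_14_4 e2_11_3 e2_9_4 e2_9_3 e2_11_4
theorem e2_12_1 : u2_12 * s 1 = s 4 * u2_12 := by
  simpa only [one_mul, mul_one] using ded2 r_1_0 e2_12_0 e2_10_1 e2_10_0
theorem e2_12_3 : u2_12 * s 3 = s 3 * u2_12 := by
  simpa only [one_mul, mul_one] using ded2 r_3_0 e2_12_0 e2_10_3 e2_10_0
theorem e2_12_4 : u2_12 * s 4 = s 1 * u2_12 := by
  simpa only [one_mul, mul_one] using ded2 r_4_0 e2_12_0 e2_10_4 e2_10_0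
theorem e2_15_0 : u2_15 * s 0 = 1 * u2_13 := by
  simpa only [one_mul, mul_one] using ded2 r_0_5 e2_15_5 e2_12_0 e2_10_5
theorem e2_13_0 : u2_13 * s 0 = 1 * u2_15 := rev_edge (s_sq 0) e2_15_0
theorem e2_13_1 : u2_13 * s 1 = s 4 * u2_13 := by
  simpa only [one_mul, mul_one] using ded2 r_1_5 e2_13_5 e2_10_1 e2_10_5
theorem e2_16_5 : u2_16 * s 5 = s 1 * u2_16 := by
  simpa only [one_mul, mul_one] using ded3 r_5_4 e2_16_4 e2_13_5 e2_10_4 e2_10_5 e2_13_4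
theorem e2_15_2 : u2_15 * s 2 = s 2 * u2_15 := by
  simpa only [one_mul, mul_one] using ded3 r_2_0 e2_15_0 e2_13_2 e2_11_0 e2_11_2 e2_13_0
theorem e2_14_0 : u2_14 * s 0 = s 2 * u2_14 := by
  simpa only [one_mul, mul_one] using ded2 r_0_4 e2_14_4 e2_11_0 e2_11_4
theorem e2_14_1 : u2_14 * s 1 = s 4 * u2_14 := by
  simpa only [one_mul, mul_one] using ded2 r_1_4 e2_14_4 e2_11_1 e2_11_4
theorem e2_16_2 : u2_16 * s 2 = 1 * u2_14 := by
  simpa only [one_mul, mul_one] using ded2 r_2_4 e2_16_4 e2_13_2 e2_11_4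
theorem e2_14_2 : u2_14 * s 2 = 1 * u2_16 := rev_edge (s_sq 2) e2_16_2
theorem e2_15_1 : u2_15 * s 1 = s 4 * u2_15 := by
  simpa only [one_mul, mul_one] using ded2 r_1_5 e2_15_5 e2_12_1 e2_12_5
theorem e2_15_3 : u2_15 * s 3 = s 3 * u2_15 := by
  simpa only [one_mul, mul_one] using ded2 r_3_5 e2_15_5 e2_12_3 e2_12_5
theorem e2_17_5 : u2_17 * s 5 = s 1 * u2_17 := by
  simpa only [one_mul, mul_one] using ded3 r_5_4 e2_17_4 e2_15_5 e2_12_4 e2_12_5 e2_15_4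
theorem e2_17_0 : u2_17 * s 0 = 1 * u2_16 := by
  simpa only [one_mul, mul_one] using ded2 r_0_4 e2_17_4 e2_15_0 e2_13_4
theorem e2_16_0 : u2_16 * s 0 = 1 * u2_17 := rev_edge (s_sq 0) e2_17_0
theorem e2_16_1 : u2_16 * s 1 = s 4 * u2_16 := by
  simpa only [one_mul, mul_one] using ded2 r_1_4 e2_16_4 e2_13_1 e2_13_4
theorem e2_18_4 : u2_18 * s 4 = s 3 * u2_18 := by
  simpa only [one_mul, mul_one] using ded3 r_4_3 e2_18_3 e2_16_4 e2_13_3 e2_13_4 e2_16_3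
theorem e2_17_2 : u2_17 * s 2 = s 2 * u2_17 := by
  simpa only [one_mul, mul_one] using ded3 r_2_0 e2_17_0 e2_16_2 e2_14_0 e2_14_2 e2_16_0
theorem e2_18_2 : u2_18 * s 2 = s 5 * u2_18 := by
  simpa only [one_mul, mul_one] using ded3 r_2_3 e2_18_3 e2_16_2 e2_14_3 e2_14_2 e2_16_3
theorem e2_17_1 : u2_17 * s 1 = s 4 * u2_17 := by
  simpa only [one_mul, mul_one] using ded2 r_1_4 e2_17_4 e2_15_1 e2_15_4
theorem e2_19_4 : u2_19 * s 4 = s 3 * u2_19 := by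
  simpa only [one_mul, mul_one] using ded3 r_4_3 e2_19_3 e2_17_4 e2_15_3 e2_15_4 e2_17_3
theorem e2_19_0 : u2_19 * s 0 = 1 * u2_18 := by
  simpa only [one_mul, mul_one] using ded2 r_0_3 e2_19_3 e2_17_0 e2_16_3
theorem e2_18_0 : u2_18 * s 0 = 1 * u2_19 := rev_edge (s_sq 0) e2_19_0
theorem e2_20_3 : u2_20 * s 3 = s 4 * u2_20 := by
  simpa only [one_mul, mul_one] using ded3 r_3_1 e2_20_1 e2_18_3 e2_16_1 e2_16_3 e2_18_1
theorem e2_18_5 : u2_18 * s 5 = s 1 * u2_18 := by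
  simpa only [one_mul, mul_one] using ded2 r_5_3 e2_18_3 e2_16_5 e2_16_3
theorem e2_21_3 : u2_21 * s 3 = s 4 * u2_21 := by
  simpa only [one_mul, mul_one] using ded3 r_3_1 e2_21_1 e2_19_3 e2_17_1 e2_17_3 e2_19_1
theorem e2_22_3 : u2_22 * s 3 = s 2 * u2_22 := by
  simpa only [one_mul, mul_one] using ded3 r_3_2 e2_22_2 e2_19_3 e2_17_2 e2_17_3 e2_19_2
theorem e2_19_5 : u2_19 * s 5 = s 1 * u2_19 := by
  simpa only [one_mul, mul_one] using ded2 r_5_3 e2_19_3 e2_17_5 e2_17_3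
theorem e2_21_0 : u2_21 * s 0 = 1 * u2_20 := by
  simpa only [one_mul, mul_one] using ded2 r_0_1 e2_21_1 e2_19_0 e2_18_1
theorem e2_20_0 : u2_20 * s 0 = 1 * u2_21 := rev_edge (s_sq 0) e2_21_0
theorem e2_22_0 : u2_22 * s 0 = s 5 * u2_22 := by
  simpa only [one_mul, mul_one] using ded3 r_0_2 e2_22_2 e2_19_0 e2_18_2 e2_18_0 e2_19_2
theorem e2_20_2 : u2_20 * s 2 = s 5 * u2_20 := by
  simpa only [one_mul, mul_one] using ded2 r_2_1 e2_20_1 e2_18_2 e2_18_1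
theorem e2_20_4 : u2_20 * s 4 = s 3 * u2_20 := by
  simpa only [one_mul, mul_one] using ded2 r_4_1 e2_20_1 e2_18_4 e2_18_1
theorem e2_20_5 : u2_20 * s 5 = s 1 * u2_20 := by
  simpa only [one_mul, mul_one] using ded2 r_5_1 e2_20_1 e2_18_5 e2_18_1
theorem e2_23_1 : u2_23 * s 1 = 1 * u2_22 := by
  simpa only [one_mul, mul_one] using ded2 r_1_2 e2_23_2 e2_21_1 e2_19_2
theorem e2_22_1 : u2_22 * s 1 = 1 * u2_23 := rev_edge (s_sq 1) e2_23_1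
theorem e2_21_4 : u2_21 * s 4 = s 3 * u2_21 := by
  simpa only [one_mul, mul_one] using ded2 r_4_1 e2_21_1 e2_19_4 e2_19_1
theorem e2_21_5 : u2_21 * s 5 = s 1 * u2_21 := by
  simpa only [one_mul, mul_one] using ded2 r_5_1 e2_21_1 e2_19_5 e2_19_1
theorem e2_22_4 : u2_22 * s 4 = s 3 * u2_22 := by
  simpa only [one_mul, mul_one] using ded2 r_4_2 e2_22_2 e2_19_4 e2_19_2
theorem e2_22_5 : u2_22 * s 5 = s 1 * u2_22 := by
  simpa only [one_mul, mul_one] using ded2 r_5_2 e2_22_2 e2_19_5 e2_19_2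
theorem e2_23_0 : u2_23 * s 0 = s 5 * u2_23 := by
  simpa only [one_mul, mul_one] using ded3 r_0_2 e2_23_2 e2_21_0 e2_20_2 e2_20_0 e2_21_2
theorem e2_24_2 : u2_24 * s 2 = s 4 * u2_24 := by
  simpa only [one_mul, mul_one] using ded3 r_2_3 e2_24_3 e2_23_2 e2_21_3 e2_21_2 e2_23_3
theorem e2_23_4 : u2_23 * s 4 = s 3 * u2_23 := by
  simpa only [one_mul, mul_one] using ded2 r_4_2 e2_23_2 e2_21_4 e2_21_2
theorem e2_23_5 : u2_23 * s 5 = s 1 * u2_23 := by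
  simpa only [one_mul, mul_one] using ded2 r_5_2 e2_23_2 e2_21_5 e2_21_2
theorem e2_24_1 : u2_24 * s 1 = s 2 * u2_24 := by
  simpa only [one_mul, mul_one] using ded3 r_1_3 e2_24_3 e2_23_1 e2_22_3 e2_22_1 e2_23_3
theorem e2_24_0 : u2_24 * s 0 = s 5 * u2_24 := by
  simpa only [one_mul, mul_one] using ded2 r_0_3 e2_24_3 e2_23_0 e2_23_3
theorem e2_25_3 : u2_25 * s 3 = s 3 * u2_25 := by
  simpa only [one_mul, mul_one] using ded3 r_3_4 e2_25_4 e2_24_3 e2_23_4 e2_23_3 e2_24_4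
theorem e2_24_5 : u2_24 * s 5 = s 1 * u2_24 := by
  simpa only [one_mul, mul_one] using ded2 r_5_3 e2_24_3 e2_23_5 e2_23_3
theorem e2_25_0 : u2_25 * s 0 = s 5 * u2_25 := by
  simpa only [one_mul, mul_one] using ded2 r_0_4 e2_25_4 e2_24_0 e2_24_4
theorem e2_25_1 : u2_25 * s 1 = s 2 * u2_25 := by
  simpa only [one_mul, mul_one] using ded2 r_1_4 e2_25_4 e2_24_1 e2_24_4
theorem e2_25_2 : u2_25 * s 2 = s 4 * u2_25 := by
  simpa only [one_mul, mul_one] using ded2 r_2_4 e2_25_4 e2_24_2 e2_24_4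
theorem e2_26_4 : u2_26 * s 4 = s 1 * u2_26 := by
  simpa only [one_mul, mul_one] using ded3 r_4_5 e2_26_5 e2_25_4 e2_24_5 e2_24_4 e2_25_5
theorem e2_26_0 : u2_26 * s 0 = s 5 * u2_26 := by
  simpa only [one_mul, mul_one] using ded2 r_0_5 e2_26_5 e2_25_0 e2_25_5
theorem e2_26_1 : u2_26 * s 1 = s 2 * u2_26 := by
  simpa only [one_mul, mul_one] using ded2 r_1_5 e2_26_5 e2_25_1 e2_25_5
theorem e2_26_2 : u2_26 * s 2 = s 4 * u2_26 := by
  simpa only [one_mul, mul_one] using ded2 r_2_5 e2_26_5 e2_25_2 e2_25_5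
theorem e2_26_3 : u2_26 * s 3 = s 3 * u2_26 := by
  simpa only [one_mul, mul_one] using ded2 r_3_5 e2_26_5 e2_25_3 e2_25_5
def P2 (u : W) : Prop := u ∈ Subgroup.closure (gens M J2) ∧ ∀ x ∈ gens M J2, ∃ h ∈ Subgroup.closure (gens M J3), ∃ u' ∈ reps2, u * x = h * u'
theorem mr2_0 : u2_0 ∈ reps2 := List.getElem_mem (l := reps2) (n := 0) (by decide)
theorem mr2_1 : u2_1 ∈ reps2 := List.getElem_mem (l := reps2) (n := 1) (by decide)
theorem mr2_2 : u2_2 ∈ reps2 := List.getElem_mem (l := reps2) (n := 2) (by decide)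
theorem mr2_3 : u2_3 ∈ reps2 := List.getElem_mem (l := reps2) (n := 3) (by decide)
theorem mr2_4 : u2_4 ∈ reps2 := List.getElem_mem (l := reps2) (n := 4) (by decide)
theorem mr2_5 : u2_5 ∈ reps2 := List.getElem_mem (l := reps2) (n := 5) (by decide)
theorem mr2_6 : u2_6 ∈ reps2 := List.getElem_mem (l := reps2) (n := 6) (by decide)
theorem mr2_7 : u2_7 ∈ reps2 := List.getElem_mem (l := reps2) (n := 7) (by decide)
theorem mr2_8 : u2_8 ∈ reps2 := List.getElem_mem (l := reps2) (n := 8) (by decide)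
theorem mr2_9 : u2_9 ∈ reps2 := List.getElem_mem (l := reps2) (n := 9) (by decide)
theorem mr2_10 : u2_10 ∈ reps2 := List.getElem_mem (l := reps2) (n := 10) (by decide)
theorem mr2_11 : u2_11 ∈ reps2 := List.getElem_mem (l := reps2) (n := 11) (by decide)
theorem mr2_12 : u2_12 ∈ reps2 := List.getElem_mem (l := reps2) (n := 12) (by decide)
theorem mr2_13 : u2_13 ∈ reps2 := List.getElem_mem (l := reps2) (n := 13) (by decide)
theorem mr2_14 : u2_14 ∈ reps2 := List.getElem_mem (l := reps2) (n := 14) (by decide)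
theorem mr2_15 : u2_15 ∈ reps2 := List.getElem_mem (l := reps2) (n := 15) (by decide)
theorem mr2_16 : u2_16 ∈ reps2 := List.getElem_mem (l := reps2) (n := 16) (by decide)
theorem mr2_17 : u2_17 ∈ reps2 := List.getElem_mem (l := reps2) (n := 17) (by decide)
theorem mr2_18 : u2_18 ∈ reps2 := List.getElem_mem (l := reps2) (n := 18) (by decide)
theorem mr2_19 : u2_19 ∈ reps2 := List.getElem_mem (l := reps2) (n := 19) (by decide)
theorem mr2_20 : u2_20 ∈ reps2 := List.getElem_mem (l := reps2) (n := 20) (by decide)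
theorem mr2_21 : u2_21 ∈ reps2 := List.getElem_mem (l := reps2) (n := 21) (by decide)
theorem mr2_22 : u2_22 ∈ reps2 := List.getElem_mem (l := reps2) (n := 22) (by decide)
theorem mr2_23 : u2_23 ∈ reps2 := List.getElem_mem (l := reps2) (n := 23) (by decide)
theorem mr2_24 : u2_24 ∈ reps2 := List.getElem_mem (l := reps2) (n := 24) (by decide)
theorem mr2_25 : u2_25 ∈ reps2 := List.getElem_mem (l := reps2) (n := 25) (by decide)
theorem mr2_26 : u2_26 ∈ reps2 := List.getElem_mem (l := reps2) (n := 26) (by decide)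
theorem mm2_0 : u2_0 ∈ Subgroup.closure (gens M J2) := one_mem _
theorem mm2_1 : u2_1 ∈ Subgroup.closure (gens M J2) := mul_mem mm2_0 (Subgroup.subset_closure ⟨0, by decide, rfl⟩)
theorem mm2_2 : u2_2 ∈ Subgroup.closure (gens M J2) := mul_mem mm2_1 (Subgroup.subset_closure ⟨2, by decide, rfl⟩)
theorem mm2_3 : u2_3 ∈ Subgroup.closure (gens M J2) := mul_mem mm2_2 (Subgroup.subset_closure ⟨3, by decide, rfl⟩)
theorem mm2_4 : u2_4 ∈ Subgroup.closure (gens M J2) := mul_mem mm2_3 (Subgroup.subset_closure ⟨1, by decide, rfl⟩)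
theorem mm2_5 : u2_5 ∈ Subgroup.closure (gens M J2) := mul_mem mm2_3 (Subgroup.subset_closure ⟨4, by decide, rfl⟩)
theorem mm2_6 : u2_6 ∈ Subgroup.closure (gens M J2) := mul_mem mm2_4 (Subgroup.subset_closure ⟨4, by decide, rfl⟩)
theorem mm2_7 : u2_7 ∈ Subgroup.closure (gens M J2) := mul_mem mm2_5 (Subgroup.subset_closure ⟨5, by decide, rfl⟩)
theorem mm2_8 : u2_8 ∈ Subgroup.closure (gens M J2) := mul_mem mm2_6 (Subgroup.subset_closure ⟨3, by decide, rfl⟩)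
theorem mm2_9 : u2_9 ∈ Subgroup.closure (gens M J2) := mul_mem mm2_6 (Subgroup.subset_closure ⟨5, by decide, rfl⟩)
theorem mm2_10 : u2_10 ∈ Subgroup.closure (gens M J2) := mul_mem mm2_8 (Subgroup.subset_closure ⟨2, by decide, rfl⟩)
theorem mm2_11 : u2_11 ∈ Subgroup.closure (gens M J2) := mul_mem mm2_8 (Subgroup.subset_closure ⟨5, by decide, rfl⟩)
theorem mm2_12 : u2_12 ∈ Subgroup.closure (gens M J2) := mul_mem mm2_10 (Subgroup.subset_closure ⟨0, by decide, rfl⟩)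
theorem mm2_13 : u2_13 ∈ Subgroup.closure (gens M J2) := mul_mem mm2_10 (Subgroup.subset_closure ⟨5, by decide, rfl⟩)
theorem mm2_14 : u2_14 ∈ Subgroup.closure (gens M J2) := mul_mem mm2_11 (Subgroup.subset_closure ⟨4, by decide, rfl⟩)
theorem mm2_15 : u2_15 ∈ Subgroup.closure (gens M J2) := mul_mem mm2_12 (Subgroup.subset_closure ⟨5, by decide, rfl⟩)
theorem mm2_16 : u2_16 ∈ Subgroup.closure (gens M J2) := mul_mem mm2_13 (Subgroup.subset_closure ⟨4, by decide, rfl⟩)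
theorem mm2_17 : u2_17 ∈ Subgroup.closure (gens M J2) := mul_mem mm2_15 (Subgroup.subset_closure ⟨4, by decide, rfl⟩)
theorem mm2_18 : u2_18 ∈ Subgroup.closure (gens M J2) := mul_mem mm2_16 (Subgroup.subset_closure ⟨3, by decide, rfl⟩)
theorem mm2_19 : u2_19 ∈ Subgroup.closure (gens M J2) := mul_mem mm2_17 (Subgroup.subset_closure ⟨3, by decide, rfl⟩)
theorem mm2_20 : u2_20 ∈ Subgroup.closure (gens M J2) := mul_mem mm2_18 (Subgroup.subset_closure ⟨1, by decide, rfl⟩)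
theorem mm2_21 : u2_21 ∈ Subgroup.closure (gens M J2) := mul_mem mm2_19 (Subgroup.subset_closure ⟨1, by decide, rfl⟩)
theorem mm2_22 : u2_22 ∈ Subgroup.closure (gens M J2) := mul_mem mm2_19 (Subgroup.subset_closure ⟨2, by decide, rfl⟩)
theorem mm2_23 : u2_23 ∈ Subgroup.closure (gens M J2) := mul_mem mm2_21 (Subgroup.subset_closure ⟨2, by decide, rfl⟩)
theorem mm2_24 : u2_24 ∈ Subgroup.closure (gens M J2) := mul_mem mm2_23 (Subgroup.subset_closure ⟨3, by decide, rfl⟩)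
theorem mm2_25 : u2_25 ∈ Subgroup.closure (gens M J2) := mul_mem mm2_24 (Subgroup.subset_closure ⟨4, by decide, rfl⟩)
theorem mm2_26 : u2_26 ∈ Subgroup.closure (gens M J2) := mul_mem mm2_25 (Subgroup.subset_closure ⟨5, by decide, rfl⟩)
theorem c2_0 : P2 u2_0 := by
  refine ⟨mm2_0, ?_⟩
  rintro x ⟨j, hj, rfl⟩
  simp only [J2, List.mem_cons, List.not_mem_nil, or_false] at hj
  rcases hj with rfl | rfl | rfl | rfl | rfl | rfl
  · exact ⟨1, one_mem _, u2_1, mr2_1, e2_0_0⟩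
  · exact ⟨s 1, Subgroup.subset_closure ⟨1, by decide, rfl⟩, u2_0, mr2_0, e2_0_1⟩
  · exact ⟨s 2, Subgroup.subset_closure ⟨2, by decide, rfl⟩, u2_0, mr2_0, e2_0_2⟩
  · exact ⟨s 3, Subgroup.subset_closure ⟨3, by decide, rfl⟩, u2_0, mr2_0, e2_0_3⟩
  · exact ⟨s 4, Subgroup.subset_closure ⟨4, by decide, rfl⟩, u2_0, mr2_0, e2_0_4⟩
  · exact ⟨s 5, Subgroup.subset_closure ⟨5, by decide, rfl⟩, u2_0, mr2_0, e2_0_5⟩
theorem c2_1 : P2 u2_1 := by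
  refine ⟨mm2_1, ?_⟩
  rintro x ⟨j, hj, rfl⟩
  simp only [J2, List.mem_cons, List.not_mem_nil, or_false] at hj
  rcases hj with rfl | rfl | rfl | rfl | rfl | rfl
  · exact ⟨1, one_mem _, u2_0, mr2_0, e2_1_0⟩
  · exact ⟨s 1, Subgroup.subset_closure ⟨1, by decide, rfl⟩, u2_1, mr2_1, e2_1_1⟩
  · exact ⟨1, one_mem _, u2_2, mr2_2, e2_1_2⟩
  · exact ⟨s 3, Subgroup.subset_closure ⟨3, by decide, rfl⟩, u2_1, mr2_1, e2_1_3⟩
  · exact ⟨s 4, Subgroup.subset_closure ⟨4, by decide, rfl⟩, u2_1, mr2_1, e2_1_4⟩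
  · exact ⟨s 5, Subgroup.subset_closure ⟨5, by decide, rfl⟩, u2_1, mr2_1, e2_1_5⟩
theorem c2_2 : P2 u2_2 := by
  refine ⟨mm2_2, ?_⟩
  rintro x ⟨j, hj, rfl⟩
  simp only [J2, List.mem_cons, List.not_mem_nil, or_false] at hj
  rcases hj with rfl | rfl | rfl | rfl | rfl | rfl
  · exact ⟨s 2, Subgroup.subset_closure ⟨2, by decide, rfl⟩, u2_2, mr2_2, e2_2_0⟩
  · exact ⟨s 1, Subgroup.subset_closure ⟨1, by decide, rfl⟩, u2_2, mr2_2, e2_2_1⟩
  · exact ⟨1, one_mem _, u2_1, mr2_1, e2_2_2⟩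
  · exact ⟨1, one_mem _, u2_3, mr2_3, e2_2_3⟩
  · exact ⟨s 4, Subgroup.subset_closure ⟨4, by decide, rfl⟩, u2_2, mr2_2, e2_2_4⟩
  · exact ⟨s 5, Subgroup.subset_closure ⟨5, by decide, rfl⟩, u2_2, mr2_2, e2_2_5⟩
theorem c2_3 : P2 u2_3 := by
  refine ⟨mm2_3, ?_⟩
  rintro x ⟨j, hj, rfl⟩
  simp only [J2, List.mem_cons, List.not_mem_nil, or_false] at hj
  rcases hj with rfl | rfl | rfl | rfl | rfl | rfl
  · exact ⟨s 2, Subgroup.subset_closure ⟨2, by decide, rfl⟩, u2_3, mr2_3, e2_3_0⟩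
  · exact ⟨1, one_mem _, u2_4, mr2_4, e2_3_1⟩
  · exact ⟨s 3, Subgroup.subset_closure ⟨3, by decide, rfl⟩, u2_3, mr2_3, e2_3_2⟩
  · exact ⟨1, one_mem _, u2_2, mr2_2, e2_3_3⟩
  · exact ⟨1, one_mem _, u2_5, mr2_5, e2_3_4⟩
  · exact ⟨s 5, Subgroup.subset_closure ⟨5, by decide, rfl⟩, u2_3, mr2_3, e2_3_5⟩
theorem c2_4 : P2 u2_4 := by
  refine ⟨mm2_4, ?_⟩
  rintro x ⟨j, hj, rfl⟩
  simp only [J2, List.mem_cons, List.not_mem_nil, or_false] at hj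
  rcases hj with rfl | rfl | rfl | rfl | rfl | rfl
  · exact ⟨s 2, Subgroup.subset_closure ⟨2, by decide, rfl⟩, u2_4, mr2_4, e2_4_0⟩
  · exact ⟨1, one_mem _, u2_3, mr2_3, e2_4_1⟩
  · exact ⟨s 3, Subgroup.subset_closure ⟨3, by decide, rfl⟩, u2_4, mr2_4, e2_4_2⟩
  · exact ⟨s 1, Subgroup.subset_closure ⟨1, by decide, rfl⟩, u2_4, mr2_4, e2_4_3⟩
  · exact ⟨1, one_mem _, u2_6, mr2_6, e2_4_4⟩
  · exact ⟨s 5, Subgroup.subset_closure ⟨5, by decide, rfl⟩, u2_4, mr2_4, e2_4_5⟩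
theorem c2_5 : P2 u2_5 := by
  refine ⟨mm2_5, ?_⟩
  rintro x ⟨j, hj, rfl⟩
  simp only [J2, List.mem_cons, List.not_mem_nil, or_false] at hj
  rcases hj with rfl | rfl | rfl | rfl | rfl | rfl
  · exact ⟨s 2, Subgroup.subset_closure ⟨2, by decide, rfl⟩, u2_5, mr2_5, e2_5_0⟩
  · exact ⟨1, one_mem _, u2_6, mr2_6, e2_5_1⟩
  · exact ⟨s 3, Subgroup.subset_closure ⟨3, by decide, rfl⟩, u2_5, mr2_5, e2_5_2⟩
  · exact ⟨s 4, Subgroup.subset_closure ⟨4, by decide, rfl⟩, u2_5, mr2_5, e2_5_3⟩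
  · exact ⟨1, one_mem _, u2_3, mr2_3, e2_5_4⟩
  · exact ⟨1, one_mem _, u2_7, mr2_7, e2_5_5⟩
theorem c2_6 : P2 u2_6 := by
  refine ⟨mm2_6, ?_⟩
  rintro x ⟨j, hj, rfl⟩
  simp only [J2, List.mem_cons, List.not_mem_nil, or_false] at hj
  rcases hj with rfl | rfl | rfl | rfl | rfl | rfl
  · exact ⟨s 2, Subgroup.subset_closure ⟨2, by decide, rfl⟩, u2_6, mr2_6, e2_6_0⟩
  · exact ⟨1, one_mem _, u2_5, mr2_5, e2_6_1⟩
  · exact ⟨s 3, Subgroup.subset_closure ⟨3, by decide, rfl⟩, u2_6, mr2_6, e2_6_2⟩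
  · exact ⟨1, one_mem _, u2_8, mr2_8, e2_6_3⟩
  · exact ⟨1, one_mem _, u2_4, mr2_4, e2_6_4⟩
  · exact ⟨1, one_mem _, u2_9, mr2_9, e2_6_5⟩
theorem c2_7 : P2 u2_7 := by
  refine ⟨mm2_7, ?_⟩
  rintro x ⟨j, hj, rfl⟩
  simp only [J2, List.mem_cons, List.not_mem_nil, or_false] at hj
  rcases hj with rfl | rfl | rfl | rfl | rfl | rfl
  · exact ⟨s 2, Subgroup.subset_closure ⟨2, by decide, rfl⟩, u2_7, mr2_7, e2_7_0⟩
  · exact ⟨1, one_mem _, u2_9, mr2_9, e2_7_1⟩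
  · exact ⟨s 3, Subgroup.subset_closure ⟨3, by decide, rfl⟩, u2_7, mr2_7, e2_7_2⟩
  · exact ⟨s 4, Subgroup.subset_closure ⟨4, by decide, rfl⟩, u2_7, mr2_7, e2_7_3⟩
  · exact ⟨s 5, Subgroup.subset_closure ⟨5, by decide, rfl⟩, u2_7, mr2_7, e2_7_4⟩
  · exact ⟨1, one_mem _, u2_5, mr2_5, e2_7_5⟩
theorem c2_8 : P2 u2_8 := by
  refine ⟨mm2_8, ?_⟩
  rintro x ⟨j, hj, rfl⟩
  simp only [J2, List.mem_cons, List.not_mem_nil, or_false] at hj
  rcases hj with rfl | rfl | rfl | rfl | rfl | rfl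
  · exact ⟨s 2, Subgroup.subset_closure ⟨2, by decide, rfl⟩, u2_8, mr2_8, e2_8_0⟩
  · exact ⟨s 4, Subgroup.subset_closure ⟨4, by decide, rfl⟩, u2_8, mr2_8, e2_8_1⟩
  · exact ⟨1, one_mem _, u2_10, mr2_10, e2_8_2⟩
  · exact ⟨1, one_mem _, u2_6, mr2_6, e2_8_3⟩
  · exact ⟨s 1, Subgroup.subset_closure ⟨1, by decide, rfl⟩, u2_8, mr2_8, e2_8_4⟩
  · exact ⟨1, one_mem _, u2_11, mr2_11, e2_8_5⟩
theorem c2_9 : P2 u2_9 := by
  refine ⟨mm2_9, ?_⟩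
  rintro x ⟨j, hj, rfl⟩
  simp only [J2, List.mem_cons, List.not_mem_nil, or_false] at hj
  rcases hj with rfl | rfl | rfl | rfl | rfl | rfl
  · exact ⟨s 2, Subgroup.subset_closure ⟨2, by decide, rfl⟩, u2_9, mr2_9, e2_9_0⟩
  · exact ⟨1, one_mem _, u2_7, mr2_7, e2_9_1⟩
  · exact ⟨s 3, Subgroup.subset_closure ⟨3, by decide, rfl⟩, u2_9, mr2_9, e2_9_2⟩
  · exact ⟨1, one_mem _, u2_11, mr2_11, e2_9_3⟩
  · exact ⟨s 5, Subgroup.subset_closure ⟨5, by decide, rfl⟩, u2_9, mr2_9, e2_9_4⟩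
  · exact ⟨1, one_mem _, u2_6, mr2_6, e2_9_5⟩
theorem c2_10 : P2 u2_10 := by
  refine ⟨mm2_10, ?_⟩
  rintro x ⟨j, hj, rfl⟩
  simp only [J2, List.mem_cons, List.not_mem_nil, or_false] at hj
  rcases hj with rfl | rfl | rfl | rfl | rfl | rfl
  · exact ⟨1, one_mem _, u2_12, mr2_12, e2_10_0⟩
  · exact ⟨s 4, Subgroup.subset_closure ⟨4, by decide, rfl⟩, u2_10, mr2_10, e2_10_1⟩
  · exact ⟨1, one_mem _, u2_8, mr2_8, e2_10_2⟩
  · exact ⟨s 3, Subgroup.subset_closure ⟨3, by decide, rfl⟩, u2_10, mr2_10, e2_10_3⟩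
  · exact ⟨s 1, Subgroup.subset_closure ⟨1, by decide, rfl⟩, u2_10, mr2_10, e2_10_4⟩
  · exact ⟨1, one_mem _, u2_13, mr2_13, e2_10_5⟩
theorem c2_11 : P2 u2_11 := by
  refine ⟨mm2_11, ?_⟩
  rintro x ⟨j, hj, rfl⟩
  simp only [J2, List.mem_cons, List.not_mem_nil, or_false] at hj
  rcases hj with rfl | rfl | rfl | rfl | rfl | rfl
  · exact ⟨s 2, Subgroup.subset_closure ⟨2, by decide, rfl⟩, u2_11, mr2_11, e2_11_0⟩
  · exact ⟨s 4, Subgroup.subset_closure ⟨4, by decide, rfl⟩, u2_11, mr2_11, e2_11_1⟩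
  · exact ⟨1, one_mem _, u2_13, mr2_13, e2_11_2⟩
  · exact ⟨1, one_mem _, u2_9, mr2_9, e2_11_3⟩
  · exact ⟨1, one_mem _, u2_14, mr2_14, e2_11_4⟩
  · exact ⟨1, one_mem _, u2_8, mr2_8, e2_11_5⟩
theorem c2_12 : P2 u2_12 := by
  refine ⟨mm2_12, ?_⟩
  rintro x ⟨j, hj, rfl⟩
  simp only [J2, List.mem_cons, List.not_mem_nil, or_false] at hj
  rcases hj with rfl | rfl | rfl | rfl | rfl | rfl
  · exact ⟨1, one_mem _, u2_10, mr2_10, e2_12_0⟩
  · exact ⟨s 4, Subgroup.subset_closure ⟨4, by decide, rfl⟩, u2_12, mr2_12, e2_12_1⟩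
  · exact ⟨s 2, Subgroup.subset_closure ⟨2, by decide, rfl⟩, u2_12, mr2_12, e2_12_2⟩
  · exact ⟨s 3, Subgroup.subset_closure ⟨3, by decide, rfl⟩, u2_12, mr2_12, e2_12_3⟩
  · exact ⟨s 1, Subgroup.subset_closure ⟨1, by decide, rfl⟩, u2_12, mr2_12, e2_12_4⟩
  · exact ⟨1, one_mem _, u2_15, mr2_15, e2_12_5⟩
theorem c2_13 : P2 u2_13 := by
  refine ⟨mm2_13, ?_⟩
  rintro x ⟨j, hj, rfl⟩
  simp only [J2, List.mem_cons, List.not_mem_nil, or_false] at hj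
  rcases hj with rfl | rfl | rfl | rfl | rfl | rfl
  · exact ⟨1, one_mem _, u2_15, mr2_15, e2_13_0⟩
  · exact ⟨s 4, Subgroup.subset_closure ⟨4, by decide, rfl⟩, u2_13, mr2_13, e2_13_1⟩
  · exact ⟨1, one_mem _, u2_11, mr2_11, e2_13_2⟩
  · exact ⟨s 3, Subgroup.subset_closure ⟨3, by decide, rfl⟩, u2_13, mr2_13, e2_13_3⟩
  · exact ⟨1, one_mem _, u2_16, mr2_16, e2_13_4⟩
  · exact ⟨1, one_mem _, u2_10, mr2_10, e2_13_5⟩
theorem c2_14 : P2 u2_14 := by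
  refine ⟨mm2_14, ?_⟩
  rintro x ⟨j, hj, rfl⟩
  simp only [J2, List.mem_cons, List.not_mem_nil, or_false] at hj
  rcases hj with rfl | rfl | rfl | rfl | rfl | rfl
  · exact ⟨s 2, Subgroup.subset_closure ⟨2, by decide, rfl⟩, u2_14, mr2_14, e2_14_0⟩
  · exact ⟨s 4, Subgroup.subset_closure ⟨4, by decide, rfl⟩, u2_14, mr2_14, e2_14_1⟩
  · exact ⟨1, one_mem _, u2_16, mr2_16, e2_14_2⟩
  · exact ⟨s 5, Subgroup.subset_closure ⟨5, by decide, rfl⟩, u2_14, mr2_14, e2_14_3⟩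
  · exact ⟨1, one_mem _, u2_11, mr2_11, e2_14_4⟩
  · exact ⟨s 1, Subgroup.subset_closure ⟨1, by decide, rfl⟩, u2_14, mr2_14, e2_14_5⟩
theorem c2_15 : P2 u2_15 := by
  refine ⟨mm2_15, ?_⟩
  rintro x ⟨j, hj, rfl⟩
  simp only [J2, List.mem_cons, List.not_mem_nil, or_false] at hj
  rcases hj with rfl | rfl | rfl | rfl | rfl | rfl
  · exact ⟨1, one_mem _, u2_13, mr2_13, e2_15_0⟩
  · exact ⟨s 4, Subgroup.subset_closure ⟨4, by decide, rfl⟩, u2_15, mr2_15, e2_15_1⟩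
  · exact ⟨s 2, Subgroup.subset_closure ⟨2, by decide, rfl⟩, u2_15, mr2_15, e2_15_2⟩
  · exact ⟨s 3, Subgroup.subset_closure ⟨3, by decide, rfl⟩, u2_15, mr2_15, e2_15_3⟩
  · exact ⟨1, one_mem _, u2_17, mr2_17, e2_15_4⟩
  · exact ⟨1, one_mem _, u2_12, mr2_12, e2_15_5⟩
theorem c2_16 : P2 u2_16 := by
  refine ⟨mm2_16, ?_⟩
  rintro x ⟨j, hj, rfl⟩
  simp only [J2, List.mem_cons, List.not_mem_nil, or_false] at hj
  rcases hj with rfl | rfl | rfl | rfl | rfl | rfl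
  · exact ⟨1, one_mem _, u2_17, mr2_17, e2_16_0⟩
  · exact ⟨s 4, Subgroup.subset_closure ⟨4, by decide, rfl⟩, u2_16, mr2_16, e2_16_1⟩
  · exact ⟨1, one_mem _, u2_14, mr2_14, e2_16_2⟩
  · exact ⟨1, one_mem _, u2_18, mr2_18, e2_16_3⟩
  · exact ⟨1, one_mem _, u2_13, mr2_13, e2_16_4⟩
  · exact ⟨s 1, Subgroup.subset_closure ⟨1, by decide, rfl⟩, u2_16, mr2_16, e2_16_5⟩
theorem c2_17 : P2 u2_17 := by
  refine ⟨mm2_17, ?_⟩
  rintro x ⟨j, hj, rfl⟩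
  simp only [J2, List.mem_cons, List.not_mem_nil, or_false] at hj
  rcases hj with rfl | rfl | rfl | rfl | rfl | rfl
  · exact ⟨1, one_mem _, u2_16, mr2_16, e2_17_0⟩
  · exact ⟨s 4, Subgroup.subset_closure ⟨4, by decide, rfl⟩, u2_17, mr2_17, e2_17_1⟩
  · exact ⟨s 2, Subgroup.subset_closure ⟨2, by decide, rfl⟩, u2_17, mr2_17, e2_17_2⟩
  · exact ⟨1, one_mem _, u2_19, mr2_19, e2_17_3⟩
  · exact ⟨1, one_mem _, u2_15, mr2_15, e2_17_4⟩
  · exact ⟨s 1, Subgroup.subset_closure ⟨1, by decide, rfl⟩, u2_17, mr2_17, e2_17_5⟩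
theorem c2_18 : P2 u2_18 := by
  refine ⟨mm2_18, ?_⟩
  rintro x ⟨j, hj, rfl⟩
  simp only [J2, List.mem_cons, List.not_mem_nil, or_false] at hj
  rcases hj with rfl | rfl | rfl | rfl | rfl | rfl
  · exact ⟨1, one_mem _, u2_19, mr2_19, e2_18_0⟩
  · exact ⟨1, one_mem _, u2_20, mr2_20, e2_18_1⟩
  · exact ⟨s 5, Subgroup.subset_closure ⟨5, by decide, rfl⟩, u2_18, mr2_18, e2_18_2⟩
  · exact ⟨1, one_mem _, u2_16, mr2_16, e2_18_3⟩
  · exact ⟨s 3, Subgroup.subset_closure ⟨3, by decide, rfl⟩, u2_18, mr2_18, e2_18_4⟩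
  · exact ⟨s 1, Subgroup.subset_closure ⟨1, by decide, rfl⟩, u2_18, mr2_18, e2_18_5⟩
theorem c2_19 : P2 u2_19 := by
  refine ⟨mm2_19, ?_⟩
  rintro x ⟨j, hj, rfl⟩
  simp only [J2, List.mem_cons, List.not_mem_nil, or_false] at hj
  rcases hj with rfl | rfl | rfl | rfl | rfl | rfl
  · exact ⟨1, one_mem _, u2_18, mr2_18, e2_19_0⟩
  · exact ⟨1, one_mem _, u2_21, mr2_21, e2_19_1⟩
  · exact ⟨1, one_mem _, u2_22, mr2_22, e2_19_2⟩
  · exact ⟨1, one_mem _, u2_17, mr2_17, e2_19_3⟩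
  · exact ⟨s 3, Subgroup.subset_closure ⟨3, by decide, rfl⟩, u2_19, mr2_19, e2_19_4⟩
  · exact ⟨s 1, Subgroup.subset_closure ⟨1, by decide, rfl⟩, u2_19, mr2_19, e2_19_5⟩
theorem c2_20 : P2 u2_20 := by
  refine ⟨mm2_20, ?_⟩
  rintro x ⟨j, hj, rfl⟩
  simp only [J2, List.mem_cons, List.not_mem_nil, or_false] at hj
  rcases hj with rfl | rfl | rfl | rfl | rfl | rfl
  · exact ⟨1, one_mem _, u2_21, mr2_21, e2_20_0⟩
  · exact ⟨1, one_mem _, u2_18, mr2_18, e2_20_1⟩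
  · exact ⟨s 5, Subgroup.subset_closure ⟨5, by decide, rfl⟩, u2_20, mr2_20, e2_20_2⟩
  · exact ⟨s 4, Subgroup.subset_closure ⟨4, by decide, rfl⟩, u2_20, mr2_20, e2_20_3⟩
  · exact ⟨s 3, Subgroup.subset_closure ⟨3, by decide, rfl⟩, u2_20, mr2_20, e2_20_4⟩
  · exact ⟨s 1, Subgroup.subset_closure ⟨1, by decide, rfl⟩, u2_20, mr2_20, e2_20_5⟩
theorem c2_21 : P2 u2_21 := by
  refine ⟨mm2_21, ?_⟩
  rintro x ⟨j, hj, rfl⟩
  simp only [J2, List.mem_cons, List.not_mem_nil, or_false] at hj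
  rcases hj with rfl | rfl | rfl | rfl | rfl | rfl
  · exact ⟨1, one_mem _, u2_20, mr2_20, e2_21_0⟩
  · exact ⟨1, one_mem _, u2_19, mr2_19, e2_21_1⟩
  · exact ⟨1, one_mem _, u2_23, mr2_23, e2_21_2⟩
  · exact ⟨s 4, Subgroup.subset_closure ⟨4, by decide, rfl⟩, u2_21, mr2_21, e2_21_3⟩
  · exact ⟨s 3, Subgroup.subset_closure ⟨3, by decide, rfl⟩, u2_21, mr2_21, e2_21_4⟩
  · exact ⟨s 1, Subgroup.subset_closure ⟨1, by decide, rfl⟩, u2_21, mr2_21, e2_21_5⟩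
theorem c2_22 : P2 u2_22 := by
  refine ⟨mm2_22, ?_⟩
  rintro x ⟨j, hj, rfl⟩
  simp only [J2, List.mem_cons, List.not_mem_nil, or_false] at hj
  rcases hj with rfl | rfl | rfl | rfl | rfl | rfl
  · exact ⟨s 5, Subgroup.subset_closure ⟨5, by decide, rfl⟩, u2_22, mr2_22, e2_22_0⟩
  · exact ⟨1, one_mem _, u2_23, mr2_23, e2_22_1⟩
  · exact ⟨1, one_mem _, u2_19, mr2_19, e2_22_2⟩
  · exact ⟨s 2, Subgroup.subset_closure ⟨2, by decide, rfl⟩, u2_22, mr2_22, e2_22_3⟩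
  · exact ⟨s 3, Subgroup.subset_closure ⟨3, by decide, rfl⟩, u2_22, mr2_22, e2_22_4⟩
  · exact ⟨s 1, Subgroup.subset_closure ⟨1, by decide, rfl⟩, u2_22, mr2_22, e2_22_5⟩
theorem c2_23 : P2 u2_23 := by
  refine ⟨mm2_23, ?_⟩
  rintro x ⟨j, hj, rfl⟩
  simp only [J2, List.mem_cons, List.not_mem_nil, or_false] at hj
  rcases hj with rfl | rfl | rfl | rfl | rfl | rfl
  · exact ⟨s 5, Subgroup.subset_closure ⟨5, by decide, rfl⟩, u2_23, mr2_23, e2_23_0⟩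
  · exact ⟨1, one_mem _, u2_22, mr2_22, e2_23_1⟩
  · exact ⟨1, one_mem _, u2_21, mr2_21, e2_23_2⟩
  · exact ⟨1, one_mem _, u2_24, mr2_24, e2_23_3⟩
  · exact ⟨s 3, Subgroup.subset_closure ⟨3, by decide, rfl⟩, u2_23, mr2_23, e2_23_4⟩
  · exact ⟨s 1, Subgroup.subset_closure ⟨1, by decide, rfl⟩, u2_23, mr2_23, e2_23_5⟩
theorem c2_24 : P2 u2_24 := by
  refine ⟨mm2_24, ?_⟩
  rintro x ⟨j, hj, rfl⟩
  simp only [J2, List.mem_cons, List.not_mem_nil, or_false] at hj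
  rcases hj with rfl | rfl | rfl | rfl | rfl | rfl
  · exact ⟨s 5, Subgroup.subset_closure ⟨5, by decide, rfl⟩, u2_24, mr2_24, e2_24_0⟩
  · exact ⟨s 2, Subgroup.subset_closure ⟨2, by decide, rfl⟩, u2_24, mr2_24, e2_24_1⟩
  · exact ⟨s 4, Subgroup.subset_closure ⟨4, by decide, rfl⟩, u2_24, mr2_24, e2_24_2⟩
  · exact ⟨1, one_mem _, u2_23, mr2_23, e2_24_3⟩
  · exact ⟨1, one_mem _, u2_25, mr2_25, e2_24_4⟩
  · exact ⟨s 1, Subgroup.subset_closure ⟨1, by decide, rfl⟩, u2_24, mr2_24, e2_24_5⟩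
theorem c2_25 : P2 u2_25 := by
  refine ⟨mm2_25, ?_⟩
  rintro x ⟨j, hj, rfl⟩
  simp only [J2, List.mem_cons, List.not_mem_nil, or_false] at hj
  rcases hj with rfl | rfl | rfl | rfl | rfl | rfl
  · exact ⟨s 5, Subgroup.subset_closure ⟨5, by decide, rfl⟩, u2_25, mr2_25, e2_25_0⟩
  · exact ⟨s 2, Subgroup.subset_closure ⟨2, by decide, rfl⟩, u2_25, mr2_25, e2_25_1⟩
  · exact ⟨s 4, Subgroup.subset_closure ⟨4, by decide, rfl⟩, u2_25, mr2_25, e2_25_2⟩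
  · exact ⟨s 3, Subgroup.subset_closure ⟨3, by decide, rfl⟩, u2_25, mr2_25, e2_25_3⟩
  · exact ⟨1, one_mem _, u2_24, mr2_24, e2_25_4⟩
  · exact ⟨1, one_mem _, u2_26, mr2_26, e2_25_5⟩
theorem c2_26 : P2 u2_26 := by
  refine ⟨mm2_26, ?_⟩
  rintro x ⟨j, hj, rfl⟩
  simp only [J2, List.mem_cons, List.not_mem_nil, or_false] at hj
  rcases hj with rfl | rfl | rfl | rfl | rfl | rfl
  · exact ⟨s 5, Subgroup.subset_closure ⟨5, by decide, rfl⟩, u2_26, mr2_26, e2_26_0⟩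
  · exact ⟨s 2, Subgroup.subset_closure ⟨2, by decide, rfl⟩, u2_26, mr2_26, e2_26_1⟩
  · exact ⟨s 4, Subgroup.subset_closure ⟨4, by decide, rfl⟩, u2_26, mr2_26, e2_26_2⟩
  · exact ⟨s 3, Subgroup.subset_closure ⟨3, by decide, rfl⟩, u2_26, mr2_26, e2_26_3⟩
  · exact ⟨s 1, Subgroup.subset_closure ⟨1, by decide, rfl⟩, u2_26, mr2_26, e2_26_4⟩
  · exact ⟨1, one_mem _, u2_25, mr2_25, e2_26_5⟩
def preps2 : List {u : W // P2 u} := [⟨u2_0, c2_0⟩, ⟨u2_1, c2_1⟩, ⟨u2_2, c2_2⟩, ⟨u2_3, c2_3⟩, ⟨u2_4, c2_4⟩, ⟨u2_5, c2_5⟩, ⟨u2_6, c2_6⟩, ⟨u2_7, c2_7⟩, ⟨u2_8, c2_8⟩, ⟨u2_9, c2_9⟩, ⟨u2_10, c2_10⟩, ⟨u2_11, c2_11⟩, ⟨u2_12, c2_12⟩, ⟨u2_13, c2_13⟩, ⟨u2_14, c2_14⟩, ⟨u2_15, c2_15⟩, ⟨u2_16, c2_16⟩, ⟨u2_17, c2_17⟩, ⟨u2_18, c2_18⟩, ⟨u2_19, c2_19⟩, ⟨u2_20, c2_20⟩, ⟨u2_21, c2_21⟩, ⟨u2_22, c2_22⟩, ⟨u2_23, c2_23⟩, ⟨u2_24, c2_24⟩, ⟨u2_25, c2_25⟩, ⟨u2_26, c2_26⟩]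
theorem preps2_map : preps2.map Subtype.val = reps2 := rfl
theorem allP2 : ∀ u ∈ reps2, P2 u := by
  intro u hu
  rw [← preps2_map, List.mem_map] at hu
  obtain ⟨x, _, rfl⟩ := hu
  exact x.2
def vecs2 : List (Fin 8 → ℤ) := [(![1, 0, 0, 0, 0, 0, 0, 0] : Fin 8 → ℤ), (![-1, 0, 1, 0, 0, 0, 0, 0] : Fin 8 → ℤ), (![0, 0, -1, 1, 0, 0, 0, 0] : Fin 8 → ℤ), (![0, 1, 0, -1, 1, 0, 0, 0] : Fin 8 → ℤ), (![0, -1, 0, 0, 1, 0, 0, 0] : Fin 8 → ℤ), (![0, 1, 0, 0, -1, 1, 0, 0] : Fin 8 → ℤ), (![0, -1, 0, 1, -1, 1, 0, 0] : Fin 8 → ℤ), (![0, 1, 0, 0, 0, -1, 1, 0] : Fin 8 → ℤ), (![0, 0, 1, -1, 0, 1, 0, 0] : Fin 8 → ℤ), (![0, -1, 0, 1, 0, -1, 1, 0] : Fin 8 → ℤ), (![1, 0, -1, 0, 0, 1, 0, 0] : Fin 8 → ℤ), (![0, 0, 1, -1, 1, -1, 1, 0] : Fin 8 → ℤ), (![-1, 0, 0, 0, 0, 1, 0, 0] : Fin 8 → ℤ), (![1, 0, -1, 0, 1, -1, 1, 0] : Fin 8 → ℤ), (![0, 0, 1, 0, -1, 0, 1, 0] : Fin 8 → ℤ), (![-1, 0, 0, 0, 1,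 -1, 1, 0] : Fin 8 → ℤ), (![1, 0, -1, 1, -1, 0, 1, 0] : Fin 8 → ℤ), (![-1, 0, 0, 1, -1, 0, 1, 0] : Fin 8 → ℤ), (![1, 1, 0, -1, 0, 0, 1, 0] : Fin 8 → ℤ), (![-1, 1, 1, -1, 0, 0, 1, 0] : Fin 8 → ℤ), (![1, -1, 0, 0, 0, 0, 1, 0] : Fin 8 → ℤ), (![-1, -1, 1, 0, 0, 0, 1, 0] : Fin 8 → ℤ), (![0, 1, -1, 0, 0, 0, 1, 0] : Fin 8 → ℤ), (![0, -1, -1, 1, 0, 0, 1, 0] : Fin 8 → ℤ), (![0, 0, 0, -1, 1, 0, 1, 0] : Fin 8 → ℤ), (![0, 0, 0, 0, -1, 1, 1, 0] : Fin 8 → ℤ), (![0, 0, 0, 0, 0, -1, 2, 0] : Fin 8 → ℤ)]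
theorem map2 : reps2.map fv2 = vecs2 := by
  simp only [reps2, List.map_cons, List.map_nil, v2_0, v2_1, v2_2, v2_3, v2_4, v2_5, v2_6, v2_7, v2_8, v2_9, v2_10, v2_11, v2_12, v2_13, v2_14, v2_15, v2_16, v2_17, v2_18, v2_19, v2_20, v2_21, v2_22, v2_23, v2_24, v2_25, v2_26]
  rfl
theorem nd2 : (reps2.map fv2).Nodup := by rw [map2]; decide +kernel
theorem fix2 : ∀ h ∈ gens M J3, ∀ w, fv2 (h * w) = fv2 w := by
  rintro h ⟨j, hj, rfl⟩ w
  simp only [J3, List.mem_cons, List.not_mem_nil, or_false] at hj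
  rcases hj with rfl | rfl | rfl | rfl | rfl
  all_goals exact fvec_fix M A hA base2 _ (by decide +kernel) w
theorem sub2 : gens M J3 ⊆ gens M J2 := gens_mono M (by decide)
theorem card2 : Nat.card (Subgroup.closure (gens M J2)) = Nat.card (Subgroup.closure (gens M J3)) * 27 :=
  level_card (gens M J2) (gens M J3) sub2 (gens_inv M J2) reps2 mr2_0 (fun u hu => (allP2 u hu).1) (fun u hu => (allP2 u hu).2) fv2 fix2 nd2
theorem ker2 : ∀ w ∈ Subgroup.closure (gens M J2), fv2 w = fv2 1 → w ∈ Subgroup.closure (gens M J3) :=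
  level_ker (gens M J2) (gens M J3) (gens_inv M J2) reps2 mr2_0 (fun u hu => (allP2 u hu).2) fv2 fix2 nd2

-- level 3: index 10
def base3 : Fin 8 → ℤ := ![0, 0, 0, 0, 0, 1, 0, 0]
def fv3 : W → (Fin 8 → ℤ) := fvec M A hA base3
def u3_0 : W := 1
def u3_1 : W := u3_0 * s 5
def u3_2 : W := u3_1 * s 4
def u3_3 : W := u3_2 * s 3
def u3_4 : W := u3_3 * s 1
def u3_5 : W := u3_3 * s 2
def u3_6 : W := u3_4 * s 2
def u3_7 : W := u3_6 * s 3
def u3_8 : W := u3_7 * s 4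
def u3_9 : W := u3_8 * s 5
def reps3 : List W := [u3_0, u3_1, u3_2, u3_3, u3_4, u3_5, u3_6, u3_7, u3_8, u3_9]
theorem v3_0 : fv3 u3_0 = ![0, 0, 0, 0, 0, 1, 0, 0] := fvec_one M A hA base3
theorem v3_1 : fv3 u3_1 = ![0, 0, 0, 0, 1, -1, 1, 0] := by
  show fvec M A hA base3 (u3_0 * M.simple 5) = _
  rw [fvec_mul_simple]; show reflVec A 5 (fv3 u3_0) = _; rw [v3_0]; decide +kernel
theorem v3_2 : fv3 u3_2 = ![0, 0, 0, 1, -1, 0, 1, 0] := by
  show fvec M A hA base3 (u3_1 * M.simple 4) = _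
  rw [fvec_mul_simple]; show reflVec A 4 (fv3 u3_1) = _; rw [v3_1]; decide +kernel
theorem v3_3 : fv3 u3_3 = ![0, 1, 1, -1, 0, 0, 1, 0] := by
  show fvec M A hA base3 (u3_2 * M.simple 3) = _
  rw [fvec_mul_simple]; show reflVec A 3 (fv3 u3_2) = _; rw [v3_2]; decide +kernel
theorem v3_4 : fv3 u3_4 = ![0, -1, 1, 0, 0, 0, 1, 0] := by
  show fvec M A hA base3 (u3_3 * M.simple 1) = _
  rw [fvec_mul_simple]; show reflVec A 1 (fv3 u3_3) = _; rw [v3_3]; decide +kernel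
theorem v3_5 : fv3 u3_5 = ![1, 1, -1, 0, 0, 0, 1, 0] := by
  show fvec M A hA base3 (u3_3 * M.simple 2) = _
  rw [fvec_mul_simple]; show reflVec A 2 (fv3 u3_3) = _; rw [v3_3]; decide +kernel
theorem v3_6 : fv3 u3_6 = ![1, -1, -1, 1, 0, 0, 1, 0] := by
  show fvec M A hA base3 (u3_4 * M.simple 2) = _
  rw [fvec_mul_simple]; show reflVec A 2 (fv3 u3_4) = _; rw [v3_4]; decide +kernel
theorem v3_7 : fv3 u3_7 = ![1, 0, 0, -1, 1, 0, 1, 0] := by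
  show fvec M A hA base3 (u3_6 * M.simple 3) = _
  rw [fvec_mul_simple]; show reflVec A 3 (fv3 u3_6) = _; rw [v3_6]; decide +kernel
theorem v3_8 : fv3 u3_8 = ![1, 0, 0, 0, -1, 1, 1, 0] := by
  show fvec M A hA base3 (u3_7 * M.simple 4) = _
  rw [fvec_mul_simple]; show reflVec A 4 (fv3 u3_7) = _; rw [v3_7]; decide +kernel
theorem v3_9 : fv3 u3_9 = ![1, 0, 0, 0, 0, -1, 2, 0] := by
  show fvec M A hA base3 (u3_8 * M.simple 5) = _
  rw [fvec_mul_simple]; show reflVec A 5 (fv3 u3_8) = _; rw [v3_8]; decide +kernel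
theorem e3_0_5 : u3_0 * s 5 = 1 * u3_1 := (one_mul (u3_0 * s 5)).symm
theorem e3_1_5 : u3_1 * s 5 = 1 * u3_0 := tree_up (s_sq 5)
theorem e3_1_4 : u3_1 * s 4 = 1 * u3_2 := (one_mul (u3_1 * s 4)).symm
theorem e3_2_4 : u3_2 * s 4 = 1 * u3_1 := tree_up (s_sq 4)
theorem e3_2_3 : u3_2 * s 3 = 1 * u3_3 := (one_mul (u3_2 * s 3)).symm
theorem e3_3_3 : u3_3 * s 3 = 1 * u3_2 := tree_up (s_sq 3)
theorem e3_3_1 : u3_3 * s 1 = 1 * u3_4 := (one_mul (u3_3 * s 1)).symm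
theorem e3_4_1 : u3_4 * s 1 = 1 * u3_3 := tree_up (s_sq 1)
theorem e3_3_2 : u3_3 * s 2 = 1 * u3_5 := (one_mul (u3_3 * s 2)).symm
theorem e3_5_2 : u3_5 * s 2 = 1 * u3_3 := tree_up (s_sq 2)
theorem e3_4_2 : u3_4 * s 2 = 1 * u3_6 := (one_mul (u3_4 * s 2)).symm
theorem e3_6_2 : u3_6 * s 2 = 1 * u3_4 := tree_up (s_sq 2)
theorem e3_6_3 : u3_6 * s 3 = 1 * u3_7 := (one_mul (u3_6 * s 3)).symm
theorem e3_7_3 : u3_7 * s 3 = 1 * u3_6 := tree_up (s_sq 3)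
theorem e3_7_4 : u3_7 * s 4 = 1 * u3_8 := (one_mul (u3_7 * s 4)).symm
theorem e3_8_4 : u3_8 * s 4 = 1 * u3_7 := tree_up (s_sq 4)
theorem e3_8_5 : u3_8 * s 5 = 1 * u3_9 := (one_mul (u3_8 * s 5)).symm
theorem e3_9_5 : u3_9 * s 5 = 1 * u3_8 := tree_up (s_sq 5)
theorem e3_0_1 : u3_0 * s 1 = s 1 * u3_0 := (one_mul (s 1)).trans (mul_one (s 1)).symm
theorem e3_0_2 : u3_0 * s 2 = s 2 * u3_0 := (one_mul (s 2)).trans (mul_one (s 2)).symm
theorem e3_0_3 : u3_0 * s 3 = s 3 * u3_0 := (one_mul (s 3)).trans (mul_one (s 3)).symm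
theorem e3_0_4 : u3_0 * s 4 = s 4 * u3_0 := (one_mul (s 4)).trans (mul_one (s 4)).symm
theorem e3_1_1 : u3_1 * s 1 = s 1 * u3_1 := by
  simpa only [one_mul, mul_one] using ded2 r_1_5 e3_1_5 e3_0_1 e3_0_5
theorem e3_1_2 : u3_1 * s 2 = s 2 * u3_1 := by
  simpa only [one_mul, mul_one] using ded2 r_2_5 e3_1_5 e3_0_2 e3_0_5
theorem e3_1_3 : u3_1 * s 3 = s 3 * u3_1 := by
  simpa only [one_mul, mul_one] using ded2 r_3_5 e3_1_5 e3_0_3 e3_0_5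
theorem e3_2_5 : u3_2 * s 5 = s 4 * u3_2 := by
  simpa only [one_mul, mul_one] using ded3 r_5_4 e3_2_4 e3_1_5 e3_0_4 e3_0_5 e3_1_4
theorem e3_2_1 : u3_2 * s 1 = s 1 * u3_2 := by
  simpa only [one_mul, mul_one] using ded2 r_1_4 e3_2_4 e3_1_1 e3_1_4
theorem e3_2_2 : u3_2 * s 2 = s 2 * u3_2 := by
  simpa only [one_mul, mul_one] using ded2 r_2_4 e3_2_4 e3_1_2 e3_1_4
theorem e3_3_4 : u3_3 * s 4 = s 3 * u3_3 := by
  simpa only [one_mul, mul_one] using ded3 r_4_3 e3_3_3 e3_2_4 e3_1_3 e3_1_4 e3_2_3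
theorem e3_4_3 : u3_4 * s 3 = s 1 * u3_4 := by
  simpa only [one_mul, mul_one] using ded3 r_3_1 e3_4_1 e3_3_3 e3_2_1 e3_2_3 e3_3_1
theorem e3_5_3 : u3_5 * s 3 = s 2 * u3_5 := by
  simpa only [one_mul, mul_one] using ded3 r_3_2 e3_5_2 e3_3_3 e3_2_2 e3_2_3 e3_3_2
theorem e3_3_5 : u3_3 * s 5 = s 4 * u3_3 := by
  simpa only [one_mul, mul_one] using ded2 r_5_3 e3_3_3 e3_2_5 e3_2_3
theorem e3_6_1 : u3_6 * s 1 = 1 * u3_5 := by
  simpa only [one_mul, mul_one] using ded2 r_1_2 e3_6_2 e3_4_1 e3_3_2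
theorem e3_5_1 : u3_5 * s 1 = 1 * u3_6 := rev_edge (s_sq 1) e3_6_1
theorem e3_4_4 : u3_4 * s 4 = s 3 * u3_4 := by
  simpa only [one_mul, mul_one] using ded2 r_4_1 e3_4_1 e3_3_4 e3_3_1
theorem e3_4_5 : u3_4 * s 5 = s 4 * u3_4 := by
  simpa only [one_mul, mul_one] using ded2 r_5_1 e3_4_1 e3_3_5 e3_3_1
theorem e3_5_4 : u3_5 * s 4 = s 3 * u3_5 := by
  simpa only [one_mul, mul_one] using ded2 r_4_2 e3_5_2 e3_3_4 e3_3_2
theorem e3_5_5 : u3_5 * s 5 = s 4 * u3_5 := by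
  simpa only [one_mul, mul_one] using ded2 r_5_2 e3_5_2 e3_3_5 e3_3_2
theorem e3_7_2 : u3_7 * s 2 = s 1 * u3_7 := by
  simpa only [one_mul, mul_one] using ded3 r_2_3 e3_7_3 e3_6_2 e3_4_3 e3_4_2 e3_6_3
theorem e3_6_4 : u3_6 * s 4 = s 3 * u3_6 := by
  simpa only [one_mul, mul_one] using ded2 r_4_2 e3_6_2 e3_4_4 e3_4_2
theorem e3_6_5 : u3_6 * s 5 = s 4 * u3_6 := by
  simpa only [one_mul, mul_one] using ded2 r_5_2 e3_6_2 e3_4_5 e3_4_2
theorem e3_7_1 : u3_7 * s 1 = s 2 * u3_7 := by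
  simpa only [one_mul, mul_one] using ded3 r_1_3 e3_7_3 e3_6_1 e3_5_3 e3_5_1 e3_6_3
theorem e3_8_3 : u3_8 * s 3 = s 3 * u3_8 := by
  simpa only [one_mul, mul_one] using ded3 r_3_4 e3_8_4 e3_7_3 e3_6_4 e3_6_3 e3_7_4
theorem e3_7_5 : u3_7 * s 5 = s 4 * u3_7 := by
  simpa only [one_mul, mul_one] using ded2 r_5_3 e3_7_3 e3_6_5 e3_6_3
theorem e3_8_1 : u3_8 * s 1 = s 2 * u3_8 := by
  simpa only [one_mul, mul_one] using ded2 r_1_4 e3_8_4 e3_7_1 e3_7_4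
theorem e3_8_2 : u3_8 * s 2 = s 1 * u3_8 := by
  simpa only [one_mul, mul_one] using ded2 r_2_4 e3_8_4 e3_7_2 e3_7_4
theorem e3_9_4 : u3_9 * s 4 = s 4 * u3_9 := by
  simpa only [one_mul, mul_one] using ded3 r_4_5 e3_9_5 e3_8_4 e3_7_5 e3_7_4 e3_8_5
theorem e3_9_1 : u3_9 * s 1 = s 2 * u3_9 := by
  simpa only [one_mul, mul_one] using ded2 r_1_5 e3_9_5 e3_8_1 e3_8_5
theorem e3_9_2 : u3_9 * s 2 = s 1 * u3_9 := by
  simpa only [one_mul, mul_one] using ded2 r_2_5 e3_9_5 e3_8_2 e3_8_5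
theorem e3_9_3 : u3_9 * s 3 = s 3 * u3_9 := by
  simpa only [one_mul, mul_one] using ded2 r_3_5 e3_9_5 e3_8_3 e3_8_5
def P3 (u : W) : Prop := u ∈ Subgroup.closure (gens M J3) ∧ ∀ x ∈ gens M J3, ∃ h ∈ Subgroup.closure (gens M J4), ∃ u' ∈ reps3, u * x = h * u'
theorem mr3_0 : u3_0 ∈ reps3 := List.getElem_mem (l := reps3) (n := 0) (by decide)
theorem mr3_1 : u3_1 ∈ reps3 := List.getElem_mem (l := reps3) (n := 1) (by decide)
theorem mr3_2 : u3_2 ∈ reps3 := List.getElem_mem (l := reps3) (n := 2) (by decide)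
theorem mr3_3 : u3_3 ∈ reps3 := List.getElem_mem (l := reps3) (n := 3) (by decide)
theorem mr3_4 : u3_4 ∈ reps3 := List.getElem_mem (l := reps3) (n := 4) (by decide)
theorem mr3_5 : u3_5 ∈ reps3 := List.getElem_mem (l := reps3) (n := 5) (by decide)
theorem mr3_6 : u3_6 ∈ reps3 := List.getElem_mem (l := reps3) (n := 6) (by decide)
theorem mr3_7 : u3_7 ∈ reps3 := List.getElem_mem (l := reps3) (n := 7) (by decide)
theorem mr3_8 : u3_8 ∈ reps3 := List.getElem_mem (l := reps3) (n := 8) (by decide)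
theorem mr3_9 : u3_9 ∈ reps3 := List.getElem_mem (l := reps3) (n := 9) (by decide)
theorem mm3_0 : u3_0 ∈ Subgroup.closure (gens M J3) := one_mem _
theorem mm3_1 : u3_1 ∈ Subgroup.closure (gens M J3) := mul_mem mm3_0 (Subgroup.subset_closure ⟨5, by decide, rfl⟩)
theorem mm3_2 : u3_2 ∈ Subgroup.closure (gens M J3) := mul_mem mm3_1 (Subgroup.subset_closure ⟨4, by decide, rfl⟩)
theorem mm3_3 : u3_3 ∈ Subgroup.closure (gens M J3) := mul_mem mm3_2 (Subgroup.subset_closure ⟨3, by decide, rfl⟩)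
theorem mm3_4 : u3_4 ∈ Subgroup.closure (gens M J3) := mul_mem mm3_3 (Subgroup.subset_closure ⟨1, by decide, rfl⟩)
theorem mm3_5 : u3_5 ∈ Subgroup.closure (gens M J3) := mul_mem mm3_3 (Subgroup.subset_closure ⟨2, by decide, rfl⟩)
theorem mm3_6 : u3_6 ∈ Subgroup.closure (gens M J3) := mul_mem mm3_4 (Subgroup.subset_closure ⟨2, by decide, rfl⟩)
theorem mm3_7 : u3_7 ∈ Subgroup.closure (gens M J3) := mul_mem mm3_6 (Subgroup.subset_closure ⟨3, by decide, rfl⟩)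
theorem mm3_8 : u3_8 ∈ Subgroup.closure (gens M J3) := mul_mem mm3_7 (Subgroup.subset_closure ⟨4, by decide, rfl⟩)
theorem mm3_9 : u3_9 ∈ Subgroup.closure (gens M J3) := mul_mem mm3_8 (Subgroup.subset_closure ⟨5, by decide, rfl⟩)
theorem c3_0 : P3 u3_0 := by
  refine ⟨mm3_0, ?_⟩
  rintro x ⟨j, hj, rfl⟩
  simp only [J3, List.mem_cons, List.not_mem_nil, or_false] at hj
  rcases hj with rfl | rfl | rfl | rfl | rfl
  · exact ⟨s 1, Subgroup.subset_closure ⟨1, by decide, rfl⟩, u3_0, mr3_0, e3_0_1⟩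
  · exact ⟨s 2, Subgroup.subset_closure ⟨2, by decide, rfl⟩, u3_0, mr3_0, e3_0_2⟩
  · exact ⟨s 3, Subgroup.subset_closure ⟨3, by decide, rfl⟩, u3_0, mr3_0, e3_0_3⟩
  · exact ⟨s 4, Subgroup.subset_closure ⟨4, by decide, rfl⟩, u3_0, mr3_0, e3_0_4⟩
  · exact ⟨1, one_mem _, u3_1, mr3_1, e3_0_5⟩
theorem c3_1 : P3 u3_1 := by
  refine ⟨mm3_1, ?_⟩
  rintro x ⟨j, hj, rfl⟩
  simp only [J3, List.mem_cons, List.not_mem_nil, or_false] at hj
  rcases hj with rfl | rfl | rfl | rfl | rfl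
  · exact ⟨s 1, Subgroup.subset_closure ⟨1, by decide, rfl⟩, u3_1, mr3_1, e3_1_1⟩
  · exact ⟨s 2, Subgroup.subset_closure ⟨2, by decide, rfl⟩, u3_1, mr3_1, e3_1_2⟩
  · exact ⟨s 3, Subgroup.subset_closure ⟨3, by decide, rfl⟩, u3_1, mr3_1, e3_1_3⟩
  · exact ⟨1, one_mem _, u3_2, mr3_2, e3_1_4⟩
  · exact ⟨1, one_mem _, u3_0, mr3_0, e3_1_5⟩
theorem c3_2 : P3 u3_2 := by
  refine ⟨mm3_2, ?_⟩
  rintro x ⟨j, hj, rfl⟩
  simp only [J3, List.mem_cons, List.not_mem_nil, or_false] at hj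
  rcases hj with rfl | rfl | rfl | rfl | rfl
  · exact ⟨s 1, Subgroup.subset_closure ⟨1, by decide, rfl⟩, u3_2, mr3_2, e3_2_1⟩
  · exact ⟨s 2, Subgroup.subset_closure ⟨2, by decide, rfl⟩, u3_2, mr3_2, e3_2_2⟩
  · exact ⟨1, one_mem _, u3_3, mr3_3, e3_2_3⟩
  · exact ⟨1, one_mem _, u3_1, mr3_1, e3_2_4⟩
  · exact ⟨s 4, Subgroup.subset_closure ⟨4, by decide, rfl⟩, u3_2, mr3_2, e3_2_5⟩
theorem c3_3 : P3 u3_3 := by
  refine ⟨mm3_3, ?_⟩
  rintro x ⟨j, hj, rfl⟩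
  simp only [J3, List.mem_cons, List.not_mem_nil, or_false] at hj
  rcases hj with rfl | rfl | rfl | rfl | rfl
  · exact ⟨1, one_mem _, u3_4, mr3_4, e3_3_1⟩
  · exact ⟨1, one_mem _, u3_5, mr3_5, e3_3_2⟩
  · exact ⟨1, one_mem _, u3_2, mr3_2, e3_3_3⟩
  · exact ⟨s 3, Subgroup.subset_closure ⟨3, by decide, rfl⟩, u3_3, mr3_3, e3_3_4⟩
  · exact ⟨s 4, Subgroup.subset_closure ⟨4, by decide, rfl⟩, u3_3, mr3_3, e3_3_5⟩
theorem c3_4 : P3 u3_4 := by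
  refine ⟨mm3_4, ?_⟩
  rintro x ⟨j, hj, rfl⟩
  simp only [J3, List.mem_cons, List.not_mem_nil, or_false] at hj
  rcases hj with rfl | rfl | rfl | rfl | rfl
  · exact ⟨1, one_mem _, u3_3, mr3_3, e3_4_1⟩
  · exact ⟨1, one_mem _, u3_6, mr3_6, e3_4_2⟩
  · exact ⟨s 1, Subgroup.subset_closure ⟨1, by decide, rfl⟩, u3_4, mr3_4, e3_4_3⟩
  · exact ⟨s 3, Subgroup.subset_closure ⟨3, by decide, rfl⟩, u3_4, mr3_4, e3_4_4⟩
  · exact ⟨s 4, Subgroup.subset_closure ⟨4, by decide, rfl⟩, u3_4, mr3_4, e3_4_5⟩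
theorem c3_5 : P3 u3_5 := by
  refine ⟨mm3_5, ?_⟩
  rintro x ⟨j, hj, rfl⟩
  simp only [J3, List.mem_cons, List.not_mem_nil, or_false] at hj
  rcases hj with rfl | rfl | rfl | rfl | rfl
  · exact ⟨1, one_mem _, u3_6, mr3_6, e3_5_1⟩
  · exact ⟨1, one_mem _, u3_3, mr3_3, e3_5_2⟩
  · exact ⟨s 2, Subgroup.subset_closure ⟨2, by decide, rfl⟩, u3_5, mr3_5, e3_5_3⟩
  · exact ⟨s 3, Subgroup.subset_closure ⟨3, by decide, rfl⟩, u3_5, mr3_5, e3_5_4⟩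
  · exact ⟨s 4, Subgroup.subset_closure ⟨4, by decide, rfl⟩, u3_5, mr3_5, e3_5_5⟩
theorem c3_6 : P3 u3_6 := by
  refine ⟨mm3_6, ?_⟩
  rintro x ⟨j, hj, rfl⟩
  simp only [J3, List.mem_cons, List.not_mem_nil, or_false] at hj
  rcases hj with rfl | rfl | rfl | rfl | rfl
  · exact ⟨1, one_mem _, u3_5, mr3_5, e3_6_1⟩
  · exact ⟨1, one_mem _, u3_4, mr3_4, e3_6_2⟩
  · exact ⟨1, one_mem _, u3_7, mr3_7, e3_6_3⟩
  · exact ⟨s 3, Subgroup.subset_closure ⟨3, by decide, rfl⟩, u3_6, mr3_6, e3_6_4⟩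
  · exact ⟨s 4, Subgroup.subset_closure ⟨4, by decide, rfl⟩, u3_6, mr3_6, e3_6_5⟩
theorem c3_7 : P3 u3_7 := by
  refine ⟨mm3_7, ?_⟩
  rintro x ⟨j, hj, rfl⟩
  simp only [J3, List.mem_cons, List.not_mem_nil, or_false] at hj
  rcases hj with rfl | rfl | rfl | rfl | rfl
  · exact ⟨s 2, Subgroup.subset_closure ⟨2, by decide, rfl⟩, u3_7, mr3_7, e3_7_1⟩
  · exact ⟨s 1, Subgroup.subset_closure ⟨1, by decide, rfl⟩, u3_7, mr3_7, e3_7_2⟩
  · exact ⟨1, one_mem _, u3_6, mr3_6, e3_7_3⟩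
  · exact ⟨1, one_mem _, u3_8, mr3_8, e3_7_4⟩
  · exact ⟨s 4, Subgroup.subset_closure ⟨4, by decide, rfl⟩, u3_7, mr3_7, e3_7_5⟩
theorem c3_8 : P3 u3_8 := by
  refine ⟨mm3_8, ?_⟩
  rintro x ⟨j, hj, rfl⟩
  simp only [J3, List.mem_cons, List.not_mem_nil, or_false] at hj
  rcases hj with rfl | rfl | rfl | rfl | rfl
  · exact ⟨s 2, Subgroup.subset_closure ⟨2, by decide, rfl⟩, u3_8, mr3_8, e3_8_1⟩
  · exact ⟨s 1, Subgroup.subset_closure ⟨1, by decide, rfl⟩, u3_8, mr3_8, e3_8_2⟩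
  · exact ⟨s 3, Subgroup.subset_closure ⟨3, by decide, rfl⟩, u3_8, mr3_8, e3_8_3⟩
  · exact ⟨1, one_mem _, u3_7, mr3_7, e3_8_4⟩
  · exact ⟨1, one_mem _, u3_9, mr3_9, e3_8_5⟩
theorem c3_9 : P3 u3_9 := by
  refine ⟨mm3_9, ?_⟩
  rintro x ⟨j, hj, rfl⟩
  simp only [J3, List.mem_cons, List.not_mem_nil, or_false] at hj
  rcases hj with rfl | rfl | rfl | rfl | rfl
  · exact ⟨s 2, Subgroup.subset_closure ⟨2, by decide, rfl⟩, u3_9, mr3_9, e3_9_1⟩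
  · exact ⟨s 1, Subgroup.subset_closure ⟨1, by decide, rfl⟩, u3_9, mr3_9, e3_9_2⟩
  · exact ⟨s 3, Subgroup.subset_closure ⟨3, by decide, rfl⟩, u3_9, mr3_9, e3_9_3⟩
  · exact ⟨s 4, Subgroup.subset_closure ⟨4, by decide, rfl⟩, u3_9, mr3_9, e3_9_4⟩
  · exact ⟨1, one_mem _, u3_8, mr3_8, e3_9_5⟩
def preps3 : List {u : W // P3 u} := [⟨u3_0, c3_0⟩, ⟨u3_1, c3_1⟩, ⟨u3_2, c3_2⟩, ⟨u3_3, c3_3⟩, ⟨u3_4, c3_4⟩, ⟨u3_5, c3_5⟩, ⟨u3_6, c3_6⟩, ⟨u3_7, c3_7⟩, ⟨u3_8, c3_8⟩, ⟨u3_9, c3_9⟩]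
theorem preps3_map : preps3.map Subtype.val = reps3 := rfl
theorem allP3 : ∀ u ∈ reps3, P3 u := by
  intro u hu
  rw [← preps3_map, List.mem_map] at hu
  obtain ⟨x, _, rfl⟩ := hu
  exact x.2
def vecs3 : List (Fin 8 → ℤ) := [(![0, 0, 0, 0, 0, 1, 0, 0] : Fin 8 → ℤ), (![0, 0, 0, 0, 1, -1, 1, 0] : Fin 8 → ℤ), (![0, 0, 0, 1, -1, 0, 1, 0] : Fin 8 → ℤ), (![0, 1, 1, -1, 0, 0, 1, 0] : Fin 8 → ℤ), (![0, -1, 1, 0, 0, 0, 1, 0] : Fin 8 → ℤ), (![1, 1, -1, 0, 0, 0, 1, 0] : Fin 8 → ℤ), (![1, -1, -1, 1, 0, 0, 1, 0] : Fin 8 → ℤ), (![1, 0, 0, -1, 1, 0, 1, 0] : Fin 8 → ℤ), (![1, 0, 0, 0, -1, 1, 1, 0] : Fin 8 → ℤ), (![1, 0, 0, 0, 0, -1, 2, 0] : Fin 8 → ℤ)]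
theorem map3 : reps3.map fv3 = vecs3 := by
  simp only [reps3, List.map_cons, List.map_nil, v3_0, v3_1, v3_2, v3_3, v3_4, v3_5, v3_6, v3_7, v3_8, v3_9]
  rfl
theorem nd3 : (reps3.map fv3).Nodup := by rw [map3]; decide +kernel
theorem fix3 : ∀ h ∈ gens M J4, ∀ w, fv3 (h * w) = fv3 w := by
  rintro h ⟨j, hj, rfl⟩ w
  simp only [J4, List.mem_cons, List.not_mem_nil, or_false] at hj
  rcases hj with rfl | rfl | rfl | rfl
  all_goals exact fvec_fix M A hA base3 _ (by decide +kernel) w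
theorem sub3 : gens M J4 ⊆ gens M J3 := gens_mono M (by decide)
theorem card3 : Nat.card (Subgroup.closure (gens M J3)) = Nat.card (Subgroup.closure (gens M J4)) * 10 :=
  level_card (gens M J3) (gens M J4) sub3 (gens_inv M J3) reps3 mr3_0 (fun u hu => (allP3 u hu).1) (fun u hu => (allP3 u hu).2) fv3 fix3 nd3
theorem ker3 : ∀ w ∈ Subgroup.closure (gens M J3), fv3 w = fv3 1 → w ∈ Subgroup.closure (gens M J4) :=
  level_ker (gens M J3) (gens M J4) (gens_inv M J3) reps3 mr3_0 (fun u hu => (allP3 u hu).2) fv3 fix3 nd3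

-- level 4: index 8
def base4 : Fin 8 → ℤ := ![0, 0, 0, 0, 1, 0, 0, 0]
def fv4 : W → (Fin 8 → ℤ) := fvec M A hA base4
def u4_0 : W := 1
def u4_1 : W := u4_0 * s 4
def u4_2 : W := u4_1 * s 3
def u4_3 : W := u4_2 * s 1
def u4_4 : W := u4_2 * s 2
def u4_5 : W := u4_3 * s 2
def u4_6 : W := u4_5 * s 3
def u4_7 : W := u4_6 * s 4
def reps4 : List W := [u4_0, u4_1, u4_2, u4_3, u4_4, u4_5, u4_6, u4_7]
theorem v4_0 : fv4 u4_0 = ![0, 0, 0, 0, 1, 0, 0, 0] := fvec_one M A hA base4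
theorem v4_1 : fv4 u4_1 = ![0, 0, 0, 1, -1, 1, 0, 0] := by
  show fvec M A hA base4 (u4_0 * M.simple 4) = _
  rw [fvec_mul_simple]; show reflVec A 4 (fv4 u4_0) = _; rw [v4_0]; decide +kernel
theorem v4_2 : fv4 u4_2 = ![0, 1, 1, -1, 0, 1, 0, 0] := by
  show fvec M A hA base4 (u4_1 * M.simple 3) = _
  rw [fvec_mul_simple]; show reflVec A 3 (fv4 u4_1) = _; rw [v4_1]; decide +kernel
theorem v4_3 : fv4 u4_3 = ![0, -1, 1, 0, 0, 1, 0, 0] := by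
  show fvec M A hA base4 (u4_2 * M.simple 1) = _
  rw [fvec_mul_simple]; show reflVec A 1 (fv4 u4_2) = _; rw [v4_2]; decide +kernel
theorem v4_4 : fv4 u4_4 = ![1, 1, -1, 0, 0, 1, 0, 0] := by
  show fvec M A hA base4 (u4_2 * M.simple 2) = _
  rw [fvec_mul_simple]; show reflVec A 2 (fv4 u4_2) = _; rw [v4_2]; decide +kernel
theorem v4_5 : fv4 u4_5 = ![1, -1, -1, 1, 0, 1, 0, 0] := by
  show fvec M A hA base4 (u4_3 * M.simple 2) = _
  rw [fvec_mul_simple]; show reflVec A 2 (fv4 u4_3) = _; rw [v4_3]; decide +kernel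
theorem v4_6 : fv4 u4_6 = ![1, 0, 0, -1, 1, 1, 0, 0] := by
  show fvec M A hA base4 (u4_5 * M.simple 3) = _
  rw [fvec_mul_simple]; show reflVec A 3 (fv4 u4_5) = _; rw [v4_5]; decide +kernel
theorem v4_7 : fv4 u4_7 = ![1, 0, 0, 0, -1, 2, 0, 0] := by
  show fvec M A hA base4 (u4_6 * M.simple 4) = _
  rw [fvec_mul_simple]; show reflVec A 4 (fv4 u4_6) = _; rw [v4_6]; decide +kernel
theorem e4_0_4 : u4_0 * s 4 = 1 * u4_1 := (one_mul (u4_0 * s 4)).symm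
theorem e4_1_4 : u4_1 * s 4 = 1 * u4_0 := tree_up (s_sq 4)
theorem e4_1_3 : u4_1 * s 3 = 1 * u4_2 := (one_mul (u4_1 * s 3)).symm
theorem e4_2_3 : u4_2 * s 3 = 1 * u4_1 := tree_up (s_sq 3)
theorem e4_2_1 : u4_2 * s 1 = 1 * u4_3 := (one_mul (u4_2 * s 1)).symm
theorem e4_3_1 : u4_3 * s 1 = 1 * u4_2 := tree_up (s_sq 1)
theorem e4_2_2 : u4_2 * s 2 = 1 * u4_4 := (one_mul (u4_2 * s 2)).symm
theorem e4_4_2 : u4_4 * s 2 = 1 * u4_2 := tree_up (s_sq 2)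
theorem e4_3_2 : u4_3 * s 2 = 1 * u4_5 := (one_mul (u4_3 * s 2)).symm
theorem e4_5_2 : u4_5 * s 2 = 1 * u4_3 := tree_up (s_sq 2)
theorem e4_5_3 : u4_5 * s 3 = 1 * u4_6 := (one_mul (u4_5 * s 3)).symm
theorem e4_6_3 : u4_6 * s 3 = 1 * u4_5 := tree_up (s_sq 3)
theorem e4_6_4 : u4_6 * s 4 = 1 * u4_7 := (one_mul (u4_6 * s 4)).symm
theorem e4_7_4 : u4_7 * s 4 = 1 * u4_6 := tree_up (s_sq 4)
theorem e4_0_1 : u4_0 * s 1 = s 1 * u4_0 := (one_mul (s 1)).trans (mul_one (s 1)).symm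
theorem e4_0_2 : u4_0 * s 2 = s 2 * u4_0 := (one_mul (s 2)).trans (mul_one (s 2)).symm
theorem e4_0_3 : u4_0 * s 3 = s 3 * u4_0 := (one_mul (s 3)).trans (mul_one (s 3)).symm
theorem e4_1_1 : u4_1 * s 1 = s 1 * u4_1 := by
  simpa only [one_mul, mul_one] using ded2 r_1_4 e4_1_4 e4_0_1 e4_0_4
theorem e4_1_2 : u4_1 * s 2 = s 2 * u4_1 := by
  simpa only [one_mul, mul_one] using ded2 r_2_4 e4_1_4 e4_0_2 e4_0_4
theorem e4_2_4 : u4_2 * s 4 = s 3 * u4_2 := by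
  simpa only [one_mul, mul_one] using ded3 r_4_3 e4_2_3 e4_1_4 e4_0_3 e4_0_4 e4_1_3
theorem e4_3_3 : u4_3 * s 3 = s 1 * u4_3 := by
  simpa only [one_mul, mul_one] using ded3 r_3_1 e4_3_1 e4_2_3 e4_1_1 e4_1_3 e4_2_1
theorem e4_4_3 : u4_4 * s 3 = s 2 * u4_4 := by
  simpa only [one_mul, mul_one] using ded3 r_3_2 e4_4_2 e4_2_3 e4_1_2 e4_1_3 e4_2_2
theorem e4_5_1 : u4_5 * s 1 = 1 * u4_4 := by
  simpa only [one_mul, mul_one] using ded2 r_1_2 e4_5_2 e4_3_1 e4_2_2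
theorem e4_4_1 : u4_4 * s 1 = 1 * u4_5 := rev_edge (s_sq 1) e4_5_1
theorem e4_3_4 : u4_3 * s 4 = s 3 * u4_3 := by
  simpa only [one_mul, mul_one] using ded2 r_4_1 e4_3_1 e4_2_4 e4_2_1
theorem e4_4_4 : u4_4 * s 4 = s 3 * u4_4 := by
  simpa only [one_mul, mul_one] using ded2 r_4_2 e4_4_2 e4_2_4 e4_2_2
theorem e4_6_2 : u4_6 * s 2 = s 1 * u4_6 := by
  simpa only [one_mul, mul_one] using ded3 r_2_3 e4_6_3 e4_5_2 e4_3_3 e4_3_2 e4_5_3
theorem e4_5_4 : u4_5 * s 4 = s 3 * u4_5 := by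
  simpa only [one_mul, mul_one] using ded2 r_4_2 e4_5_2 e4_3_4 e4_3_2
theorem e4_6_1 : u4_6 * s 1 = s 2 * u4_6 := by
  simpa only [one_mul, mul_one] using ded3 r_1_3 e4_6_3 e4_5_1 e4_4_3 e4_4_1 e4_5_3
theorem e4_7_3 : u4_7 * s 3 = s 3 * u4_7 := by
  simpa only [one_mul, mul_one] using ded3 r_3_4 e4_7_4 e4_6_3 e4_5_4 e4_5_3 e4_6_4
theorem e4_7_1 : u4_7 * s 1 = s 2 * u4_7 := by
  simpa only [one_mul, mul_one] using ded2 r_1_4 e4_7_4 e4_6_1 e4_6_4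
theorem e4_7_2 : u4_7 * s 2 = s 1 * u4_7 := by
  simpa only [one_mul, mul_one] using ded2 r_2_4 e4_7_4 e4_6_2 e4_6_4
def P4 (u : W) : Prop := u ∈ Subgroup.closure (gens M J4) ∧ ∀ x ∈ gens M J4, ∃ h ∈ Subgroup.closure (gens M J5), ∃ u' ∈ reps4, u * x = h * u'
theorem mr4_0 : u4_0 ∈ reps4 := List.getElem_mem (l := reps4) (n := 0) (by decide)
theorem mr4_1 : u4_1 ∈ reps4 := List.getElem_mem (l := reps4) (n := 1) (by decide)
theorem mr4_2 : u4_2 ∈ reps4 := List.getElem_mem (l := reps4) (n := 2) (by decide)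
theorem mr4_3 : u4_3 ∈ reps4 := List.getElem_mem (l := reps4) (n := 3) (by decide)
theorem mr4_4 : u4_4 ∈ reps4 := List.getElem_mem (l := reps4) (n := 4) (by decide)
theorem mr4_5 : u4_5 ∈ reps4 := List.getElem_mem (l := reps4) (n := 5) (by decide)
theorem mr4_6 : u4_6 ∈ reps4 := List.getElem_mem (l := reps4) (n := 6) (by decide)
theorem mr4_7 : u4_7 ∈ reps4 := List.getElem_mem (l := reps4) (n := 7) (by decide)
theorem mm4_0 : u4_0 ∈ Subgroup.closure (gens M J4) := one_mem _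
theorem mm4_1 : u4_1 ∈ Subgroup.closure (gens M J4) := mul_mem mm4_0 (Subgroup.subset_closure ⟨4, by decide, rfl⟩)
theorem mm4_2 : u4_2 ∈ Subgroup.closure (gens M J4) := mul_mem mm4_1 (Subgroup.subset_closure ⟨3, by decide, rfl⟩)
theorem mm4_3 : u4_3 ∈ Subgroup.closure (gens M J4) := mul_mem mm4_2 (Subgroup.subset_closure ⟨1, by decide, rfl⟩)
theorem mm4_4 : u4_4 ∈ Subgroup.closure (gens M J4) := mul_mem mm4_2 (Subgroup.subset_closure ⟨2, by decide, rfl⟩)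
theorem mm4_5 : u4_5 ∈ Subgroup.closure (gens M J4) := mul_mem mm4_3 (Subgroup.subset_closure ⟨2, by decide, rfl⟩)
theorem mm4_6 : u4_6 ∈ Subgroup.closure (gens M J4) := mul_mem mm4_5 (Subgroup.subset_closure ⟨3, by decide, rfl⟩)
theorem mm4_7 : u4_7 ∈ Subgroup.closure (gens M J4) := mul_mem mm4_6 (Subgroup.subset_closure ⟨4, by decide, rfl⟩)
theorem c4_0 : P4 u4_0 := by
  refine ⟨mm4_0, ?_⟩
  rintro x ⟨j, hj, rfl⟩
  simp only [J4, List.mem_cons, List.not_mem_nil, or_false] at hj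
  rcases hj with rfl | rfl | rfl | rfl
  · exact ⟨s 1, Subgroup.subset_closure ⟨1, by decide, rfl⟩, u4_0, mr4_0, e4_0_1⟩
  · exact ⟨s 2, Subgroup.subset_closure ⟨2, by decide, rfl⟩, u4_0, mr4_0, e4_0_2⟩
  · exact ⟨s 3, Subgroup.subset_closure ⟨3, by decide, rfl⟩, u4_0, mr4_0, e4_0_3⟩
  · exact ⟨1, one_mem _, u4_1, mr4_1, e4_0_4⟩
theorem c4_1 : P4 u4_1 := by
  refine ⟨mm4_1, ?_⟩
  rintro x ⟨j, hj, rfl⟩
  simp only [J4, List.mem_cons, List.not_mem_nil, or_false] at hj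
  rcases hj with rfl | rfl | rfl | rfl
  · exact ⟨s 1, Subgroup.subset_closure ⟨1, by decide, rfl⟩, u4_1, mr4_1, e4_1_1⟩
  · exact ⟨s 2, Subgroup.subset_closure ⟨2, by decide, rfl⟩, u4_1, mr4_1, e4_1_2⟩
  · exact ⟨1, one_mem _, u4_2, mr4_2, e4_1_3⟩
  · exact ⟨1, one_mem _, u4_0, mr4_0, e4_1_4⟩
theorem c4_2 : P4 u4_2 := by
  refine ⟨mm4_2, ?_⟩
  rintro x ⟨j, hj, rfl⟩
  simp only [J4, List.mem_cons, List.not_mem_nil, or_false] at hj
  rcases hj with rfl | rfl | rfl | rfl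
  · exact ⟨1, one_mem _, u4_3, mr4_3, e4_2_1⟩
  · exact ⟨1, one_mem _, u4_4, mr4_4, e4_2_2⟩
  · exact ⟨1, one_mem _, u4_1, mr4_1, e4_2_3⟩
  · exact ⟨s 3, Subgroup.subset_closure ⟨3, by decide, rfl⟩, u4_2, mr4_2, e4_2_4⟩
theorem c4_3 : P4 u4_3 := by
  refine ⟨mm4_3, ?_⟩
  rintro x ⟨j, hj, rfl⟩
  simp only [J4, List.mem_cons, List.not_mem_nil, or_false] at hj
  rcases hj with rfl | rfl | rfl | rfl
  · exact ⟨1, one_mem _, u4_2, mr4_2, e4_3_1⟩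
  · exact ⟨1, one_mem _, u4_5, mr4_5, e4_3_2⟩
  · exact ⟨s 1, Subgroup.subset_closure ⟨1, by decide, rfl⟩, u4_3, mr4_3, e4_3_3⟩
  · exact ⟨s 3, Subgroup.subset_closure ⟨3, by decide, rfl⟩, u4_3, mr4_3, e4_3_4⟩
theorem c4_4 : P4 u4_4 := by
  refine ⟨mm4_4, ?_⟩
  rintro x ⟨j, hj, rfl⟩
  simp only [J4, List.mem_cons, List.not_mem_nil, or_false] at hj
  rcases hj with rfl | rfl | rfl | rfl
  · exact ⟨1, one_mem _, u4_5, mr4_5, e4_4_1⟩
  · exact ⟨1, one_mem _, u4_2, mr4_2, e4_4_2⟩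
  · exact ⟨s 2, Subgroup.subset_closure ⟨2, by decide, rfl⟩, u4_4, mr4_4, e4_4_3⟩
  · exact ⟨s 3, Subgroup.subset_closure ⟨3, by decide, rfl⟩, u4_4, mr4_4, e4_4_4⟩
theorem c4_5 : P4 u4_5 := by
  refine ⟨mm4_5, ?_⟩
  rintro x ⟨j, hj, rfl⟩
  simp only [J4, List.mem_cons, List.not_mem_nil, or_false] at hj
  rcases hj with rfl | rfl | rfl | rfl
  · exact ⟨1, one_mem _, u4_4, mr4_4, e4_5_1⟩
  · exact ⟨1, one_mem _, u4_3, mr4_3, e4_5_2⟩
  · exact ⟨1, one_mem _, u4_6, mr4_6, e4_5_3⟩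
  · exact ⟨s 3, Subgroup.subset_closure ⟨3, by decide, rfl⟩, u4_5, mr4_5, e4_5_4⟩
theorem c4_6 : P4 u4_6 := by
  refine ⟨mm4_6, ?_⟩
  rintro x ⟨j, hj, rfl⟩
  simp only [J4, List.mem_cons, List.not_mem_nil, or_false] at hj
  rcases hj with rfl | rfl | rfl | rfl
  · exact ⟨s 2, Subgroup.subset_closure ⟨2, by decide, rfl⟩, u4_6, mr4_6, e4_6_1⟩
  · exact ⟨s 1, Subgroup.subset_closure ⟨1, by decide, rfl⟩, u4_6, mr4_6, e4_6_2⟩
  · exact ⟨1, one_mem _, u4_5, mr4_5, e4_6_3⟩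
  · exact ⟨1, one_mem _, u4_7, mr4_7, e4_6_4⟩
theorem c4_7 : P4 u4_7 := by
  refine ⟨mm4_7, ?_⟩
  rintro x ⟨j, hj, rfl⟩
  simp only [J4, List.mem_cons, List.not_mem_nil, or_false] at hj
  rcases hj with rfl | rfl | rfl | rfl
  · exact ⟨s 2, Subgroup.subset_closure ⟨2, by decide, rfl⟩, u4_7, mr4_7, e4_7_1⟩
  · exact ⟨s 1, Subgroup.subset_closure ⟨1, by decide, rfl⟩, u4_7, mr4_7, e4_7_2⟩
  · exact ⟨s 3, Subgroup.subset_closure ⟨3, by decide, rfl⟩, u4_7, mr4_7, e4_7_3⟩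
  · exact ⟨1, one_mem _, u4_6, mr4_6, e4_7_4⟩
def preps4 : List {u : W // P4 u} := [⟨u4_0, c4_0⟩, ⟨u4_1, c4_1⟩, ⟨u4_2, c4_2⟩, ⟨u4_3, c4_3⟩, ⟨u4_4, c4_4⟩, ⟨u4_5, c4_5⟩, ⟨u4_6, c4_6⟩, ⟨u4_7, c4_7⟩]
theorem preps4_map : preps4.map Subtype.val = reps4 := rfl
theorem allP4 : ∀ u ∈ reps4, P4 u := by
  intro u hu
  rw [← preps4_map, List.mem_map] at hu
  obtain ⟨x, _, rfl⟩ := hu
  exact x.2
def vecs4 : List (Fin 8 → ℤ) := [(![0, 0, 0, 0, 1, 0, 0, 0] : Fin 8 → ℤ), (![0, 0, 0, 1, -1, 1, 0, 0] : Fin 8 → ℤ), (![0, 1, 1, -1, 0, 1, 0, 0] : Fin 8 → ℤ), (![0, -1, 1, 0, 0, 1, 0, 0] : Fin 8 → ℤ), (![1, 1, -1, 0, 0, 1, 0, 0] : Fin 8 → ℤ), (![1, -1, -1, 1, 0, 1, 0, 0] : Fin 8 → ℤ), (![1, 0, 0, -1, 1, 1, 0, 0] : Fin 8 → ℤ), (![1, 0, 0, 0, -1, 2, 0, 0] : Fin 8 → ℤ)]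
theorem map4 : reps4.map fv4 = vecs4 := by
  simp only [reps4, List.map_cons, List.map_nil, v4_0, v4_1, v4_2, v4_3, v4_4, v4_5, v4_6, v4_7]
  rfl
theorem nd4 : (reps4.map fv4).Nodup := by rw [map4]; decide +kernel
theorem fix4 : ∀ h ∈ gens M J5, ∀ w, fv4 (h * w) = fv4 w := by
  rintro h ⟨j, hj, rfl⟩ w
  simp only [J5, List.mem_cons, List.not_mem_nil, or_false] at hj
  rcases hj with rfl | rfl | rfl
  all_goals exact fvec_fix M A hA base4 _ (by decide +kernel) w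
theorem sub4 : gens M J5 ⊆ gens M J4 := gens_mono M (by decide)
theorem card4 : Nat.card (Subgroup.closure (gens M J4)) = Nat.card (Subgroup.closure (gens M J5)) * 8 :=
  level_card (gens M J4) (gens M J5) sub4 (gens_inv M J4) reps4 mr4_0 (fun u hu => (allP4 u hu).1) (fun u hu => (allP4 u hu).2) fv4 fix4 nd4
theorem ker4 : ∀ w ∈ Subgroup.closure (gens M J4), fv4 w = fv4 1 → w ∈ Subgroup.closure (gens M J5) :=
  level_ker (gens M J4) (gens M J5) (gens_inv M J4) reps4 mr4_0 (fun u hu => (allP4 u hu).2) fv4 fix4 nd4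

-- level 5: index 6
def base5 : Fin 8 → ℤ := ![0, 0, 0, 1, 0, 0, 0, 0]
def fv5 : W → (Fin 8 → ℤ) := fvec M A hA base5
def u5_0 : W := 1
def u5_1 : W := u5_0 * s 3
def u5_2 : W := u5_1 * s 1
def u5_3 : W := u5_1 * s 2
def u5_4 : W := u5_2 * s 2
def u5_5 : W := u5_4 * s 3
def reps5 : List W := [u5_0, u5_1, u5_2, u5_3, u5_4, u5_5]
theorem v5_0 : fv5 u5_0 = ![0, 0, 0, 1, 0, 0, 0, 0] := fvec_one M A hA base5
theorem v5_1 : fv5 u5_1 = ![0, 1, 1, -1, 1, 0, 0, 0] := by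
  show fvec M A hA base5 (u5_0 * M.simple 3) = _
  rw [fvec_mul_simple]; show reflVec A 3 (fv5 u5_0) = _; rw [v5_0]; decide +kernel
theorem v5_2 : fv5 u5_2 = ![0, -1, 1, 0, 1, 0, 0, 0] := by
  show fvec M A hA base5 (u5_1 * M.simple 1) = _
  rw [fvec_mul_simple]; show reflVec A 1 (fv5 u5_1) = _; rw [v5_1]; decide +kernel
theorem v5_3 : fv5 u5_3 = ![1, 1, -1, 0, 1, 0, 0, 0] := by
  show fvec M A hA base5 (u5_1 * M.simple 2) = _
  rw [fvec_mul_simple]; show reflVec A 2 (fv5 u5_1) = _; rw [v5_1]; decide +kernel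
theorem v5_4 : fv5 u5_4 = ![1, -1, -1, 1, 1, 0, 0, 0] := by
  show fvec M A hA base5 (u5_2 * M.simple 2) = _
  rw [fvec_mul_simple]; show reflVec A 2 (fv5 u5_2) = _; rw [v5_2]; decide +kernel
theorem v5_5 : fv5 u5_5 = ![1, 0, 0, -1, 2, 0, 0, 0] := by
  show fvec M A hA base5 (u5_4 * M.simple 3) = _
  rw [fvec_mul_simple]; show reflVec A 3 (fv5 u5_4) = _; rw [v5_4]; decide +kernel
theorem e5_0_3 : u5_0 * s 3 = 1 * u5_1 := (one_mul (u5_0 * s 3)).symm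
theorem e5_1_3 : u5_1 * s 3 = 1 * u5_0 := tree_up (s_sq 3)
theorem e5_1_1 : u5_1 * s 1 = 1 * u5_2 := (one_mul (u5_1 * s 1)).symm
theorem e5_2_1 : u5_2 * s 1 = 1 * u5_1 := tree_up (s_sq 1)
theorem e5_1_2 : u5_1 * s 2 = 1 * u5_3 := (one_mul (u5_1 * s 2)).symm
theorem e5_3_2 : u5_3 * s 2 = 1 * u5_1 := tree_up (s_sq 2)
theorem e5_2_2 : u5_2 * s 2 = 1 * u5_4 := (one_mul (u5_2 * s 2)).symm
theorem e5_4_2 : u5_4 * s 2 = 1 * u5_2 := tree_up (s_sq 2)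
theorem e5_4_3 : u5_4 * s 3 = 1 * u5_5 := (one_mul (u5_4 * s 3)).symm
theorem e5_5_3 : u5_5 * s 3 = 1 * u5_4 := tree_up (s_sq 3)
theorem e5_0_1 : u5_0 * s 1 = s 1 * u5_0 := (one_mul (s 1)).trans (mul_one (s 1)).symm
theorem e5_0_2 : u5_0 * s 2 = s 2 * u5_0 := (one_mul (s 2)).trans (mul_one (s 2)).symm
theorem e5_2_3 : u5_2 * s 3 = s 1 * u5_2 := by
  simpa only [one_mul, mul_one] using ded3 r_3_1 e5_2_1 e5_1_3 e5_0_1 e5_0_3 e5_1_1
theorem e5_3_3 : u5_3 * s 3 = s 2 * u5_3 := by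
  simpa only [one_mul, mul_one] using ded3 r_3_2 e5_3_2 e5_1_3 e5_0_2 e5_0_3 e5_1_2
theorem e5_4_1 : u5_4 * s 1 = 1 * u5_3 := by
  simpa only [one_mul, mul_one] using ded2 r_1_2 e5_4_2 e5_2_1 e5_1_2
theorem e5_3_1 : u5_3 * s 1 = 1 * u5_4 := rev_edge (s_sq 1) e5_4_1
theorem e5_5_2 : u5_5 * s 2 = s 1 * u5_5 := by
  simpa only [one_mul, mul_one] using ded3 r_2_3 e5_5_3 e5_4_2 e5_2_3 e5_2_2 e5_4_3
theorem e5_5_1 : u5_5 * s 1 = s 2 * u5_5 := by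
  simpa only [one_mul, mul_one] using ded3 r_1_3 e5_5_3 e5_4_1 e5_3_3 e5_3_1 e5_4_3
def P5 (u : W) : Prop := u ∈ Subgroup.closure (gens M J5) ∧ ∀ x ∈ gens M J5, ∃ h ∈ Subgroup.closure (gens M J6), ∃ u' ∈ reps5, u * x = h * u'
theorem mr5_0 : u5_0 ∈ reps5 := List.getElem_mem (l := reps5) (n := 0) (by decide)
theorem mr5_1 : u5_1 ∈ reps5 := List.getElem_mem (l := reps5) (n := 1) (by decide)
theorem mr5_2 : u5_2 ∈ reps5 := List.getElem_mem (l := reps5) (n := 2) (by decide)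
theorem mr5_3 : u5_3 ∈ reps5 := List.getElem_mem (l := reps5) (n := 3) (by decide)
theorem mr5_4 : u5_4 ∈ reps5 := List.getElem_mem (l := reps5) (n := 4) (by decide)
theorem mr5_5 : u5_5 ∈ reps5 := List.getElem_mem (l := reps5) (n := 5) (by decide)
theorem mm5_0 : u5_0 ∈ Subgroup.closure (gens M J5) := one_mem _
theorem mm5_1 : u5_1 ∈ Subgroup.closure (gens M J5) := mul_mem mm5_0 (Subgroup.subset_closure ⟨3, by decide, rfl⟩)
theorem mm5_2 : u5_2 ∈ Subgroup.closure (gens M J5) := mul_mem mm5_1 (Subgroup.subset_closure ⟨1, by decide, rfl⟩)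
theorem mm5_3 : u5_3 ∈ Subgroup.closure (gens M J5) := mul_mem mm5_1 (Subgroup.subset_closure ⟨2, by decide, rfl⟩)
theorem mm5_4 : u5_4 ∈ Subgroup.closure (gens M J5) := mul_mem mm5_2 (Subgroup.subset_closure ⟨2, by decide, rfl⟩)
theorem mm5_5 : u5_5 ∈ Subgroup.closure (gens M J5) := mul_mem mm5_4 (Subgroup.subset_closure ⟨3, by decide, rfl⟩)
theorem c5_0 : P5 u5_0 := by
  refine ⟨mm5_0, ?_⟩
  rintro x ⟨j, hj, rfl⟩
  simp only [J5, List.mem_cons, List.not_mem_nil, or_false] at hj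
  rcases hj with rfl | rfl | rfl
  · exact ⟨s 1, Subgroup.subset_closure ⟨1, by decide, rfl⟩, u5_0, mr5_0, e5_0_1⟩
  · exact ⟨s 2, Subgroup.subset_closure ⟨2, by decide, rfl⟩, u5_0, mr5_0, e5_0_2⟩
  · exact ⟨1, one_mem _, u5_1, mr5_1, e5_0_3⟩
theorem c5_1 : P5 u5_1 := by
  refine ⟨mm5_1, ?_⟩
  rintro x ⟨j, hj, rfl⟩
  simp only [J5, List.mem_cons, List.not_mem_nil, or_false] at hj
  rcases hj with rfl | rfl | rfl
  · exact ⟨1, one_mem _, u5_2, mr5_2, e5_1_1⟩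
  · exact ⟨1, one_mem _, u5_3, mr5_3, e5_1_2⟩
  · exact ⟨1, one_mem _, u5_0, mr5_0, e5_1_3⟩
theorem c5_2 : P5 u5_2 := by
  refine ⟨mm5_2, ?_⟩
  rintro x ⟨j, hj, rfl⟩
  simp only [J5, List.mem_cons, List.not_mem_nil, or_false] at hj
  rcases hj with rfl | rfl | rfl
  · exact ⟨1, one_mem _, u5_1, mr5_1, e5_2_1⟩
  · exact ⟨1, one_mem _, u5_4, mr5_4, e5_2_2⟩
  · exact ⟨s 1, Subgroup.subset_closure ⟨1, by decide, rfl⟩, u5_2, mr5_2, e5_2_3⟩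
theorem c5_3 : P5 u5_3 := by
  refine ⟨mm5_3, ?_⟩
  rintro x ⟨j, hj, rfl⟩
  simp only [J5, List.mem_cons, List.not_mem_nil, or_false] at hj
  rcases hj with rfl | rfl | rfl
  · exact ⟨1, one_mem _, u5_4, mr5_4, e5_3_1⟩
  · exact ⟨1, one_mem _, u5_1, mr5_1, e5_3_2⟩
  · exact ⟨s 2, Subgroup.subset_closure ⟨2, by decide, rfl⟩, u5_3, mr5_3, e5_3_3⟩
theorem c5_4 : P5 u5_4 := by
  refine ⟨mm5_4, ?_⟩
  rintro x ⟨j, hj, rfl⟩
  simp only [J5, List.mem_cons, List.not_mem_nil, or_false] at hj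
  rcases hj with rfl | rfl | rfl
  · exact ⟨1, one_mem _, u5_3, mr5_3, e5_4_1⟩
  · exact ⟨1, one_mem _, u5_2, mr5_2, e5_4_2⟩
  · exact ⟨1, one_mem _, u5_5, mr5_5, e5_4_3⟩
theorem c5_5 : P5 u5_5 := by
  refine ⟨mm5_5, ?_⟩
  rintro x ⟨j, hj, rfl⟩
  simp only [J5, List.mem_cons, List.not_mem_nil, or_false] at hj
  rcases hj with rfl | rfl | rfl
  · exact ⟨s 2, Subgroup.subset_closure ⟨2, by decide, rfl⟩, u5_5, mr5_5, e5_5_1⟩
  · exact ⟨s 1, Subgroup.subset_closure ⟨1, by decide, rfl⟩, u5_5, mr5_5, e5_5_2⟩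
  · exact ⟨1, one_mem _, u5_4, mr5_4, e5_5_3⟩
def preps5 : List {u : W // P5 u} := [⟨u5_0, c5_0⟩, ⟨u5_1, c5_1⟩, ⟨u5_2, c5_2⟩, ⟨u5_3, c5_3⟩, ⟨u5_4, c5_4⟩, ⟨u5_5, c5_5⟩]
theorem preps5_map : preps5.map Subtype.val = reps5 := rfl
theorem allP5 : ∀ u ∈ reps5, P5 u := by
  intro u hu
  rw [← preps5_map, List.mem_map] at hu
  obtain ⟨x, _, rfl⟩ := hu
  exact x.2
def vecs5 : List (Fin 8 → ℤ) := [(![0, 0, 0, 1, 0, 0, 0, 0] : Fin 8 → ℤ), (![0, 1, 1, -1, 1, 0, 0, 0] : Fin 8 → ℤ), (![0, -1, 1, 0, 1, 0, 0, 0] : Fin 8 → ℤ), (![1, 1, -1, 0, 1, 0, 0, 0] : Fin 8 → ℤ), (![1, -1, -1, 1, 1, 0, 0, 0] : Fin 8 → ℤ), (![1, 0, 0, -1, 2, 0, 0, 0] : Fin 8 → ℤ)]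
theorem map5 : reps5.map fv5 = vecs5 := by
  simp only [reps5, List.map_cons, List.map_nil, v5_0, v5_1, v5_2, v5_3, v5_4, v5_5]
  rfl
theorem nd5 : (reps5.map fv5).Nodup := by rw [map5]; decide +kernel
theorem fix5 : ∀ h ∈ gens M J6, ∀ w, fv5 (h * w) = fv5 w := by
  rintro h ⟨j, hj, rfl⟩ w
  simp only [J6, List.mem_cons, List.not_mem_nil, or_false] at hj
  rcases hj with rfl | rfl
  all_goals exact fvec_fix M A hA base5 _ (by decide +kernel) w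
theorem sub5 : gens M J6 ⊆ gens M J5 := gens_mono M (by decide)
theorem card5 : Nat.card (Subgroup.closure (gens M J5)) = Nat.card (Subgroup.closure (gens M J6)) * 6 :=
  level_card (gens M J5) (gens M J6) sub5 (gens_inv M J5) reps5 mr5_0 (fun u hu => (allP5 u hu).1) (fun u hu => (allP5 u hu).2) fv5 fix5 nd5
theorem ker5 : ∀ w ∈ Subgroup.closure (gens M J5), fv5 w = fv5 1 → w ∈ Subgroup.closure (gens M J6) :=
  level_ker (gens M J5) (gens M J6) (gens_inv M J5) reps5 mr5_0 (fun u hu => (allP5 u hu).2) fv5 fix5 nd5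

-- level 6: index 2
def base6 : Fin 8 → ℤ := ![0, 0, 1, 0, 0, 0, 0, 0]
def fv6 : W → (Fin 8 → ℤ) := fvec M A hA base6
def u6_0 : W := 1
def u6_1 : W := u6_0 * s 2
def reps6 : List W := [u6_0, u6_1]
theorem v6_0 : fv6 u6_0 = ![0, 0, 1, 0, 0, 0, 0, 0] := fvec_one M A hA base6
theorem v6_1 : fv6 u6_1 = ![1, 0, -1, 1, 0, 0, 0, 0] := by
  show fvec M A hA base6 (u6_0 * M.simple 2) = _
  rw [fvec_mul_simple]; show reflVec A 2 (fv6 u6_0) = _; rw [v6_0]; decide +kernel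
theorem e6_0_2 : u6_0 * s 2 = 1 * u6_1 := (one_mul (u6_0 * s 2)).symm
theorem e6_1_2 : u6_1 * s 2 = 1 * u6_0 := tree_up (s_sq 2)
theorem e6_0_1 : u6_0 * s 1 = s 1 * u6_0 := (one_mul (s 1)).trans (mul_one (s 1)).symm
theorem e6_1_1 : u6_1 * s 1 = s 1 * u6_1 := by
  simpa only [one_mul, mul_one] using ded2 r_1_2 e6_1_2 e6_0_1 e6_0_2
def P6 (u : W) : Prop := u ∈ Subgroup.closure (gens M J6) ∧ ∀ x ∈ gens M J6, ∃ h ∈ Subgroup.closure (gens M J7), ∃ u' ∈ reps6, u * x = h * u'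
theorem mr6_0 : u6_0 ∈ reps6 := List.getElem_mem (l := reps6) (n := 0) (by decide)
theorem mr6_1 : u6_1 ∈ reps6 := List.getElem_mem (l := reps6) (n := 1) (by decide)
theorem mm6_0 : u6_0 ∈ Subgroup.closure (gens M J6) := one_mem _
theorem mm6_1 : u6_1 ∈ Subgroup.closure (gens M J6) := mul_mem mm6_0 (Subgroup.subset_closure ⟨2, by decide, rfl⟩)
theorem c6_0 : P6 u6_0 := by
  refine ⟨mm6_0, ?_⟩
  rintro x ⟨j, hj, rfl⟩
  simp only [J6, List.mem_cons, List.not_mem_nil, or_false] at hj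
  rcases hj with rfl | rfl
  · exact ⟨s 1, Subgroup.subset_closure ⟨1, by decide, rfl⟩, u6_0, mr6_0, e6_0_1⟩
  · exact ⟨1, one_mem _, u6_1, mr6_1, e6_0_2⟩
theorem c6_1 : P6 u6_1 := by
  refine ⟨mm6_1, ?_⟩
  rintro x ⟨j, hj, rfl⟩
  simp only [J6, List.mem_cons, List.not_mem_nil, or_false] at hj
  rcases hj with rfl | rfl
  · exact ⟨s 1, Subgroup.subset_closure ⟨1, by decide, rfl⟩, u6_1, mr6_1, e6_1_1⟩
  · exact ⟨1, one_mem _, u6_0, mr6_0, e6_1_2⟩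
def preps6 : List {u : W // P6 u} := [⟨u6_0, c6_0⟩, ⟨u6_1, c6_1⟩]
theorem preps6_map : preps6.map Subtype.val = reps6 := rfl
theorem allP6 : ∀ u ∈ reps6, P6 u := by
  intro u hu
  rw [← preps6_map, List.mem_map] at hu
  obtain ⟨x, _, rfl⟩ := hu
  exact x.2
def vecs6 : List (Fin 8 → ℤ) := [(![0, 0, 1, 0, 0, 0, 0, 0] : Fin 8 → ℤ), (![1, 0, -1, 1, 0, 0, 0, 0] : Fin 8 → ℤ)]
theorem map6 : reps6.map fv6 = vecs6 := by
  simp only [reps6, List.map_cons, List.map_nil, v6_0, v6_1]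
  rfl
theorem nd6 : (reps6.map fv6).Nodup := by rw [map6]; decide +kernel
theorem fix6 : ∀ h ∈ gens M J7, ∀ w, fv6 (h * w) = fv6 w := by
  rintro h ⟨j, hj, rfl⟩ w
  simp only [J7, List.mem_cons, List.not_mem_nil, or_false] at hj
  subst hj
  all_goals exact fvec_fix M A hA base6 _ (by decide +kernel) w
theorem sub6 : gens M J7 ⊆ gens M J6 := gens_mono M (by decide)
theorem card6 : Nat.card (Subgroup.closure (gens M J6)) = Nat.card (Subgroup.closure (gens M J7)) * 2 :=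
  level_card (gens M J6) (gens M J7) sub6 (gens_inv M J6) reps6 mr6_0 (fun u hu => (allP6 u hu).1) (fun u hu => (allP6 u hu).2) fv6 fix6 nd6
theorem ker6 : ∀ w ∈ Subgroup.closure (gens M J6), fv6 w = fv6 1 → w ∈ Subgroup.closure (gens M J7) :=
  level_ker (gens M J6) (gens M J7) (gens_inv M J6) reps6 mr6_0 (fun u hu => (allP6 u hu).2) fv6 fix6 nd6

-- level 7: index 2
def base7 : Fin 8 → ℤ := ![0, 1, 0, 0, 0, 0, 0, 0]
def fv7 : W → (Fin 8 → ℤ) := fvec M A hA base7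
def u7_0 : W := 1
def u7_1 : W := u7_0 * s 1
def reps7 : List W := [u7_0, u7_1]
theorem v7_0 : fv7 u7_0 = ![0, 1, 0, 0, 0, 0, 0, 0] := fvec_one M A hA base7
theorem v7_1 : fv7 u7_1 = ![0, -1, 0, 1, 0, 0, 0, 0] := by
  show fvec M A hA base7 (u7_0 * M.simple 1) = _
  rw [fvec_mul_simple]; show reflVec A 1 (fv7 u7_0) = _; rw [v7_0]; decide +kernel
theorem e7_0_1 : u7_0 * s 1 = 1 * u7_1 := (one_mul (u7_0 * s 1)).symm
theorem e7_1_1 : u7_1 * s 1 = 1 * u7_0 := tree_up (s_sq 1)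
def P7 (u : W) : Prop := u ∈ Subgroup.closure (gens M J7) ∧ ∀ x ∈ gens M J7, ∃ h ∈ Subgroup.closure (gens M J8), ∃ u' ∈ reps7, u * x = h * u'
theorem mr7_0 : u7_0 ∈ reps7 := List.getElem_mem (l := reps7) (n := 0) (by decide)
theorem mr7_1 : u7_1 ∈ reps7 := List.getElem_mem (l := reps7) (n := 1) (by decide)
theorem mm7_0 : u7_0 ∈ Subgroup.closure (gens M J7) := one_mem _
theorem mm7_1 : u7_1 ∈ Subgroup.closure (gens M J7) := mul_mem mm7_0 (Subgroup.subset_closure ⟨1, by decide, rfl⟩)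
theorem c7_0 : P7 u7_0 := by
  refine ⟨mm7_0, ?_⟩
  rintro x ⟨j, hj, rfl⟩
  simp only [J7, List.mem_cons, List.not_mem_nil, or_false] at hj
  subst hj
  · exact ⟨1, one_mem _, u7_1, mr7_1, e7_0_1⟩
theorem c7_1 : P7 u7_1 := by
  refine ⟨mm7_1, ?_⟩
  rintro x ⟨j, hj, rfl⟩
  simp only [J7, List.mem_cons, List.not_mem_nil, or_false] at hj
  subst hj
  · exact ⟨1, one_mem _, u7_0, mr7_0, e7_1_1⟩
def preps7 : List {u : W // P7 u} := [⟨u7_0, c7_0⟩, ⟨u7_1, c7_1⟩]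
theorem preps7_map : preps7.map Subtype.val = reps7 := rfl
theorem allP7 : ∀ u ∈ reps7, P7 u := by
  intro u hu
  rw [← preps7_map, List.mem_map] at hu
  obtain ⟨x, _, rfl⟩ := hu
  exact x.2
def vecs7 : List (Fin 8 → ℤ) := [(![0, 1, 0, 0, 0, 0, 0, 0] : Fin 8 → ℤ), (![0, -1, 0, 1, 0, 0, 0, 0] : Fin 8 → ℤ)]
theorem map7 : reps7.map fv7 = vecs7 := by
  simp only [reps7, List.map_cons, List.map_nil, v7_0, v7_1]
  rfl
theorem nd7 : (reps7.map fv7).Nodup := by rw [map7]; decide +kernel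
theorem fix7 : ∀ h ∈ gens M J8, ∀ w, fv7 (h * w) = fv7 w := by
  rintro h ⟨j, hj, rfl⟩ w
  simp [J8] at hj
theorem sub7 : gens M J8 ⊆ gens M J7 := gens_mono M (by decide)
theorem card7 : Nat.card (Subgroup.closure (gens M J7)) = Nat.card (Subgroup.closure (gens M J8)) * 2 :=
  level_card (gens M J7) (gens M J8) sub7 (gens_inv M J7) reps7 mr7_0 (fun u hu => (allP7 u hu).1) (fun u hu => (allP7 u hu).2) fv7 fix7 nd7
theorem ker7 : ∀ w ∈ Subgroup.closure (gens M J7), fv7 w = fv7 1 → w ∈ Subgroup.closure (gens M J8) :=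
  level_ker (gens M J7) (gens M J8) (gens_inv M J7) reps7 mr7_0 (fun u hu => (allP7 u hu).2) fv7 fix7 nd7

theorem card_eq : Nat.card W = 696729600 := by
  have htop : Subgroup.closure (gens M J0) = ⊤ := closure_gens_all M J0 (by decide)
  have hbot : Nat.card (Subgroup.closure (gens M J8)) = 1 := by
    show Nat.card (Subgroup.closure (gens M ([] : List (Fin 8)))) = 1
    rw [closure_gens_nil]; exact Subgroup.card_bot
  rw [← Subgroup.card_top (G := W), ← htop, card0, card1, card2, card3, card4, card5, card6, card7, hbot]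
theorem rho_ker (w : W) (h : rho M A hA w = 1) : w = 1 := by
  have h0 : w ∈ Subgroup.closure (gens M J0) := by rw [closure_gens_all M J0 (by decide)]; trivial
  have h1 := ker0 w h0 (fvec_of_rho_eq_one M A hA base0 w h)
  have h2 := ker1 w h1 (fvec_of_rho_eq_one M A hA base1 w h)
  have h3 := ker2 w h2 (fvec_of_rho_eq_one M A hA base2 w h)
  have h4 := ker3 w h3 (fvec_of_rho_eq_one M A hA base3 w h)
  have h5 := ker4 w h4 (fvec_of_rho_eq_one M A hA base4 w h)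
  have h6 := ker5 w h5 (fvec_of_rho_eq_one M A hA base5 w h)
  have h7 := ker6 w h6 (fvec_of_rho_eq_one M A hA base6 w h)
  have h8 := ker7 w h7 (fvec_of_rho_eq_one M A hA base7 w h)
  have hb : Subgroup.closure (gens M J8) = ⊥ := closure_gens_nil M
  rw [hb] at h8
  exact Subgroup.mem_bot.mp h8

def cox : W := ((List.finRange 8).map M.simple).prod
def Cm0 : Matrix (Fin 8) (Fin 8) ℤ := 1
def Cm1 : Matrix (Fin 8) (Fin 8) ℤ := !![-1, 0, 0, 0, 0, 0, 0, 0; 0, 1, 0, 0, 0, 0, 0, 0; 1, 0, 1, 0, 0, 0, 0, 0; 0, 0, 0, 1, 0, 0, 0, 0; 0, 0, 0, 0, 1, 0, 0, 0; 0, 0, 0, 0, 0, 1, 0, 0; 0, 0, 0, 0, 0, 0, 1, 0; 0, 0, 0, 0, 0, 0, 0, 1]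
theorem hCm1 : Cm0 * reflMat A 0 = Cm1 := by decide +kernel
def Cm2 : Matrix (Fin 8) (Fin 8) ℤ := !![-1, 0, 0, 0, 0, 0, 0, 0; 0, -1, 0, 0, 0, 0, 0, 0; 1, 0, 1, 0, 0, 0, 0, 0; 0, 1, 0, 1, 0, 0, 0, 0; 0, 0, 0, 0, 1, 0, 0, 0; 0, 0, 0, 0, 0, 1, 0, 0; 0, 0, 0, 0, 0, 0, 1, 0; 0, 0, 0, 0, 0, 0, 0, 1]
theorem hCm2 : Cm1 * reflMat A 1 = Cm2 := by decide +kernel
def Cm3 : Matrix (Fin 8) (Fin 8) ℤ := !![-1, 0, -1, 0, 0, 0, 0, 0; 0, -1, 0, 0, 0, 0, 0, 0; 1, 0, 0, 0, 0, 0, 0, 0; 0, 1, 1, 1, 0, 0, 0, 0; 0, 0, 0, 0, 1, 0, 0, 0; 0, 0, 0, 0, 0, 1, 0, 0; 0, 0, 0, 0, 0, 0, 1, 0; 0, 0, 0, 0, 0, 0, 0, 1]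
theorem hCm3 : Cm2 * reflMat A 2 = Cm3 := by decide +kernel
def Cm4 : Matrix (Fin 8) (Fin 8) ℤ := !![-1, 0, -1, -1, 0, 0, 0, 0; 0, -1, 0, -1, 0, 0, 0, 0; 1, 0, 0, 0, 0, 0, 0, 0; 0, 1, 1, 1, 0, 0, 0, 0; 0, 0, 0, 1, 1, 0, 0, 0; 0, 0, 0, 0, 0, 1, 0, 0; 0, 0, 0, 0, 0, 0, 1, 0; 0, 0, 0, 0, 0, 0, 0, 1]
theorem hCm4 : Cm3 * reflMat A 3 = Cm4 := by decide +kernel
def Cm5 : Matrix (Fin 8) (Fin 8) ℤ := !![-1, 0, -1, -1, -1, 0, 0, 0; 0, -1, 0, -1, -1, 0, 0, 0; 1, 0, 0, 0, 0, 0, 0, 0; 0, 1, 1, 1, 1, 0, 0, 0; 0, 0, 0, 1, 0, 0, 0, 0; 0, 0, 0, 0, 1, 1, 0, 0; 0, 0, 0, 0, 0, 0, 1, 0; 0, 0, 0, 0, 0, 0, 0, 1]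
theorem hCm5 : Cm4 * reflMat A 4 = Cm5 := by decide +kernel
def Cm6 : Matrix (Fin 8) (Fin 8) ℤ := !![-1, 0, -1, -1, -1, -1, 0, 0; 0, -1, 0, -1, -1, -1, 0, 0; 1, 0, 0, 0, 0, 0, 0, 0; 0, 1, 1, 1, 1, 1, 0, 0; 0, 0, 0, 1, 0, 0, 0, 0; 0, 0, 0, 0, 1, 0, 0, 0; 0, 0, 0, 0, 0, 1, 1, 0; 0, 0, 0, 0, 0, 0, 0, 1]
theorem hCm6 : Cm5 * reflMat A 5 = Cm6 := by decide +kernel
def Cm7 : Matrix (Fin 8) (Fin 8) ℤ := !![-1, 0, -1, -1, -1, -1, -1, 0; 0, -1, 0, -1, -1, -1, -1, 0; 1, 0, 0, 0, 0, 0, 0, 0; 0, 1, 1, 1, 1, 1, 1, 0; 0, 0, 0, 1, 0, 0, 0, 0; 0, 0, 0, 0, 1, 0, 0, 0; 0, 0, 0, 0, 0, 1, 0, 0; 0, 0, 0, 0, 0, 0, 1, 1]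
theorem hCm7 : Cm6 * reflMat A 6 = Cm7 := by decide +kernel
def Cm8 : Matrix (Fin 8) (Fin 8) ℤ := !![-1, 0, -1, -1, -1, -1, -1, -1; 0, -1, 0, -1, -1, -1, -1, -1; 1, 0, 0, 0, 0, 0, 0, 0; 0, 1, 1, 1, 1, 1, 1, 1; 0, 0, 0, 1, 0, 0, 0, 0; 0, 0, 0, 0, 1, 0, 0, 0; 0, 0, 0, 0, 0, 1, 0, 0; 0, 0, 0, 0, 0, 0, 1, 0]
theorem hCm8 : Cm7 * reflMat A 7 = Cm8 := by decide +kernel
theorem rho_cox : rho M A hA cox = Cm8 := by
  have : cox = M.simple 0 * M.simple 1 * M.simple 2 * M.simple 3 * M.simple 4 * M.simple 5 * M.simple 6 * M.simple 7 := by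
    simp [cox, List.finRange_succ, mul_assoc]
  rw [this]
  simp only [map_mul, rho_simple]
  rw [← one_mul (reflMat A 0), ← Cm0, hCm1, hCm2, hCm3, hCm4, hCm5, hCm6, hCm7, hCm8]
def Pw1 : Matrix (Fin 8) (Fin 8) ℤ := Cm8
def Pw2 : Matrix (Fin 8) (Fin 8) ℤ := !![0, -1, 0, -1, -1, -1, -1, 0; 0, 0, -1, -1, -1, -1, -1, 0; -1, 0, -1, -1, -1, -1, -1, -1; 1, 0, 1, 1, 1, 1, 1, 0; 0, 1, 1, 1, 1, 1, 1, 1; 0, 0, 0, 1, 0, 0, 0, 0; 0, 0, 0, 0, 1, 0, 0, 0; 0, 0, 0, 0, 0, 1, 0, 0]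
theorem hPw2 : Pw1 * Cm8 = Pw2 := by decide +kernel
def Pw3 : Matrix (Fin 8) (Fin 8) ℤ := !![0, 0, -1, -1, -1, -1, 0, 0; -1, -1, -1, -2, -2, -2, -1, -1; 0, -1, 0, -1, -1, -1, -1, 0; 0, 1, 0, 1, 1, 1, 0, 0; 1, 0, 1, 1, 1, 1, 1, 0; 0, 1, 1, 1, 1, 1, 1, 1; 0, 0, 0, 1, 0, 0, 0, 0; 0, 0, 0, 0, 1, 0, 0, 0]
theorem hPw3 : Pw2 * Cm8 = Pw3 := by decide +kernel
def Pw4 : Matrix (Fin 8) (Fin 8) ℤ := !![-1, -1, -1, -2, -2, -1, -1, -1; 0, -1, -1, -2, -2, -1, -1, 0; 0, 0, -1, -1, -1, -1, 0, 0; 0, 0, 1, 1, 1, 0, 0, 0; 0, 1, 0, 1, 1, 1, 0, 0; 1, 0, 1, 1, 1, 1, 1, 0; 0, 1, 1, 1, 1, 1, 1, 1; 0, 0, 0, 1, 0, 0, 0, 0]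
theorem hPw4 : Pw3 * Cm8 = Pw4 := by decide +kernel
def Pw5 : Matrix (Fin 8) (Fin 8) ℤ := !![0, -1, -1, -2, -1, -1, -1, 0; -1, -1, -2, -3, -2, -2, -1, -1; -1, -1, -1, -2, -2, -1, -1, -1; 1, 1, 1, 2, 1, 1, 1, 1; 0, 0, 1, 1, 1, 0, 0, 0; 0, 1, 0, 1, 1, 1, 0, 0; 1, 0, 1, 1, 1, 1, 1, 0; 0, 1, 1, 1, 1, 1, 1, 1]
theorem hPw5 : Pw4 * Cm8 = Pw5 := by decide +kernel
def Pw6 : Matrix (Fin 8) (Fin 8) ℤ := !![-1, -1, -2, -2, -2, -2, -1, -1; -1, -2, -2, -3, -3, -2, -2, -1; 0, -1, -1, -2, -1, -1, -1, 0; 0, 1, 1, 1, 1, 1, 1, 0; 1, 1, 1, 2, 1, 1, 1, 1; 0, 0, 1, 1, 1, 0, 0, 0; 0, 1, 0, 1, 1, 1, 0, 0; 1, 0, 1, 1, 1, 1, 1, 0]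
theorem hPw6 : Pw5 * Cm8 = Pw6 := by decide +kernel
def Pw7 : Matrix (Fin 8) (Fin 8) ℤ := !![-1, -1, -1, -2, -2, -1, -1, 0; -1, -1, -2, -3, -2, -2, -1, 0; -1, -1, -2, -2, -2, -2, -1, -1; 1, 0, 1, 1, 1, 1, 0, 0; 0, 1, 1, 1, 1, 1, 1, 0; 1, 1, 1, 2, 1, 1, 1, 1; 0, 0, 1, 1, 1, 0, 0, 0; 0, 1, 0, 1, 1, 1, 0, 0]
theorem hPw7 : Pw6 * Cm8 = Pw7 := by decide +kernel
def Pw8 : Matrix (Fin 8) (Fin 8) ℤ := !![0, -1, -1, -2, -1, -1, 0, 0; -1, -2, -2, -3, -3, -2, -1, -1; -1, -1, -1, -2, -2, -1, -1, 0; 0, 1, 0, 1, 1, 0, 0, 0; 1, 0, 1, 1, 1, 1, 0, 0; 0, 1, 1, 1, 1, 1, 1, 0; 1, 1, 1, 2, 1, 1, 1, 1; 0, 0, 1, 1, 1, 0, 0, 0]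
theorem hPw8 : Pw7 * Cm8 = Pw8 := by decide +kernel
def Pw9 : Matrix (Fin 8) (Fin 8) ℤ := !![-1, -1, -2, -2, -2, -1, -1, -1; -1, -1, -2, -3, -2, -1, -1, 0; 0, -1, -1, -2, -1, -1, 0, 0; 0, 0, 1, 1, 0, 0, 0, 0; 0, 1, 0, 1, 1, 0, 0, 0; 1, 0, 1, 1, 1, 1, 0, 0; 0, 1, 1, 1, 1, 1, 1, 0; 1, 1, 1, 2, 1, 1, 1, 1]
theorem hPw9 : Pw8 * Cm8 = Pw9 := by decide +kernel
def Pw10 : Matrix (Fin 8) (Fin 8) ℤ := !![-1, -1, -1, -2, -1, -1, -1, 0; -1, -2, -2, -3, -2, -2, -1, -1; -1, -1, -2, -2, -2, -1, -1, -1; 1, 1, 1, 1, 1, 1, 1, 1; 0, 0, 1, 1, 0, 0, 0, 0; 0, 1, 0, 1, 1, 0, 0, 0; 1, 0, 1, 1, 1, 1, 0, 0; 0, 1, 1, 1, 1, 1, 1, 0]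
theorem hPw10 : Pw9 * Cm8 = Pw10 := by decide +kernel
def Pw11 : Matrix (Fin 8) (Fin 8) ℤ := !![0, -1, -1, -1, -1, -1, 0, 0; -1, -1, -2, -2, -2, -1, -1, 0; -1, -1, -1, -2, -1, -1, -1, 0; 0, 0, 0, 0, 0, 0, 0, -1; 1, 1, 1, 1, 1, 1, 1, 1; 0, 0, 1, 1, 0, 0, 0, 0; 0, 1, 0, 1, 1, 0, 0, 0; 1, 0, 1, 1, 1, 1, 0, 0]
theorem hPw11 : Pw10 * Cm8 = Pw11 := by decide +kernel
def Pw12 : Matrix (Fin 8) (Fin 8) ℤ := !![-1, 0, -1, -1, -1, 0, 0, 0; -1, -1, -1, -2, -1, -1, 0, 0; 0, -1, -1, -1, -1, -1, 0, 0; 0, 0, 0, 0, 0, 0, -1, 0; 0, 0, 0, 0, 0, 0, 0, -1; 1, 1, 1, 1, 1, 1, 1, 1; 0, 0, 1, 1, 0, 0, 0, 0; 0, 1, 0, 1, 1, 0, 0, 0]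
theorem hPw12 : Pw11 * Cm8 = Pw12 := by decide +kernel
def Pw13 : Matrix (Fin 8) (Fin 8) ℤ := !![0, -1, 0, -1, 0, 0, 0, 0; 0, -1, -1, -1, -1, 0, 0, 0; -1, 0, -1, -1, -1, 0, 0, 0; 0, 0, 0, 0, 0, -1, 0, 0; 0, 0, 0, 0, 0, 0, -1, 0; 0, 0, 0, 0, 0, 0, 0, -1; 1, 1, 1, 1, 1, 1, 1, 1; 0, 0, 1, 1, 0, 0, 0, 0]
theorem hPw13 : Pw12 * Cm8 = Pw13 := by decide +kernel
def Pw14 : Matrix (Fin 8) (Fin 8) ℤ := !![0, 0, -1, 0, 0, 0, 0, 0; -1, 0, -1, -1, 0, 0, 0, 0; 0, -1, 0, -1, 0, 0, 0, 0; 0, 0, 0, 0, -1, 0, 0, 0; 0, 0, 0, 0, 0, -1, 0, 0; 0, 0, 0, 0, 0, 0, -1, 0; 0, 0, 0, 0, 0, 0, 0, -1; 1, 1, 1, 1, 1, 1, 1, 1]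
theorem hPw14 : Pw13 * Cm8 = Pw14 := by decide +kernel
def Pw15 : Matrix (Fin 8) (Fin 8) ℤ := !![-1, 0, 0, 0, 0, 0, 0, 0; 0, -1, 0, 0, 0, 0, 0, 0; 0, 0, -1, 0, 0, 0, 0, 0; 0, 0, 0, -1, 0, 0, 0, 0; 0, 0, 0, 0, -1, 0, 0, 0; 0, 0, 0, 0, 0, -1, 0, 0; 0, 0, 0, 0, 0, 0, -1, 0; 0, 0, 0, 0, 0, 0, 0, -1]
theorem hPw15 : Pw14 * Cm8 = Pw15 := by decide +kernel
def Pw16 : Matrix (Fin 8) (Fin 8) ℤ := !![1, 0, 1, 1, 1, 1, 1, 1; 0, 1, 0, 1, 1, 1, 1, 1; -1, 0, 0, 0, 0, 0, 0, 0; 0, -1, -1, -1, -1, -1, -1, -1; 0, 0, 0, -1, 0, 0, 0, 0; 0, 0, 0, 0, -1, 0, 0, 0; 0, 0, 0, 0, 0, -1, 0, 0; 0, 0, 0, 0, 0, 0, -1, 0]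
theorem hPw16 : Pw15 * Cm8 = Pw16 := by decide +kernel
def Pw17 : Matrix (Fin 8) (Fin 8) ℤ := !![0, 1, 0, 1, 1, 1, 1, 0; 0, 0, 1, 1, 1, 1, 1, 0; 1, 0, 1, 1, 1, 1, 1, 1; -1, 0, -1, -1, -1, -1, -1, 0; 0, -1, -1, -1, -1, -1, -1, -1; 0, 0, 0, -1, 0, 0, 0, 0; 0, 0, 0, 0, -1, 0, 0, 0; 0, 0, 0, 0, 0, -1, 0, 0]
theorem hPw17 : Pw16 * Cm8 = Pw17 := by decide +kernel
def Pw18 : Matrix (Fin 8) (Fin 8) ℤ := !![0, 0, 1, 1, 1, 1, 0, 0; 1, 1, 1, 2, 2, 2, 1, 1; 0, 1, 0, 1, 1, 1, 1, 0; 0, -1, 0, -1, -1, -1, 0, 0; -1, 0, -1, -1, -1, -1, -1, 0; 0, -1, -1, -1, -1, -1, -1, -1; 0, 0, 0, -1, 0, 0, 0, 0; 0, 0, 0, 0, -1, 0, 0, 0]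
theorem hPw18 : Pw17 * Cm8 = Pw18 := by decide +kernel
def Pw19 : Matrix (Fin 8) (Fin 8) ℤ := !![1, 1, 1, 2, 2, 1, 1, 1; 0, 1, 1, 2, 2, 1, 1, 0; 0, 0, 1, 1, 1, 1, 0, 0; 0, 0, -1, -1, -1, 0, 0, 0; 0, -1, 0, -1, -1, -1, 0, 0; -1, 0, -1, -1, -1, -1, -1, 0; 0, -1, -1, -1, -1, -1, -1, -1; 0, 0, 0, -1, 0, 0, 0, 0]
theorem hPw19 : Pw18 * Cm8 = Pw19 := by decide +kernel
def Pw20 : Matrix (Fin 8) (Fin 8) ℤ := !![0, 1, 1, 2, 1, 1, 1, 0; 1, 1, 2, 3, 2, 2, 1, 1; 1, 1, 1, 2, 2, 1, 1, 1; -1, -1, -1, -2, -1, -1, -1, -1; 0, 0, -1, -1, -1, 0, 0, 0; 0, -1, 0, -1, -1, -1, 0, 0; -1, 0, -1, -1, -1, -1, -1, 0; 0, -1, -1, -1, -1, -1, -1, -1]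
theorem hPw20 : Pw19 * Cm8 = Pw20 := by decide +kernel
def Pw21 : Matrix (Fin 8) (Fin 8) ℤ := !![1, 1, 2, 2, 2, 2, 1, 1; 1, 2, 2, 3, 3, 2, 2, 1; 0, 1, 1, 2, 1, 1, 1, 0; 0, -1, -1, -1, -1, -1, -1, 0; -1, -1, -1, -2, -1, -1, -1, -1; 0, 0, -1, -1, -1, 0, 0, 0; 0, -1, 0, -1, -1, -1, 0, 0; -1, 0, -1, -1, -1, -1, -1, 0]
theorem hPw21 : Pw20 * Cm8 = Pw21 := by decide +kernel
def Pw22 : Matrix (Fin 8) (Fin 8) ℤ := !![1, 1, 1, 2, 2, 1, 1, 0; 1, 1, 2, 3, 2, 2, 1, 0; 1, 1, 2, 2, 2, 2, 1, 1; -1, 0, -1, -1, -1, -1, 0, 0; 0, -1, -1, -1, -1, -1, -1, 0; -1, -1, -1, -2, -1, -1, -1, -1; 0, 0, -1, -1, -1, 0, 0, 0; 0, -1, 0, -1, -1, -1, 0, 0]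
theorem hPw22 : Pw21 * Cm8 = Pw22 := by decide +kernel
def Pw23 : Matrix (Fin 8) (Fin 8) ℤ := !![0, 1, 1, 2, 1, 1, 0, 0; 1, 2, 2, 3, 3, 2, 1, 1; 1, 1, 1, 2, 2, 1, 1, 0; 0, -1, 0, -1, -1, 0, 0, 0; -1, 0, -1, -1, -1, -1, 0, 0; 0, -1, -1, -1, -1, -1, -1, 0; -1, -1, -1, -2, -1, -1, -1, -1; 0, 0, -1, -1, -1, 0, 0, 0]
theorem hPw23 : Pw22 * Cm8 = Pw23 := by decide +kernel
def Pw24 : Matrix (Fin 8) (Fin 8) ℤ := !![1, 1, 2, 2, 2, 1, 1, 1; 1, 1, 2, 3, 2, 1, 1, 0; 0, 1, 1, 2, 1, 1, 0, 0; 0, 0, -1, -1, 0, 0, 0, 0; 0, -1, 0, -1, -1, 0, 0, 0; -1, 0, -1, -1, -1, -1, 0, 0; 0, -1, -1, -1, -1, -1, -1, 0; -1, -1, -1, -2, -1, -1, -1, -1]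
theorem hPw24 : Pw23 * Cm8 = Pw24 := by decide +kernel
def Pw25 : Matrix (Fin 8) (Fin 8) ℤ := !![1, 1, 1, 2, 1, 1, 1, 0; 1, 2, 2, 3, 2, 2, 1, 1; 1, 1, 2, 2, 2, 1, 1, 1; -1, -1, -1, -1, -1, -1, -1, -1; 0, 0, -1, -1, 0, 0, 0, 0; 0, -1, 0, -1, -1, 0, 0, 0; -1, 0, -1, -1, -1, -1, 0, 0; 0, -1, -1, -1, -1, -1, -1, 0]
theorem hPw25 : Pw24 * Cm8 = Pw25 := by decide +kernel
def Pw26 : Matrix (Fin 8) (Fin 8) ℤ := !![0, 1, 1, 1, 1, 1, 0, 0; 1, 1, 2, 2, 2, 1, 1, 0; 1, 1, 1, 2, 1, 1, 1, 0; 0, 0, 0, 0, 0, 0, 0, 1; -1, -1, -1, -1, -1, -1, -1, -1; 0, 0, -1, -1, 0, 0, 0, 0; 0, -1, 0, -1, -1, 0, 0, 0; -1, 0, -1, -1, -1, -1, 0, 0]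
theorem hPw26 : Pw25 * Cm8 = Pw26 := by decide +kernel
def Pw27 : Matrix (Fin 8) (Fin 8) ℤ := !![1, 0, 1, 1, 1, 0, 0, 0; 1, 1, 1, 2, 1, 1, 0, 0; 0, 1, 1, 1, 1, 1, 0, 0; 0, 0, 0, 0, 0, 0, 1, 0; 0, 0, 0, 0, 0, 0, 0, 1; -1, -1, -1, -1, -1, -1, -1, -1; 0, 0, -1, -1, 0, 0, 0, 0; 0, -1, 0, -1, -1, 0, 0, 0]
theorem hPw27 : Pw26 * Cm8 = Pw27 := by decide +kernel
def Pw28 : Matrix (Fin 8) (Fin 8) ℤ := !![0, 1, 0, 1, 0, 0, 0, 0; 0, 1, 1, 1, 1, 0, 0, 0; 1, 0, 1, 1, 1, 0, 0, 0; 0, 0, 0, 0, 0, 1, 0, 0; 0, 0, 0, 0, 0, 0, 1, 0; 0, 0, 0, 0, 0, 0, 0, 1; -1, -1, -1, -1, -1, -1, -1, -1; 0, 0, -1, -1, 0, 0, 0, 0]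
theorem hPw28 : Pw27 * Cm8 = Pw28 := by decide +kernel
def Pw29 : Matrix (Fin 8) (Fin 8) ℤ := !![0, 0, 1, 0, 0, 0, 0, 0; 1, 0, 1, 1, 0, 0, 0, 0; 0, 1, 0, 1, 0, 0, 0, 0; 0, 0, 0, 0, 1, 0, 0, 0; 0, 0, 0, 0, 0, 1, 0, 0; 0, 0, 0, 0, 0, 0, 1, 0; 0, 0, 0, 0, 0, 0, 0, 1; -1, -1, -1, -1, -1, -1, -1, -1]
theorem hPw29 : Pw28 * Cm8 = Pw29 := by decide +kernel
def Pw30 : Matrix (Fin 8) (Fin 8) ℤ := !![1, 0, 0, 0, 0, 0, 0, 0; 0, 1, 0, 0, 0, 0, 0, 0; 0, 0, 1, 0, 0, 0, 0, 0; 0, 0, 0, 1, 0, 0, 0, 0; 0, 0, 0, 0, 1, 0, 0, 0; 0, 0, 0, 0, 0, 1, 0, 0; 0, 0, 0, 0, 0, 0, 1, 0; 0, 0, 0, 0, 0, 0, 0, 1]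
theorem hPw30 : Pw29 * Cm8 = Pw30 := by decide +kernel
theorem rho_cox_pow1 : rho M A hA (cox ^ 1) = Pw1 := by rw [pow_one, rho_cox]; rfl
theorem rho_cox_pow2 : rho M A hA (cox ^ 2) = Pw2 := by rw [pow_succ, map_mul, rho_cox_pow1, rho_cox, hPw2]
theorem rho_cox_pow3 : rho M A hA (cox ^ 3) = Pw3 := by rw [pow_succ, map_mul, rho_cox_pow2, rho_cox, hPw3]
theorem rho_cox_pow4 : rho M A hA (cox ^ 4) = Pw4 := by rw [pow_succ, map_mul, rho_cox_pow3, rho_cox, hPw4]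
theorem rho_cox_pow5 : rho M A hA (cox ^ 5) = Pw5 := by rw [pow_succ, map_mul, rho_cox_pow4, rho_cox, hPw5]
theorem rho_cox_pow6 : rho M A hA (cox ^ 6) = Pw6 := by rw [pow_succ, map_mul, rho_cox_pow5, rho_cox, hPw6]
theorem rho_cox_pow7 : rho M A hA (cox ^ 7) = Pw7 := by rw [pow_succ, map_mul, rho_cox_pow6, rho_cox, hPw7]
theorem rho_cox_pow8 : rho M A hA (cox ^ 8) = Pw8 := by rw [pow_succ, map_mul, rho_cox_pow7, rho_cox, hPw8]
theorem rho_cox_pow9 : rho M A hA (cox ^ 9) = Pw9 := by rw [pow_succ, map_mul, rho_cox_pow8, rho_cox, hPw9]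
theorem rho_cox_pow10 : rho M A hA (cox ^ 10) = Pw10 := by rw [pow_succ, map_mul, rho_cox_pow9, rho_cox, hPw10]
theorem rho_cox_pow11 : rho M A hA (cox ^ 11) = Pw11 := by rw [pow_succ, map_mul, rho_cox_pow10, rho_cox, hPw11]
theorem rho_cox_pow12 : rho M A hA (cox ^ 12) = Pw12 := by rw [pow_succ, map_mul, rho_cox_pow11, rho_cox, hPw12]
theorem rho_cox_pow13 : rho M A hA (cox ^ 13) = Pw13 := by rw [pow_succ, map_mul, rho_cox_pow12, rho_cox, hPw13]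
theorem rho_cox_pow14 : rho M A hA (cox ^ 14) = Pw14 := by rw [pow_succ, map_mul, rho_cox_pow13, rho_cox, hPw14]
theorem rho_cox_pow15 : rho M A hA (cox ^ 15) = Pw15 := by rw [pow_succ, map_mul, rho_cox_pow14, rho_cox, hPw15]
theorem rho_cox_pow16 : rho M A hA (cox ^ 16) = Pw16 := by rw [pow_succ, map_mul, rho_cox_pow15, rho_cox, hPw16]
theorem rho_cox_pow17 : rho M A hA (cox ^ 17) = Pw17 := by rw [pow_succ, map_mul, rho_cox_pow16, rho_cox, hPw17]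
theorem rho_cox_pow18 : rho M A hA (cox ^ 18) = Pw18 := by rw [pow_succ, map_mul, rho_cox_pow17, rho_cox, hPw18]
theorem rho_cox_pow19 : rho M A hA (cox ^ 19) = Pw19 := by rw [pow_succ, map_mul, rho_cox_pow18, rho_cox, hPw19]
theorem rho_cox_pow20 : rho M A hA (cox ^ 20) = Pw20 := by rw [pow_succ, map_mul, rho_cox_pow19, rho_cox, hPw20]
theorem rho_cox_pow21 : rho M A hA (cox ^ 21) = Pw21 := by rw [pow_succ, map_mul, rho_cox_pow20, rho_cox, hPw21]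
theorem rho_cox_pow22 : rho M A hA (cox ^ 22) = Pw22 := by rw [pow_succ, map_mul, rho_cox_pow21, rho_cox, hPw22]
theorem rho_cox_pow23 : rho M A hA (cox ^ 23) = Pw23 := by rw [pow_succ, map_mul, rho_cox_pow22, rho_cox, hPw23]
theorem rho_cox_pow24 : rho M A hA (cox ^ 24) = Pw24 := by rw [pow_succ, map_mul, rho_cox_pow23, rho_cox, hPw24]
theorem rho_cox_pow25 : rho M A hA (cox ^ 25) = Pw25 := by rw [pow_succ, map_mul, rho_cox_pow24, rho_cox, hPw25]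
theorem rho_cox_pow26 : rho M A hA (cox ^ 26) = Pw26 := by rw [pow_succ, map_mul, rho_cox_pow25, rho_cox, hPw26]
theorem rho_cox_pow27 : rho M A hA (cox ^ 27) = Pw27 := by rw [pow_succ, map_mul, rho_cox_pow26, rho_cox, hPw27]
theorem rho_cox_pow28 : rho M A hA (cox ^ 28) = Pw28 := by rw [pow_succ, map_mul, rho_cox_pow27, rho_cox, hPw28]
theorem rho_cox_pow29 : rho M A hA (cox ^ 29) = Pw29 := by rw [pow_succ, map_mul, rho_cox_pow28, rho_cox, hPw29]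
theorem rho_cox_pow30 : rho M A hA (cox ^ 30) = Pw30 := by rw [pow_succ, map_mul, rho_cox_pow29, rho_cox, hPw30]
theorem cox_order : orderOf cox = 30 := by
  rw [orderOf_eq_iff (by norm_num)]
  refine ⟨rho_ker _ (by rw [rho_cox_pow30]; decide +kernel), ?_⟩
  intro m hm hm0 hc
  have hr : rho M A hA (cox ^ m) = 1 := by rw [hc, map_one]
  interval_cases m
  · rw [rho_cox_pow1] at hr; revert hr; decide +kernel
  · rw [rho_cox_pow2] at hr; revert hr; decide +kernel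
  · rw [rho_cox_pow3] at hr; revert hr; decide +kernel
  · rw [rho_cox_pow4] at hr; revert hr; decide +kernel
  · rw [rho_cox_pow5] at hr; revert hr; decide +kernel
  · rw [rho_cox_pow6] at hr; revert hr; decide +kernel
  · rw [rho_cox_pow7] at hr; revert hr; decide +kernel
  · rw [rho_cox_pow8] at hr; revert hr; decide +kernel
  · rw [rho_cox_pow9] at hr; revert hr; decide +kernel
  · rw [rho_cox_pow10] at hr; revert hr; decide +kernel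
  · rw [rho_cox_pow11] at hr; revert hr; decide +kernel
  · rw [rho_cox_pow12] at hr; revert hr; decide +kernel
  · rw [rho_cox_pow13] at hr; revert hr; decide +kernel
  · rw [rho_cox_pow14] at hr; revert hr; decide +kernel
  · rw [rho_cox_pow15] at hr; revert hr; decide +kernel
  · rw [rho_cox_pow16] at hr; revert hr; decide +kernel
  · rw [rho_cox_pow17] at hr; revert hr; decide +kernel
  · rw [rho_cox_pow18] at hr; revert hr; decide +kernel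
  · rw [rho_cox_pow19] at hr; revert hr; decide +kernel
  · rw [rho_cox_pow20] at hr; revert hr; decide +kernel
  · rw [rho_cox_pow21] at hr; revert hr; decide +kernel
  · rw [rho_cox_pow22] at hr; revert hr; decide +kernel
  · rw [rho_cox_pow23] at hr; revert hr; decide +kernel
  · rw [rho_cox_pow24] at hr; revert hr; decide +kernel
  · rw [rho_cox_pow25] at hr; revert hr; decide +kernel
  · rw [rho_cox_pow26] at hr; revert hr; decide +kernel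
  · rw [rho_cox_pow27] at hr; revert hr; decide +kernel
  · rw [rho_cox_pow28] at hr; revert hr; decide +kernel
  · rw [rho_cox_pow29] at hr; revert hr; decide +kernel

end

end Cfsg.Agent.Lib.Helper18.CoxE8
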