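import Cfsg.Agent.Lib.Helper18.ChevOrd

/-! # Table checks for the ordered product over the positive roots, all seven types (helper18) -/

set_option autoImplicit false
set_option maxRecDepth 100000

namespace Cfsg.Agent.Lib.Helper18

open Cfsg Cfsg.Lie Cfsg.Agent.Lib.Helper36

theorem chkOrd_G2 : chkOrd chevG2 = true := by decide +kernel
theorem chkOrd_B2 : chkOrd chevB2 = true := by decide +kernel
theorem chkOrd_D4 : chkOrd chevD4 = true := by decide +kernel
theorem chkOrd_F4 : chkOrd chevF4 = true := by decide +kernel
theorem chkOrd_E6 : chkOrd chevE6 = true := by decide +kernel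
theorem chkOrd_E7 : chkOrd chevE7 = true := by decide +kernel
theorem chkOrd_E8 : chkOrd chevE8 = true := by decide +kernel

theorem chkOrd_all (D : ChevalleyDatum) (hD : D ∈ [chevG2, chevB2, chevD4, chevF4, chevE6, chevE7, chevE8]) :
    chkOrd D = true :=
  seven_cases (P := fun D => chkOrd D = true) D hD chkOrd_G2 chkOrd_B2 chkOrd_D4 chkOrd_F4 chkOrd_E6 chkOrd_E7
    chkOrd_E8

theorem chkPrim_G2 : chkPrim chevG2 = true := by decide +kernel
theorem chkPrim_B2 : chkPrim chevB2 = true := by decide +kernel
theorem chkPrim_D4 : chkPrim chevD4 = true := by decide +kernel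
theorem chkPrim_F4 : chkPrim chevF4 = true := by decide +kernel
theorem chkPrim_E6 : chkPrim chevE6 = true := by decide +kernel
theorem chkPrim_E7 : chkPrim chevE7 = true := by decide +kernel
theorem chkPrim_E8 : chkPrim chevE8 = true := by decide +kernel

theorem chkPrim_all (D : ChevalleyDatum) (hD : D ∈ [chevG2, chevB2, chevD4, chevF4, chevE6, chevE7, chevE8]) :
    chkPrim D = true :=
  seven_cases (P := fun D => chkPrim D = true) D hD chkPrim_G2 chkPrim_B2 chkPrim_D4 chkPrim_F4 chkPrim_E6
    chkPrim_E7 chkPrim_E8

/-- the number of positive roots -/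
theorem posRoots_length (D : ChevalleyDatum) (hD : D ∈ [chevG2, chevB2, chevD4, chevF4, chevE6, chevE7, chevE8]) :
    D.posRoots.length = D.nroots / 2 :=
  seven_cases (P := fun D => D.posRoots.length = D.nroots / 2) D hD (by decide +kernel) (by decide +kernel)
    (by decide +kernel) (by decide +kernel) (by decide +kernel) (by decide +kernel) (by decide +kernel)

end Cfsg.Agent.Lib.Helper18
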