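import Cfsg.Agent.Lib.Helper18.AutDefs
import Cfsg.Agent.Lib.Helper18.GraphOld
import Cfsg.Agent.Lib.Helper36.ChevFieldFix2
import Cfsg.Agent.Lib.Helper18.AutT5a
import Cfsg.Agent.Lib.Helper18.AutT5b
import Cfsg.Agent.Lib.Helper18.AutT8
import Cfsg.Agent.Lib.Helper18.AutT9
import Cfsg.Agent.Lib.Helper18.AutT10
import Cfsg.Agent.Lib.Helper18.AutT7
import Cfsg.Agent.Lib.Helper72.AutT1
import Cfsg.Agent.Lib.Helper72.AutT2e
import Cfsg.Agent.Lib.Helper77.AutT2a
import Cfsg.Agent.Lib.Helper79.AutT2dFinal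
import Cfsg.Agent.Lib.Helper65.AutT4
import Cfsg.Agent.Lib.Helper31.AutT6
import Cfsg.Agent.Lib.Helper75.AutT3

/-! # Automorphisms of Chevalley groups: skeleton of S2156 (helper18)

The statements `T1 … T10` below are the sub-lemmas; the final theorem `aut_decomposition` is derived from them. -/

set_option autoImplicit false

namespace Cfsg.Agent.Lib.Helper18.Au

open Cfsg Cfsg.Lie Cfsg.Agent.Lib.Helper36 Cfsg.Agent.Lib.Helper18 Cfsg.Agent.Lib.Helper18.GO

section
variable (D : ChevalleyDatum) (hD : D ∈ [chevG2, chevB2, chevD4, chevF4, chevE6, chevE7, chevE8])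
variable (F : Type*) [Field F]

include hD in
/-- T1: Sylow normalisation. -/
theorem T1_normalize [Finite F] (θ : ↥(D.group F) ≃* ↥(D.group F)) :
    ∃ (x : ↥(D.group F)) (θ₀ : ↥(D.group F) ≃* ↥(D.group F)), (∀ y, θ y = x * θ₀ y * x⁻¹) ∧
      Pres D F θ₀ (D.posUnipotent F) ∧ Pres D F θ₀ (D.negUnipotent F) := by
  exact Cfsg.Agent.Lib.Helper72.Au.T1_normalize D hD F θ

/-- T2a: a subgroup strictly between `B` and `G` contains a negative fundamental root subgroup. -/
theorem T2a_overgroup [Finite F] (P : Subgroup (GL D.Idx F)) (hBP : D.borelSubgroup F ≤ P) (hPG : P ≤ D.group F)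
    (hne : P ≠ D.borelSubgroup F) :
    ∃ i : Fin D.rank, ∀ t : F, xGL D hD F (D.neg (D.simple i)) t ∈ P := by
  exact Cfsg.Agent.Lib.Helper77.Au.T2a_overgroup D hD F P hBP hPG hne

/-- T2b: `P_i ∩ V = X_{-p_i}`. -/
theorem T2b_inter [Finite F] (i : Fin D.rank) (g : GL D.Idx F) (hgV : g ∈ D.negUnipotent F)
    (hgP : g ∈ D.parabolicSubgroup F {(i : ℕ)}) :
    ∃ t : F, g = xGL D hD F (D.neg (D.simple i)) t := by
  exact Cfsg.Agent.Lib.Helper72.Au.T2b_inter D hD F i g hgV hgP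

/-- T2c: the permutation of the negative fundamental root subgroups. -/
theorem T2c_neg [Finite F] (θ₀ : ↥(D.group F) ≃* ↥(D.group F))
    (hU : Pres D F θ₀ (D.posUnipotent F)) (hV : Pres D F θ₀ (D.negUnipotent F)) :
    ∃ π : Equiv.Perm (Fin D.rank), ∀ i : Fin D.rank,
      MapsRoot D hD F θ₀ (D.neg (D.simple i)) (D.neg (D.simple (π i))) := by
  exact Cfsg.Agent.Lib.Helper72.Au.T2c_neg D hD F θ₀ hU hV

/-- T2d: the permutation of the positive fundamental root subgroups (conjugate by `n_{w₀}` and use T2c). -/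
theorem T2d_pos [Finite F] (θ₀ : ↥(D.group F) ≃* ↥(D.group F))
    (hU : Pres D F θ₀ (D.posUnipotent F)) (hV : Pres D F θ₀ (D.negUnipotent F)) :
    ∃ π : Equiv.Perm (Fin D.rank), ∀ i : Fin D.rank,
      MapsRoot D hD F θ₀ (D.simple i) (D.simple (π i)) := by
  exact Cfsg.Agent.Lib.Helper79.Au.T2d_pos D hD F θ₀ hU hV

/-- T2e: the two permutations agree (`X_{p_i}` and `X_{-p_j}` commute iff `i ≠ j`). -/
theorem T2e_same (θ₀ : ↥(D.group F) ≃* ↥(D.group F)) (π π' : Equiv.Perm (Fin D.rank))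
    (h : ∀ i : Fin D.rank, MapsRoot D hD F θ₀ (D.neg (D.simple i)) (D.neg (D.simple (π i))))
    (h' : ∀ i : Fin D.rank, MapsRoot D hD F θ₀ (D.simple i) (D.simple (π' i))) : π = π' := by
  exact Cfsg.Agent.Lib.Helper72.Au.T2e_same D hD F θ₀ π π' h h'

/-- T3: the permutation is a symmetry of the Dynkin diagram. -/
theorem T3_symm (θ₀ : ↥(D.group F) ≃* ↥(D.group F)) (π : Equiv.Perm (Fin D.rank))
    (h : ∀ i : Fin D.rank, MapsRoot D hD F θ₀ (D.simple i) (D.simple (π i))) : D.IsDiagramSymmetry π := by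
  exact Cfsg.Agent.Lib.Helper75.Au.T3_symm D hD F θ₀ π h

/-- T4: diagonal automorphisms with prescribed values on the fundamental roots. -/
theorem T4_diag (c : Fin D.rank → Fˣ) :
    ∃ d : ↥(D.group F) ≃* ↥(D.group F), D.IsDiagonalAut d ∧ ∀ (i : Fin D.rank) (t : F),
      d (xGr D hD F (D.simple i) t) = xGr D hD F (D.simple i) ((c i : F) * t) ∧
      d (xGr D hD F (D.neg (D.simple i)) t) = xGr D hD F (D.neg (D.simple i)) (((c i)⁻¹ : Fˣ) * t) := by
  exact Cfsg.Agent.Lib.Helper65.Au.T4_diag D hD F c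

/-- T5a: the rank one computation inside the group. -/
theorem T5a_rank1 (θ : ↥(D.group F) ≃* ↥(D.group F)) (r r' : ℕ) (hr : r < D.nroots) (hr' : r' < D.nroots)
    (f g : F → F) (hf : ∀ t, θ (xGr D hD F r t) = xGr D hD F r' (f t))
    (hg : ∀ t, θ (xGr D hD F (D.neg r) t) = xGr D hD F (D.neg r') (g t)) :
    ∀ t u : F, t ≠ 0 → g (-(t ^ 2)⁻¹ * u) = -((f t) ^ 2)⁻¹ * f u := by
  exact T5a_rank1' D hD F θ r r' hr hr' f g hf hg

/-- T5b: the algebra: an additive injective map with the rank one relation is a field automorphism. -/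
theorem T5b_alg [Finite F] (f g : F → F) (hfa : ∀ a b, f (a + b) = f a + f b) (hga : ∀ a b, g (a + b) = g a + g b)
    (hfi : Function.Injective f) (h1 : f 1 = 1)
    (hrel : ∀ t u : F, t ≠ 0 → g (-(t ^ 2)⁻¹ * u) = -((f t) ^ 2)⁻¹ * f u) :
    ∃ σ : F ≃+* F, (∀ t, f t = σ t) ∧ (∀ t, g t = σ t) := by
  exact T5b_alg' F f g hfa hga hfi h1 hrel

/-- T6: a length-swapping permutation forces the characteristic. -/
theorem T6_char [Finite F] (θ₁ : ↥(D.group F) ≃* ↥(D.group F)) (π : Equiv.Perm (Fin D.rank))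
    (hπ : D.IsDiagramSymmetry π) (σ : Fin D.rank → F ≃+* F)
    (h : ∀ (i : Fin D.rank) (t : F),
      θ₁ (xGr D hD F (D.simple i) t) = xGr D hD F (D.simple (π i)) (σ i t) ∧
      θ₁ (xGr D hD F (D.neg (D.simple i)) t) = xGr D hD F (D.neg (D.simple (π i))) (σ i t))
    (hs : SwapsLength D π) : SwapChar D F := by
  exact Cfsg.Agent.Lib.Helper31.Au.T6_char D hD F θ₁ π hπ σ h hs

/-- T7: existence of graph automorphisms. -/
theorem T7_graph [Finite F] (π : Equiv.Perm (Fin D.rank)) (hπ : D.IsDiagramSymmetry π)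
    (hc : SwapsLength D π → SwapChar D F) :
    ∃ γ : ↥(D.group F) ≃* ↥(D.group F), ∀ (i : Fin D.rank) (t : F),
      γ (xGr D hD F (D.simple i) t) =
        xGr D hD F (D.simple (π i)) (t ^ D.graphExp (ringChar F) i (π i)) ∧
      γ (xGr D hD F (D.neg (D.simple i)) t) =
        xGr D hD F (D.neg (D.simple (π i))) (t ^ D.graphExp (ringChar F) i (π i)) := by
  exact T7_graph' D hD F π hπ hc

/-- T8: existence of field automorphisms. -/
theorem T8_field (σ : F ≃+* F) :
    ∃ φ : ↥(D.group F) ≃* ↥(D.group F), ∀ (r : ℕ) (t : F), φ (xGr D hD F r t) = xGr D hD F r (σ t) := by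
  exact T8_field' D hD F σ

/-- T9: the field automorphisms on the fundamental root subgroups agree (action of `h_i(t)`). -/
theorem T9_torus (θ₂ : ↥(D.group F) ≃* ↥(D.group F)) (σ : Fin D.rank → F ≃+* F)
    (h : ∀ (i : Fin D.rank) (t : F),
      θ₂ (xGr D hD F (D.simple i) t) = xGr D hD F (D.simple i) (σ i t) ∧
      θ₂ (xGr D hD F (D.neg (D.simple i)) t) = xGr D hD F (D.neg (D.simple i)) (σ i t)) :
    ∀ i j : Fin D.rank, σ i = σ j := by
  exact T9_torus' D hD F θ₂ σ h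

/-- T10: homomorphisms agreeing on the fundamental root elements and their negatives are equal. -/
theorem T10_ext (α β : ↥(D.group F) →* ↥(D.group F))
    (h : ∀ (i : Fin D.rank) (t : F), α (xGr D hD F (D.simple i) t) = β (xGr D hD F (D.simple i) t) ∧
      α (xGr D hD F (D.neg (D.simple i)) t) = β (xGr D hD F (D.neg (D.simple i)) t)) : α = β := by
  exact T10_ext' D hD F α β h

end

end Cfsg.Agent.Lib.Helper18.Au
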