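import Cfsg.Agent.Lib.Helper18.StGraph

/-! # Data for the special graph automorphisms of B₂, F₄ (characteristic 2) and G₂ (characteristic 3) (helper18) -/

set_option autoImplicit false
set_option maxRecDepth 100000

namespace Cfsg.Agent.Lib.Helper18

open Cfsg Cfsg.Lie

def rhoB2 : List ℕ := [1, 0, 3, 2, 5, 4, 7, 6]

def lamB2 : List ℕ := [1, 2, 2, 1, 1, 2, 2, 1]

theorem chkTw_B2 : chkTw chevB2 2 rhoB2 lamB2 = true := by decide +kernel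

def rhoG2 : List ℕ := [2, 3, 0, 1, 5, 4, 7, 6, 10, 11, 8, 9]

def lamG2 : List ℕ := [1, 1, 3, 3, 3, 1, 1, 3, 3, 3, 1, 1]

theorem chkTw_G2 : chkTw chevG2 3 rhoG2 lamG2 = true := by decide +kernel

def rhoF4 : List ℕ := [3, 7, 8, 0, 9, 11, 18, 1, 2, 4, 15, 5, 16, 21, 23, 10, 12, 19, 6, 17, 22, 13, 20, 14, 33, 27, 34, 25, 30, 41, 28, 35, 37, 24, 26, 31, 42, 32, 43, 45, 46, 29, 36, 38, 47, 39, 40, 44]

def lamF4 : List ℕ := [1, 1, 1, 2, 1, 1, 1, 2, 2, 2, 2, 2, 2, 2, 2, 1, 1, 1, 2, 2, 2, 1, 1, 1, 1, 1, 1, 2, 2, 2, 1, 1, 1, 2, 2, 2, 2, 2, 2, 2, 2, 1, 1, 1, 2, 1, 1, 1]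

theorem chkTw_F4 : chkTw chevF4 2 rhoF4 lamF4 = true := by decide +kernel

end Cfsg.Agent.Lib.Helper18
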