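import Cfsg.Agent.Lib.Helper18.AutDefs
import Cfsg.Agent.Lib.Helper18.GraphOld
import Cfsg.Agent.Lib.Helper18.StGraphData

/-! # S2156, T7 part a: classification of the diagram symmetries (helper18) -/

set_option autoImplicit false
set_option maxRecDepth 100000

namespace Cfsg.Agent.Lib.Helper18.Au

open Cfsg Cfsg.Lie Cfsg.Agent.Lib.Helper36 Cfsg.Agent.Lib.Helper18 Cfsg.Agent.Lib.Helper18.GO

/-! ### classification of the diagram symmetries by exhaustive search -/

section search
variable (D : ChevalleyDatum)

/-- `a` can be appended to the partial list of values `acc` -/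
def symCompat (acc : List ℕ) (a : ℕ) : Bool :=
  !acc.contains a && (List.range acc.length).all fun k => D.bonds (acc.getD k 0) a == D.bonds k acc.length

/-- every completion of the partial list of values `acc` to a symmetry lies in `sols` -/
def symSearch (sols : List (List ℕ)) : ℕ → List ℕ → Bool
  | 0, acc => sols.contains acc
  | fuel + 1, acc => (List.range D.rank).all fun a => !symCompat D acc a || symSearch sols fuel (acc ++ [a])

/-- the value of `π` at `i` as a natural number -/
def pv (π : Equiv.Perm (Fin D.rank)) (i : ℕ) : ℕ := if h : i < D.rank then (π ⟨i, h⟩ : ℕ) else 0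

/-- the list of the first `k` values of `π` -/
def pre (π : Equiv.Perm (Fin D.rank)) (k : ℕ) : List ℕ := (List.range k).map (pv D π)

theorem pv_fin (π : Equiv.Perm (Fin D.rank)) (i : Fin D.rank) : pv D π i = (π i : ℕ) := by
  unfold pv
  rw [dif_pos i.2]

theorem pre_length (π : Equiv.Perm (Fin D.rank)) (k : ℕ) : (pre D π k).length = k := by
  unfold pre; simp

theorem pre_getD (π : Equiv.Perm (Fin D.rank)) (k j : ℕ) (hj : j < k) : (pre D π k).getD j 0 = pv D π j := by
  unfold pre
  rw [List.getD_eq_getElem _ _ (by simpa using hj)]
  simp

theorem pre_succ (π : Equiv.Perm (Fin D.rank)) (k : ℕ) : pre D π (k + 1) = pre D π k ++ [pv D π k] := by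
  unfold pre
  rw [List.range_succ, List.map_append, List.map_singleton]

theorem symSearch_sound (π : Equiv.Perm (Fin D.rank)) (hπ : D.IsDiagramSymmetry π) (sols : List (List ℕ)) :
    ∀ fuel k : ℕ, fuel + k = D.rank → symSearch D sols fuel (pre D π k) = true → pre D π D.rank ∈ sols := by
  intro fuel
  induction fuel with
  | zero =>
    intro k hk h
    rw [zero_add] at hk
    subst hk
    unfold symSearch at h
    simpa using h
  | succ fuel ih =>
    intro k hk h
    have hkr : k < D.rank := by omega
    unfold symSearch at h
    rw [List.all_eq_true] at h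
    have ha : pv D π k < D.rank := by
      unfold pv; rw [dif_pos hkr]; exact (π ⟨k, hkr⟩).2
    have h1 := h (pv D π k) (List.mem_range.2 ha)
    have hcomp : symCompat D (pre D π k) (pv D π k) = true := by
      unfold symCompat
      rw [Bool.and_eq_true]
      constructor
      · rw [Bool.not_eq_true', ← Bool.not_eq_true, List.contains_iff_mem]
        intro hmem
        unfold pre at hmem
        rw [List.mem_map] at hmem
        obtain ⟨j, hj, hjk⟩ := hmem
        have hj := List.mem_range.1 hj
        have hjr : j < D.rank := by omega
        unfold pv at hjk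
        rw [dif_pos hjr, dif_pos hkr] at hjk
        have := π.injective (Fin.ext hjk)
        have := Fin.mk.inj_iff.1 this
        omega
      · rw [List.all_eq_true]
        intro j hj
        rw [List.mem_range, pre_length] at hj
        have hjr : j < D.rank := by omega
        rw [beq_iff_eq, pre_length, pre_getD D π k j hj]
        have := hπ ⟨j, hjr⟩ ⟨k, hkr⟩ (by intro e; have := Fin.mk.inj_iff.1 e; omega)
        unfold pv
        rw [dif_pos hjr, dif_pos hkr]
        exact this
    rw [hcomp] at h1
    simp only [Bool.not_true, Bool.false_or] at h1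
    rw [← pre_succ] at h1
    exact ih (k + 1) (by omega) h1

end search

theorem search_G2 : symSearch chevG2 [[0, 1], [1, 0]] chevG2.rank [] = true := by decide +kernel
theorem search_B2 : symSearch chevB2 [[0, 1], [1, 0]] chevB2.rank [] = true := by decide +kernel
theorem search_F4 : symSearch chevF4 [[0, 1, 2, 3], [3, 2, 1, 0]] chevF4.rank [] = true := by decide +kernel
theorem search_D4 : symSearch chevD4
    [[0, 1, 2, 3], [2, 1, 3, 0], [3, 1, 0, 2], [0, 1, 3, 2], [2, 1, 0, 3], [3, 1, 2, 0]] chevD4.rank [] = true := by
  decide +kernel
theorem search_E6 : symSearch chevE6 [[0, 1, 2, 3, 4, 5], [5, 1, 4, 3, 2, 0]] chevE6.rank [] = true := by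
  decide +kernel
theorem search_E7 : symSearch chevE7 [[0, 1, 2, 3, 4, 5, 6]] chevE7.rank [] = true := by decide +kernel
theorem search_E8 : symSearch chevE8 [[0, 1, 2, 3, 4, 5, 6, 7]] chevE8.rank [] = true := by decide +kernel

end Cfsg.Agent.Lib.Helper18.Au
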