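import Mathlib

set_option autoImplicit false

namespace Cfsg.Agent.Lib.Helper18

/-- `B ∪ B n B` is a subgroup as soon as `n⁻¹ ∈ B n` and `n B n⁻¹ ⊆ B ∪ B n B` -/
theorem exists_subgroup_union_doubleCoset {G : Type*} [Group G] (B : Subgroup G) (n : G)
    (hinv : ∃ h ∈ B, n⁻¹ = h * n)
    (hconj : ∀ b ∈ B, n * b * n⁻¹ ∈ (B : Set G) ∪ DoubleCoset.doubleCoset n (B : Set G) B) :
    ∃ P : Subgroup G, (P : Set G) = (B : Set G) ∪ DoubleCoset.doubleCoset n (B : Set G) B := by
  obtain ⟨h, hh, hn⟩ := hinv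
  have hn2 : n * n = h⁻¹ := by
    have : h * n * n = 1 := by rw [← hn, inv_mul_cancel]
    calc n * n = h⁻¹ * (h * n * n) := by group
      _ = h⁻¹ := by rw [this, mul_one]
  have hnbn : ∀ b ∈ B, n * b * n ∈ (B : Set G) ∪ DoubleCoset.doubleCoset n (B : Set G) B := by
    intro b hb
    have e : n * b * n = (n * b * n⁻¹) * h⁻¹ := by
      rw [← hn2]; group
    rw [e]
    rcases hconj b hb with h1 | h1
    · left
      exact B.mul_mem h1 (B.inv_mem hh)
    · right
      rw [DoubleCoset.mem_doubleCoset] at h1 ⊢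
      obtain ⟨x, hx, y, hy, hxy⟩ := h1
      refine ⟨x, hx, y * h⁻¹, B.mul_mem hy (B.inv_mem hh), ?_⟩
      rw [hxy]; group
  refine ⟨{ carrier := (B : Set G) ∪ DoubleCoset.doubleCoset n (B : Set G) B
            one_mem' := Or.inl B.one_mem
            mul_mem' := ?_
            inv_mem' := ?_ }, rfl⟩
  · intro a b ha hb
    rcases ha with ha | ha
    · rcases hb with hb | hb
      · left; exact B.mul_mem ha hb
      · right
        rw [DoubleCoset.mem_doubleCoset] at hb ⊢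
        obtain ⟨x, hx, y, hy, rfl⟩ := hb
        exact ⟨a * x, B.mul_mem ha hx, y, hy, by group⟩
    · rw [DoubleCoset.mem_doubleCoset] at ha
      obtain ⟨x, hx, y, hy, rfl⟩ := ha
      rcases hb with hb | hb
      · right
        rw [DoubleCoset.mem_doubleCoset]
        exact ⟨x, hx, y * b, B.mul_mem hy hb, by group⟩
      · rw [DoubleCoset.mem_doubleCoset] at hb
        obtain ⟨x', hx', y', hy', rfl⟩ := hb
        have e : x * n * y * (x' * n * y') = x * (n * (y * x') * n) * y' := by group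
        rw [e]
        rcases hnbn (y * x') (B.mul_mem hy hx') with h1 | h1
        · left
          exact B.mul_mem (B.mul_mem hx h1) hy'
        · right
          rw [DoubleCoset.mem_doubleCoset] at h1 ⊢
          obtain ⟨c1, hc1, c2, hc2, hc⟩ := h1
          refine ⟨x * c1, B.mul_mem hx hc1, c2 * y', B.mul_mem hc2 hy', ?_⟩
          rw [hc]; group
  · intro a ha
    rcases ha with ha | ha
    · left; exact B.inv_mem ha
    · right
      rw [DoubleCoset.mem_doubleCoset] at ha ⊢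
      obtain ⟨x, hx, y, hy, rfl⟩ := ha
      refine ⟨y⁻¹ * h, B.mul_mem (B.inv_mem hy) hh, x⁻¹, B.inv_mem hx, ?_⟩
      have : (x * n * y)⁻¹ = y⁻¹ * n⁻¹ * x⁻¹ := by group
      rw [this, hn]; group

/-- elements of `A ⊔ X` are products when `X` normalises `A` -/
theorem mem_sup_of_le_normalizer {G : Type*} [Group G] (A X : Subgroup G)
    (hX : X ≤ Subgroup.normalizer (A : Set G)) (g : G) (hg : g ∈ A ⊔ X) :
    ∃ a ∈ A, ∃ x ∈ X, g = a * x := by
  have hconj : ∀ x ∈ X, ∀ a ∈ A, x * a * x⁻¹ ∈ A := by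
    intro x hx a ha
    have := hX hx
    rw [Subgroup.mem_set_normalizer_iff] at this
    exact (this a).1 ha
  let K : Subgroup G :=
    { carrier := {g | ∃ a ∈ A, ∃ x ∈ X, g = a * x}
      one_mem' := ⟨1, A.one_mem, 1, X.one_mem, by simp⟩
      mul_mem' := by
        rintro _ _ ⟨a1, ha1, x1, hx1, rfl⟩ ⟨a2, ha2, x2, hx2, rfl⟩
        exact ⟨a1 * (x1 * a2 * x1⁻¹), A.mul_mem ha1 (hconj x1 hx1 a2 ha2), x1 * x2, X.mul_mem hx1 hx2, by group⟩
      inv_mem' := by
        rintro _ ⟨a, ha, x, hx, rfl⟩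
        exact ⟨x⁻¹ * a⁻¹ * x⁻¹⁻¹, hconj x⁻¹ (X.inv_mem hx) a⁻¹ (A.inv_mem ha), x⁻¹, X.inv_mem hx, by group⟩ }
  have hle : A ⊔ X ≤ K := by
    apply sup_le
    · intro a ha; exact ⟨a, ha, 1, X.one_mem, by simp⟩
    · intro x hx; exact ⟨1, A.one_mem, x, hx, by simp⟩
  exact hle hg

end Cfsg.Agent.Lib.Helper18
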