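import Cfsg.Agent.Lib.Helper18.Bo_PSIcore
import Cfsg.Agent.Lib.Helper68.Bo_REL2_0
import Cfsg.Agent.Lib.Helper68.Bo_REL2_1
import Cfsg.Agent.Lib.Helper37.Bo_REL2_2
import Cfsg.Agent.Lib.Helper37.Bo_REL2_3
import Cfsg.Agent.Lib.Helper8.Bo_REL2_4
import Cfsg.Agent.Lib.Helper8.Bo_REL2_5
import Cfsg.Agent.Lib.Helper25.Bo_REL2_6
import Cfsg.Agent.Lib.Helper25.Bo_REL2_7
import Cfsg.Agent.Lib.Helper53.Bo_REL3

/-! # S1083 hive "Bo" (helper37): leaf BO-PSI — the homomorphism `ψ : St → O₅(F)`, `x̄_r(t) ↦ X r t` (helper18) -/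

set_option autoImplicit false
set_option linter.unusedSectionVars false
set_option linter.unusedVariables false

namespace Cfsg.Agent.Lib.Helper37.B2O5

open Matrix Module QuadraticMap
open Cfsg.Agent.Lib.Helper8 Cfsg.Agent.Lib.Helper13 Cfsg.Agent.Lib.Helper37 Cfsg.Agent.Lib.Helper43

variable {F : Type*} [Field F]

theorem psi_neg (r : ℕ) (hr : r < 8) : Cfsg.Lie.chevB2.neg r = 7 - r := by
  interval_cases r <;> decide

/-- BO-PSI. `PresentedGroup.toGroup` with `f p = X p.1 p.2` (`chevB2.nroots = 8` by `rfl`); the three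
relator families are `X_add`, `rel2_*`, `rel3`; needs `FreeGroup.lift f (chevB2.stX r t) = Xn r t` and
`FreeGroup.lift f (chevB2.stWord w) = wprod w` (induction on `w`). Model: the proof of S1077. -/
theorem exists_psi : ∃ ψ : Cfsg.Lie.chevB2.SteinbergGroup F →* OG F,
    ∀ (r : ℕ) (t : F), ψ (Cfsg.Lie.chevB2.stGen F r t) = Xn r t := by
  apply psi_core
  · intro r s hr hs hsr hsn t u
    rw [psi_neg r hr] at hsn
    interval_cases r
    · exact rel2_0 s hs hsr hsn t u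
    · exact rel2_1 s hs hsr hsn t u
    · exact rel2_2 s hs hsr hsn t u
    · exact rel2_3 s hs hsr hsn t u
    · exact rel2_4 s hs hsr hsn t u
    · exact rel2_5 s hs hsr hsn t u
    · exact rel2_6 s hs hsr hsn t u
    · exact rel2_7 s hs hsr hsn t u
  · intro r hr t₁ t₂ h1 h2
    exact rel3 r hr t₁ t₂ h1 h2

end Cfsg.Agent.Lib.Helper37.B2O5
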