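import Cfsg.Agent.Lib.Helper37.B2O5Defs

/-! # S1083 hive "Bo" (helper37): leaf BO-PSI, core — the homomorphism `ψ : St → O₅(F)`, `x̄_r(t) ↦ X r t`,
with the relations (R2), (R3) in `O₅(F)` as hypotheses (helper18) -/

set_option autoImplicit false
set_option linter.unusedSectionVars false
set_option linter.unusedVariables false

namespace Cfsg.Agent.Lib.Helper37.B2O5

open Matrix Module QuadraticMap
open Cfsg.Agent.Lib.Helper8 Cfsg.Agent.Lib.Helper13 Cfsg.Agent.Lib.Helper37 Cfsg.Agent.Lib.Helper43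

variable {F : Type*} [Field F]

/-- the images of the free generators -/
noncomputable def psi_gen (p : Fin Cfsg.Lie.chevB2.nroots × F) : OG F := Xn (p.1 : ℕ) p.2

theorem psi_lift_stX (r : ℕ) (t : F) :
    FreeGroup.lift (psi_gen (F := F)) (Cfsg.Lie.chevB2.stX r t) = Xn r t := by
  unfold Cfsg.Lie.ChevalleyDatum.stX
  split_ifs with h
  · rw [FreeGroup.lift_apply_of]; rfl
  · rw [map_one]
    have h' : ¬ r < 8 := h
    unfold Xn
    rw [dif_neg h']

theorem psi_lift_stWord (w : List (ℕ × F)) :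
    FreeGroup.lift (psi_gen (F := F)) (Cfsg.Lie.chevB2.stWord w) = wprod w := by
  unfold Cfsg.Lie.ChevalleyDatum.stWord wprod
  induction w with
  | nil => simp
  | cons p w ih => rw [List.map_cons, List.prod_cons, map_mul, ih, psi_lift_stX, List.map_cons, List.prod_cons]

theorem psi_Xn_add (r : ℕ) (hr : r < 8) (t u : F) : Xn r t * Xn r u = Xn r (t + u) := by
  rw [Xn_of_lt hr, Xn_of_lt hr, Xn_of_lt hr, X_add]

/-- BO-PSI, core: (R2), (R3) as hypotheses -/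
theorem psi_core
    (h2 : ∀ r s : ℕ, r < 8 → s < 8 → s ≠ r → s ≠ Cfsg.Lie.chevB2.neg r → ∀ t u : F,
      (Xn s u)⁻¹ * (Xn r t)⁻¹ * Xn s u * Xn r t = wprod (Cfsg.Lie.chevB2.commWord F r s t u))
    (h3 : ∀ r : ℕ, r < 8 → ∀ t₁ t₂ : F, t₁ ≠ 0 → t₂ ≠ 0 →
      wprod (Cfsg.Lie.chevB2.hWord r t₁) * wprod (Cfsg.Lie.chevB2.hWord r t₂)
        = wprod (Cfsg.Lie.chevB2.hWord r (t₁ * t₂))) :
    ∃ ψ : Cfsg.Lie.chevB2.SteinbergGroup F →* OG F,
      ∀ (r : ℕ) (t : F), ψ (Cfsg.Lie.chevB2.stGen F r t) = Xn r t := by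
  have hrel : ∀ r ∈ Cfsg.Lie.chevB2.steinbergRels F, FreeGroup.lift (psi_gen (F := F)) r = 1 := by
    rintro _ ((⟨r, t₁, t₂, hr, rfl⟩ | ⟨r, s, t, u, hr, hs, hsr, hsn, rfl⟩) | ⟨r, t₁, t₂, hr, h1, h2', rfl⟩)
    · rw [map_mul, map_mul, map_inv, psi_lift_stX, psi_lift_stX, psi_lift_stX, mul_inv_eq_one]
      exact psi_Xn_add r hr t₁ t₂
    · simp only [map_mul, map_inv, psi_lift_stX, psi_lift_stWord]
      rw [mul_inv_eq_one]
      exact h2 r s hr hs hsr hsn t u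
    · unfold Cfsg.Lie.ChevalleyDatum.stH
      simp only [map_mul, map_inv, psi_lift_stWord]
      rw [mul_inv_eq_one]
      exact h3 r hr t₁ t₂ h1 h2'
  refine ⟨PresentedGroup.toGroup hrel, ?_⟩
  intro r t
  exact psi_lift_stX r t

end Cfsg.Agent.Lib.Helper37.B2O5
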