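import Cfsg.Agent.Lib.Helper18.ChevUpAll
import Cfsg.Agent.Lib.Helper18.BNBLemma
import Cfsg.Agent.Lib.Helper36.ChevNorm

set_option autoImplicit false
set_option maxRecDepth 100000

namespace Cfsg.Agent.Lib.Helper18

open Cfsg Cfsg.Lie Cfsg.Agent.Lib.Helper36

/-- table check: the `i`-th fundamental reflection permutes the positive roots other than `p_i` -/
def chkPerm (D : ChevalleyDatum) (i : ℕ) : Bool :=
  (List.range D.nroots).all fun s => !decide (D.IsPosRoot s) || Nat.beq s (D.simple i) ||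
    (decide (D.IsPosRoot (D.reflectRoot i s)) && !Nat.beq (D.reflectRoot i s) (D.simple i))

theorem chkPerm_G2 : (List.range chevG2.rank).all (chkPerm chevG2) = true := by decide +kernel
theorem chkPerm_B2 : (List.range chevB2.rank).all (chkPerm chevB2) = true := by decide +kernel
theorem chkPerm_D4 : (List.range chevD4.rank).all (chkPerm chevD4) = true := by decide +kernel
theorem chkPerm_F4 : (List.range chevF4.rank).all (chkPerm chevF4) = true := by decide +kernel
theorem chkPerm_E6 : (List.range chevE6.rank).all (chkPerm chevE6) = true := by decide +kernel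
theorem chkPerm_E7 : (List.range chevE7.rank).all (chkPerm chevE7) = true := by decide +kernel
theorem chkPerm_E8 : (List.range chevE8.rank).all (chkPerm chevE8) = true := by decide +kernel

theorem chkPerm_all (D : ChevalleyDatum) (hD : D ∈ [chevG2, chevB2, chevD4, chevF4, chevE6, chevE7, chevE8])
    (i : ℕ) (hi : i < D.rank) (s : ℕ) (hs : D.IsPosRoot s) (hsp : s ≠ D.simple i) :
    D.IsPosRoot (D.reflectRoot i s) ∧ D.reflectRoot i s ≠ D.simple i := by
  have h : (List.range D.rank).all (chkPerm D) = true :=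
    seven_cases (P := fun D => (List.range D.rank).all (chkPerm D) = true) D hD chkPerm_G2 chkPerm_B2
      chkPerm_D4 chkPerm_F4 chkPerm_E6 chkPerm_E7 chkPerm_E8
  rw [List.all_eq_true] at h
  have h1 := h i (List.mem_range.2 hi)
  unfold chkPerm at h1
  rw [List.all_eq_true] at h1
  have h2 := h1 s (List.mem_range.2 hs.1)
  simp only [Bool.or_eq_true, Bool.and_eq_true, Bool.not_eq_true', decide_eq_false_iff_not,
    decide_eq_true_eq] at h2
  rcases h2 with (h2 | h2) | h2
  · exact absurd hs h2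
  · exact absurd (Nat.eq_of_beq_eq_true h2) hsp
  · refine ⟨h2.1, fun e => ?_⟩
    have h3 := h2.2
    rw [e] at h3
    have : Nat.beq (D.simple i) (D.simple i) = true := Nat.beq_refl _
    rw [this] at h3
    exact Bool.noConfusion h3

section
variable (D : ChevalleyDatum) (hD : D ∈ [chevG2, chevB2, chevD4, chevF4, chevE6, chevE7, chevE8])
variable (F : Type*) [Field F]

include hD in
/-- `n_p` normalises `U_p` -/
theorem nGL_conj_up (i : ℕ) (hi : i < D.rank) (g : GL D.Idx F)
    (hg : g ∈ Subgroup.closure (upGens D F (D.simple i))) :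
    nGL D hD F (D.simple i) 1 * g * (nGL D hD F (D.simple i) 1)⁻¹ ∈ Subgroup.closure (upGens D F (D.simple i)) := by
  apply conj_mem_closure _ _ _ g hg
  rintro k ⟨s, t, hs, hsp, hk⟩
  have hk' : k = xGL D hD F s t := Units.ext hk
  obtain ⟨-, -, -, -, hs'⟩ := chkN2_spec D (chkN2_all D hD) i hi
  have hη : ((nEta D i s : ℤ) : F) * ((nEta D i s : ℤ) : F) = 1 := by
    rcases (hs' s hs.1).2.2.1 with h | h <;> rw [h] <;> simp
  obtain ⟨hpos, hne⟩ := chkPerm_all D hD i hi s hs hsp
  have := xGL_reflect D hD F i s hi hs.1 (((nEta D i s : ℤ) : F) * t)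
  rw [← mul_assoc, hη, one_mul] at this
  rw [hk', ← this]
  exact xGL_mem_up D hD F _ _ hpos hne _

include hD in
theorem nGL_inv_eq (i : ℕ) (hi : i < D.rank) :
    (nGL D hD F (D.simple i) 1)⁻¹ = hGL D hD F (D.simple i) (-1) * nGL D hD F (D.simple i) 1 := by
  have h1 := nGL_inv D hD F i hi
  have h2 := hGL_eq D hD F (D.simple i) (-1)
  rw [h1, h2, ← h1, mul_assoc, inv_mul_cancel, mul_one]

include hD in
theorem nGL_eq_hGL_mul (i : ℕ) (hi : i < D.rank) (t : F) :
    nGL D hD F (D.simple i) t = hGL D hD F (D.simple i) t * nGL D hD F (D.simple i) 1 := by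
  have h1 := nGL_inv D hD F i hi
  rw [hGL_eq D hD F (D.simple i) t, ← h1, mul_assoc, inv_mul_cancel, mul_one]

theorem nGL_def (r : ℕ) (t : F) :
    nGL D hD F r t = xGL D hD F r t * xGL D hD F (D.neg r) (-t⁻¹) * xGL D hD F r t := by
  apply Units.ext
  simp [nGL_coe, xGL_coe, ChevalleyDatum.nMat, ChevalleyDatum.wordMat, ChevalleyDatum.nWord, mul_assoc]

include hD in
/-- `x_{-p}(c) ∈ B ∪ B n_p B` -/
theorem xGL_neg_mem (i : ℕ) (hi : i < D.rank) (c : F) :
    xGL D hD F (D.neg (D.simple i)) c ∈ (D.borelSubgroup F : Set (GL D.Idx F)) ∪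
      DoubleCoset.doubleCoset (nGL D hD F (D.simple i) 1) (D.borelSubgroup F : Set (GL D.Idx F)) (D.borelSubgroup F) := by
  have hpos := isPosRoot_simple D hD i hi
  have hxB : ∀ t : F, xGL D hD F (D.simple i) t ∈ D.borelSubgroup F := fun t =>
    (le_sup_left : D.posUnipotent F ≤ D.borelSubgroup F)
      (Subgroup.subset_closure ⟨_, t, hpos, xGL_coe D hD F _ t⟩)
  by_cases hc : c = 0
  · left
    have : xGL D hD F (D.neg (D.simple i)) c = 1 := by
      apply Units.ext
      rw [xGL_coe, hc, x_zero D hD]; rfl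
    rw [this]
    exact (D.borelSubgroup F).one_mem
  · right
    rw [DoubleCoset.mem_doubleCoset]
    have ht : (-c⁻¹ : F) ≠ 0 := neg_ne_zero.2 (inv_ne_zero hc)
    have h1 := nGL_def D hD F (D.simple i) (-c⁻¹)
    have e : -(-c⁻¹)⁻¹ = c := by
      rw [inv_neg, inv_inv, neg_neg]
    rw [e] at h1
    have h2 : xGL D hD F (D.neg (D.simple i)) c =
        (xGL D hD F (D.simple i) (-c⁻¹))⁻¹ * nGL D hD F (D.simple i) (-c⁻¹) *
          (xGL D hD F (D.simple i) (-c⁻¹))⁻¹ := by
      rw [h1]; group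
    rw [nGL_eq_hGL_mul D hD F i hi] at h2
    refine ⟨(xGL D hD F (D.simple i) (-c⁻¹))⁻¹ * hGL D hD F (D.simple i) (-c⁻¹), ?_,
      (xGL D hD F (D.simple i) (-c⁻¹))⁻¹, ?_, ?_⟩
    · apply Subgroup.mul_mem _ (Subgroup.inv_mem _ (hxB _))
      exact (le_sup_right : D.diagonalSubgroup F ≤ D.borelSubgroup F) (hGL_mem_diag D hD F _ hpos.1 _ ht)
    · exact Subgroup.inv_mem _ (hxB _)
    · rw [h2]; group

include hD in
/-- `B ∪ B n_p B` is a subgroup, given `B = U H` setwise -/
theorem exists_subgroup_bnb (i : ℕ) (hi : i < D.rank)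
    (hB : ∀ b ∈ D.borelSubgroup F, ∃ u ∈ D.posUnipotent F, ∃ h ∈ D.diagonalSubgroup F, b = u * h)
    (n : GL D.Idx F) (hn : (n : Matrix D.Idx D.Idx F) = D.nMat F (D.simple i) 1) :
    ∃ P : Subgroup (GL D.Idx F), (P : Set (GL D.Idx F)) =
      (D.borelSubgroup F : Set (GL D.Idx F)) ∪
        DoubleCoset.doubleCoset n (D.borelSubgroup F : Set (GL D.Idx F)) (D.borelSubgroup F) := by
  have hn' : n = nGL D hD F (D.simple i) 1 := Units.ext (by rw [hn, nGL_coe])
  subst hn'
  have hpos := isPosRoot_simple D hD i hi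
  have hHB : D.diagonalSubgroup F ≤ D.borelSubgroup F := le_sup_right
  have hUB : D.posUnipotent F ≤ D.borelSubgroup F := le_sup_left
  apply exists_subgroup_union_doubleCoset
  · exact ⟨hGL D hD F (D.simple i) (-1),
      hHB (hGL_mem_diag D hD F _ hpos.1 _ (neg_ne_zero.2 one_ne_zero)), nGL_inv_eq D hD F i hi⟩
  · intro b hb
    obtain ⟨u, hu, h, hh, rfl⟩ := hB b hb
    -- decompose `u`
    have hup := up_main D hD F i hi (chkUp_all D hD i hi)
    rw [← hup.2] at hu
    obtain ⟨a, ha, x, hx, rfl⟩ := mem_sup_of_le_normalizer _ _ (le_trans le_sup_left hup.1) u hu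
    -- `x` is a root element
    have hx' : ∃ t : F, x = xGL D hD F (D.simple i) t := by
      unfold ChevalleyDatum.rootSubgroup at hx
      refine Subgroup.closure_induction (p := fun g _ => ∃ t : F, g = xGL D hD F (D.simple i) t) ?_ ?_ ?_ ?_ hx
      · rintro g ⟨t, hg⟩
        exact ⟨t, Units.ext hg⟩
      · exact ⟨0, Units.ext (by rw [xGL_coe, x_zero D hD]; rfl)⟩
      · rintro g1 g2 _ _ ⟨t1, rfl⟩ ⟨t2, rfl⟩
        exact ⟨t1 + t2, Units.ext (by rw [Units.val_mul, xGL_coe, xGL_coe, xGL_coe, x_add' D hD])⟩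
      · rintro g _ ⟨t, rfl⟩
        exact ⟨-t, xGL_inv D hD F _ t⟩
    obtain ⟨t, rfl⟩ := hx'
    set N := nGL D hD F (D.simple i) 1 with hN
    have e : N * (a * xGL D hD F (D.simple i) t * h) * N⁻¹ =
        (N * a * N⁻¹) * (N * xGL D hD F (D.simple i) t * N⁻¹) * (N * h * N⁻¹) := by group
    rw [e]
    have h1 : N * a * N⁻¹ ∈ D.borelSubgroup F := by
      apply hUB
      have := nGL_conj_up D hD F i hi a ha
      have hle : Subgroup.closure (upGens D F (D.simple i)) ≤ D.posUnipotent F := by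
        rw [← hup.2]; exact le_sup_left
      exact hle this
    have h3 : N * h * N⁻¹ ∈ D.borelSubgroup F := by
      apply hHB
      have hNn := monomial_le_normalizer D hD F (nGL_mem_mono D hD F _ hpos.1)
      rw [Subgroup.mem_set_normalizer_iff] at hNn
      exact (hNn h).1 hh
    have h2 : N * xGL D hD F (D.simple i) t * N⁻¹ ∈ (D.borelSubgroup F : Set (GL D.Idx F)) ∪
        DoubleCoset.doubleCoset N (D.borelSubgroup F : Set (GL D.Idx F)) (D.borelSubgroup F) := by
      obtain ⟨-, -, -, -, hs'⟩ := chkN2_spec D (chkN2_all D hD) i hi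
      have hη : ((nEta D i (D.simple i) : ℤ) : F) * ((nEta D i (D.simple i) : ℤ) : F) = 1 := by
        rcases (hs' _ hpos.1).2.2.1 with h | h <;> rw [h] <;> simp
      have hr := xGL_reflect D hD F i (D.simple i) hi hpos.1 (((nEta D i (D.simple i) : ℤ) : F) * t)
      rw [← mul_assoc, hη, one_mul] at hr
      have e2 : D.reflectRoot i (D.simple i) = D.neg (D.simple i) := by
        unfold ChevalleyDatum.reflectRoot
        simp
      rw [← hr, e2]
      exact xGL_neg_mem D hD F i hi _
    rcases h2 with h2 | h2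
    · left
      exact Subgroup.mul_mem _ (Subgroup.mul_mem _ h1 h2) h3
    · right
      rw [DoubleCoset.mem_doubleCoset] at h2 ⊢
      obtain ⟨c1, hc1, c2, hc2, hc⟩ := h2
      refine ⟨N * a * N⁻¹ * c1, Subgroup.mul_mem _ h1 hc1, c2 * (N * h * N⁻¹), Subgroup.mul_mem _ hc2 h3, ?_⟩
      rw [hc]; group

end

end Cfsg.Agent.Lib.Helper18
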