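import Cfsg.Agent.Lib.Helper18.ChevBnB
import Cfsg.Agent.Lib.Helper36.ChevBV

set_option autoImplicit false

namespace Cfsg.Agent.Lib.Helper18

open Cfsg Cfsg.Lie Cfsg.Agent.Lib.Helper36

/-- for a fundamental root `p`, `B ∪ B n_p B` is a subgroup -/
theorem exists_subgroup_bnb_all (D : ChevalleyDatum)
    (hD : D ∈ [chevG2, chevB2, chevD4, chevF4, chevE6, chevE7, chevE8]) (F : Type*) [Field F]
    (i : ℕ) (hi : i < D.rank) (n : GL D.Idx F) (hn : (n : Matrix D.Idx D.Idx F) = D.nMat F (D.simple i) 1) :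
    ∃ P : Subgroup (GL D.Idx F), (P : Set (GL D.Idx F)) =
      (D.borelSubgroup F : Set (GL D.Idx F)) ∪
        DoubleCoset.doubleCoset n (D.borelSubgroup F : Set (GL D.Idx F)) (D.borelSubgroup F) :=
  exists_subgroup_bnb D hD F i hi (fun b hb => by
    obtain ⟨u, hu, h, hh, e⟩ := (mem_borel_iff D hD F b).1 hb
    exact ⟨u, hu, h, hh, e.symm⟩) n hn

end Cfsg.Agent.Lib.Helper18
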