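import Cfsg.Agent.Lib.Helper18.ChevSplit
import Cfsg.Agent.Lib.Helper18.ChevNWord
import Cfsg.Agent.Lib.Helper36.ChevBV
import Cfsg.Agent.S0308
import Cfsg.Agent.S0309

/-! # The Bruhat normal form `g = b n u`, `u ∈ U_n⁻` (helper18)

From a (B,N)-pair on the Chevalley group with `B = UH`, `N` the monomial subgroup (helper36's S1042), the general
Bruhat decomposition (helper6's S0308, S0309), `U = U_w⁺ U_w⁻` (`ChevSplit`) and `B ∩ V = 1`, `B ∩ N = H`. -/

set_option autoImplicit false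

namespace Cfsg.Agent.Lib.Helper18

open Cfsg Cfsg.Lie Cfsg.Agent.Lib.Helper36

section
variable (D : ChevalleyDatum) (hD : D ∈ [chevG2, chevB2, chevD4, chevF4, chevE6, chevE7, chevE8])
variable (F : Type*) [Field F]

/-- generators of `U_n⁻` -/
def uMinusGens (n : GL D.Idx F) : Set (GL D.Idx F) :=
  {x : GL D.Idx F | ∃ (r : ℕ) (t : F), D.IsPosRoot r ∧
    (D.rootSubgroup F r).map (MulAut.conj n).toMonoidHom ≤ D.negUnipotent F ∧ (x : Matrix D.Idx D.Idx F) = D.x F r t}

theorem uMinus_le_pos (n : GL D.Idx F) : Subgroup.closure (uMinusGens D F n) ≤ D.posUnipotent F := by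
  unfold ChevalleyDatum.posUnipotent
  apply Subgroup.closure_mono
  rintro x ⟨r, t, hr, -, hx⟩
  exact ⟨r, t, hr, hx⟩

theorem conj_uMinus_le_neg (n : GL D.Idx F) (u : GL D.Idx F) (hu : u ∈ Subgroup.closure (uMinusGens D F n)) :
    n * u * n⁻¹ ∈ D.negUnipotent F := by
  have h1 : (Subgroup.closure (uMinusGens D F n)).map (MulAut.conj n).toMonoidHom ≤ D.negUnipotent F := by
    rw [MonoidHom.map_closure, Subgroup.closure_le]
    rintro _ ⟨x, ⟨r, t, -, hle, hx⟩, rfl⟩
    apply hle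
    apply Subgroup.mem_map_of_mem
    unfold ChevalleyDatum.rootSubgroup
    exact Subgroup.subset_closure ⟨t, hx⟩
  exact h1 (Subgroup.mem_map_of_mem _ hu)

include hD in
/-- existence of the normal form -/
theorem bruhat_exists (P : Cfsg.BNPair ↥(D.group F))
    (hB : P.B = (D.borelSubgroup F).subgroupOf (D.group F))
    (hN : P.N = (D.monomialSubgroup F).subgroupOf (D.group F))
    (g : GL D.Idx F) (hg : g ∈ D.group F) :
    ∃ b ∈ D.borelSubgroup F, ∃ n ∈ D.monomialSubgroup F,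
      ∃ u ∈ Subgroup.closure (uMinusGens D F n), g = b * n * u := by
  obtain ⟨n', hn', hmem⟩ := Cfsg.Agent.S0308.result P ⟨g, hg⟩
  rw [DoubleCoset.mem_doubleCoset] at hmem
  obtain ⟨x, hx, y, hy, hxy⟩ := hmem
  rw [SetLike.mem_coe, hB, Subgroup.mem_subgroupOf] at hx hy
  rw [hN, Subgroup.mem_subgroupOf] at hn'
  have hg' : g = (x : GL D.Idx F) * (n' : GL D.Idx F) * (y : GL D.Idx F) := by
    have := congrArg Subtype.val hxy
    simpa using this
  set n : GL D.Idx F := (n' : GL D.Idx F) with hn_def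
  -- y = h1⁻¹ u1⁻¹
  obtain ⟨u1, hu1, h1, hh1, hy'⟩ := (mem_borel_iff D hD F _).1 (inv_mem hy)
  have hy'' : (y : GL D.Idx F) = h1⁻¹ * u1⁻¹ := by
    rw [← mul_inv_rev, hy', inv_inv]
  obtain ⟨l, hl, hconj⟩ := exists_word_conj D hD F n hn'
  obtain ⟨a, ha, b, hb, hab⟩ := split_wRoot D hD F l hl u1⁻¹ (inv_mem hu1)
  have hHB : D.diagonalSubgroup F ≤ D.borelSubgroup F := by
    unfold ChevalleyDatum.borelSubgroup; exact le_sup_right
  have hUB : D.posUnipotent F ≤ D.borelSubgroup F := by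
    unfold ChevalleyDatum.borelSubgroup; exact le_sup_left
  -- n h1⁻¹ n⁻¹ ∈ H
  have hnh : n * h1⁻¹ * n⁻¹ ∈ D.diagonalSubgroup F := by
    have h2 := monomial_le_normalizer D hD F hn'
    rw [Subgroup.mem_set_normalizer_iff] at h2
    exact (h2 h1⁻¹).1 (inv_mem hh1)
  -- n a n⁻¹ ∈ U
  have hna : n * a * n⁻¹ ∈ D.posUnipotent F := by
    have h3 : (Subgroup.closure {x : GL D.Idx F | ∃ (s : ℕ) (t : F), D.IsPosRoot s ∧ D.IsPosRoot (wRoot D l s) ∧
        (x : Matrix D.Idx D.Idx F) = D.x F s t}).map (MulAut.conj n).toMonoidHom ≤ D.posUnipotent F := by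
      rw [MonoidHom.map_closure, Subgroup.closure_le]
      rintro _ ⟨x, ⟨s, t, hs, hws, hx⟩, rfl⟩
      have hx' : x = xGL D hD F s t := Units.ext hx
      obtain ⟨c, -, hc⟩ := hconj s hs.1
      show n * x * n⁻¹ ∈ D.posUnipotent F
      rw [hx', hc t]
      unfold ChevalleyDatum.posUnipotent
      exact Subgroup.subset_closure ⟨_, _, hws, rfl⟩
    exact h3 (Subgroup.mem_map_of_mem _ ha)
  -- b ∈ U_n⁻
  have hbm : b ∈ Subgroup.closure (uMinusGens D F n) := by
    refine Subgroup.closure_mono ?_ hb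
    rintro x ⟨s, t, hs, hws, hx⟩
    refine ⟨s, t, hs, ?_, hx⟩
    unfold ChevalleyDatum.rootSubgroup
    rw [MonoidHom.map_closure, Subgroup.closure_le]
    rintro _ ⟨z, ⟨t', hz⟩, rfl⟩
    have hz' : z = xGL D hD F s t' := Units.ext hz
    obtain ⟨c, -, hc⟩ := hconj s hs.1
    show n * z * n⁻¹ ∈ D.negUnipotent F
    rw [hz', hc t']
    unfold ChevalleyDatum.negUnipotent
    exact Subgroup.subset_closure ⟨_, _, hws, rfl⟩
  refine ⟨(x : GL D.Idx F) * (n * h1⁻¹ * n⁻¹) * (n * a * n⁻¹), ?_, n, hn', b, hbm, ?_⟩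
  · exact mul_mem (mul_mem hx (hHB hnh)) (hUB hna)
  · rw [hg', hy'', hab]
    group

include hD in
/-- uniqueness of the normal form -/
theorem bruhat_unique (P : Cfsg.BNPair ↥(D.group F))
    (hB : P.B = (D.borelSubgroup F).subgroupOf (D.group F))
    (hN : P.N = (D.monomialSubgroup F).subgroupOf (D.group F))
    (b b' n n' u u' : GL D.Idx F) (hb : b ∈ D.borelSubgroup F) (hb' : b' ∈ D.borelSubgroup F)
    (hn : n ∈ D.monomialSubgroup F) (hn' : n' ∈ D.monomialSubgroup F)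
    (hu : u ∈ Subgroup.closure (uMinusGens D F n)) (hu' : u' ∈ Subgroup.closure (uMinusGens D F n'))
    (h : b * n * u = b' * n' * u') :
    n⁻¹ * n' ∈ D.diagonalSubgroup F ∧ (n = n' → b = b' ∧ u = u') := by
  have hUB : D.posUnipotent F ≤ D.borelSubgroup F := by
    unfold ChevalleyDatum.borelSubgroup; exact le_sup_left
  have huB : u ∈ D.borelSubgroup F := hUB (uMinus_le_pos D F n hu)
  have huB' : u' ∈ D.borelSubgroup F := hUB (uMinus_le_pos D F n' hu')
  have hBG := borel_le_group D hD F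
  have hNG := monomial_le_group D hD F
  constructor
  · -- the double cosets of n and n' coincide
    let nG : ↥(D.group F) := ⟨n, hNG hn⟩
    let nG' : ↥(D.group F) := ⟨n', hNG hn'⟩
    let gG : ↥(D.group F) := ⟨b * n * u, mul_mem (mul_mem (hBG hb) (hNG hn)) (hBG huB)⟩
    have hnP : nG ∈ P.N := by rw [hN, Subgroup.mem_subgroupOf]; exact hn
    have hnP' : nG' ∈ P.N := by rw [hN, Subgroup.mem_subgroupOf]; exact hn'
    have m1 : gG ∈ DoubleCoset.doubleCoset nG (P.B : Set ↥(D.group F)) P.B := by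
      rw [DoubleCoset.mem_doubleCoset]
      refine ⟨⟨b, hBG hb⟩, ?_, ⟨u, hBG huB⟩, ?_, rfl⟩
      · rw [SetLike.mem_coe, hB, Subgroup.mem_subgroupOf]; exact hb
      · rw [SetLike.mem_coe, hB, Subgroup.mem_subgroupOf]; exact huB
    have m2 : gG ∈ DoubleCoset.doubleCoset nG' (P.B : Set ↥(D.group F)) P.B := by
      rw [DoubleCoset.mem_doubleCoset]
      refine ⟨⟨b', hBG hb'⟩, ?_, ⟨u', hBG huB'⟩, ?_, ?_⟩
      · rw [SetLike.mem_coe, hB, Subgroup.mem_subgroupOf]; exact hb'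
      · rw [SetLike.mem_coe, hB, Subgroup.mem_subgroupOf]; exact huB'
      · apply Subtype.ext
        exact h
    have e : DoubleCoset.doubleCoset nG (P.B : Set ↥(D.group F)) P.B =
        DoubleCoset.doubleCoset nG' (P.B : Set ↥(D.group F)) P.B := by
      rw [← DoubleCoset.doubleCoset_eq_of_mem m1, ← DoubleCoset.doubleCoset_eq_of_mem m2]
    have h1 := (Cfsg.Agent.S0309.result P hnP hnP').1 e
    rw [hB, Subgroup.mem_subgroupOf] at h1
    have h2 : n⁻¹ * n' ∈ D.borelSubgroup F := h1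
    have h3 : n⁻¹ * n' ∈ D.monomialSubgroup F := mul_mem (inv_mem hn) hn'
    rw [← borel_inf_monomial D hD F]
    exact ⟨h2, h3⟩
  · intro e
    subst e
    have h1 : b'⁻¹ * b = n * (u' * u⁻¹) * n⁻¹ := by
      have : b = b' * n * u' * u⁻¹ * n⁻¹ := by
        rw [← h]; group
      rw [this]; group
    have h2 : n * (u' * u⁻¹) * n⁻¹ ∈ D.negUnipotent F :=
      conj_uMinus_le_neg D F n (u' * u⁻¹) (Subgroup.mul_mem _ hu' (Subgroup.inv_mem _ hu))
    have h3 : b'⁻¹ * b ∈ D.borelSubgroup F ⊓ D.negUnipotent F :=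
      Subgroup.mem_inf.2 ⟨Subgroup.mul_mem _ (Subgroup.inv_mem _ hb') hb, by rw [h1]; exact h2⟩
    rw [borel_inf_neg D hD F, Subgroup.mem_bot] at h3
    have hbb : b = b' := by
      have := inv_mul_eq_one.1 h3
      exact this.symm
    refine ⟨hbb, ?_⟩
    rw [hbb] at h
    exact mul_left_cancel h

end

end Cfsg.Agent.Lib.Helper18
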