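import Cfsg.Agent.Lib.Helper18.ChevBruhat

/-! # The Bruhat cells: `B n B = B n U_w⁻` with uniqueness, `|U_w⁻| = q^{N(w)}`, `|B n B| = |B| q^{N(w)}` (helper18) -/

set_option autoImplicit false

namespace Cfsg.Agent.Lib.Helper18

open Cfsg Cfsg.Lie Cfsg.Agent.Lib.Helper36

section
variable (D : ChevalleyDatum) (hD : D ∈ [chevG2, chevB2, chevD4, chevF4, chevE6, chevE7, chevE8])
variable (F : Type*) [Field F] (l : List ℕ)

/-- the key putting the roots made negative by the word `l` after all the others -/
def keyW (r : ℕ) : ℕ := if D.IsNegRoot (wRoot D l r) then r + D.nroots else r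

/-- the positive roots made negative by the word `l`, in increasing order -/
def negList : List ℕ := D.posRoots.filter fun s => decide (D.IsNegRoot (wRoot D l s))

/-- `N(w)`: the number of positive roots made negative by the word `l` -/
def cellExp : ℕ := (negList D l).length

include hD in
theorem keyOK_keyW (hl : ∀ i ∈ l, i < D.rank) : KeyOK D (keyW D l) := by
  constructor
  · intro r s hr hs h
    simp only [keyW] at h
    have := hr.1
    have := hs.1
    split_ifs at h <;> omega
  · intro r s hr hs h c hc
    have hrs : r ≠ s := by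
      intro e; rw [e] at h; exact lt_irrefl _ h
    obtain ⟨hcp, hcr⟩ := commTerms_pos D hD r s hr hs c hc
    refine ⟨hcp, ?_⟩
    simp only [keyW] at h ⊢
    by_cases hBr : D.IsNegRoot (wRoot D l r)
    · rw [if_pos hBr] at h ⊢
      have hBs : D.IsNegRoot (wRoot D l s) := by
        by_contra hBs
        rw [if_neg hBs] at h
        have := hs.1
        omega
      have hsn : s ≠ D.neg r := by
        intro e
        rw [e] at hs
        exact (chkOrd_spec D (chkOrd_all D hD) r hr).1 hs
      have hmap := commTerms_wRoot D hD l hl r s hr.1 hs.1 (Ne.symm hrs) hsn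
      have hmem : wRoot D l c.1 ∈ (D.commTerms (wRoot D l r) (wRoot D l s)).map (fun c => c.1) := by
        rw [hmap]
        exact List.mem_map.2 ⟨c, hc, rfl⟩
      obtain ⟨c', hc', hc'e⟩ := List.mem_map.1 hmem
      have hBc : D.IsNegRoot (wRoot D l c.1) := by
        rw [← hc'e]
        exact commTerms_neg D hD _ _ hBr hBs c' hc'
      rw [if_pos hBc]
      omega
    · rw [if_neg hBr] at h ⊢
      split_ifs <;> omega

/-- generators of `U_w⁻` in terms of the word -/
def sGens : Set (GL D.Idx F) :=
  {x : GL D.Idx F | ∃ (s : ℕ) (t : F), D.IsPosRoot s ∧ D.IsNegRoot (wRoot D l s) ∧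
    (x : Matrix D.Idx D.Idx F) = D.x F s t}

theorem keyGens_keyW (m : ℕ) (hm : m ≤ D.nroots) :
    keyGens D F (keyW D l) (D.nroots + m) =
      {x : GL D.Idx F | ∃ (s : ℕ) (t : F), D.IsPosRoot s ∧ D.IsNegRoot (wRoot D l s) ∧ m ≤ s ∧
        (x : Matrix D.Idx D.Idx F) = D.x F s t} := by
  ext x
  constructor
  · rintro ⟨s, t, hs, hge, hx⟩
    simp only [keyW] at hge
    have := hs.1
    by_cases hB : D.IsNegRoot (wRoot D l s)
    · rw [if_pos hB] at hge
      exact ⟨s, t, hs, hB, by omega, hx⟩
    · rw [if_neg hB] at hge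
      omega
  · rintro ⟨s, t, hs, hB, hge, hx⟩
    refine ⟨s, t, hs, ?_, hx⟩
    simp only [keyW]
    rw [if_pos hB]
    omega

theorem keyGens_keyW_zero : keyGens D F (keyW D l) D.nroots = sGens D F l := by
  have := keyGens_keyW D F l 0 (Nat.zero_le _)
  rw [add_zero] at this
  rw [this]
  ext x
  constructor
  · rintro ⟨s, t, hs, hB, -, hx⟩; exact ⟨s, t, hs, hB, hx⟩
  · rintro ⟨s, t, hs, hB, hx⟩; exact ⟨s, t, hs, hB, Nat.zero_le _, hx⟩

/-- the ordered word over the roots of `[m, m + k)` that are positive and made negative by `l` -/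
def sWord (t : ℕ → F) (m k : ℕ) : List (ℕ × F) :=
  ((List.range' m k).filter fun r => decide (D.IsPosRoot r ∧ D.IsNegRoot (wRoot D l r))).map fun r => (r, t r)

theorem sWord_succ_pos (t : ℕ → F) (m k : ℕ) (hm : D.IsPosRoot m ∧ D.IsNegRoot (wRoot D l m)) :
    sWord D F l t m (k + 1) = (m, t m) :: sWord D F l t (m + 1) k := by
  unfold sWord
  rw [List.range'_succ, List.filter_cons_of_pos (by simpa using hm), List.map_cons]

theorem sWord_succ_neg (t : ℕ → F) (m k : ℕ) (hm : ¬ (D.IsPosRoot m ∧ D.IsNegRoot (wRoot D l m))) :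
    sWord D F l t m (k + 1) = sWord D F l t (m + 1) k := by
  unfold sWord
  rw [List.range'_succ, List.filter_cons_of_neg (by simpa using hm)]

theorem sWord_congr (t t' : ℕ → F) (m k : ℕ) (h : ∀ r, m ≤ r → t r = t' r) :
    sWord D F l t m k = sWord D F l t' m k := by
  unfold sWord
  apply List.map_congr_left
  intro r hr
  rw [List.mem_filter] at hr
  have h1 := (List.mem_range'_1.1 hr.1).1
  rw [h r h1]

include hD in
/-- every element of `U_w⁻` is an ordered product over the roots made negative -/
theorem s_exists (hl : ∀ i ∈ l, i < D.rank) : ∀ (k m : ℕ), m + k = D.nroots →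
    ∀ g ∈ Subgroup.closure (keyGens D F (keyW D l) (D.nroots + m)), ∃ t : ℕ → F,
      (g : Matrix D.Idx D.Idx F) = D.wordMat F (sWord D F l t m k)
  | 0, m, hmk, g, hg => by
    have hempty : keyGens D F (keyW D l) (D.nroots + m) = ∅ := by
      rw [keyGens_keyW D F l m (by omega)]
      ext x
      constructor
      · rintro ⟨s, t, hs, -, hge, -⟩
        have := hs.1
        omega
      · intro h; exact absurd h (Set.notMem_empty _)
    rw [hempty, Subgroup.closure_empty, Subgroup.mem_bot] at hg
    refine ⟨fun _ => 0, ?_⟩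
    rw [hg]
    unfold sWord
    simp [wordMat_nil]
  | k + 1, m, hmk, g, hg => by
    by_cases hm : D.IsPosRoot m ∧ D.IsNegRoot (wRoot D l m)
    · have hkm : keyW D l m = D.nroots + m := by
        simp only [keyW]; rw [if_pos hm.2]; omega
      rw [← hkm] at hg
      obtain ⟨a, b, hb, rfl⟩ := key_decomp D hD F (keyW D l) (keyOK_keyW D hD l hl) m hm.1 g hg
      rw [hkm, add_assoc] at hb
      obtain ⟨t', ht'⟩ := s_exists hl k (m + 1) (by omega) b hb
      refine ⟨Function.update t' m a, ?_⟩
      rw [sWord_succ_pos D F l _ m k hm, wordMat_cons, Units.val_mul, xGL_coe, ht']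
      simp only [Function.update_self]
      congr 2
      apply sWord_congr
      intro r hr
      rw [Function.update_of_ne (by omega)]
    · have hset : keyGens D F (keyW D l) (D.nroots + m) = keyGens D F (keyW D l) (D.nroots + (m + 1)) := by
        rw [keyGens_keyW D F l m (by omega), keyGens_keyW D F l (m + 1) (by omega)]
        ext x
        constructor
        · rintro ⟨s, t, hs, hB, hge, hx⟩
          refine ⟨s, t, hs, hB, ?_, hx⟩
          rcases Nat.lt_or_ge m s with h1 | h1
          · exact h1
          · have : s = m := le_antisymm h1 hge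
            rw [this] at hs hB
            exact absurd ⟨hs, hB⟩ hm
        · rintro ⟨s, t, hs, hB, hge, hx⟩
          exact ⟨s, t, hs, hB, by omega, hx⟩
      rw [hset] at hg
      obtain ⟨t', ht'⟩ := s_exists hl k (m + 1) (by omega) g hg
      exact ⟨t', by rw [sWord_succ_neg D F l _ m k hm, ht']⟩

include hD in
/-- dropping the letters with parameter zero -/
theorem wordMat_filter (p : ℕ → Prop) [DecidablePred p] (t : ℕ → F) (L : List ℕ) :
    D.wordMat F (L.map fun r => (r, if p r then t r else 0)) =
      D.wordMat F ((L.filter fun r => decide (p r)).map fun r => (r, t r)) := by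
  induction L with
  | nil => rfl
  | cons a L ih =>
    by_cases ha : p a
    · rw [List.filter_cons_of_pos (by simpa using ha), List.map_cons, List.map_cons, wordMat_cons, wordMat_cons, ih]
      simp [ha]
    · rw [List.filter_cons_of_neg (by simpa using ha), List.map_cons, wordMat_cons, ih]
      simp only [ha, if_false]
      rw [x_zero D hD, one_mul]

theorem sWord_zero (t : ℕ → F) :
    sWord D F l t 0 D.nroots = (D.posRoots.filter fun r => decide (D.IsNegRoot (wRoot D l r))).map fun r => (r, t r) := by
  unfold sWord ChevalleyDatum.posRoots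
  rw [List.range_eq_range', List.filter_filter]
  congr 1
  apply List.filter_congr
  intro r _
  rw [Bool.decide_and, Bool.and_comm]

include hD in
/-- every element of `U_w⁻` is an ordered product over all positive roots with parameters vanishing off the roots
made negative -/
theorem s_exists' (hl : ∀ i ∈ l, i < D.rank) (g : GL D.Idx F) (hg : g ∈ Subgroup.closure (sGens D F l)) :
    ∃ t : ℕ → F, (∀ r, ¬ D.IsNegRoot (wRoot D l r) → t r = 0) ∧
      (g : Matrix D.Idx D.Idx F) = D.wordMat F (D.posRoots.map fun r => (r, t r)) := by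
  rw [← keyGens_keyW_zero] at hg
  obtain ⟨t, ht⟩ := s_exists D hD F l hl D.nroots 0 (by omega) g hg
  classical
  refine ⟨fun r => if D.IsNegRoot (wRoot D l r) then t r else 0, fun r hr => by simp [hr], ?_⟩
  rw [ht, sWord_zero, wordMat_filter D hD F (fun r => D.IsNegRoot (wRoot D l r)) t D.posRoots]

include hD in
/-- ordered products with parameters vanishing off the roots made negative lie in `U_w⁻` -/
theorem s_word_mem (t : ℕ → F) (ht : ∀ r, ¬ D.IsNegRoot (wRoot D l r) → t r = 0) :
    wordGL D hD F (D.posRoots.map fun r => (r, t r)) ∈ Subgroup.closure (sGens D F l) := by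
  apply wordGL_mem
  intro p hp
  obtain ⟨r, hr, rfl⟩ := List.mem_map.1 hp
  have hpos := (mem_posRoots D r).1 hr
  by_cases hB : D.IsNegRoot (wRoot D l r)
  · exact Subgroup.subset_closure ⟨r, t r, hpos, hB, rfl⟩
  · simp only [ht r hB]
    rw [xGL_zero]
    exact one_mem _

include hD in
/-- `|U_w⁻| = q^{N(w)}` -/
theorem card_sGens [Fintype F] (hl : ∀ i ∈ l, i < D.rank) :
    Nat.card (Subgroup.closure (sGens D F l)) = Fintype.card F ^ cellExp D l := by
  classical
  let S : Finset ℕ := (negList D l).toFinset
  have hS : ∀ r, r ∈ S ↔ D.IsPosRoot r ∧ D.IsNegRoot (wRoot D l r) := fun r => by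
    simp only [S, negList, List.mem_toFinset, List.mem_filter, decide_eq_true_eq]
    rw [mem_posRoots]
  let ext : (S → F) → ℕ → F := fun f r => if h : r ∈ S then f ⟨r, h⟩ else 0
  have hext0 : ∀ f r, ¬ D.IsNegRoot (wRoot D l r) → ext f r = 0 := by
    intro f r hr
    have : r ∉ S := fun h => hr ((hS r).1 h).2
    simp [ext, this]
  let Φ : (S → F) → Subgroup.closure (sGens D F l) := fun f =>
    ⟨wordGL D hD F (D.posRoots.map fun r => (r, ext f r)), s_word_mem D hD F l _ (hext0 f)⟩
  have hinj : Function.Injective Φ := by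
    intro f f' h
    have h1 : wordGL D hD F (D.posRoots.map fun r => (r, ext f r)) =
        wordGL D hD F (D.posRoots.map fun r => (r, ext f' r)) := congrArg Subtype.val h
    have h2 : D.wordMat F (D.posRoots.map fun r => (r, ext f r)) =
        D.wordMat F (D.posRoots.map fun r => (r, ext f' r)) := by
      rw [← wordGL_coe D hD, ← wordGL_coe D hD, h1]
    funext ⟨r, hr⟩
    have := pos_unique D hD F _ _ h2 r ((hS r).1 hr).1
    simpa [ext, hr] using this
  have hsurj : Function.Surjective Φ := by
    rintro ⟨g, hg⟩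
    obtain ⟨t, ht0, ht⟩ := s_exists' D hD F l hl g hg
    refine ⟨fun p => t p.1, ?_⟩
    apply Subtype.ext
    apply Units.ext
    show ((wordGL D hD F (D.posRoots.map fun r => (r, ext (fun p => t p.1) r)) : GL D.Idx F) :
      Matrix D.Idx D.Idx F) = (g : Matrix D.Idx D.Idx F)
    rw [wordGL_coe, ht]
    congr 1
    apply List.map_congr_left
    intro r hr
    have hpos := (mem_posRoots D r).1 hr
    by_cases hrS : r ∈ S
    · simp [ext, hrS]
    · have hB : ¬ D.IsNegRoot (wRoot D l r) := fun h => hrS ((hS r).2 ⟨hpos, h⟩)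
      simp only [ext, hrS, dite_false]
      rw [ht0 r hB]
  have hcard : Nat.card (Subgroup.closure (sGens D F l)) = Nat.card (S → F) :=
    (Nat.card_congr (Equiv.ofBijective Φ ⟨hinj, hsurj⟩)).symm
  rw [hcard, Nat.card_eq_fintype_card, Fintype.card_fun, Fintype.card_coe]
  congr 1
  show (negList D l).toFinset.card = cellExp D l
  rw [List.toFinset_card_of_nodup]
  · rfl
  · unfold negList ChevalleyDatum.posRoots
    exact List.Nodup.filter _ (List.Nodup.filter _ List.nodup_range)

end

end Cfsg.Agent.Lib.Helper18
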