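import Cfsg.Agent.Lib.Helper18.ChevCell

/-! # `|B n B| = |B| q^{N(w)}` (helper18) -/

set_option autoImplicit false

namespace Cfsg.Agent.Lib.Helper18

open Cfsg Cfsg.Lie Cfsg.Agent.Lib.Helper36

section
variable (D : ChevalleyDatum) (hD : D ∈ [chevG2, chevB2, chevD4, chevF4, chevE6, chevE7, chevE8])
variable (F : Type*) [Field F] (l : List ℕ)

/-- `n` acts on the root subgroups through the word `l` -/
def ActsBy (n : GL D.Idx F) : Prop :=
  ∀ r < D.nroots, ∃ c : F, c ≠ 0 ∧ ∀ t : F, n * xGL D hD F r t * n⁻¹ = xGL D hD F (wRoot D l r) (c * t)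

include hD in
theorem actsBy_nWordGL (hl : ∀ i ∈ l, i < D.rank) : ActsBy D hD F l (nWordGL D hD F l) := by
  intro r hr
  obtain ⟨ε, hε, hc⟩ := nWordGL_conj D hD F l hl r hr
  refine ⟨ε, ?_, hc⟩
  intro e; rw [e] at hε; simp at hε

include hD in
theorem conj_sGens_le_neg (n : GL D.Idx F) (hn : ActsBy D hD F l n) :
    (Subgroup.closure (sGens D F l)).map (MulAut.conj n).toMonoidHom ≤ D.negUnipotent F := by
  rw [MonoidHom.map_closure, Subgroup.closure_le]
  rintro _ ⟨z, ⟨s, t, hs, hws, hz⟩, rfl⟩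
  have hz' : z = xGL D hD F s t := Units.ext hz
  obtain ⟨c, -, hc⟩ := hn s hs.1
  show n * z * n⁻¹ ∈ D.negUnipotent F
  rw [hz', hc t]
  unfold ChevalleyDatum.negUnipotent
  exact Subgroup.subset_closure ⟨_, _, hws, rfl⟩

include hD in
/-- the generators of `U_n⁻` are the root elements of the positive roots made negative -/
theorem uMinusGens_eq (hl : ∀ i ∈ l, i < D.rank) (n : GL D.Idx F) (hn : ActsBy D hD F l n) :
    uMinusGens D F n = sGens D F l := by
  ext x
  constructor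
  · rintro ⟨r, t, hr, hle, hx⟩
    refine ⟨r, t, hr, ?_, hx⟩
    rcases pos_or_neg D hD _ (wRoot_lt D hD l hl r hr.1) with hp | hp
    · exfalso
      obtain ⟨c, hc0, hc⟩ := hn r hr.1
      have h1 : n * xGL D hD F r 1 * n⁻¹ ∈ D.negUnipotent F := by
        apply hle
        apply Subgroup.mem_map_of_mem
        unfold ChevalleyDatum.rootSubgroup
        exact Subgroup.subset_closure ⟨1, rfl⟩
      rw [hc 1, mul_one] at h1
      have h2 : xGL D hD F (wRoot D l r) c ∈ D.borelSubgroup F := by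
        unfold ChevalleyDatum.borelSubgroup
        apply Subgroup.mem_sup_left
        unfold ChevalleyDatum.posUnipotent
        exact Subgroup.subset_closure ⟨_, _, hp, rfl⟩
      have h3 : xGL D hD F (wRoot D l r) c ∈ D.borelSubgroup F ⊓ D.negUnipotent F := Subgroup.mem_inf.2 ⟨h2, h1⟩
      rw [borel_inf_neg D hD F, Subgroup.mem_bot] at h3
      have h4 : D.x F (wRoot D l r) c = 1 := by
        rw [← xGL_coe D hD F, h3]
        rfl
      exact hc0 (x_eq_one_iff D hD F _ hp.1 c h4)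
    · exact hp
  · rintro ⟨s, t, hs, hws, hx⟩
    refine ⟨s, t, hs, ?_, hx⟩
    refine le_trans (Subgroup.map_mono ?_) (conj_sGens_le_neg D hD F l n hn)
    unfold ChevalleyDatum.rootSubgroup
    apply Subgroup.closure_mono
    rintro z ⟨t', hz⟩
    exact ⟨s, t', hs, hws, hz⟩

include hD in
/-- `B n B = B n U_w⁻` -/
theorem cell_form (hl : ∀ i ∈ l, i < D.rank) (n : GL D.Idx F) (hnN : n ∈ D.monomialSubgroup F)
    (hn : ActsBy D hD F l n) (x y : GL D.Idx F) (hx : x ∈ D.borelSubgroup F) (hy : y ∈ D.borelSubgroup F) :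
    ∃ b ∈ D.borelSubgroup F, ∃ u ∈ Subgroup.closure (sGens D F l), x * n * y = b * n * u := by
  obtain ⟨u1, hu1, h1, hh1, hy'⟩ := (mem_borel_iff D hD F _).1 (inv_mem hy)
  have hy'' : y = h1⁻¹ * u1⁻¹ := by
    rw [← mul_inv_rev, hy', inv_inv]
  obtain ⟨a, ha, b, hb, hab⟩ := split_wRoot D hD F l hl u1⁻¹ (inv_mem hu1)
  have hHB : D.diagonalSubgroup F ≤ D.borelSubgroup F := by
    unfold ChevalleyDatum.borelSubgroup; exact le_sup_right
  have hUB : D.posUnipotent F ≤ D.borelSubgroup F := by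
    unfold ChevalleyDatum.borelSubgroup; exact le_sup_left
  have hnh : n * h1⁻¹ * n⁻¹ ∈ D.diagonalSubgroup F := by
    have h2 := monomial_le_normalizer D hD F hnN
    rw [Subgroup.mem_set_normalizer_iff] at h2
    exact (h2 h1⁻¹).1 (inv_mem hh1)
  have hna : n * a * n⁻¹ ∈ D.posUnipotent F := by
    have h3 : (Subgroup.closure {x : GL D.Idx F | ∃ (s : ℕ) (t : F), D.IsPosRoot s ∧ D.IsPosRoot (wRoot D l s) ∧
        (x : Matrix D.Idx D.Idx F) = D.x F s t}).map (MulAut.conj n).toMonoidHom ≤ D.posUnipotent F := by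
      rw [MonoidHom.map_closure, Subgroup.closure_le]
      rintro _ ⟨z, ⟨s, t, hs, hws, hz⟩, rfl⟩
      have hz' : z = xGL D hD F s t := Units.ext hz
      obtain ⟨c, -, hc⟩ := hn s hs.1
      show n * z * n⁻¹ ∈ D.posUnipotent F
      rw [hz', hc t]
      unfold ChevalleyDatum.posUnipotent
      exact Subgroup.subset_closure ⟨_, _, hws, rfl⟩
    exact h3 (Subgroup.mem_map_of_mem _ ha)
  refine ⟨x * (n * h1⁻¹ * n⁻¹) * (n * a * n⁻¹), ?_, b, hb, ?_⟩
  · exact mul_mem (mul_mem hx (hHB hnh)) (hUB hna)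
  · rw [hy'', hab]
    group

include hD in
/-- uniqueness of `b`, `u` in `b n u` -/
theorem cell_unique (n : GL D.Idx F) (hn : ActsBy D hD F l n) (b b' u u' : GL D.Idx F)
    (hb : b ∈ D.borelSubgroup F) (hb' : b' ∈ D.borelSubgroup F)
    (hu : u ∈ Subgroup.closure (sGens D F l)) (hu' : u' ∈ Subgroup.closure (sGens D F l))
    (h : b * n * u = b' * n * u') : b = b' ∧ u = u' := by
  have h1 : b'⁻¹ * b = n * (u' * u⁻¹) * n⁻¹ := by
    have : b = b' * n * u' * u⁻¹ * n⁻¹ := by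
      rw [← h]; group
    rw [this]; group
  have h2 : n * (u' * u⁻¹) * n⁻¹ ∈ D.negUnipotent F :=
    conj_sGens_le_neg D hD F l n hn
      (Subgroup.mem_map_of_mem _ (Subgroup.mul_mem _ hu' (Subgroup.inv_mem _ hu)))
  have h3 : b'⁻¹ * b ∈ D.borelSubgroup F ⊓ D.negUnipotent F :=
    Subgroup.mem_inf.2 ⟨Subgroup.mul_mem _ (Subgroup.inv_mem _ hb') hb, by rw [h1]; exact h2⟩
  rw [borel_inf_neg D hD F, Subgroup.mem_bot] at h3
  have hbb : b = b' := (inv_mul_eq_one.1 h3).symm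
  refine ⟨hbb, ?_⟩
  rw [hbb] at h
  exact mul_left_cancel h

include hD in
/-- `|B n B| = |B| q^{N(w)}` -/
theorem card_cell [Fintype F] (hl : ∀ i ∈ l, i < D.rank) (n : GL D.Idx F) (hnN : n ∈ D.monomialSubgroup F)
    (hn : ActsBy D hD F l n) :
    Nat.card (DoubleCoset.doubleCoset n (D.borelSubgroup F : Set (GL D.Idx F)) (D.borelSubgroup F)) =
      Nat.card (D.borelSubgroup F) * Fintype.card F ^ cellExp D l := by
  have hUB : D.posUnipotent F ≤ D.borelSubgroup F := by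
    unfold ChevalleyDatum.borelSubgroup; exact le_sup_left
  have hSU : Subgroup.closure (sGens D F l) ≤ D.posUnipotent F := by
    unfold ChevalleyDatum.posUnipotent
    apply Subgroup.closure_mono
    rintro x ⟨s, t, hs, -, hx⟩
    exact ⟨s, t, hs, hx⟩
  let Ψ : ↥(D.borelSubgroup F) × ↥(Subgroup.closure (sGens D F l)) →
      ↥(DoubleCoset.doubleCoset n (D.borelSubgroup F : Set (GL D.Idx F)) (D.borelSubgroup F)) := fun p =>
    ⟨(p.1 : GL D.Idx F) * n * (p.2 : GL D.Idx F),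
      DoubleCoset.mem_doubleCoset.2 ⟨p.1, p.1.2, p.2, hUB (hSU p.2.2), rfl⟩⟩
  have hinj : Function.Injective Ψ := by
    rintro ⟨⟨b, hb⟩, ⟨u, hu⟩⟩ ⟨⟨b', hb'⟩, ⟨u', hu'⟩⟩ h
    have h1 : b * n * u = b' * n * u' := congrArg Subtype.val h
    obtain ⟨e1, e2⟩ := cell_unique D hD F l n hn b b' u u' hb hb' hu hu' h1
    subst e1; subst e2; rfl
  have hsurj : Function.Surjective Ψ := by
    rintro ⟨g, hg⟩
    obtain ⟨x, hx, y, hy, rfl⟩ := DoubleCoset.mem_doubleCoset.1 hg
    obtain ⟨b, hb, u, hu, e⟩ := cell_form D hD F l hl n hnN hn x y hx hy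
    exact ⟨⟨⟨b, hb⟩, ⟨u, hu⟩⟩, Subtype.ext e.symm⟩
  rw [← Nat.card_congr (Equiv.ofBijective Ψ ⟨hinj, hsurj⟩), Nat.card_prod, card_sGens D hD F l hl]

include hD in
/-- `|B n_w B| = |B| q^{N(w)}` for the representative `n_w` of a word -/
theorem card_cell_nWord [Fintype F] (hl : ∀ i ∈ l, i < D.rank) :
    Nat.card (DoubleCoset.doubleCoset (nWordGL D hD F l) (D.borelSubgroup F : Set (GL D.Idx F)) (D.borelSubgroup F)) =
      Nat.card (D.borelSubgroup F) * Fintype.card F ^ cellExp D l :=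
  card_cell D hD F l hl _ (nWordGL_mem D hD F l hl) (actsBy_nWordGL D hD F l hl)

end

end Cfsg.Agent.Lib.Helper18
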