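import Cfsg.Agent.Lib.Helper18.FastLitE8
import Cfsg.Agent.Lib.Helper18.ChevComm

set_option autoImplicit false
set_option maxRecDepth 100000

namespace Cfsg.Agent.Lib.Helper18

open Cfsg Cfsg.Lie

theorem commBase_E8_162_0 : (List.range' 0 10).all (fun s => Nat.beq s 162 || Nat.beq s 77 ||
    chkComm fastE8 (chevE8.commTerms 162 s) 162 s) = true := by decide +kernel
theorem commBase_E8_162_10 : (List.range' 10 10).all (fun s => Nat.beq s 162 || Nat.beq s 77 ||
    chkComm fastE8 (chevE8.commTerms 162 s) 162 s) = true := by decide +kernel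
theorem commBase_E8_162_20 : (List.range' 20 10).all (fun s => Nat.beq s 162 || Nat.beq s 77 ||
    chkComm fastE8 (chevE8.commTerms 162 s) 162 s) = true := by decide +kernel
theorem commBase_E8_162_30 : (List.range' 30 10).all (fun s => Nat.beq s 162 || Nat.beq s 77 ||
    chkComm fastE8 (chevE8.commTerms 162 s) 162 s) = true := by decide +kernel
theorem commBase_E8_162_40 : (List.range' 40 10).all (fun s => Nat.beq s 162 || Nat.beq s 77 ||
    chkComm fastE8 (chevE8.commTerms 162 s) 162 s) = true := by decide +kernel
theorem commBase_E8_162_50 : (List.range' 50 10).all (fun s => Nat.beq s 162 || Nat.beq s 77 ||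
    chkComm fastE8 (chevE8.commTerms 162 s) 162 s) = true := by decide +kernel

end Cfsg.Agent.Lib.Helper18
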