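import Cfsg.Prelude.Def_ChevStructure

set_option autoImplicit false

namespace Cfsg.Agent.Lib.Helper18

open Cfsg Cfsg.Lie

/-- check a certificate that every root is reached from the roots in `known` by fundamental reflections:
an entry `(r, i, p)` claims that `r` is the image of the already reached root `p` under the `i`-th reflection -/
def certCheck (D : ChevalleyDatum) : List ℕ → List (ℕ × ℕ × ℕ) → Bool
  | known, [] => (List.range D.nroots).all fun r => known.contains r
  | known, e :: rest =>
      decide (e.2.1 < D.rank) && decide (e.2.2 < D.nroots) && known.contains e.2.2 &&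
      Nat.beq (D.reflectRoot e.2.1 e.2.2) e.1 && certCheck D (e.1 :: known) rest

/-- induction over the roots along a certificate -/
theorem root_ind_cert (D : ChevalleyDatum) (P : ℕ → Prop)
    (hstep : ∀ i < D.rank, ∀ p < D.nroots, P p → P (D.reflectRoot i p))
    (known : List ℕ) (cert : List (ℕ × ℕ × ℕ)) (hk : ∀ x ∈ known, P x)
    (h : certCheck D known cert = true) : ∀ r < D.nroots, P r := by
  induction cert generalizing known with
  | nil =>
    intro r hr
    unfold certCheck at h
    rw [List.all_eq_true] at h
    have := h r (List.mem_range.2 hr)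
    exact hk r (List.contains_iff_mem.1 this)
  | cons e rest ih =>
    unfold certCheck at h
    simp only [Bool.and_eq_true, decide_eq_true_eq] at h
    obtain ⟨⟨⟨⟨h1, h2⟩, h3⟩, h4⟩, h5⟩ := h
    apply ih (e.1 :: known) _ h5
    intro x hx
    rcases List.mem_cons.1 hx with rfl | hx'
    · rw [← Nat.eq_of_beq_eq_true h4]
      exact hstep _ h1 _ h2 (hk _ (List.contains_iff_mem.1 h3))
    · exact hk x hx'

end Cfsg.Agent.Lib.Helper18
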