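import Cfsg.Agent.Lib.Helper18.ChevCommSL
import Cfsg.Agent.Lib.Helper18.ChevRootInd
import Cfsg.Agent.Lib.Helper36.ChevAdd

set_option autoImplicit false

namespace Cfsg.Agent.Lib.Helper18

open Cfsg Cfsg.Lie Cfsg.Agent.Lib.Helper36

section
variable {F : Type*} [Field F] (D : ChevalleyDatum)

theorem x_zero' (hwf : wf D = true) (r : ℕ) : D.x F r 0 = 1 := by
  by_cases hr : r < D.nroots
  · rw [x_eq_sum D hwf F r hr]
    simp [Finset.sum_range_succ, EF_eq_mapMatrix, toMat_E_zero]
  · unfold ChevalleyDatum.x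
    rw [dif_neg hr]

theorem wordMat_eq_one (hwf : wf D = true) (w : List (ℕ × F)) (h : ∀ p ∈ w, p.2 = 0) : D.wordMat F w = 1 := by
  induction w with
  | nil => simp [ChevalleyDatum.wordMat]
  | cons p w ih =>
    rw [wordMat_cons, ih (fun q hq => h q (List.mem_cons_of_mem _ hq)), mul_one]
    have := h p List.mem_cons_self
    rw [show p = (p.1, p.2) from rfl, this]
    exact x_zero' D hwf p.1

theorem commTerms_exp_pos (r s : ℕ) (c : ℕ × ℤ × ℕ × ℕ) (hc : c ∈ D.commTerms r s) :
    1 ≤ c.2.2.1 ∧ 1 ≤ c.2.2.2 := by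
  unfold ChevalleyDatum.commTerms at hc
  simp only [List.mem_filterMap, List.mem_cons, List.not_mem_nil, or_false] at hc
  obtain ⟨c', hc', hmap⟩ := hc
  rcases hc' with rfl | rfl | rfl | rfl | rfl | rfl | rfl <;>
  · simp only [Option.map_eq_some_iff] at hmap
    obtain ⟨k, -, rfl⟩ := hmap
    simp

/-- the commutator formula when one of the parameters vanishes -/
theorem commF_zero (hwf : wf D = true) (r s : ℕ) (t u : F) (h : t = 0 ∨ u = 0) :
    D.x F s u * D.x F r t = D.x F r t * D.x F s u * D.wordMat F (D.commWord F r s t u) := by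
  have hW : D.wordMat F (D.commWord F r s t u) = 1 := by
    apply wordMat_eq_one D hwf
    intro p hp
    unfold ChevalleyDatum.commWord at hp
    obtain ⟨c, hc, rfl⟩ := List.mem_map.1 hp
    obtain ⟨h1, h2⟩ := commTerms_exp_pos D r s c hc
    rcases h with rfl | rfl
    · simp only [neg_zero]
      rw [zero_pow (by omega), mul_zero, zero_mul]
    · simp only
      rw [zero_pow (by omega), mul_zero]
  rw [hW, mul_one]
  rcases h with rfl | rfl
  · rw [x_zero' D hwf, mul_one, one_mul]
  · rw [x_zero' D hwf, mul_one, one_mul]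

/-- the commutator formula for the root `r` and all `s ≠ ±r` -/
def CommAt (F : Type*) [Field F] (D : ChevalleyDatum) (r : ℕ) : Prop :=
  ∀ s < D.nroots, s ≠ r → s ≠ D.neg r → CommF F D r s

theorem commAt_base (hwf : wf D = true) (hwfF : wfFast D = true) (b : ℕ)
    (h : ∀ s < D.nroots, s ≠ b → s ≠ D.neg b → chkComm (mkFast D) (D.commTerms b s) b s = true) :
    CommAt F D b := by
  intro s hs h1 h2 t u
  by_cases ht : t = 0
  · exact commF_zero D hwf b s t u (Or.inl ht)
  · by_cases hu : u = 0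
    · exact commF_zero D hwf b s t u (Or.inr hu)
    · exact comm_of_chk D hwf hwfF b s (h s hs h1 h2) t u ht hu

theorem nMat_one_mul_inv (hwf : wf D = true) (hA : AddProp D) (r : ℕ) (hr : r < D.nroots) :
    D.nMat F r 1 * (D.x F r (-1) * (D.x F (D.neg r) 1 * D.x F r (-1))) = 1 := by
  have hnr := wf_neg D hwf r hr
  have e : D.nMat F r 1 = D.x F r 1 * (D.x F (D.neg r) (-1) * D.x F r 1) := by
    simp [ChevalleyDatum.nMat, ChevalleyDatum.wordMat, ChevalleyDatum.nWord]
  have a1 : D.x F r 1 * D.x F r (-1) = 1 := by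
    rw [x_mul_x_of_addProp D hwf hA r hr, add_neg_cancel, x_zero' D hwf]
  have a2 : D.x F (D.neg r) (-1) * D.x F (D.neg r) 1 = 1 := by
    rw [x_mul_x_of_addProp D hwf hA _ hnr, neg_add_cancel, x_zero' D hwf]
  rw [e]
  calc D.x F r 1 * (D.x F (D.neg r) (-1) * D.x F r 1) * (D.x F r (-1) * (D.x F (D.neg r) 1 * D.x F r (-1)))
      = D.x F r 1 * (D.x F (D.neg r) (-1) * ((D.x F r 1 * D.x F r (-1)) * (D.x F (D.neg r) 1 * D.x F r (-1)))) := by
        simp only [mul_assoc]
    _ = D.x F r 1 * ((D.x F (D.neg r) (-1) * D.x F (D.neg r) 1) * D.x F r (-1)) := by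
        rw [a1, one_mul, mul_assoc]
    _ = 1 := by rw [a2, one_mul, a1]

/-- transport of the commutator formula along a fundamental reflection -/
theorem commAt_step (hwf : wf D = true) (hA : AddProp D) (h2 : chkN2 D = true)
    (hCS : ∀ i < D.rank, ∀ s < D.nroots, ConjSpec D i s) (hStep : StepProp D)
    (hconj : ∀ i < D.rank, ∀ s < D.nroots, ∀ t : F, D.nMat F (D.simple i) 1 * D.x F s t =
      D.x F (D.reflectRoot i s) (((nEta D i s : ℤ) : F) * t) * D.nMat F (D.simple i) 1)
    (i : ℕ) (hi : i < D.rank) (p : ℕ) (hp : p < D.nroots) (h : CommAt F D p) :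
    CommAt F D (D.reflectRoot i p) := by
  obtain ⟨hsi, -, -, -, hN⟩ := chkN2_spec D h2 i hi
  have hw : ∀ x < D.nroots, D.reflectRoot i x = nW D i x := fun x hx => ((hN x hx).2.1).symm
  intro s' hs' h1 h2' t u
  rw [hw p hp] at h1 h2' ⊢
  set s := nW D i s' with hs_def
  have hs : s < D.nroots := (hN s' hs').1
  have hws : nW D i s = s' := (hN s' hs').2.2.2.2.2.1
  have hsp : s ≠ p := by
    intro e
    apply h1
    rw [← hws, e]
  have hsn : s ≠ D.neg p := by
    intro e
    apply h2'
    rw [← hws, e, (hCS i hi p hp).t2a]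
  obtain ⟨hlt, hterms⟩ := hStep i hi p hp s hs hsp hsn
  have hconj' : ∀ x < D.nroots, ∀ t : F, D.nMat F (D.simple i) 1 * D.x F x t =
      D.x F (nW D i x) (((nEta D i x : ℤ) : F) * t) * D.nMat F (D.simple i) 1 := by
    intro x hx t
    rw [← hw x hx]
    exact hconj i hi x hx t
  have := comm_transport D (D.nMat F (D.simple i) 1) _ (nMat_one_mul_inv D hwf hA _ hsi) (nW D i) (nEta D i)
    hconj' p s hp hs (hN p hp).2.2.1 (hN s hs).2.2.1 hlt hterms (h s hs hsp hsn)
  rw [hws] at this
  exact this t u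

/-- the commutator formula for all pairs of roots, from the table checks -/
theorem commAt_all (hwf : wf D = true) (hwfF : wfFast D = true) (hA : AddProp D) (h2 : chkN2 D = true)
    (hCS : ∀ i < D.rank, ∀ s < D.nroots, ConjSpec D i s) (hStep : StepProp D)
    (hconj : ∀ i < D.rank, ∀ s < D.nroots, ∀ t : F, D.nMat F (D.simple i) 1 * D.x F s t =
      D.x F (D.reflectRoot i s) (((nEta D i s : ℤ) : F) * t) * D.nMat F (D.simple i) 1)
    (base : List ℕ) (cert : List (ℕ × ℕ × ℕ)) (hcert : certCheck D base cert = true)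
    (hbase : ∀ b ∈ base, ∀ s < D.nroots, s ≠ b → s ≠ D.neg b →
      chkComm (mkFast D) (D.commTerms b s) b s = true) :
    ∀ r < D.nroots, CommAt F D r :=
  root_ind_cert D (CommAt F D)
    (fun i hi p hp h => commAt_step D hwf hA h2 hCS hStep hconj i hi p hp h)
    base cert (fun b hb => commAt_base D hwf hwfF b (hbase b hb)) hcert

end

end Cfsg.Agent.Lib.Helper18
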