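import Cfsg.Agent.Lib.Helper18.ChevCommStep
import Cfsg.Agent.Lib.Helper36.ChevConjS

set_option autoImplicit false

namespace Cfsg.Agent.Lib.Helper18

open Cfsg Cfsg.Lie Cfsg.Agent.Lib.Helper36

/-- all chain entries have at most one term (the simply laced case) -/
def chkSL (D : ChevalleyDatum) : Bool :=
  (List.range D.nroots).all fun r => (D.chain.getD r #[]).toList.all fun e => decide (e.2.toList.length ≤ 1)

theorem chkSL_spec (D : ChevalleyDatum) (h : chkSL D = true) (r : ℕ) (hr : r < D.nroots)
    (e : ℕ × Array (ℕ × ℤ)) (he : e ∈ (D.chain.getD r #[]).toList) : e.2.toList.length ≤ 1 := by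
  unfold chkSL at h
  rw [List.all_eq_true] at h
  have h1 := h r (List.mem_range.2 hr)
  rw [List.all_eq_true] at h1
  exact of_decide_eq_true (h1 e he)

theorem chainEntry_eq_findEntry (D : ChevalleyDatum) (r s : ℕ) :
    D.chainEntry r s = findEntry (D.chain.getD r #[]).toList s := by
  unfold ChevalleyDatum.chainEntry findEntry
  have : (fun e : ℕ × Array (ℕ × ℤ) => decide (e.1 = s)) = fun e => Nat.beq e.1 s := by
    funext e
    by_cases h : e.1 = s
    · simp [h]
    · have : Nat.beq e.1 s = false := by
        rcases hb : Nat.beq e.1 s with _ | _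
        · rfl
        · exact absurd (Nat.eq_of_beq_eq_true hb) h
      simp [h, this]
  rw [this]
  cases List.find? (fun e : ℕ × Array (ℕ × ℤ) => Nat.beq e.1 s) (D.chain.getD r #[]).toList <;> rfl

theorem findEntry_cases (row : Row) (s : ℕ) :
    (findEntry row s = [] ∧ ∀ e ∈ row, e.1 ≠ s) ∨ ∃ e ∈ row, e.1 = s ∧ findEntry row s = e.2.toList := by
  induction row with
  | nil => left; exact ⟨rfl, fun e he => by simp at he⟩
  | cons a row ih =>
    rw [findEntry_cons]
    by_cases h : a.1 = s
    · right; exact ⟨a, List.mem_cons_self, h, by rw [if_pos h]⟩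
    · rw [if_neg h]
      rcases ih with ⟨h1, h2⟩ | ⟨e, he, h1, h2⟩
      · left
        refine ⟨h1, fun e he => ?_⟩
        rcases List.mem_cons.1 he with rfl | he'
        · exact h
        · exact h2 e he'
      · right; exact ⟨e, List.mem_cons_of_mem _ he, h1, h2⟩

theorem entryCol_one_nil (L : List (ℕ × ℤ)) (h : entryCol L 1 = []) : L = [] := by
  cases L with
  | nil => rfl
  | cons q l => simp [entryCol] at h

theorem entryCol_one_single (L : List (ℕ × ℤ)) (k : ℕ) (M : ℤ) (h : entryCol L 1 = [(.inr k, M)])
    (hl : L.length ≤ 1) : L = [(k, M)] := by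
  cases L with
  | nil => simp [entryCol] at h
  | cons q l =>
    cases l with
    | nil =>
      simp only [entryCol, Nat.sub_self, List.getElem?_cons_zero, List.cons.injEq, Prod.mk.injEq, Sum.inr.injEq,
        and_true] at h
      obtain ⟨h1, h2⟩ := h
      rw [← h1, ← h2]
    | cons q' l' => simp at hl

/-- the commutator terms in the simply laced case -/
theorem commTerms_SL (D : ChevalleyDatum) (r s : ℕ) (h1 : (D.chainEntry r s).length ≤ 1)
    (h2 : (D.chainEntry s r).length ≤ 1) :
    D.commTerms r s = match D.chainEntry r s with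
      | [] => []
      | q :: _ => [(q.1, q.2, 1, 1)] := by
  unfold ChevalleyDatum.commTerms ChevalleyDatum.chainRoot ChevalleyDatum.chainM
  rcases hrs : D.chainEntry r s with _ | ⟨q, l⟩
  · rcases hsr : D.chainEntry s r with _ | ⟨q', l'⟩
    · simp
    · rw [hsr] at h2
      have : l' = [] := by
        cases l' with
        | nil => rfl
        | cons a b => simp at h2
      subst this
      simp
  · rw [hrs] at h1
    have : l = [] := by
      cases l with
      | nil => rfl
      | cons a b => simp at h1
    subst this
    rcases hsr : D.chainEntry s r with _ | ⟨q', l'⟩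
    · simp
    · rw [hsr] at h2
      have : l' = [] := by
        cases l' with
        | nil => rfl
        | cons a b => simp at h2
      subst this
      simp

theorem findEntry_length_le (D : ChevalleyDatum) (hSL : chkSL D = true) (r : ℕ) (hr : r < D.nroots) (s : ℕ) :
    (findEntry (D.chain.getD r #[]).toList s).length ≤ 1 := by
  rcases findEntry_nil_or_mem (D.chain.getD r #[]).toList s with h | ⟨e, he, h⟩
  · rw [h]; simp
  · rw [h]; exact chkSL_spec D hSL r hr e he

theorem stepProp_of_SL (D : ChevalleyDatum) (hwf : wf D = true) (hSL : chkSL D = true)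
    (h2 : chkN2 D = true) (hCS : ∀ i < D.rank, ∀ s < D.nroots, ConjSpec D i s) : StepProp D := by
  intro i hi r hr s hs hsr hsn
  obtain ⟨-, -, -, -, hN⟩ := chkN2_spec D h2 i hi
  have hwr : nW D i r < D.nroots := (hN r hr).1
  have hws : nW D i s < D.nroots := (hN s hs).1
  have hηr : nEta D i r = 1 ∨ nEta D i r = -1 := (hN r hr).2.2.1
  have hηs : nEta D i s = 1 ∨ nEta D i s = -1 := (hN s hs).2.2.1
  have hwws : nW D i (nW D i s) = s := (hN s hs).2.2.2.2.2.1
  have CS := hCS i hi r hr
  have l1 := findEntry_length_le D hSL r hr s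
  have l2 := findEntry_length_le D hSL s hs r
  have l3 := findEntry_length_le D hSL _ hwr (nW D i s)
  have l4 := findEntry_length_le D hSL _ hws (nW D i r)
  rw [commTerms_SL D r s (by rw [chainEntry_eq_findEntry]; exact l1) (by rw [chainEntry_eq_findEntry]; exact l2),
    commTerms_SL D _ _ (by rw [chainEntry_eq_findEntry]; exact l3) (by rw [chainEntry_eq_findEntry]; exact l4),
    chainEntry_eq_findEntry, chainEntry_eq_findEntry]
  rcases findEntry_cases (D.chain.getD r #[]).toList s with ⟨hnil, hkey⟩ | ⟨e, he, hes, hfe⟩
  · -- no entry for `s`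
    have hnil' : findEntry (D.chain.getD (nW D i r) #[]).toList (nW D i s) = [] := by
      rcases findEntry_cases (D.chain.getD (nW D i r) #[]).toList (nW D i s) with ⟨h', -⟩ | ⟨e', he', hes', -⟩
      · exact h'
      · exfalso
        have := CS.t5 e' he'
        rw [hes', hwws] at this
        exact this hnil
    rw [hnil, hnil']
    exact ⟨fun c hc => by simp at hc, rfl⟩
  · rcases hq : e.2.toList with _ | ⟨q, l⟩
    · have t4 := CS.t4 e he
      rw [hq] at t4
      simp only at t4
      rw [hes] at t4
      have hnil' := entryCol_one_nil _ t4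
      rw [hfe, hq, hnil']
      exact ⟨fun c hc => by simp at hc, rfl⟩
    · have t4 := CS.t4 e he
      rw [hq] at t4
      simp only at t4
      obtain ⟨M', hM1, hM2⟩ := t4
      rw [hes] at hM1 hM2
      have hsingle := entryCol_one_single _ _ _ hM1 l3
      rw [hfe, hq, hsingle]
      refine ⟨fun c hc => ?_, ?_⟩
      · simp only [List.mem_cons, List.not_mem_nil, or_false] at hc
        rw [hc]
        exact (wf_chain D hwf r hr e he).2 q (by rw [hq]; exact List.mem_cons_self)
      · simp only [List.map_cons, List.map_nil, pow_one]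
        have hr2 : nEta D i r * nEta D i r = 1 := by rcases hηr with h | h <;> simp [h]
        have hs2 : nEta D i s * nEta D i s = 1 := by rcases hηs with h | h <;> simp [h]
        have : M' = nEta D i q.1 * q.2 * nEta D i r * nEta D i s := by
          rw [hM2]
          calc M' = (nEta D i r * nEta D i r) * (nEta D i s * nEta D i s) * M' := by rw [hr2, hs2]; ring
            _ = nEta D i r * (nEta D i s * M') * nEta D i r * nEta D i s := by ring
        rw [this]

end Cfsg.Agent.Lib.Helper18
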