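import Cfsg.Agent.Lib.Helper18.ChevHT

set_option autoImplicit false

namespace Cfsg.Agent.Lib.Helper18

open Cfsg Cfsg.Lie Cfsg.Agent.Lib.Helper36

/-- `Efast` with the row of the chain table passed separately -/
def EfastR (T : FastTab) (row : ℕ) (r k : ℕ) : SMat := fun c =>
  match c with
  | .inl i =>
      if k = 0 then [(.inl i, 1)]
      else if k = 1 then [(.inr r, - (((get2 4 T.n T.carT i r : ℕ) : ℤ) - 8))] else []
  | .inr s =>
      if s = r then (if k = 0 then [(.inr r, 1)] else [])
      else if s = dig 8 T.negT r then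
        (if k = 0 then [(.inr s, 1)]
         else if k = 1 then (List.range T.l).map (fun i => (.inl i, ((get2 4 T.l T.corT r i : ℕ) : ℤ) - 8))
         else if k = 2 then [(.inr r, -1)] else [])
      else
        (if k = 0 then [(.inr s, 1)] else decCol (dig 36 row s) k)

/-- the row of root `r` in the packed chain table -/
def chRow (T : FastTab) (r : ℕ) : ℕ := dig (36 * T.n) T.chT r

theorem EfastR_eq (T : FastTab) (r k : ℕ) : EfastR T (chRow T r) r k = Efast T r k := by
  funext c
  rcases c with i | s <;> rfl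

/-- column `c` of `x_r(p)`, with the row of the chain table passed separately -/
def colR (T : FastTab) (row r : ℕ) (p : LP) (c : ℕ) : SV :=
  (EfastR T row r 0 (decodeB T.l c)).map (fun e => (codeB T.l e.1, lpOfInt e.2)) ++
  ((EfastR T row r 1 (decodeB T.l c)).map (fun e => (codeB T.l e.1, lpMul (lpOfInt e.2) p)) ++
  ((EfastR T row r 2 (decodeB T.l c)).map (fun e => (codeB T.l e.1, lpMul (lpOfInt e.2) (lpMul p p))) ++
  (EfastR T row r 3 (decodeB T.l c)).map (fun e => (codeB T.l e.1, lpMul (lpOfInt e.2) (lpMul (lpMul p p) p)))))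

theorem colR_eq (T : FastTab) (r : ℕ) (p : LP) (c : ℕ) : colR T (chRow T r) r p c = colF T r p c := by
  unfold colR colF
  rw [EfastR_eq, EfastR_eq, EfastR_eq, EfastR_eq]

/-- apply a word; each letter is `(root, row of the root, parameter)` -/
def applyWordR (T : FastTab) (w : List (ℕ × ℕ × LP)) (v : SV) : SV :=
  w.foldr (fun rp acc => if rp.1 < T.n then applyCol (colR T rp.2.1 rp.1 rp.2.2) (T.l + T.n) acc else acc) v

theorem applyWordR_eq (T : FastTab) (w : List (ℕ × ℕ × LP)) (hw : ∀ x ∈ w, x.2.1 = chRow T x.1) (v : SV) :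
    applyWordR T w v = applyWordF T (w.map fun x => (x.1, x.2.2)) v := by
  induction w with
  | nil => rfl
  | cons a w ih =>
    have h1 : applyWordR T (a :: w) v = if a.1 < T.n then
        applyCol (colR T a.2.1 a.1 a.2.2) (T.l + T.n) (applyWordR T w v) else applyWordR T w v := rfl
    have h2 : applyWordF T ((a :: w).map fun x => (x.1, x.2.2)) v = if a.1 < T.n then
        applyCol (colF T a.1 a.2.2) (T.l + T.n) (applyWordF T (w.map fun x => (x.1, x.2.2)) v)
        else applyWordF T (w.map fun x => (x.1, x.2.2)) v := rfl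
    rw [h1, h2, ih (fun x hx => hw x (List.mem_cons_of_mem _ hx)), hw a List.mem_cons_self]
    have : colR T (chRow T a.1) a.1 a.2.2 = colF T a.1 a.2.2 := funext fun c => colR_eq T a.1 a.2.2 c
    rw [this]

/-- the word `h_r(t)`, letters carrying their rows -/
def hWordR (r nr row nrow : ℕ) : List (ℕ × ℕ × LP) :=
  [(r, row, lpT), (nr, nrow, lpTn), (r, row, lpT), (r, row, lpNeg lpOne), (nr, nrow, lpOne),
    (r, row, lpNeg lpOne)]

def chkHcolR (T : FastTab) (r nr row nrow c : ℕ) : Bool :=
  match applyWordR T (hWordR r nr row nrow) [(c, lpOne)] with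
  | [(c', [((_, b), z)])] => Nat.beq c' c && decide (b = 0) && decide (z = 1)
  | _ => false

/-- evaluate `n` first, then continue with its value -/
def forceNat {α : Type} (n : ℕ) (f : ℕ → α) : α :=
  match n with
  | 0 => f 0
  | k + 1 => f (k + 1)

theorem forceNat_eq {α : Type} (n : ℕ) (f : ℕ → α) : forceNat n f = f n := by
  cases n <;> rfl

def chkHR (T : FastTab) (r : ℕ) : Bool :=
  forceNat (dig 8 T.negT r) fun nr =>
  forceNat (chRow T r) fun row =>
  forceNat (chRow T nr) fun nrow =>
  (List.range (T.l + T.n)).all (chkHcolR T r nr row nrow)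

theorem chkHT_of_R (T : FastTab) (r : ℕ) (h : chkHR T r = true) : chkHT T r = true := by
  unfold chkHR at h
  rw [forceNat_eq, forceNat_eq, forceNat_eq] at h
  unfold chkHT
  rw [List.all_eq_true] at h ⊢
  intro c hc
  have := h c hc
  unfold chkHcolR at this
  unfold chkHcolT hColT
  rw [applyWordR_eq] at this
  · exact this
  · intro x hx
    simp only [hWordR, List.mem_cons, List.not_mem_nil, or_false] at hx
    rcases hx with rfl | rfl | rfl | rfl | rfl | rfl <;> rfl

end Cfsg.Agent.Lib.Helper18
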