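import Cfsg.Agent.Lib.Helper18.ChevCommT
import Cfsg.Agent.Lib.Helper18.ChevHR
import Cfsg.Agent.Lib.Helper36.ChevN

set_option autoImplicit false

namespace Cfsg.Agent.Lib.Helper18

open Cfsg Cfsg.Lie Cfsg.Agent.Lib.Helper36

/-- the compatibility of the commutator constants with the `i`-th fundamental reflection -/
def StepProp (D : ChevalleyDatum) : Prop :=
  ∀ i < D.rank, ∀ r < D.nroots, ∀ s < D.nroots, s ≠ r → s ≠ D.neg r →
    (∀ c ∈ D.commTerms r s, c.1 < D.nroots) ∧
    D.commTerms (nW D i r) (nW D i s) = (D.commTerms r s).map fun c =>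
      (nW D i c.1, nEta D i c.1 * c.2.1 * nEta D i r ^ c.2.2.1 * nEta D i s ^ c.2.2.2, c.2.2.1, c.2.2.2)

/-- direct check of the compatibility for one pair, the table of `n_p` being `tab` -/
def stepOK (D : ChevalleyDatum) (tab r s : ℕ) : Bool :=
  (D.commTerms r s).all (fun c => decide (c.1 < D.nroots)) &&
  decide (D.commTerms (dig 10 tab r / 4) (dig 10 tab s / 4) = (D.commTerms r s).map fun c =>
    (dig 10 tab c.1 / 4, (((dig 10 tab c.1 % 4 : ℕ) : ℤ) - 1) * c.2.1 *
      (((dig 10 tab r % 4 : ℕ) : ℤ) - 1) ^ c.2.2.1 * (((dig 10 tab s % 4 : ℕ) : ℤ) - 1) ^ c.2.2.2,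
      c.2.2.1, c.2.2.2))

/-- direct check of the compatibility for the `i`-th fundamental reflection -/
def chkStepI (D : ChevalleyDatum) (i : ℕ) : Bool :=
  forceNat (nTab D i) fun tab =>
    (List.range D.nroots).all fun r => (List.range D.nroots).all fun s =>
      Nat.beq s r || Nat.beq s (D.neg r) || stepOK D tab r s

theorem stepProp_of_chk (D : ChevalleyDatum) (h : ∀ i < D.rank, chkStepI D i = true) : StepProp D := by
  intro i hi r hr s hs hsr hsn
  have h1 := h i hi
  unfold chkStepI at h1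
  rw [forceNat_eq] at h1
  rw [List.all_eq_true] at h1
  have h2 := h1 r (List.mem_range.2 hr)
  rw [List.all_eq_true] at h2
  have h3 := h2 s (List.mem_range.2 hs)
  have e1 : Nat.beq s r = false := by
    rcases hb : Nat.beq s r with _ | _
    · rfl
    · exact absurd (Nat.eq_of_beq_eq_true hb) hsr
  have e2 : Nat.beq s (D.neg r) = false := by
    rcases hb : Nat.beq s (D.neg r) with _ | _
    · rfl
    · exact absurd (Nat.eq_of_beq_eq_true hb) hsn
  rw [e1, e2, Bool.false_or, Bool.false_or] at h3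
  unfold stepOK at h3
  rw [Bool.and_eq_true, List.all_eq_true, decide_eq_true_eq] at h3
  refine ⟨fun c hc => of_decide_eq_true (h3.1 c hc), ?_⟩
  exact h3.2

end Cfsg.Agent.Lib.Helper18
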