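import Cfsg.Agent.Lib.Helper18.ChevComm

set_option autoImplicit false

namespace Cfsg.Agent.Lib.Helper18

open Cfsg Cfsg.Lie Cfsg.Agent.Lib.Helper36

section transport
variable {F : Type*} [Field F] (D : ChevalleyDatum)

theorem wordMat_cons (p : ℕ × F) (word : List (ℕ × F)) :
    D.wordMat F (p :: word) = D.x F p.1 p.2 * D.wordMat F word := by
  simp [ChevalleyDatum.wordMat]

/-- conjugating a word in root elements by a matrix that conjugates root elements to root elements -/
theorem conj_wordMat (n : Matrix D.Idx D.Idx F) (w : ℕ → ℕ) (η : ℕ → ℤ)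
    (hconj : ∀ s < D.nroots, ∀ t : F, n * D.x F s t = D.x F (w s) ((η s : F) * t) * n)
    (word : List (ℕ × F)) (hw : ∀ p ∈ word, p.1 < D.nroots) :
    n * D.wordMat F word = D.wordMat F (word.map fun p => (w p.1, (η p.1 : F) * p.2)) * n := by
  induction word with
  | nil => simp [ChevalleyDatum.wordMat]
  | cons p word ih =>
    rw [List.map_cons, wordMat_cons, wordMat_cons, ← mul_assoc, hconj p.1 (hw p List.mem_cons_self) p.2,
      mul_assoc, ih (fun q hq => hw q (List.mem_cons_of_mem _ hq)), mul_assoc]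

/-- the commutator formula for `(r, s)` and parameters `(t, u)` -/
def CommF (F : Type*) [Field F] (D : ChevalleyDatum) (r s : ℕ) : Prop :=
  ∀ t u : F, D.x F s u * D.x F r t = D.x F r t * D.x F s u * D.wordMat F (D.commWord F r s t u)

/-- transport of the commutator formula by conjugation -/
theorem comm_transport (n n' : Matrix D.Idx D.Idx F) (hn : n * n' = 1) (w : ℕ → ℕ) (η : ℕ → ℤ)
    (hconj : ∀ s < D.nroots, ∀ t : F, n * D.x F s t = D.x F (w s) ((η s : F) * t) * n)
    (r s : ℕ) (hr : r < D.nroots) (hs : s < D.nroots)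
    (hηr : η r = 1 ∨ η r = -1) (hηs : η s = 1 ∨ η s = -1)
    (hlt : ∀ c ∈ D.commTerms r s, c.1 < D.nroots)
    (hterms : D.commTerms (w r) (w s) = (D.commTerms r s).map fun c =>
      (w c.1, η c.1 * c.2.1 * η r ^ c.2.2.1 * η s ^ c.2.2.2, c.2.2.1, c.2.2.2))
    (hform : CommF F D r s) : CommF F D (w r) (w s) := by
  intro t' u'
  have hr2 : ((η r : ℤ) : F) * ((η r : ℤ) : F) = 1 := by
    rcases hηr with h | h <;> simp [h]
  have hs2 : ((η s : ℤ) : F) * ((η s : ℤ) : F) = 1 := by
    rcases hηs with h | h <;> simp [h]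
  have hf := hform ((η r : F) * t') ((η s : F) * u')
  have hf2 : n * (D.x F s ((η s : F) * u') * D.x F r ((η r : F) * t')) =
      n * (D.x F r ((η r : F) * t') * D.x F s ((η s : F) * u') *
        D.wordMat F (D.commWord F r s ((η r : F) * t') ((η s : F) * u'))) := by rw [hf]
  have hW : ∀ p ∈ D.commWord F r s ((η r : F) * t') ((η s : F) * u'), p.1 < D.nroots := by
    intro p hp
    unfold ChevalleyDatum.commWord at hp
    obtain ⟨c, hc, rfl⟩ := List.mem_map.1 hp
    exact hlt c hc
  have e1 : n * (D.x F s ((η s : F) * u') * D.x F r ((η r : F) * t')) =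
      D.x F (w s) u' * D.x F (w r) t' * n := by
    rw [← mul_assoc, hconj s hs, mul_assoc, hconj r hr, ← mul_assoc, ← mul_assoc ((η s : F)), hs2, one_mul,
      ← mul_assoc ((η r : F)), hr2, one_mul]
  have e2 : n * (D.x F r ((η r : F) * t') * D.x F s ((η s : F) * u') *
      D.wordMat F (D.commWord F r s ((η r : F) * t') ((η s : F) * u'))) =
      D.x F (w r) t' * D.x F (w s) u' *
        D.wordMat F ((D.commWord F r s ((η r : F) * t') ((η s : F) * u')).map
          fun p => (w p.1, (η p.1 : F) * p.2)) * n := by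
    rw [mul_assoc (D.x F r _), ← mul_assoc n, hconj r hr, mul_assoc (D.x F (w r) _), ← mul_assoc n, hconj s hs,
      mul_assoc (D.x F (w s) _), conj_wordMat D n w η hconj _ hW, ← mul_assoc ((η s : F)), hs2, one_mul,
      ← mul_assoc ((η r : F)), hr2, one_mul]
    simp only [mul_assoc]
  have e3 : (D.commWord F r s ((η r : F) * t') ((η s : F) * u')).map
      (fun p => (w p.1, (η p.1 : F) * p.2)) = D.commWord F (w r) (w s) t' u' := by
    unfold ChevalleyDatum.commWord
    rw [hterms, List.map_map, List.map_map]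
    apply List.map_congr_left
    intro c _
    simp only [Function.comp_apply]
    congr 1
    push_cast
    rw [neg_mul_eq_mul_neg, mul_pow, mul_pow]
    ring
  rw [e1, e2, e3] at hf2
  have h3 : D.x F (w s) u' * D.x F (w r) t' * n * n' =
      D.x F (w r) t' * D.x F (w s) u' * D.wordMat F (D.commWord F (w r) (w s) t' u') * n * n' := by rw [hf2]
  rw [mul_assoc _ n n', mul_assoc _ n n', hn, mul_one, mul_one] at h3
  exact h3

end transport

end Cfsg.Agent.Lib.Helper18
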