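import Cfsg.Agent.Lib.Helper18.ChevSym
import Cfsg.Agent.Lib.Helper36.ChevFast

set_option autoImplicit false

namespace Cfsg.Agent.Lib.Helper18

open Cfsg Cfsg.Lie Cfsg.Agent.Lib.Helper36

/-- decode a natural number code into a basis index -/
def decodeB (rank c : ℕ) : BIdx := if c < rank then .inl c else .inr (c - rank)

/-- natural number code of a basis index -/
def codeB (rank : ℕ) : BIdx → ℕ
  | .inl i => i
  | .inr s => rank + s

/-- column `c` of `x_r(p)`, read off the packed tables -/
def colF (T : FastTab) (r : ℕ) (p : LP) (c : ℕ) : SV :=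
  (Efast T r 0 (decodeB T.l c)).map (fun e => (codeB T.l e.1, lpOfInt e.2)) ++
  ((Efast T r 1 (decodeB T.l c)).map (fun e => (codeB T.l e.1, lpMul (lpOfInt e.2) p)) ++
  ((Efast T r 2 (decodeB T.l c)).map (fun e => (codeB T.l e.1, lpMul (lpOfInt e.2) (lpMul p p))) ++
  (Efast T r 3 (decodeB T.l c)).map (fun e => (codeB T.l e.1, lpMul (lpOfInt e.2) (lpMul (lpMul p p) p)))))

/-- apply a word in root elements to a sparse vector, using the packed tables -/
def applyWordF (T : FastTab) (w : List (ℕ × LP)) (v : SV) : SV :=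
  w.foldr (fun rp acc => if rp.1 < T.n then applyCol (colF T rp.1 rp.2) (T.l + T.n) acc else acc) v

section sound
variable {F : Type*} [Field F] (x y : F)

theorem decodeB_code (D : ChevalleyDatum) (c : D.Idx) : decodeB D.rank (code D c) = enc D c := by
  rcases c with i | s
  · simp [decodeB, code, enc]
  · have : ¬ (D.rank + s.val < D.rank) := by omega
    simp [decodeB, code, enc, this]

theorem codeB_enc (D : ChevalleyDatum) (c : D.Idx) : codeB D.rank (enc D c) = code D c := by
  rcases c with i | s <;> rfl

theorem codeB_eq_code_iff (D : ChevalleyDatum) (b : BIdx) (hb : inb D b) (row : D.Idx) :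
    codeB D.rank b = code D row ↔ b = enc D row := by
  constructor
  · intro h
    obtain ⟨m, rfl⟩ := exists_enc_of_inb D b hb
    rw [codeB_enc] at h
    rw [code_injective D h]
  · rintro rfl
    exact codeB_enc D row

theorem coef_eq_sum (v : SVec) (b : BIdx) :
    coef v b = ((v.filter fun e => e.1 = b).map fun e => e.2).sum := by
  induction v with
  | nil => rfl
  | cons e v ih =>
    rw [coef_cons, ih, List.filter_cons]
    by_cases h : e.1 = b
    · simp [h]
    · simp [h]

theorem svEval_mapE (hx : x ≠ 0) (hy : y ≠ 0) (D : ChevalleyDatum) (v : SVec) (hv : InRange D v)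
    (g : ℤ → LP) (q : LP) (hg : ∀ z, lpEval x y (g z) = (z : F) * lpEval x y q) (row : D.Idx) :
    svEval x y (v.map fun e => (codeB D.rank e.1, g e.2)) (code D row) =
      ((coef v (enc D row) : ℤ) : F) * lpEval x y q := by
  rw [svEval_map x y v (fun e => codeB D.rank e.1) (fun e => g e.2), coef_eq_sum]
  have hf : (v.filter fun e => codeB D.rank e.1 = code D row) = (v.filter fun e => e.1 = enc D row) := by
    apply List.filter_congr
    intro e he
    have := codeB_eq_code_iff D e.1 (hv e he) row
    simp [this]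
  rw [hf]
  induction (v.filter fun e => e.1 = enc D row) with
  | nil => simp
  | cons e l ih =>
    rw [List.map_cons, List.sum_cons, ih, List.map_cons, List.sum_cons, hg]
    push_cast
    ring

theorem colF_spec (hx : x ≠ 0) (hy : y ≠ 0) (D : ChevalleyDatum) (hwf : wf D = true) (hwfF : wfFast D = true)
    (r : ℕ) (hr : r < D.nroots) (p : LP) (row col : D.Idx) :
    D.x F r (lpEval x y p) row col = svEval x y (colF (mkFast D) r p (code D col)) (code D row) := by
  have hl : (mkFast D).l = D.rank := rfl
  rw [x_eq_sum D hwf F r hr, Matrix.sum_apply]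
  simp only [Finset.sum_range_succ, Finset.sum_range_zero, Matrix.smul_apply, EF, Matrix.map_apply,
    toMat_apply, smul_eq_mul, zero_add]
  unfold colF
  rw [hl, decodeB_code, svEval_append, svEval_append, svEval_append]
  have hc := inb_enc D col
  rw [Efast_eq' D hwf hwfF r hr 0 _ hc, Efast_eq' D hwf hwfF r hr 1 _ hc,
    Efast_eq' D hwf hwfF r hr 2 _ hc, Efast_eq' D hwf hwfF r hr 3 _ hc]
  rw [svEval_mapE x y hx hy D _ (E_inRange D hwf r hr 0 _ hc) (fun z => lpOfInt z) lpOne
      (fun z => by rw [lpEval_ofInt, lpEval_one, mul_one]) row,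
    svEval_mapE x y hx hy D _ (E_inRange D hwf r hr 1 _ hc) (fun z => lpMul (lpOfInt z) p) p
      (fun z => by rw [lpEval_mul x y hx hy, lpEval_ofInt]) row,
    svEval_mapE x y hx hy D _ (E_inRange D hwf r hr 2 _ hc) (fun z => lpMul (lpOfInt z) (lpMul p p)) (lpMul p p)
      (fun z => by rw [lpEval_mul x y hx hy, lpEval_ofInt]) row,
    svEval_mapE x y hx hy D _ (E_inRange D hwf r hr 3 _ hc)
      (fun z => lpMul (lpOfInt z) (lpMul (lpMul p p) p)) (lpMul (lpMul p p) p)
      (fun z => by rw [lpEval_mul x y hx hy, lpEval_ofInt]) row]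
  simp only [lpEval_mul x y hx hy, lpEval_one]
  ring

theorem applyCol_spec_gen (hx : x ≠ 0) (hy : y ≠ 0) (D : ChevalleyDatum) (X : Matrix D.Idx D.Idx F) (col : ℕ → SV)
    (hcol : ∀ row c : D.Idx, X row c = svEval x y (col (code D c)) (code D row)) (v : SV) :
    svVec x y D (applyCol col (D.rank + D.nroots) v) = X.mulVec (svVec x y D v) := by
  funext row
  simp only [svVec, Matrix.mulVec, dotProduct]
  rw [svEval_applyCol x y hx hy]
  have : ∀ c : D.Idx, X row c * svEval x y v (code D c) =
      (fun k => svEval x y (col k) (code D row)) (code D c) * svEval x y v (code D c) := by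
    intro c
    rw [hcol]
  rw [Finset.sum_congr rfl (fun c _ => this c)]
  exact (sum_code_mul_svEval x y D (fun k => svEval x y (col k) (code D row)) v).symm

theorem applyWordF_spec (hx : x ≠ 0) (hy : y ≠ 0) (D : ChevalleyDatum) (hwf : wf D = true) (hwfF : wfFast D = true)
    (w : List (ℕ × LP)) (v : SV) :
    svVec x y D (applyWordF (mkFast D) w v) =
      (D.wordMat F (w.map fun rp => (rp.1, lpEval x y rp.2))).mulVec (svVec x y D v) := by
  induction w with
  | nil => simp [applyWordF, ChevalleyDatum.wordMat]
  | cons a w ih =>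
    have hw : D.wordMat F ((a :: w).map fun rp => (rp.1, lpEval x y rp.2)) =
        D.x F a.1 (lpEval x y a.2) * D.wordMat F (w.map fun rp => (rp.1, lpEval x y rp.2)) := by
      simp [ChevalleyDatum.wordMat]
    have ha : applyWordF (mkFast D) (a :: w) v = if a.1 < D.nroots then
        applyCol (colF (mkFast D) a.1 a.2) (D.rank + D.nroots) (applyWordF (mkFast D) w v)
        else applyWordF (mkFast D) w v := rfl
    rw [hw, ha, ← Matrix.mulVec_mulVec, ← ih]
    by_cases h : a.1 < D.nroots
    · rw [if_pos h]
      exact applyCol_spec_gen x y hx hy D _ _ (colF_spec x y hx hy D hwf hwfF a.1 h a.2) _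
    · rw [if_neg h, ChevalleyDatum.x, dif_neg h, Matrix.one_mulVec]

/-- entries of the matrix of a word, computed symbolically with the packed tables -/
theorem wordMat_applyF (hx : x ≠ 0) (hy : y ≠ 0) (D : ChevalleyDatum) (hwf : wf D = true) (hwfF : wfFast D = true)
    (w : List (ℕ × LP)) (row c : D.Idx) :
    D.wordMat F (w.map fun rp => (rp.1, lpEval x y rp.2)) row c =
      svEval x y (applyWordF (mkFast D) w [(code D c, lpOne)]) (code D row) := by
  have := congrFun (applyWordF_spec x y hx hy D hwf hwfF w [(code D c, lpOne)]) row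
  rw [svVec_single, Matrix.mulVec_single_one] at this
  exact this.symm

/-- two words give the same matrix if they agree symbolically on every column -/
theorem wordMat_eq_of_checkF (hx : x ≠ 0) (hy : y ≠ 0) (D : ChevalleyDatum) (hwf : wf D = true)
    (hwfF : wfFast D = true) (w₁ w₂ : List (ℕ × LP))
    (h : ∀ c < D.rank + D.nroots, svIsZero (svDiff (applyWordF (mkFast D) w₁ [(c, lpOne)])
      (applyWordF (mkFast D) w₂ [(c, lpOne)])) = true) :
    D.wordMat F (w₁.map fun rp => (rp.1, lpEval x y rp.2)) =
      D.wordMat F (w₂.map fun rp => (rp.1, lpEval x y rp.2)) := by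
  ext row c
  rw [wordMat_applyF x y hx hy D hwf hwfF, wordMat_applyF x y hx hy D hwf hwfF]
  exact svEval_eq_of_diff x y (h _ (code_lt D c)) _

end sound

end Cfsg.Agent.Lib.Helper18
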