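import Cfsg.Agent.Lib.Helper18.ChevFastSym

set_option autoImplicit false

namespace Cfsg.Agent.Lib.Helper18

open Cfsg Cfsg.Lie Cfsg.Agent.Lib.Helper36

/-- the Laurent monomial `t` -/
def lpT : LP := [((1, 0), 1)]
/-- the Laurent monomial `-t⁻¹` -/
def lpTn : LP := [((-1, 0), -1)]

/-- the word `h_r(t)` with symbolic parameter -/
def hWordE (D : ChevalleyDatum) (r : ℕ) : List (ℕ × LP) :=
  [(r, lpT), (D.neg r, lpTn), (r, lpT), (r, lpNeg lpOne), (D.neg r, lpOne), (r, lpNeg lpOne)]

/-- column `c` of `h_r(t)`, computed symbolically -/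
def hCol (D : ChevalleyDatum) (r c : ℕ) : SV := applyWordF (mkFast D) (hWordE D r) [(c, lpOne)]

/-- exponent of `t` in the diagonal entry of `h_r(t)` at `c` -/
def hExp (D : ChevalleyDatum) (r c : ℕ) : ℤ :=
  match hCol D r c with
  | [(_, [((a, _), _)])] => a
  | _ => 0

def chkHcol (D : ChevalleyDatum) (r c : ℕ) : Bool :=
  match hCol D r c with
  | [(c', [((_, b), z)])] => Nat.beq c' c && decide (b = 0) && decide (z = 1)
  | _ => false

def chkH (D : ChevalleyDatum) (r : ℕ) : Bool := (List.range (D.rank + D.nroots)).all (chkHcol D r)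

theorem hCol_of_chk (D : ChevalleyDatum) (r c : ℕ) (h : chkHcol D r c = true) :
    hCol D r c = [(c, [((hExp D r c, 0), 1)])] := by
  unfold chkHcol at h
  unfold hExp
  split at h
  · rename_i c' a b z heq
    simp only [Bool.and_eq_true, decide_eq_true_eq] at h
    obtain ⟨⟨h1, h2⟩, h3⟩ := h
    have h1' : c' = c := Nat.eq_of_beq_eq_true h1
    rw [heq]
    simp [h1', h2, h3]
  · exact absurd h (by simp)

end Cfsg.Agent.Lib.Helper18

namespace Cfsg.Agent.Lib.Helper18

open Cfsg Cfsg.Lie Cfsg.Agent.Lib.Helper36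

section
variable {F : Type*} [Field F]

theorem lpEval_lpT (t : F) : lpEval t 1 lpT = t := by
  simp [lpT, lpEval, monoEval]

theorem lpEval_lpTn (t : F) : lpEval t 1 lpTn = -t⁻¹ := by
  simp [lpTn, lpEval, monoEval, zpow_neg]

theorem hWordE_eval (D : ChevalleyDatum) (r : ℕ) (t : F) :
    (hWordE D r).map (fun rp => (rp.1, lpEval t 1 rp.2)) = D.hWord r t := by
  simp [hWordE, ChevalleyDatum.hWord, ChevalleyDatum.nWord, lpEval_lpT, lpEval_lpTn, lpEval_neg, inv_neg]

theorem hMat_entry (D : ChevalleyDatum) (hwf : wf D = true) (hwfF : wfFast D = true) (r : ℕ)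
    (hchk : chkH D r = true) (t : F) (ht : t ≠ 0) (row col : D.Idx) :
    D.hMat F r t row col = if row = col then t ^ hExp D r (code D col) else 0 := by
  have h1 : chkHcol D r (code D col) = true := by
    unfold chkH at hchk
    rw [List.all_eq_true] at hchk
    exact hchk _ (List.mem_range.2 (code_lt D col))
  rw [ChevalleyDatum.hMat, ← hWordE_eval D r t, wordMat_applyF t 1 ht one_ne_zero D hwf hwfF]
  have h2 : applyWordF (mkFast D) (hWordE D r) [(code D col, lpOne)] = hCol D r (code D col) := rfl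
  rw [h2, hCol_of_chk D r _ h1, svEval_cons, svEval_nil, add_zero]
  by_cases h : row = col
  · subst h
    simp [lpEval, monoEval]
  · have : ¬ (code D col = code D row) := fun h' => h (code_injective D h').symm
    simp [h, this]

theorem hMat_eq_diagonal (D : ChevalleyDatum) (hwf : wf D = true) (hwfF : wfFast D = true) (r : ℕ)
    (hchk : chkH D r = true) (t : F) (ht : t ≠ 0) :
    D.hMat F r t = Matrix.diagonal (fun c => t ^ hExp D r (code D c)) := by
  ext row col
  rw [hMat_entry D hwf hwfF r hchk t ht, Matrix.diagonal_apply]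
  by_cases h : row = col
  · subst h; simp
  · simp [h]

theorem hMat_mul (D : ChevalleyDatum) (hwf : wf D = true) (hwfF : wfFast D = true) (r : ℕ)
    (hchk : chkH D r = true) (t₁ t₂ : F) (h₁ : t₁ ≠ 0) (h₂ : t₂ ≠ 0) :
    D.hMat F r t₁ * D.hMat F r t₂ = D.hMat F r (t₁ * t₂) := by
  rw [hMat_eq_diagonal D hwf hwfF r hchk t₁ h₁, hMat_eq_diagonal D hwf hwfF r hchk t₂ h₂,
    hMat_eq_diagonal D hwf hwfF r hchk (t₁ * t₂) (mul_ne_zero h₁ h₂), Matrix.diagonal_mul_diagonal]
  congr 1
  funext c
  rw [mul_zpow]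

end

end Cfsg.Agent.Lib.Helper18
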