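import Cfsg.Agent.Lib.Helper18.ChevH

set_option autoImplicit false

namespace Cfsg.Agent.Lib.Helper18

open Cfsg Cfsg.Lie Cfsg.Agent.Lib.Helper36

/-- the word `h_r(t)` with symbolic parameter; `nr` is the index of the opposite root -/
def hWordT (r nr : ℕ) : List (ℕ × LP) :=
  [(r, lpT), (nr, lpTn), (r, lpT), (r, lpNeg lpOne), (nr, lpOne), (r, lpNeg lpOne)]

/-- column `c` of `h_r(t)`, computed symbolically from a packed table -/
def hColT (T : FastTab) (r c : ℕ) : SV :=
  applyWordF T (hWordT r (dig 8 T.negT r)) [(c, lpOne)]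

def chkHcolT (T : FastTab) (r c : ℕ) : Bool :=
  match hColT T r c with
  | [(c', [((_, b), z)])] => Nat.beq c' c && decide (b = 0) && decide (z = 1)
  | _ => false

def chkHT (T : FastTab) (r : ℕ) : Bool := (List.range (T.l + T.n)).all (chkHcolT T r)

theorem FastTab_ext (A B : FastTab) (h1 : A.n = B.n) (h2 : A.l = B.l) (h3 : A.negT = B.negT)
    (h4 : A.carT = B.carT) (h5 : A.corT = B.corT) (h6 : A.chT = B.chT) : A = B := by
  cases A; cases B; simp_all

theorem hColT_mkFast (D : ChevalleyDatum) (hwfF : wfFast D = true) (r c : ℕ) :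
    hColT (mkFast D) r c = hCol D r c := by
  unfold hColT hCol hWordT hWordE
  rw [fast_neg D hwfF r]

theorem chkH_of_T (D : ChevalleyDatum) (hwfF : wfFast D = true) (T : FastTab) (hT : mkFast D = T)
    (r : ℕ) (h : chkHT T r = true) : chkH D r = true := by
  subst hT
  unfold chkHT at h
  unfold chkH
  have hl : (mkFast D).l + (mkFast D).n = D.rank + D.nroots := rfl
  rw [hl] at h
  rw [List.all_eq_true] at h ⊢
  intro c hc
  have := h c hc
  unfold chkHcolT at this
  unfold chkHcol
  rw [hColT_mkFast D hwfF] at this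
  exact this

theorem all_range'_imp (f : ℕ → Bool) (a len : ℕ) (h : (List.range' a len).all f = true) (r : ℕ)
    (h1 : a ≤ r) (h2 : r < a + len) : f r = true := by
  rw [List.all_eq_true] at h
  exact h r (by rw [List.mem_range'_1]; omega)

end Cfsg.Agent.Lib.Helper18
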