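import Cfsg.Agent.Lib.Helper18.ChevOrdHt
import Cfsg.Agent.Lib.Helper18.ChevCommInd

/-! # Additive functions on the roots and the roots `i r + j s` of the commutator formula (helper18) -/

set_option autoImplicit false

namespace Cfsg.Agent.Lib.Helper18

open Cfsg Cfsg.Lie Cfsg.Agent.Lib.Helper36

variable (D : ChevalleyDatum) (ht : ℕ → ℤ)

/-- the root `i r + s` read off the chain table: value of an additive function, and range -/
theorem chainRoot_ht (hwf : wf D = true) (r s i k : ℕ) (hr : r < D.nroots) (h : AddAt D ht r) (hi : 1 ≤ i)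
    (hk : D.chainRoot r s i = some k) : ht k = ht s + (i : ℤ) * ht r ∧ k < D.nroots := by
  unfold ChevalleyDatum.chainRoot ChevalleyDatum.chainEntry at hk
  cases hf : (D.chain.getD r #[]).toList.find? (fun e => e.1 = s) with
  | none => rw [hf] at hk; simp at hk
  | some e =>
    rw [hf] at hk
    simp only at hk
    have hmem : e ∈ (D.chain.getD r #[]).toList := List.mem_of_find?_eq_some hf
    have hes : e.1 = s := by simpa using List.find?_some hf
    cases hq : e.2.toList[i - 1]? with
    | none => rw [hq] at hk; simp at hk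
    | some q =>
      rw [hq] at hk
      simp only [Option.map_some, Option.some.injEq] at hk
      have h1 := h.2 e hmem (i - 1) q hq
      have h2 := (wf_chain D hwf r hr e hmem).2 q (List.mem_of_getElem? hq)
      rw [← hk]
      refine ⟨?_, h2⟩
      rw [h1, hes]
      congr 2
      push_cast [hi]
      ring

/-- the value of an additive function on the roots `i r + j s` of the commutator formula -/
theorem commTerms_ht (hwf : wf D = true) (hadd : ∀ r < D.nroots, AddAt D ht r) (r s : ℕ) (hr : r < D.nroots)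
    (hs : s < D.nroots) (c : ℕ × ℤ × ℕ × ℕ) (hc : c ∈ D.commTerms r s) :
    ht c.1 = (c.2.2.1 : ℤ) * ht r + (c.2.2.2 : ℤ) * ht s ∧ c.1 < D.nroots := by
  unfold ChevalleyDatum.commTerms at hc
  simp only [List.mem_filterMap, List.mem_cons, List.not_mem_nil, or_false] at hc
  obtain ⟨c', hc', hmap⟩ := hc
  rcases hc' with rfl | rfl | rfl | rfl | rfl | rfl | rfl
  · simp only [Option.map_eq_some_iff] at hmap
    obtain ⟨k, hk, rfl⟩ := hmap
    obtain ⟨h1, h2⟩ := chainRoot_ht D ht hwf r s 1 k hr (hadd r hr) le_rfl hk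
    refine ⟨?_, h2⟩
    simp only [h1]; push_cast; ring
  · simp only [Option.map_eq_some_iff] at hmap
    obtain ⟨k, hk, rfl⟩ := hmap
    obtain ⟨h1, h2⟩ := chainRoot_ht D ht hwf r s 2 k hr (hadd r hr) (by omega) hk
    refine ⟨?_, h2⟩
    simp only [h1]; push_cast; ring
  · simp only [Option.map_eq_some_iff] at hmap
    obtain ⟨k, hk, rfl⟩ := hmap
    obtain ⟨h1, h2⟩ := chainRoot_ht D ht hwf s r 2 k hs (hadd s hs) (by omega) hk
    refine ⟨?_, h2⟩
    simp only [h1]; push_cast; ring
  · simp only [Option.map_eq_some_iff] at hmap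
    obtain ⟨k, hk, rfl⟩ := hmap
    obtain ⟨h1, h2⟩ := chainRoot_ht D ht hwf r s 3 k hr (hadd r hr) (by omega) hk
    refine ⟨?_, h2⟩
    simp only [h1]; push_cast; ring
  · simp only [Option.map_eq_some_iff] at hmap
    obtain ⟨k, hk, rfl⟩ := hmap
    obtain ⟨h1, h2⟩ := chainRoot_ht D ht hwf s r 3 k hs (hadd s hs) (by omega) hk
    refine ⟨?_, h2⟩
    simp only [h1]; push_cast; ring
  · simp only [Option.map_eq_some_iff, Option.bind_eq_some_iff] at hmap
    obtain ⟨k, ⟨k0, hk0, hk⟩, rfl⟩ := hmap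
    obtain ⟨h1, h2⟩ := chainRoot_ht D ht hwf r s 3 k0 hr (hadd r hr) (by omega) hk0
    obtain ⟨h3, h4⟩ := chainRoot_ht D ht hwf k0 s 1 k h2 (hadd k0 h2) le_rfl hk
    refine ⟨?_, h4⟩
    simp only [h3, h1]; push_cast; ring
  · simp only [Option.map_eq_some_iff, Option.bind_eq_some_iff] at hmap
    obtain ⟨k, ⟨k0, hk0, hk⟩, rfl⟩ := hmap
    obtain ⟨h1, h2⟩ := chainRoot_ht D ht hwf s r 3 k0 hs (hadd s hs) (by omega) hk0
    obtain ⟨h3, h4⟩ := chainRoot_ht D ht hwf k0 r 1 k h2 (hadd k0 h2) le_rfl hk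
    refine ⟨?_, h4⟩
    simp only [h3, h1]; push_cast; ring

end Cfsg.Agent.Lib.Helper18
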