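import Cfsg.Agent.Lib.Helper18.ChevOrdMain
import Cfsg.Agent.Lib.Helper18.ChevTermsHt

/-! # Ordered products for other orders of the positive roots: `U = U_A U_B` for `B` closed (helper18)

For a key function `κ` on the positive roots such that the roots `i r + j s` (`κ r < κ s`) have keys above `κ r`,
`V_m = ⟨X_s : m ≤ κ s⟩` satisfies `V_{κ r} = X_r V_{κ r + 1}`. Applied to `κ r = r` on `A`, `κ r = r + nroots` on a
closed set `B`, this gives `U = ⟨X_r : r ∈ A⟩ ⟨X_r : r ∈ B⟩`. -/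

set_option autoImplicit false

namespace Cfsg.Agent.Lib.Helper18

open Cfsg Cfsg.Lie Cfsg.Agent.Lib.Helper36

section
variable (D : ChevalleyDatum) (hD : D ∈ [chevG2, chevB2, chevD4, chevF4, chevE6, chevE7, chevE8])
variable (F : Type*) [Field F] (κ : ℕ → ℕ)

/-- the roots of the commutator formula for `κ r < κ s` are positive with keys above `κ r` -/
def KeyOK : Prop :=
  (∀ r s, D.IsPosRoot r → D.IsPosRoot s → κ r = κ s → r = s) ∧
  ∀ r s, D.IsPosRoot r → D.IsPosRoot s → κ r < κ s → ∀ c ∈ D.commTerms r s, D.IsPosRoot c.1 ∧ κ r < κ c.1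

/-- generators of `V_m` for the key `κ` -/
def keyGens (m : ℕ) : Set (GL D.Idx F) :=
  {g : GL D.Idx F | ∃ (s : ℕ) (t : F), D.IsPosRoot s ∧ m ≤ κ s ∧ (g : Matrix D.Idx D.Idx F) = D.x F s t}

theorem xGL_mem_key (m s : ℕ) (hs : D.IsPosRoot s) (hms : m ≤ κ s) (u : F) :
    xGL D hD F s u ∈ Subgroup.closure (keyGens D F κ m) :=
  Subgroup.subset_closure ⟨s, u, hs, hms, rfl⟩

theorem keyGens_zero : Subgroup.closure (keyGens D F κ 0) = D.posUnipotent F := by
  unfold ChevalleyDatum.posUnipotent keyGens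
  congr 1
  ext g
  constructor
  · rintro ⟨s, t, hs, -, hg⟩; exact ⟨s, t, hs, hg⟩
  · rintro ⟨s, t, hs, hg⟩; exact ⟨s, t, hs, Nat.zero_le _, hg⟩

/-- conjugating a generator of `V_{κ r + 1}` by `x_r(t)` -/
theorem conj_gen_mem_key (hκ : KeyOK D κ) (r : ℕ) (hr : D.IsPosRoot r) (t : F) (k : GL D.Idx F)
    (hk : k ∈ keyGens D F κ (κ r + 1)) :
    xGL D hD F r t * k * (xGL D hD F r t)⁻¹ ∈ Subgroup.closure (keyGens D F κ (κ r + 1)) := by
  obtain ⟨hnp, -⟩ := chkOrd_spec D (chkOrd_all D hD) r hr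
  obtain ⟨s, u, hs, hrs, hks⟩ := hk
  have hk' : k = xGL D hD F s u := Units.ext hks
  have hrs' : κ r < κ s := hrs
  have hterms := hκ.2 r s hr hs hrs'
  have hsr : s ≠ r := by
    intro e; rw [e] at hrs'; exact lt_irrefl _ hrs'
  have hsnr : s ≠ D.neg r := by
    intro e; rw [e] at hs; exact hnp hs
  have hform := comm_formula_all D hD r s hr.1 hs.1 hsr hsnr (-t) u
  have hmat : D.x F r t * D.x F s u * D.x F r (-t) = D.x F s u * D.wordMat F (D.commWord F r s (-t) u) := by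
    rw [mul_assoc, hform, ← mul_assoc, ← mul_assoc, x_mul_neg D hD, one_mul]
  have hW : wordGL D hD F (D.commWord F r s (-t) u) ∈ Subgroup.closure (keyGens D F κ (κ r + 1)) := by
    apply wordGL_mem
    intro q hq
    unfold ChevalleyDatum.commWord at hq
    obtain ⟨c, hc, rfl⟩ := List.mem_map.1 hq
    exact xGL_mem_key D hD F κ _ _ (hterms c hc).1 (hterms c hc).2 _
  have : xGL D hD F r t * k * (xGL D hD F r t)⁻¹ = xGL D hD F s u * wordGL D hD F (D.commWord F r s (-t) u) := by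
    apply Units.ext
    rw [xGL_inv, hk']
    simp only [Units.val_mul, xGL_coe, wordGL_coe]
    exact hmat
  rw [this]
  exact Subgroup.mul_mem _ (xGL_mem_key D hD F κ _ _ hs hrs _) hW

theorem conj_mem_key (hκ : KeyOK D κ) (r : ℕ) (hr : D.IsPosRoot r) (t : F) (b : GL D.Idx F)
    (hb : b ∈ Subgroup.closure (keyGens D F κ (κ r + 1))) :
    xGL D hD F r t * b * (xGL D hD F r t)⁻¹ ∈ Subgroup.closure (keyGens D F κ (κ r + 1)) :=
  conj_mem_closure _ _ (fun k hk => conj_gen_mem_key D hD F κ hκ r hr t k hk) b hb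

/-- `V_{κ r} = X_r V_{κ r + 1}` -/
theorem key_decomp (hκ : KeyOK D κ) (r : ℕ) (hr : D.IsPosRoot r) (g : GL D.Idx F)
    (hg : g ∈ Subgroup.closure (keyGens D F κ (κ r))) :
    ∃ t : F, ∃ b ∈ Subgroup.closure (keyGens D F κ (κ r + 1)), g = xGL D hD F r t * b := by
  induction hg using Subgroup.closure_induction with
  | mem x hx =>
    obtain ⟨s, u, hs, hrs, hxs⟩ := hx
    have hx' : x = xGL D hD F s u := Units.ext hxs
    rcases Nat.lt_or_ge (κ r) (κ s) with h | h
    · exact ⟨0, x, Subgroup.subset_closure ⟨s, u, hs, h, hxs⟩, by rw [xGL_zero, one_mul]⟩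
    · have : r = s := hκ.1 r s hr hs (le_antisymm hrs h)
      refine ⟨u, 1, one_mem _, ?_⟩
      rw [hx', this, mul_one]
  | one => exact ⟨0, 1, one_mem _, by rw [xGL_zero, one_mul]⟩
  | mul x y _ _ hx hy =>
    obtain ⟨t, b, hb, rfl⟩ := hx
    obtain ⟨t', b', hb', rfl⟩ := hy
    refine ⟨t + t', (xGL D hD F r (-t') * b * (xGL D hD F r (-t'))⁻¹) * b', ?_, ?_⟩
    · exact Subgroup.mul_mem _ (conj_mem_key D hD F κ hκ r hr (-t') b hb) hb'
    · rw [← xGL_mul, xGL_inv, neg_neg]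
      have e : xGL D hD F r t' * xGL D hD F r (-t') = 1 := by
        rw [xGL_mul, add_neg_cancel, xGL_zero]
      calc xGL D hD F r t * b * (xGL D hD F r t' * b')
          = xGL D hD F r t * (1 * b) * (xGL D hD F r t' * b') := by rw [one_mul]
        _ = xGL D hD F r t * ((xGL D hD F r t' * xGL D hD F r (-t')) * b) * (xGL D hD F r t' * b') := by rw [e]
        _ = _ := by simp only [mul_assoc]
  | inv x _ hx =>
    obtain ⟨t, b, hb, rfl⟩ := hx
    refine ⟨-t, xGL D hD F r t * b⁻¹ * (xGL D hD F r t)⁻¹, ?_, ?_⟩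
    · exact conj_mem_key D hD F κ hκ r hr t b⁻¹ (inv_mem hb)
    · rw [mul_inv_rev, xGL_inv]
      have e : xGL D hD F r (-t) * xGL D hD F r t = 1 := by
        rw [xGL_mul, neg_add_cancel, xGL_zero]
      calc b⁻¹ * xGL D hD F r (-t) = 1 * (b⁻¹ * xGL D hD F r (-t)) := by rw [one_mul]
        _ = (xGL D hD F r (-t) * xGL D hD F r t) * (b⁻¹ * xGL D hD F r (-t)) := by rw [e]
        _ = _ := by simp only [mul_assoc]

/-- generators with small keys -/
def lowGens (M : ℕ) : Set (GL D.Idx F) :=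
  {g : GL D.Idx F | ∃ (s : ℕ) (t : F), D.IsPosRoot s ∧ κ s < M ∧ (g : Matrix D.Idx D.Idx F) = D.x F s t}

include hD in
/-- `V_m = ⟨X_r : κ r < M⟩ V_M` -/
theorem key_split (hκ : KeyOK D κ) (M : ℕ) : ∀ (k m : ℕ), m + k = M →
    ∀ g ∈ Subgroup.closure (keyGens D F κ m), ∃ a ∈ Subgroup.closure (lowGens D F κ M),
      ∃ b ∈ Subgroup.closure (keyGens D F κ M), g = a * b
  | 0, m, hmk, g, hg => by
    have : m = M := by omega
    rw [this] at hg
    exact ⟨1, one_mem _, g, hg, by rw [one_mul]⟩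
  | k + 1, m, hmk, g, hg => by
    by_cases h : ∃ r, D.IsPosRoot r ∧ κ r = m
    · obtain ⟨r, hr, hrm⟩ := h
      rw [← hrm] at hg
      obtain ⟨t, b', hb', rfl⟩ := key_decomp D hD F κ hκ r hr g hg
      rw [hrm] at hb'
      obtain ⟨a', ha', b, hb, rfl⟩ := key_split hκ M k (m + 1) (by omega) b' hb'
      refine ⟨xGL D hD F r t * a', ?_, b, hb, by rw [mul_assoc]⟩
      apply Subgroup.mul_mem _ _ ha'
      exact Subgroup.subset_closure ⟨r, t, hr, by omega, rfl⟩
    · have hset : keyGens D F κ m = keyGens D F κ (m + 1) := by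
        ext x
        constructor
        · rintro ⟨s, t, hs, hms, hx⟩
          refine ⟨s, t, hs, ?_, hx⟩
          rcases Nat.lt_or_ge m (κ s) with h1 | h1
          · exact h1
          · exact absurd ⟨s, hs, le_antisymm h1 hms⟩ h
        · rintro ⟨s, t, hs, hms, hx⟩
          exact ⟨s, t, hs, by omega, hx⟩
      rw [hset] at hg
      exact key_split hκ M k (m + 1) (by omega) g hg

end

end Cfsg.Agent.Lib.Helper18
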