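import Cfsg.Agent.Lib.Helper18.ChevCommAll
import Cfsg.Agent.Lib.Helper36.ChevGL

set_option autoImplicit false

namespace Cfsg.Agent.Lib.Helper18

open Cfsg Cfsg.Lie Cfsg.Agent.Lib.Helper36

theorem conj_mem_closure {G : Type*} [Group G] (S : Set G) (g : G)
    (h : ∀ k ∈ S, g * k * g⁻¹ ∈ Subgroup.closure S) (x : G) (hx : x ∈ Subgroup.closure S) :
    g * x * g⁻¹ ∈ Subgroup.closure S := by
  have h1 : (Subgroup.closure S).map (MulAut.conj g).toMonoidHom ≤ Subgroup.closure S := by
    rw [MonoidHom.map_closure, Subgroup.closure_le]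
    rintro _ ⟨k, hk, rfl⟩
    exact h k hk
  have : (MulAut.conj g).toMonoidHom x ∈ (Subgroup.closure S).map (MulAut.conj g).toMonoidHom :=
    Subgroup.mem_map_of_mem _ hx
  exact h1 this

theorem mem_normalizer_closure {G : Type*} [Group G] (S : Set G) (g : G)
    (h1 : ∀ k ∈ S, g * k * g⁻¹ ∈ Subgroup.closure S) (h2 : ∀ k ∈ S, g⁻¹ * k * g ∈ Subgroup.closure S) :
    g ∈ Subgroup.normalizer (Subgroup.closure S : Set G) := by
  rw [Subgroup.mem_set_normalizer_iff]
  intro x
  constructor
  · intro hx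
    exact conj_mem_closure S g h1 x hx
  · intro hx
    have h2' : ∀ k ∈ S, g⁻¹ * k * g⁻¹⁻¹ ∈ Subgroup.closure S := by
      intro k hk
      rw [inv_inv]
      exact h2 k hk
    have := conj_mem_closure S g⁻¹ h2' _ hx
    rw [inv_inv] at this
    have e : g⁻¹ * (g * x * g⁻¹) * g = x := by group
    rw [e] at this
    exact this

/-- table check: the roots `i r + j s`, `r = ± p_i`, `s` positive other than `p_i`, are positive roots other than `p_i` -/
def chkUp (D : ChevalleyDatum) (i : ℕ) : Bool :=
  decide (D.neg (D.neg (D.simple i)) = D.simple i) && !decide (D.IsPosRoot (D.neg (D.simple i))) &&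
  (List.range D.nroots).all fun s => !decide (D.IsPosRoot s) || Nat.beq s (D.simple i) ||
    (((D.commTerms (D.simple i) s).all fun c => decide (D.IsPosRoot c.1) && !Nat.beq c.1 (D.simple i)) &&
    ((D.commTerms (D.neg (D.simple i)) s).all fun c => decide (D.IsPosRoot c.1) && !Nat.beq c.1 (D.simple i)))

theorem chkUp_spec (D : ChevalleyDatum) (i : ℕ) (h : chkUp D i = true) :
    D.neg (D.neg (D.simple i)) = D.simple i ∧ ¬ D.IsPosRoot (D.neg (D.simple i)) ∧
    ∀ s, D.IsPosRoot s → s ≠ D.simple i →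
      (∀ c ∈ D.commTerms (D.simple i) s, D.IsPosRoot c.1 ∧ c.1 ≠ D.simple i) ∧
      (∀ c ∈ D.commTerms (D.neg (D.simple i)) s, D.IsPosRoot c.1 ∧ c.1 ≠ D.simple i) := by
  unfold chkUp at h
  simp only [Bool.and_eq_true, decide_eq_true_eq, Bool.not_eq_true', decide_eq_false_iff_not,
    List.all_eq_true, List.mem_range, Bool.or_eq_true] at h
  obtain ⟨⟨h1, h2⟩, h3⟩ := h
  refine ⟨h1, h2, fun s hs hsp => ?_⟩
  have h4 := h3 s hs.1
  have hb : Nat.beq s (D.simple i) = false := by
    rcases hx : Nat.beq s (D.simple i) with _ | _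
    · rfl
    · exact absurd (Nat.eq_of_beq_eq_true hx) hsp
  rcases h4 with (h4 | h4) | h4
  · exact absurd hs h4
  · rw [hb] at h4; exact absurd h4 (by simp)
  · constructor
    · intro c hc
      have := h4.1 c hc
      refine ⟨this.1, fun e => ?_⟩
      have h5 := this.2
      rw [e] at h5
      have : Nat.beq (D.simple i) (D.simple i) = true := Nat.beq_refl _
      rw [this] at h5
      exact Bool.noConfusion h5
    · intro c hc
      have := h4.2 c hc
      refine ⟨this.1, fun e => ?_⟩
      have h5 := this.2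
      rw [e] at h5
      have : Nat.beq (D.simple i) (D.simple i) = true := Nat.beq_refl _
      rw [this] at h5
      exact Bool.noConfusion h5

section
variable (D : ChevalleyDatum) (hD : D ∈ [chevG2, chevB2, chevD4, chevF4, chevE6, chevE7, chevE8])
variable (F : Type*) [Field F]

/-- the generating set of `U_p` -/
def upGens (p : ℕ) : Set (GL D.Idx F) :=
  {g : GL D.Idx F | ∃ (s : ℕ) (t : F), D.IsPosRoot s ∧ s ≠ p ∧ (g : Matrix D.Idx D.Idx F) = D.x F s t}

theorem xGL_inv (r : ℕ) (t : F) : (xGL D hD F r t)⁻¹ = xGL D hD F r (-t) := by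
  apply Units.ext
  rfl

theorem xGL_mem_up (p s : ℕ) (hs : D.IsPosRoot s) (hsp : s ≠ p) (u : F) :
    xGL D hD F s u ∈ Subgroup.closure (upGens D F p) :=
  Subgroup.subset_closure ⟨s, u, hs, hsp, rfl⟩

/-- conjugating a generator of `U_p` by `x_r(t)`, `r = ± p` -/
theorem conj_gen_mem (i : ℕ) (hchk : chkUp D i = true) (r : ℕ) (hr : r < D.nroots)
    (hrp : r = D.simple i ∨ r = D.neg (D.simple i)) (t : F) (k : GL D.Idx F)
    (hk : k ∈ upGens D F (D.simple i)) :
    xGL D hD F r t * k * (xGL D hD F r t)⁻¹ ∈ Subgroup.closure (upGens D F (D.simple i)) := by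
  obtain ⟨hnn, hnp, hT⟩ := chkUp_spec D i hchk
  obtain ⟨s, u, hs, hsp, hks⟩ := hk
  have hk' : k = xGL D hD F s u := Units.ext hks
  obtain ⟨hT1, hT2⟩ := hT s hs hsp
  have hsn : s ≠ D.neg (D.simple i) := by
    intro e; rw [e] at hs; exact hnp hs
  have hsr : s ≠ r := by
    rcases hrp with rfl | rfl
    · exact hsp
    · exact hsn
  have hsnr : s ≠ D.neg r := by
    rcases hrp with rfl | rfl
    · exact hsn
    · rw [hnn]; exact hsp
  have hterms : ∀ c ∈ D.commTerms r s, D.IsPosRoot c.1 ∧ c.1 ≠ D.simple i := by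
    rcases hrp with rfl | rfl
    · exact hT1
    · exact hT2
  have hform := comm_formula_all D hD r s hr hs.1 hsr hsnr (-t) u
  have hmat : D.x F r t * D.x F s u * D.x F r (-t) = D.x F s u * D.wordMat F (D.commWord F r s (-t) u) := by
    rw [mul_assoc, hform, ← mul_assoc, ← mul_assoc, x_mul_neg D hD, one_mul]
  have hW : wordGL D hD F (D.commWord F r s (-t) u) ∈ Subgroup.closure (upGens D F (D.simple i)) := by
    apply wordGL_mem
    intro q hq
    unfold ChevalleyDatum.commWord at hq
    obtain ⟨c, hc, rfl⟩ := List.mem_map.1 hq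
    exact xGL_mem_up D hD F _ _ (hterms c hc).1 (hterms c hc).2 _
  have : xGL D hD F r t * k * (xGL D hD F r t)⁻¹ = xGL D hD F s u * wordGL D hD F (D.commWord F r s (-t) u) := by
    apply Units.ext
    rw [xGL_inv, hk']
    simp only [Units.val_mul, xGL_coe, wordGL_coe]
    exact hmat
  rw [this]
  exact Subgroup.mul_mem _ (xGL_mem_up D hD F _ _ hs hsp _) hW

theorem xGL_mem_normalizer (i : ℕ) (hchk : chkUp D i = true) (r : ℕ) (hr : r < D.nroots)
    (hrp : r = D.simple i ∨ r = D.neg (D.simple i)) (t : F) :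
    xGL D hD F r t ∈ Subgroup.normalizer (Subgroup.closure (upGens D F (D.simple i)) : Set (GL D.Idx F)) := by
  apply mem_normalizer_closure
  · intro k hk
    exact conj_gen_mem D hD F i hchk r hr hrp t k hk
  · intro k hk
    have := conj_gen_mem D hD F i hchk r hr hrp (-t) k hk
    rw [xGL_inv, neg_neg, ← xGL_inv] at this
    exact this

include hD in
theorem rootSubgroup_le_normalizer (i : ℕ) (hchk : chkUp D i = true) (r : ℕ) (hr : r < D.nroots)
    (hrp : r = D.simple i ∨ r = D.neg (D.simple i)) :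
    D.rootSubgroup F r ≤ Subgroup.normalizer (Subgroup.closure (upGens D F (D.simple i)) : Set (GL D.Idx F)) := by
  unfold ChevalleyDatum.rootSubgroup
  rw [Subgroup.closure_le]
  rintro g ⟨t, hg⟩
  have : g = xGL D hD F r t := Units.ext hg
  rw [this]
  exact xGL_mem_normalizer D hD F i hchk r hr hrp t

include hD in
/-- `U = U_p ⊔ X_p` and `X_p`, `X_{-p}` normalise `U_p` -/
theorem up_main (i : ℕ) (hi : i < D.rank) (hchk : chkUp D i = true) :
    D.rootSubgroup F (D.simple i) ⊔ D.rootSubgroup F (D.neg (D.simple i)) ≤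
        Subgroup.normalizer (Subgroup.closure (upGens D F (D.simple i)) : Set (GL D.Idx F)) ∧
      Subgroup.closure (upGens D F (D.simple i)) ⊔ D.rootSubgroup F (D.simple i) = D.posUnipotent F := by
  have hpos := isPosRoot_simple D hD i hi
  have hp : D.simple i < D.nroots := hpos.1
  have hnp : D.neg (D.simple i) < D.nroots := wf_neg D (wf_all D hD) _ hp
  constructor
  · apply sup_le
    · exact rootSubgroup_le_normalizer D hD F i hchk _ hp (Or.inl rfl)
    · exact rootSubgroup_le_normalizer D hD F i hchk _ hnp (Or.inr rfl)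
  · apply le_antisymm
    · apply sup_le
      · unfold ChevalleyDatum.posUnipotent
        apply Subgroup.closure_mono
        rintro g ⟨s, t, hs, -, hg⟩
        exact ⟨s, t, hs, hg⟩
      · unfold ChevalleyDatum.rootSubgroup ChevalleyDatum.posUnipotent
        apply Subgroup.closure_mono
        rintro g ⟨t, hg⟩
        exact ⟨_, t, hpos, hg⟩
    · unfold ChevalleyDatum.posUnipotent
      rw [Subgroup.closure_le]
      rintro g ⟨s, t, hs, hg⟩
      by_cases hsp : s = D.simple i
      · apply Subgroup.mem_sup_right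
        unfold ChevalleyDatum.rootSubgroup
        apply Subgroup.subset_closure
        exact ⟨t, by rw [hg, hsp]⟩
      · apply Subgroup.mem_sup_left
        apply Subgroup.subset_closure
        exact ⟨s, t, hs, hsp, hg⟩

end

end Cfsg.Agent.Lib.Helper18
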