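import Cfsg.Agent.Lib.Helper18.ChevOrdHt
import Cfsg.Agent.Lib.Helper18.ChevUp
import Cfsg.Agent.Lib.Helper36.ChevChar

/-! # Ordered products over the positive roots (helper18)

Every element of `U` is uniquely an ordered product `∏ x_r(t_r)` over the positive roots in increasing index order.
Existence: the chain of subgroups `V_m = ⟨X_s : s positive, m ≤ s⟩`, `V_m = X_m V_{m+1}` by the commutator formula.
Uniqueness: `X_m ∩ V_{m+1} = 1` by the weighted-height filtration. -/

set_option autoImplicit false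
set_option maxRecDepth 100000

namespace Cfsg.Agent.Lib.Helper18

open Cfsg Cfsg.Lie Cfsg.Agent.Lib.Helper36

/-- table check: for positive roots `r < s` the roots `i r + j s` are positive of index above `r` -/
def chkOrd (D : ChevalleyDatum) : Bool :=
  D.posRoots.all fun r => !decide (D.IsPosRoot (D.neg r)) &&
    D.posRoots.all fun s => !decide (r < s) ||
      (D.commTerms r s).all fun c => decide (D.IsPosRoot c.1) && decide (r < c.1)

theorem mem_posRoots (D : ChevalleyDatum) (r : ℕ) : r ∈ D.posRoots ↔ D.IsPosRoot r := by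
  unfold ChevalleyDatum.posRoots
  rw [List.mem_filter]
  constructor
  · rintro ⟨-, h⟩; simpa using h
  · intro h; exact ⟨List.mem_range.2 h.1, by simpa using h⟩

theorem chkOrd_spec (D : ChevalleyDatum) (h : chkOrd D = true) (r : ℕ) (hr : D.IsPosRoot r) :
    ¬ D.IsPosRoot (D.neg r) ∧ ∀ s, D.IsPosRoot s → r < s →
      ∀ c ∈ D.commTerms r s, D.IsPosRoot c.1 ∧ r < c.1 := by
  unfold chkOrd at h
  simp only [List.all_eq_true, Bool.and_eq_true, Bool.not_eq_true', decide_eq_false_iff_not,
    Bool.or_eq_true, decide_eq_true_eq] at h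
  obtain ⟨h1, h2⟩ := h r ((mem_posRoots D r).2 hr)
  refine ⟨h1, fun s hs hrs c hc => ?_⟩
  rcases h2 s ((mem_posRoots D s).2 hs) with h3 | h3
  · exact absurd hrs h3
  · exact h3 c hc

/-- the coroot of every positive root is a primitive vector -/
def chkPrim (D : ChevalleyDatum) : Bool :=
  D.posRoots.all fun r => ((List.range D.rank).foldr (fun i g => Int.gcd (cor D r i) (g : ℤ)) 0) == 1

theorem dvd_foldr_gcd (f : ℕ → ℤ) (d : ℤ) : ∀ (l : List ℕ), (∀ i ∈ l, d ∣ f i) →
    d ∣ ((l.foldr (fun i g => Int.gcd (f i) (g : ℤ)) 0 : ℕ) : ℤ)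
  | [], _ => by simp
  | a :: l, h => by
    simp only [List.foldr_cons]
    apply Int.dvd_coe_gcd
    · exact h a (List.mem_cons_self ..)
    · exact dvd_foldr_gcd f d l (fun i hi => h i (List.mem_cons_of_mem _ hi))

theorem chkPrim_spec (D : ChevalleyDatum) (h : chkPrim D = true) (r : ℕ) (hr : D.IsPosRoot r) (d : ℤ)
    (hd : ∀ i < D.rank, d ∣ cor D r i) : d ∣ 1 := by
  unfold chkPrim at h
  rw [List.all_eq_true] at h
  have h1 := h r ((mem_posRoots D r).2 hr)
  have h2 : (List.range D.rank).foldr (fun i g => Int.gcd (cor D r i) (g : ℤ)) 0 = 1 := by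
    simpa using h1
  have := dvd_foldr_gcd (cor D r) d (List.range D.rank) (fun i hi => hd i (List.mem_range.1 hi))
  rw [h2] at this
  simpa using this

section
variable (D : ChevalleyDatum) (hD : D ∈ [chevG2, chevB2, chevD4, chevF4, chevE6, chevE7, chevE8])
variable (F : Type*) [Field F]

/-- generators of `V_m`: the root elements of the positive roots of index at least `m` -/
def ordGens (m : ℕ) : Set (GL D.Idx F) :=
  {g : GL D.Idx F | ∃ (s : ℕ) (t : F), D.IsPosRoot s ∧ m ≤ s ∧ (g : Matrix D.Idx D.Idx F) = D.x F s t}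

theorem ordGens_zero : Subgroup.closure (ordGens D F 0) = D.posUnipotent F := by
  unfold ChevalleyDatum.posUnipotent ordGens
  congr 1
  ext g
  constructor
  · rintro ⟨s, t, hs, -, hg⟩; exact ⟨s, t, hs, hg⟩
  · rintro ⟨s, t, hs, hg⟩; exact ⟨s, t, hs, Nat.zero_le _, hg⟩

theorem xGL_mem_ord (m s : ℕ) (hs : D.IsPosRoot s) (hms : m ≤ s) (u : F) :
    xGL D hD F s u ∈ Subgroup.closure (ordGens D F m) :=
  Subgroup.subset_closure ⟨s, u, hs, hms, rfl⟩

theorem ordGens_succ_of_not_pos (r : ℕ) (hr : ¬ D.IsPosRoot r) : ordGens D F r = ordGens D F (r + 1) := by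
  ext g
  constructor
  · rintro ⟨s, t, hs, hms, hg⟩
    refine ⟨s, t, hs, ?_, hg⟩
    rcases Nat.lt_or_ge r s with h | h
    · exact h
    · have : s = r := le_antisymm h hms
      rw [this] at hs
      exact absurd hs hr
  · rintro ⟨s, t, hs, hms, hg⟩
    exact ⟨s, t, hs, by omega, hg⟩

theorem ordGens_of_ge (m : ℕ) (hm : D.nroots ≤ m) : ordGens D F m = ∅ := by
  ext g
  constructor
  · rintro ⟨s, t, hs, hms, -⟩
    have := hs.1
    omega
  · intro h; exact absurd h (Set.notMem_empty _)

/-- conjugating a generator of `V_{r+1}` by `x_r(t)` -/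
theorem conj_gen_mem_ord (hchk : chkOrd D = true) (r : ℕ) (hr : D.IsPosRoot r) (t : F) (k : GL D.Idx F)
    (hk : k ∈ ordGens D F (r + 1)) :
    xGL D hD F r t * k * (xGL D hD F r t)⁻¹ ∈ Subgroup.closure (ordGens D F (r + 1)) := by
  obtain ⟨hnp, hT⟩ := chkOrd_spec D hchk r hr
  obtain ⟨s, u, hs, hrs, hks⟩ := hk
  have hk' : k = xGL D hD F s u := Units.ext hks
  have hrs' : r < s := hrs
  have hterms := hT s hs hrs'
  have hsr : s ≠ r := by omega
  have hsnr : s ≠ D.neg r := by
    intro e; rw [e] at hs; exact hnp hs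
  have hform := comm_formula_all D hD r s hr.1 hs.1 hsr hsnr (-t) u
  have hmat : D.x F r t * D.x F s u * D.x F r (-t) = D.x F s u * D.wordMat F (D.commWord F r s (-t) u) := by
    rw [mul_assoc, hform, ← mul_assoc, ← mul_assoc, x_mul_neg D hD, one_mul]
  have hW : wordGL D hD F (D.commWord F r s (-t) u) ∈ Subgroup.closure (ordGens D F (r + 1)) := by
    apply wordGL_mem
    intro q hq
    unfold ChevalleyDatum.commWord at hq
    obtain ⟨c, hc, rfl⟩ := List.mem_map.1 hq
    exact xGL_mem_ord D hD F _ _ (hterms c hc).1 (hterms c hc).2 _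
  have : xGL D hD F r t * k * (xGL D hD F r t)⁻¹ = xGL D hD F s u * wordGL D hD F (D.commWord F r s (-t) u) := by
    apply Units.ext
    rw [xGL_inv, hk']
    simp only [Units.val_mul, xGL_coe, wordGL_coe]
    exact hmat
  rw [this]
  exact Subgroup.mul_mem _ (xGL_mem_ord D hD F _ _ hs hrs _) hW

theorem conj_mem_ord (hchk : chkOrd D = true) (r : ℕ) (hr : D.IsPosRoot r) (t : F) (b : GL D.Idx F)
    (hb : b ∈ Subgroup.closure (ordGens D F (r + 1))) :
    xGL D hD F r t * b * (xGL D hD F r t)⁻¹ ∈ Subgroup.closure (ordGens D F (r + 1)) :=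
  conj_mem_closure _ _ (fun k hk => conj_gen_mem_ord D hD F hchk r hr t k hk) b hb

theorem xGL_mul (r : ℕ) (t u : F) : xGL D hD F r t * xGL D hD F r u = xGL D hD F r (t + u) := by
  apply Units.ext
  simp only [Units.val_mul, xGL_coe]
  exact x_add' D hD r t u

theorem xGL_zero (r : ℕ) : xGL D hD F r 0 = 1 := by
  apply Units.ext
  rw [xGL_coe]
  exact x_zero D hD r

/-- `V_r = X_r V_{r+1}` -/
theorem ord_decomp (hchk : chkOrd D = true) (r : ℕ) (hr : D.IsPosRoot r) (g : GL D.Idx F)
    (hg : g ∈ Subgroup.closure (ordGens D F r)) :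
    ∃ t : F, ∃ b ∈ Subgroup.closure (ordGens D F (r + 1)), g = xGL D hD F r t * b := by
  induction hg using Subgroup.closure_induction with
  | mem x hx =>
    obtain ⟨s, u, hs, hrs, hxs⟩ := hx
    have hx' : x = xGL D hD F s u := Units.ext hxs
    rcases Nat.lt_or_ge r s with h | h
    · exact ⟨0, x, Subgroup.subset_closure ⟨s, u, hs, h, hxs⟩, by rw [xGL_zero, one_mul]⟩
    · have : s = r := le_antisymm h hrs
      refine ⟨u, 1, one_mem _, ?_⟩
      rw [hx', this, mul_one]
  | one => exact ⟨0, 1, one_mem _, by rw [xGL_zero, one_mul]⟩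
  | mul x y _ _ hx hy =>
    obtain ⟨t, b, hb, rfl⟩ := hx
    obtain ⟨t', b', hb', rfl⟩ := hy
    refine ⟨t + t', (xGL D hD F r (-t') * b * (xGL D hD F r (-t'))⁻¹) * b', ?_, ?_⟩
    · exact Subgroup.mul_mem _ (conj_mem_ord D hD F hchk r hr (-t') b hb) hb'
    · rw [← xGL_mul, xGL_inv, neg_neg]
      have e : xGL D hD F r t' * xGL D hD F r (-t') = 1 := by
        rw [xGL_mul, add_neg_cancel, xGL_zero]
      calc xGL D hD F r t * b * (xGL D hD F r t' * b')
          = xGL D hD F r t * (1 * b) * (xGL D hD F r t' * b') := by rw [one_mul]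
        _ = xGL D hD F r t * ((xGL D hD F r t' * xGL D hD F r (-t')) * b) * (xGL D hD F r t' * b') := by rw [e]
        _ = _ := by simp only [mul_assoc]
  | inv x _ hx =>
    obtain ⟨t, b, hb, rfl⟩ := hx
    refine ⟨-t, xGL D hD F r t * b⁻¹ * (xGL D hD F r t)⁻¹, ?_, ?_⟩
    · exact conj_mem_ord D hD F hchk r hr t b⁻¹ (inv_mem hb)
    · rw [mul_inv_rev, xGL_inv]
      have e : xGL D hD F r (-t) * xGL D hD F r t = 1 := by
        rw [xGL_mul, neg_add_cancel, xGL_zero]
      calc b⁻¹ * xGL D hD F r (-t) = 1 * (b⁻¹ * xGL D hD F r (-t)) := by rw [one_mul]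
        _ = (xGL D hD F r (-t) * xGL D hD F r t) * (b⁻¹ * xGL D hD F r (-t)) := by rw [e]
        _ = _ := by simp only [mul_assoc]

/-- the ordered word over the positive roots in `[m, m + k)` -/
def ordWord (t : ℕ → F) (m k : ℕ) : List (ℕ × F) :=
  ((List.range' m k).filter fun r => decide (D.IsPosRoot r)).map fun r => (r, t r)

theorem ordWord_zero (t : ℕ → F) : ordWord D F t 0 D.nroots = D.posRoots.map fun r => (r, t r) := by
  unfold ordWord ChevalleyDatum.posRoots
  rw [List.range_eq_range']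

theorem ordWord_succ_pos (t : ℕ → F) (m k : ℕ) (hm : D.IsPosRoot m) :
    ordWord D F t m (k + 1) = (m, t m) :: ordWord D F t (m + 1) k := by
  unfold ordWord
  rw [List.range'_succ, List.filter_cons_of_pos (by simpa using hm), List.map_cons]

theorem ordWord_succ_neg (t : ℕ → F) (m k : ℕ) (hm : ¬ D.IsPosRoot m) :
    ordWord D F t m (k + 1) = ordWord D F t (m + 1) k := by
  unfold ordWord
  rw [List.range'_succ, List.filter_cons_of_neg (by simpa using hm)]

theorem ordWord_congr (t t' : ℕ → F) (m k : ℕ) (h : ∀ r, m ≤ r → D.IsPosRoot r → t r = t' r) :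
    ordWord D F t m k = ordWord D F t' m k := by
  unfold ordWord
  apply List.map_congr_left
  intro r hr
  rw [List.mem_filter] at hr
  have h1 := (List.mem_range'_1.1 hr.1).1
  have h2 : D.IsPosRoot r := by simpa using hr.2
  rw [h r h1 h2]

theorem wordMat_nil : D.wordMat F [] = 1 := by
  unfold ChevalleyDatum.wordMat
  simp

theorem ordWord_mem (t : ℕ → F) (m k : ℕ) :
    wordGL D hD F (ordWord D F t m k) ∈ Subgroup.closure (ordGens D F m) := by
  apply wordGL_mem
  intro p hp
  unfold ordWord at hp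
  obtain ⟨r, hr, rfl⟩ := List.mem_map.1 hp
  rw [List.mem_filter] at hr
  have h1 := (List.mem_range'_1.1 hr.1).1
  have h2 : D.IsPosRoot r := by simpa using hr.2
  exact xGL_mem_ord D hD F m r h2 h1 _

include hD in
/-- existence of the ordered product -/
theorem ord_exists (hchk : chkOrd D = true) : ∀ (k m : ℕ), m + k = D.nroots →
    ∀ g ∈ Subgroup.closure (ordGens D F m), ∃ t : ℕ → F,
      (g : Matrix D.Idx D.Idx F) = D.wordMat F (ordWord D F t m k)
  | 0, m, hmk, g, hg => by
    rw [ordGens_of_ge D F m (by omega), Subgroup.closure_empty, Subgroup.mem_bot] at hg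
    refine ⟨fun _ => 0, ?_⟩
    rw [hg]
    unfold ordWord
    simp [wordMat_nil]
  | k + 1, m, hmk, g, hg => by
    by_cases hm : D.IsPosRoot m
    · obtain ⟨a, b, hb, rfl⟩ := ord_decomp D hD F hchk m hm g hg
      obtain ⟨t', ht'⟩ := ord_exists hchk k (m + 1) (by omega) b hb
      refine ⟨Function.update t' m a, ?_⟩
      rw [ordWord_succ_pos D F _ m k hm, wordMat_cons, Units.val_mul, xGL_coe, ht']
      simp only [Function.update_self]
      congr 2
      apply ordWord_congr
      intro r hr _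
      rw [Function.update_of_ne (by omega)]
    · rw [ordGens_succ_of_not_pos D F m hm] at hg
      obtain ⟨t', ht'⟩ := ord_exists hchk k (m + 1) (by omega) g hg
      exact ⟨t', by rw [ordWord_succ_neg D F _ m k hm, ht']⟩

/-- the entry of `x_r(t)` in the row of `h_i` and the column of `e_{-r}` -/
theorem x_apply_inl_neg (r : ℕ) (hr : r < D.nroots) (hnr : D.neg r < D.nroots) (hne : D.neg r ≠ r)
    (i : Fin D.rank) (t : F) :
    D.x F r t (Sum.inl i) (Sum.inr ⟨D.neg r, hnr⟩) = ((cor D r i : ℤ) : F) * t := by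
  unfold ChevalleyDatum.x
  rw [dif_pos hr]
  have hne' : (⟨D.neg r, hnr⟩ : Fin D.nroots) ≠ ⟨r, hr⟩ := fun e => hne (Fin.mk.inj_iff.1 e)
  simp only [ChevalleyDatum.xMat, Matrix.of_apply, if_neg hne']
  have e1 : D.neg r = D.negIdx.getD r 0 := rfl
  rw [if_pos e1]
  rfl

include hD in
/-- `V_{m+1}` lies in the subgroup raising the weighted level by more than `htW m` -/
theorem ord_le_raises (m : ℕ) (hm : D.IsPosRoot m) (h1 : 1 ≤ htW D m + 1) :
    Subgroup.closure (ordGens D F (m + 1)) ≤ raisesSubgroup (lvIW D (htW D)) F (htW D m + 1) h1 := by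
  obtain ⟨hadd, hpos, hmono⟩ := chkW_spec D (chkW_all D hD)
  rw [Subgroup.closure_le]
  rintro g ⟨s, u, hs, hms, hg⟩
  show Raises (lvIW D (htW D)) (htW D m + 1) ((g : Matrix D.Idx D.Idx F) - 1)
  rw [hg]
  have h2 := hmono m s hm hs hms
  exact (x_sub_one_raisesW D (htW D) (wf_all D hD) F s hs.1 (hadd s hs.1) (hpos s hs) u).mono (by omega)

include hD in
/-- `X_m ∩ V_{m+1} = 1` -/
theorem xGL_mem_ord_succ (hprim : chkPrim D = true) (m : ℕ) (hm : D.IsPosRoot m) (c : F)
    (h : xGL D hD F m c ∈ Subgroup.closure (ordGens D F (m + 1))) : c = 0 := by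
  obtain ⟨hadd, hpos, hmono⟩ := chkW_spec D (chkW_all D hD)
  have hp := hpos m hm
  have h1 : 1 ≤ htW D m + 1 := by omega
  have hR : Raises (lvIW D (htW D)) (htW D m + 1) (D.x F m c - 1) := ord_le_raises D hD F m hm h1 h
  have hne : D.neg m ≠ m := (wf2_spec D (wf2_all D hD) m hm.1).1
  have hnr : D.neg m < D.nroots := wf_neg D (wf_all D hD) m hm.1
  have hzero : ∀ i : Fin D.rank, ((cor D m i : ℤ) : F) * c = 0 := by
    intro i
    by_contra hne0
    have hent : (D.x F m c - 1) (Sum.inl i) (Sum.inr ⟨D.neg m, hnr⟩) ≠ 0 := by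
      rw [Matrix.sub_apply, x_apply_inl_neg D F m hm.1 hnr hne i c, Matrix.one_apply_ne (by simp), sub_zero]
      exact hne0
    have := hR _ _ hent
    have hneg := (hadd m hm.1).1
    simp only [lvIW, enc, Sum.map_inl, Sum.map_inr, lvBW] at this
    rw [hneg] at this
    omega
  by_contra hc
  have hz : ∀ i < D.rank, ((cor D m i : ℤ) : F) = 0 := by
    intro i hi
    rcases mul_eq_zero.1 (hzero ⟨i, hi⟩) with h | h
    · exact h
    · exact absurd h hc
  have := ringChar.charP F
  have hd : ∀ i < D.rank, ((ringChar F : ℕ) : ℤ) ∣ cor D m i := by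
    intro i hi
    exact (CharP.intCast_eq_zero_iff F (ringChar F) _).1 (hz i hi)
  have h1' := chkPrim_spec D hprim m hm _ hd
  have : ringChar F = 1 := by
    have := Int.natCast_dvd_natCast.1 (show ((ringChar F : ℕ) : ℤ) ∣ ((1 : ℕ) : ℤ) by simpa using h1')
    exact Nat.dvd_one.1 this
  exact CharP.ringChar_ne_one this

include hD in
/-- uniqueness of the ordered product -/
theorem ord_unique (hprim : chkPrim D = true) : ∀ (k m : ℕ), m + k = D.nroots →
    ∀ t t' : ℕ → F, D.wordMat F (ordWord D F t m k) = D.wordMat F (ordWord D F t' m k) →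
      ∀ r, m ≤ r → D.IsPosRoot r → t r = t' r
  | 0, m, hmk, t, t', _, r, hr, hpos => by
    have := hpos.1
    omega
  | k + 1, m, hmk, t, t', h, r, hr, hpos => by
    by_cases hm : D.IsPosRoot m
    · rw [ordWord_succ_pos D F _ m k hm, ordWord_succ_pos D F _ m k hm, wordMat_cons, wordMat_cons] at h
      simp only at h
      have hGL : xGL D hD F m (t m) * wordGL D hD F (ordWord D F t (m + 1) k) =
          xGL D hD F m (t' m) * wordGL D hD F (ordWord D F t' (m + 1) k) := by
        apply Units.ext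
        simp only [Units.val_mul, xGL_coe, wordGL_coe]
        exact h
      have hmem : xGL D hD F m (-(t' m) + t m) ∈ Subgroup.closure (ordGens D F (m + 1)) := by
        have e : xGL D hD F m (-(t' m) + t m) = wordGL D hD F (ordWord D F t' (m + 1) k) *
            (wordGL D hD F (ordWord D F t (m + 1) k))⁻¹ := by
          rw [← xGL_mul, ← xGL_inv, eq_mul_inv_iff_mul_eq, mul_assoc, hGL, ← mul_assoc, inv_mul_cancel, one_mul]
        rw [e]
        exact Subgroup.mul_mem _ (ordWord_mem D hD F t' (m + 1) k) (inv_mem (ordWord_mem D hD F t (m + 1) k))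
      have h0 := xGL_mem_ord_succ D hD F hprim m hm _ hmem
      have htm : t m = t' m := by
        have : t m = t' m + (-(t' m) + t m) := by ring
        rw [this, h0, add_zero]
      rcases Nat.lt_or_ge m r with hlt | hge
      · rw [htm] at hGL
        have hW := mul_left_cancel hGL
        have hW' : D.wordMat F (ordWord D F t (m + 1) k) = D.wordMat F (ordWord D F t' (m + 1) k) := by
          rw [← wordGL_coe D hD, ← wordGL_coe D hD, hW]
        exact ord_unique hprim k (m + 1) (by omega) t t' hW' r hlt hpos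
      · have : r = m := le_antisymm hge hr
        rw [this]; exact htm
    · rw [ordWord_succ_neg D F _ m k hm, ordWord_succ_neg D F _ m k hm] at h
      rcases Nat.lt_or_ge m r with hlt | hge
      · exact ord_unique hprim k (m + 1) (by omega) t t' h r hlt hpos
      · have : r = m := le_antisymm hge hr
        rw [this] at hpos
        exact absurd hpos hm

end

end Cfsg.Agent.Lib.Helper18
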