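import Cfsg.Agent.Lib.Helper36.ChevTri

/-! # Weighted heights: the lexicographic order of the positive roots as an additive integer function (helper18)

`htW D s = Σ_i 7^(rank-1-i) m_i(s)` is additive along chains and strictly increasing in the index of the positive
roots; `x_s(u) - 1` raises the associated level function by `htW D s`. -/

set_option autoImplicit false
set_option maxRecDepth 100000

namespace Cfsg.Agent.Lib.Helper18

open Cfsg Cfsg.Lie Cfsg.Agent.Lib.Helper36

section generic

variable (D : ChevalleyDatum) (ht : ℕ → ℤ)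

/-- level of a basis vector for an arbitrary height function -/
def lvBW : BIdx → ℤ
  | .inl _ => 0
  | .inr s => ht s

def lvIW (x : D.Idx) : ℤ := lvBW ht (enc D x)

/-- the height function is additive along the `r`-chains -/
def AddAt (r : ℕ) : Prop :=
  ht (D.neg r) = - ht r ∧
    ∀ e ∈ (D.chain.getD r #[]).toList, ∀ (k : ℕ) (q : ℕ × ℤ), e.2.toList[k]? = some q →
      ht q.1 = ht e.1 + ((k : ℤ) + 1) * ht r

/-- `E_{r,k}` is homogeneous of degree `k · ht r` -/
theorem E_homogW (r : ℕ) (h : AddAt D ht r) (k : ℕ) (c : BIdx) :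
    ∀ p ∈ E D r k c, lvBW ht p.1 = lvBW ht c + (k : ℤ) * ht r := by
  obtain ⟨hneg, hch⟩ := h
  intro p hp
  rcases c with i | s
  · simp only [E] at hp
    split_ifs at hp with h1 h2
    · simp only [List.mem_singleton] at hp; rw [hp, h1]; simp [lvBW]
    · simp only [List.mem_singleton] at hp; rw [hp, h2]; simp [lvBW]
    · simp at hp
  · simp only [E] at hp
    split_ifs at hp with h1 h2 h3 h4 h5 h6 h7
    · simp only [List.mem_singleton] at hp; rw [hp, h1, h2]; simp [lvBW]
    · simp at hp
    · simp only [List.mem_singleton] at hp; rw [hp, h4]; simp [lvBW]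
    · rw [List.mem_map] at hp
      obtain ⟨i, hi, rfl⟩ := hp
      rw [h3, h5]
      simp only [lvBW, hneg]
      ring
    · simp only [List.mem_singleton] at hp; rw [hp, h3, h6]
      simp only [lvBW, hneg]
      push_cast; ring
    · simp at hp
    · simp only [List.mem_singleton] at hp; rw [hp, h7]; simp [lvBW]
    · unfold chainCol at hp
      rw [List.mem_flatMap] at hp
      obtain ⟨e, he, hp⟩ := hp
      have he' := (List.mem_filter.1 he).1
      have hes : e.1 = s := by
        have := (List.mem_filter.1 he).2
        exact Nat.eq_of_beq_eq_true this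
      unfold entryCol at hp
      cases hq : e.2.toList[k-1]? with
      | none => rw [hq] at hp; simp at hp
      | some q =>
        rw [hq] at hp
        simp only [List.mem_singleton] at hp
        rw [hp]
        have := hch e he' (k - 1) q hq
        simp only [lvBW]
        rw [this, hes]
        have hk : 1 ≤ k := Nat.one_le_iff_ne_zero.2 h7
        congr 2
        push_cast [hk]
        ring

theorem EF_entry_ne_zeroW (r : ℕ) (h : AddAt D ht r) (F : Type*) [Field F] (k : ℕ)
    (row col : D.Idx) (hne : EF D F r k row col ≠ 0) : lvIW D ht row = lvIW D ht col + (k : ℤ) * ht r := by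
  unfold EF at hne
  rw [Matrix.map_apply, toMat_apply] at hne
  have h0 : coef (E D r k (enc D col)) (enc D row) ≠ 0 := by
    intro h0; rw [h0] at hne; simp at hne
  obtain ⟨p, hp, hb⟩ := coef_ne_zero_mem _ _ h0
  have := E_homogW D ht r h k (enc D col) p hp
  unfold lvIW
  rw [← hb, this]

/-- `x_r(t) - 1` raises the level by at least `ht r`, when `ht r > 0` -/
theorem x_sub_one_raisesW (hwf : wf D = true) (F : Type*) [Field F] (r : ℕ) (hr : r < D.nroots)
    (h : AddAt D ht r) (hpos : 0 < ht r) (t : F) :
    Raises (lvIW D ht) (ht r) (D.x F r t - 1) := by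
  rw [x_eq_sum D hwf F r hr, Finset.sum_range_succ', pow_zero, one_smul, EF_eq_mapMatrix,
    toMat_E_zero]
  simp only [map_one, add_sub_cancel_right]
  apply Raises.sum
  intro k _
  apply Raises.smul
  intro row col hne
  have := EF_entry_ne_zeroW D ht r h F (k + 1) row col hne
  rw [this]
  push_cast
  nlinarith

end generic

/-- the weighted height: `Σ_i 7^(rank-1-i) m_i(s)` -/
def htW (D : ChevalleyDatum) (s : ℕ) : ℤ :=
  ((List.range D.rank).map fun i => (7 : ℤ) ^ (D.rank - 1 - i) * mF D i s).sum

/-- strictly increasing along a list -/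
def chkIncr (f : ℕ → ℤ) : List ℕ → Bool
  | [] => true
  | [_] => true
  | a :: b :: l => decide (f a < f b) && chkIncr f (b :: l)

theorem chkIncr_spec (f : ℕ → ℤ) : ∀ (l : List ℕ), l.Pairwise (· < ·) → chkIncr f l = true →
    ∀ r ∈ l, ∀ s ∈ l, r < s → f r < f s
  | [], _, _ => by simp
  | [a], _, _ => by
    intro r hr s hs hrs
    simp only [List.mem_singleton] at hr hs
    omega
  | a :: b :: l, hp, hc => by
    simp only [chkIncr, Bool.and_eq_true, decide_eq_true_eq] at hc
    obtain ⟨hab, hc'⟩ := hc
    have hp' : (b :: l).Pairwise (· < ·) := (List.pairwise_cons.1 hp).2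
    have ha : ∀ x ∈ b :: l, a < x := (List.pairwise_cons.1 hp).1
    have ih := chkIncr_spec f (b :: l) hp' hc'
    have hb : ∀ x ∈ b :: l, f a < f x := by
      intro x hx
      rcases List.mem_cons.1 hx with rfl | hx'
      · exact hab
      · have hbx : b < x := (List.pairwise_cons.1 hp').1 x hx'
        exact lt_trans hab (ih b (List.mem_cons_self ..) x hx hbx)
    intro r hr s hs hrs
    rcases List.mem_cons.1 hr with rfl | hr'
    · rcases List.mem_cons.1 hs with rfl | hs'
      · omega
      · exact hb s hs'
    · rcases List.mem_cons.1 hs with rfl | hs'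
      · have := ha r hr'; omega
      · exact ih r hr' s hs' hrs

/-- the weighted height is additive along the chains, positive and strictly increasing on the positive roots -/
def chkW (D : ChevalleyDatum) : Bool :=
  ((List.range D.nroots).all fun r =>
    decide (htW D (D.neg r) = - htW D r) &&
    (D.chain.getD r #[]).toList.all fun e => e.2.toList.zipIdx.all fun q =>
      decide (htW D q.1.1 = htW D e.1 + ((q.2 : ℤ) + 1) * htW D r)) &&
  (D.posRoots.all fun r => decide (0 < htW D r)) &&
  chkIncr (htW D) D.posRoots

theorem chkW_spec (D : ChevalleyDatum) (h : chkW D = true) :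
    (∀ r < D.nroots, AddAt D (htW D) r) ∧ (∀ r, D.IsPosRoot r → 0 < htW D r) ∧
    (∀ r s, D.IsPosRoot r → D.IsPosRoot s → r < s → htW D r < htW D s) := by
  unfold chkW at h
  simp only [Bool.and_eq_true, List.all_eq_true, decide_eq_true_eq, List.mem_range] at h
  obtain ⟨⟨h1, h2⟩, h3⟩ := h
  have hmem : ∀ r, D.IsPosRoot r → r ∈ D.posRoots := by
    intro r hr
    unfold ChevalleyDatum.posRoots
    rw [List.mem_filter]
    exact ⟨List.mem_range.2 hr.1, by simpa using hr⟩
  have hsorted : D.posRoots.Pairwise (· < ·) := by
    unfold ChevalleyDatum.posRoots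
    exact List.Pairwise.filter _ List.pairwise_lt_range
  refine ⟨fun r hr => ?_, fun r hr => h2 r (hmem r hr), fun r s hr hs hrs => ?_⟩
  · obtain ⟨a, b⟩ := h1 r hr
    refine ⟨a, fun e he k q hq => ?_⟩
    have hmem' : (q, k) ∈ e.2.toList.zipIdx := by
      rw [List.mem_zipIdx_iff_getElem?]
      simpa using hq
    exact b e he (q, k) hmem'
  · exact chkIncr_spec (htW D) D.posRoots hsorted h3 r (hmem r hr) s (hmem s hs) hrs

theorem chkW_G2 : chkW chevG2 = true := by decide +kernel
theorem chkW_B2 : chkW chevB2 = true := by decide +kernel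
theorem chkW_D4 : chkW chevD4 = true := by decide +kernel
theorem chkW_F4 : chkW chevF4 = true := by decide +kernel
theorem chkW_E6 : chkW chevE6 = true := by decide +kernel
theorem chkW_E7 : chkW chevE7 = true := by decide +kernel
theorem chkW_E8 : chkW chevE8 = true := by decide +kernel

theorem chkW_all (D : ChevalleyDatum) (hD : D ∈ [chevG2, chevB2, chevD4, chevF4, chevE6, chevE7, chevE8]) :
    chkW D = true :=
  seven_cases (P := fun D => chkW D = true) D hD chkW_G2 chkW_B2 chkW_D4 chkW_F4 chkW_E6 chkW_E7 chkW_E8

end Cfsg.Agent.Lib.Helper18
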