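import Cfsg.Agent.Lib.Helper18.ChevKey
import Cfsg.Agent.Lib.Helper36.ChevW0d

/-! # `U = U_w⁺ U_w⁻` for a word `w` in the fundamental reflections (helper18) -/

set_option autoImplicit false

namespace Cfsg.Agent.Lib.Helper18

open Cfsg Cfsg.Lie Cfsg.Agent.Lib.Helper36

theorem stepProp_all (D : ChevalleyDatum) (hD : D ∈ [chevG2, chevB2, chevD4, chevF4, chevE6, chevE7, chevE8]) :
    StepProp D :=
  seven_cases (P := fun D => StepProp D) D hD stepProp_G2 stepProp_B2 stepProp_D4 stepProp_F4 stepProp_E6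
    stepProp_E7 stepProp_E8

section
variable (D : ChevalleyDatum) (hD : D ∈ [chevG2, chevB2, chevD4, chevF4, chevE6, chevE7, chevE8])

include hD in
theorem addAt_htF (r : ℕ) (hr : r < D.nroots) : AddAt D (htF D) r := by
  obtain ⟨-, -, h3, h4⟩ := Cfsg.Agent.Lib.Helper36.chkUp_spec D (Cfsg.Agent.Lib.Helper36.chkUp_all D hD) r hr
  exact ⟨h3, h4⟩

include hD in
theorem htF_pos (r : ℕ) (hr : D.IsPosRoot r) : 0 < htF D r :=
  (Cfsg.Agent.Lib.Helper36.chkUp_spec D (Cfsg.Agent.Lib.Helper36.chkUp_all D hD) r hr.1).1 hr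

include hD in
theorem htF_neg (r : ℕ) (hr : D.IsNegRoot r) : htF D r < 0 :=
  (Cfsg.Agent.Lib.Helper36.chkUp_spec D (Cfsg.Agent.Lib.Helper36.chkUp_all D hD) r hr.1).2.1 hr

include hD in
theorem isPosRoot_of_htF_pos (r : ℕ) (hr : r < D.nroots) (h : 0 < htF D r) : D.IsPosRoot r := by
  rcases pos_or_neg D hD r hr with h1 | h1
  · exact h1
  · have := htF_neg D hD r h1; omega

include hD in
theorem isNegRoot_of_htF_neg (r : ℕ) (hr : r < D.nroots) (h : htF D r < 0) : D.IsNegRoot r := by
  rcases pos_or_neg D hD r hr with h1 | h1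
  · have := htF_pos D hD r h1; omega
  · exact h1

include hD in
theorem not_pos_and_neg (r : ℕ) (h1 : D.IsPosRoot r) (h2 : D.IsNegRoot r) : False := by
  have := htF_pos D hD r h1
  have := htF_neg D hD r h2
  omega

include hD in
/-- the roots `i r + j s` for positive `r ≠ s` are positive of index above `r` -/
theorem commTerms_pos (r s : ℕ) (hr : D.IsPosRoot r) (hs : D.IsPosRoot s)
    (c : ℕ × ℤ × ℕ × ℕ) (hc : c ∈ D.commTerms r s) : D.IsPosRoot c.1 ∧ r < c.1 := by
  have hwf := wf_all D hD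
  obtain ⟨h1, h2⟩ := commTerms_ht D (htF D) hwf (addAt_htF D hD) r s hr.1 hs.1 c hc
  obtain ⟨hadd, hpos, hmono⟩ := chkW_spec D (chkW_all D hD)
  obtain ⟨h3, -⟩ := commTerms_ht D (htW D) hwf hadd r s hr.1 hs.1 c hc
  obtain ⟨e1, e2⟩ := commTerms_exp_pos D r s c hc
  have hi : (1 : ℤ) ≤ (c.2.2.1 : ℤ) := by exact_mod_cast e1
  have hj : (1 : ℤ) ≤ (c.2.2.2 : ℤ) := by exact_mod_cast e2
  have p1 := htF_pos D hD r hr
  have p2 := htF_pos D hD s hs
  have q1 := hpos r hr
  have q2 := hpos s hs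
  have hcpos : D.IsPosRoot c.1 := by
    apply isPosRoot_of_htF_pos D hD c.1 h2
    rw [h1]
    nlinarith
  refine ⟨hcpos, ?_⟩
  have hgt : htW D r < htW D c.1 := by
    rw [h3]
    nlinarith
  by_contra hle
  rcases Nat.lt_or_ge c.1 r with h | h
  · have := hmono c.1 r hcpos hr h
    omega
  · have : c.1 = r := by omega
    rw [this] at hgt
    exact lt_irrefl _ hgt

include hD in
/-- the roots `i r + j s` for negative `r`, `s` are negative -/
theorem commTerms_neg (r s : ℕ) (hr : D.IsNegRoot r) (hs : D.IsNegRoot s)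
    (c : ℕ × ℤ × ℕ × ℕ) (hc : c ∈ D.commTerms r s) : D.IsNegRoot c.1 := by
  have hwf := wf_all D hD
  obtain ⟨h1, h2⟩ := commTerms_ht D (htF D) hwf (addAt_htF D hD) r s hr.1 hs.1 c hc
  obtain ⟨e1, e2⟩ := commTerms_exp_pos D r s c hc
  have hi : (1 : ℤ) ≤ (c.2.2.1 : ℤ) := by exact_mod_cast e1
  have hj : (1 : ℤ) ≤ (c.2.2.2 : ℤ) := by exact_mod_cast e2
  have p1 := htF_neg D hD r hr
  have p2 := htF_neg D hD s hs
  apply isNegRoot_of_htF_neg D hD c.1 h2
  rw [h1]
  nlinarith

include hD in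
theorem wRoot_inj (l : List ℕ) (hl : ∀ i ∈ l, i < D.rank) (r s : ℕ) (hr : r < D.nroots) (hs : s < D.nroots)
    (h : wRoot D l r = wRoot D l s) : r = s := by
  induction l with
  | nil => exact h
  | cons i l ih =>
    have hl' : ∀ i' ∈ l, i' < D.rank := fun i' hi' => hl i' (List.mem_cons_of_mem _ hi')
    have hi := hl i (List.mem_cons_self ..)
    apply ih hl'
    have h' : D.reflectRoot i (wRoot D l r) = D.reflectRoot i (wRoot D l s) := h
    obtain ⟨-, -, -, -, hs'⟩ := chkN2_spec D (chkN2_all D hD) i hi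
    have a := hs' _ (wRoot_lt D hD l hl' r hr)
    have b := hs' _ (wRoot_lt D hD l hl' s hs)
    rw [← a.2.1, ← b.2.1] at h'
    have := congrArg (nW D i) h'
    rw [a.2.2.2.2.2.1, b.2.2.2.2.2.1] at this
    exact this

include hD in
theorem wRoot_neg (l : List ℕ) (hl : ∀ i ∈ l, i < D.rank) (r : ℕ) (hr : r < D.nroots) :
    wRoot D l (D.neg r) = D.neg (wRoot D l r) := by
  induction l with
  | nil => rfl
  | cons i l ih =>
    have hl' : ∀ i' ∈ l, i' < D.rank := fun i' hi' => hl i' (List.mem_cons_of_mem _ hi')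
    have hi := hl i (List.mem_cons_self ..)
    show D.reflectRoot i (wRoot D l (D.neg r)) = D.neg (D.reflectRoot i (wRoot D l r))
    rw [ih hl', reflectRoot_neg D hD i _ hi (wRoot_lt D hD l hl' r hr)]

include hD in
/-- a word in the fundamental reflections maps the roots `i r + j s` to the roots `i w(r) + j w(s)` -/
theorem commTerms_wRoot (l : List ℕ) (hl : ∀ i ∈ l, i < D.rank) (r s : ℕ) (hr : r < D.nroots) (hs : s < D.nroots)
    (hsr : s ≠ r) (hsn : s ≠ D.neg r) :
    (D.commTerms (wRoot D l r) (wRoot D l s)).map (fun c => c.1) =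
      (D.commTerms r s).map (fun c => wRoot D l c.1) := by
  induction l with
  | nil => rfl
  | cons i l ih =>
    have hl' : ∀ i' ∈ l, i' < D.rank := fun i' hi' => hl i' (List.mem_cons_of_mem _ hi')
    have hi := hl i (List.mem_cons_self ..)
    have hr' := wRoot_lt D hD l hl' r hr
    have hs' := wRoot_lt D hD l hl' s hs
    have hne1 : wRoot D l s ≠ wRoot D l r := fun e => hsr (wRoot_inj D hD l hl' s r hs hr e)
    have hne2 : wRoot D l s ≠ D.neg (wRoot D l r) := by
      rw [← wRoot_neg D hD l hl' r hr]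
      exact fun e => hsn (wRoot_inj D hD l hl' s _ hs (wf_neg D (wf_all D hD) r hr) e)
    obtain ⟨hlt, hstep⟩ := stepProp_all D hD i hi _ hr' _ hs' hne1 hne2
    obtain ⟨-, -, -, -, hN⟩ := chkN2_spec D (chkN2_all D hD) i hi
    show (D.commTerms (D.reflectRoot i (wRoot D l r)) (D.reflectRoot i (wRoot D l s))).map (fun c => c.1) =
      (D.commTerms r s).map (fun c => D.reflectRoot i (wRoot D l c.1))
    rw [← (hN _ hr').2.1, ← (hN _ hs').2.1, hstep, List.map_map]
    have e1 : ((fun c : ℕ × ℤ × ℕ × ℕ => c.1) ∘ fun c : ℕ × ℤ × ℕ × ℕ =>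
        (nW D i c.1, nEta D i c.1 * c.2.1 * nEta D i (wRoot D l r) ^ c.2.2.1 *
          nEta D i (wRoot D l s) ^ c.2.2.2, c.2.2.1, c.2.2.2)) = fun c => nW D i c.1 := rfl
    rw [e1]
    have e2 : (D.commTerms (wRoot D l r) (wRoot D l s)).map (fun c => nW D i c.1) =
        ((D.commTerms (wRoot D l r) (wRoot D l s)).map (fun c => c.1)).map (nW D i) := by
      rw [List.map_map]; rfl
    rw [e2, ih hl', List.map_map]
    apply List.map_congr_left
    intro c hc
    have hc' : wRoot D l c.1 < D.nroots := by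
      apply wRoot_lt D hD l hl'
      exact (commTerms_ht D (htF D) (wf_all D hD) (addAt_htF D hD) r s hr hs c hc).2
    exact (hN _ hc').2.1

variable (F : Type*) [Field F]

include hD in
/-- `U = U_w⁺ U_w⁻`: every element of `U` is a product of an element of `⟨X_r : r > 0, w r > 0⟩` and an element
of `⟨X_r : r > 0, w r < 0⟩` -/
theorem split_wRoot (l : List ℕ) (hl : ∀ i ∈ l, i < D.rank) (g : GL D.Idx F) (hg : g ∈ D.posUnipotent F) :
    ∃ a ∈ Subgroup.closure {x : GL D.Idx F | ∃ (s : ℕ) (t : F), D.IsPosRoot s ∧ D.IsPosRoot (wRoot D l s) ∧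
        (x : Matrix D.Idx D.Idx F) = D.x F s t},
      ∃ b ∈ Subgroup.closure {x : GL D.Idx F | ∃ (s : ℕ) (t : F), D.IsPosRoot s ∧ D.IsNegRoot (wRoot D l s) ∧
        (x : Matrix D.Idx D.Idx F) = D.x F s t}, g = a * b := by
  classical
  let κ : ℕ → ℕ := fun r => if D.IsNegRoot (wRoot D l r) then r + D.nroots else r
  have hκ : KeyOK D κ := by
    constructor
    · intro r s hr hs h
      simp only [κ] at h
      have := hr.1
      have := hs.1
      split_ifs at h <;> omega
    · intro r s hr hs h c hc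
      have hrs : r ≠ s := by
        intro e; rw [e] at h; exact lt_irrefl _ h
      obtain ⟨hcp, hcr⟩ := commTerms_pos D hD r s hr hs c hc
      refine ⟨hcp, ?_⟩
      simp only [κ] at h ⊢
      by_cases hBr : D.IsNegRoot (wRoot D l r)
      · rw [if_pos hBr] at h ⊢
        have hBs : D.IsNegRoot (wRoot D l s) := by
          by_contra hBs
          rw [if_neg hBs] at h
          have := hs.1
          omega
        have hsn : s ≠ D.neg r := by
          intro e
          rw [e] at hs
          exact (chkOrd_spec D (chkOrd_all D hD) r hr).1 hs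
        have hmap := commTerms_wRoot D hD l hl r s hr.1 hs.1 (Ne.symm hrs) hsn
        have hmem : wRoot D l c.1 ∈ (D.commTerms (wRoot D l r) (wRoot D l s)).map (fun c => c.1) := by
          rw [hmap]
          exact List.mem_map.2 ⟨c, hc, rfl⟩
        obtain ⟨c', hc', hc'e⟩ := List.mem_map.1 hmem
        have hBc : D.IsNegRoot (wRoot D l c.1) := by
          rw [← hc'e]
          exact commTerms_neg D hD _ _ hBr hBs c' hc'
        rw [if_pos hBc]
        omega
      · rw [if_neg hBr] at h ⊢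
        split_ifs <;> omega
  rw [← keyGens_zero D F κ] at hg
  obtain ⟨a, ha, b, hb, rfl⟩ := key_split D hD F κ hκ D.nroots D.nroots 0 (by omega) g hg
  refine ⟨a, ?_, b, ?_, rfl⟩
  · refine Subgroup.closure_mono ?_ ha
    rintro x ⟨s, t, hs, hlt, hx⟩
    refine ⟨s, t, hs, ?_, hx⟩
    simp only [κ] at hlt
    by_cases hB : D.IsNegRoot (wRoot D l s)
    · rw [if_pos hB] at hlt; omega
    · rcases pos_or_neg D hD _ (wRoot_lt D hD l hl s hs.1) with h | h
      · exact h
      · exact absurd h hB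
  · refine Subgroup.closure_mono ?_ hb
    rintro x ⟨s, t, hs, hge, hx⟩
    refine ⟨s, t, hs, ?_, hx⟩
    simp only [κ] at hge
    by_contra hB
    rw [if_neg hB] at hge
    have := hs.1
    omega

end

end Cfsg.Agent.Lib.Helper18
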