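import Cfsg.Agent.Lib.Helper18.LPoly
import Cfsg.Prelude.Def_ChevStructure

set_option autoImplicit false

namespace Cfsg.Agent.Lib.Helper18

open Cfsg Cfsg.Lie

/-- natural number code of a coordinate index -/
def code (D : ChevalleyDatum) : D.Idx → ℕ
  | Sum.inl i => i.val
  | Sum.inr s => D.rank + s.val

theorem code_lt (D : ChevalleyDatum) (i : D.Idx) : code D i < D.rank + D.nroots := by
  rcases i with i | s
  · exact lt_of_lt_of_le i.2 (Nat.le_add_right _ _)
  · exact Nat.add_lt_add_left s.2 _

theorem code_injective (D : ChevalleyDatum) : Function.Injective (code D) := by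
  rintro (i | s) (i' | s') h
  · exact congrArg _ (Fin.ext h)
  · exfalso; simp only [code] at h; have := i.2; omega
  · exfalso; simp only [code] at h; have := i'.2; omega
  · simp only [code] at h; exact congrArg _ (Fin.ext (by omega))

theorem exists_code (D : ChevalleyDatum) (k : ℕ) (hk : k < D.rank + D.nroots) : ∃ i : D.Idx, code D i = k := by
  by_cases h : k < D.rank
  · exact ⟨Sum.inl ⟨k, h⟩, rfl⟩
  · exact ⟨Sum.inr ⟨k - D.rank, by omega⟩, by simp only [code]; omega⟩

/-- column `c` of `x_r(p)` as a sparse vector -/
def colE (D : ChevalleyDatum) (r : ℕ) (p : LP) (c : ℕ) : SV :=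
  if c < D.rank then
    [(c, lpOne), (D.rank + r, lpMul (lpOfInt (-(D.cartanSR.getD c #[]).getD r 0)) p)]
  else
    if c - D.rank = r then [(c, lpOne)]
    else if c - D.rank = D.negIdx.getD r 0 then
      ((List.range D.rank).map fun i => (i, lpMul (lpOfInt ((D.coroot.getD r #[]).getD i 0)) p)) ++
        [(c, lpOne), (D.rank + r, lpNeg (lpMul p p))]
    else
      (c, lpOne) :: (((D.chain.getD r #[]).toList.filter (fun e => e.1 = c - D.rank)).flatMap fun e =>
        (e.2.toList.zipIdx.map fun q => (D.rank + q.1.1, lpMul (lpOfInt q.1.2) (lpPow p (q.2 + 1)))))

section sound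
variable {F : Type*} [Field F] (x y : F)

theorem svEval_map {α : Type*} (l : List α) (key : α → ℕ) (val : α → LP) (k : ℕ) :
    svEval x y (l.map fun q => (key q, val q)) k =
      ((l.filter fun q => key q = k).map fun q => lpEval x y (val q)).sum := by
  induction l with
  | nil => simp
  | cons a l ih =>
    rw [List.map_cons, svEval_cons, ih, List.filter_cons]
    by_cases h : key a = k
    · simp [h]
    · simp [h]

theorem svEval_flatMap {α : Type*} (l : List α) (g : α → SV) (k : ℕ) :
    svEval x y (l.flatMap g) k = (l.map fun e => svEval x y (g e) k).sum := by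
  induction l with
  | nil => simp
  | cons a l ih => rw [List.flatMap_cons, svEval_append, ih, List.map_cons, List.sum_cons]

theorem sum_map_flatMap {α β : Type*} (l : List α) (G : α → List β) (f : β → F) :
    ((l.flatMap G).map f).sum = (l.map fun e => ((G e).map f).sum).sum := by
  induction l with
  | nil => simp
  | cons a l ih => rw [List.flatMap_cons, List.map_append, List.sum_append, ih, List.map_cons, List.sum_cons]

theorem filter_range_eq (n i : ℕ) (h : i < n) : (List.range n).filter (fun j => j = i) = [i] := by
  induction n with
  | zero => omega
  | succ n ih =>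
    rw [List.range_succ, List.filter_append]
    by_cases hi : i < n
    · rw [ih hi]
      have : ¬ n = i := by omega
      simp [this]
    · have hin : i = n := by omega
      subst hin
      have : (List.range i).filter (fun j => j = i) = [] := by
        rw [List.filter_eq_nil_iff]
        intro a ha
        have := List.mem_range.mp ha
        simp; omega
      rw [this]
      simp

theorem colE_spec (hx : x ≠ 0) (hy : y ≠ 0) (D : ChevalleyDatum) (r : Fin D.nroots) (p : LP) (row col : D.Idx) :
    D.xMat F r (lpEval x y p) row col = svEval x y (colE D r.val p (code D col)) (code D row) := by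
  rcases col with i | s
  · -- column h_i
    have hi : (code D (Sum.inl i)) < D.rank := i.2
    rw [colE, if_pos hi]
    rcases row with i' | u
    · simp only [ChevalleyDatum.xMat, Matrix.of_apply, code, svEval_cons, svEval_nil, lpEval_one]
      have h1 : ¬ (D.rank + r.val = i'.val) := by have := i'.2; omega
      by_cases h2 : i' = i
      · subst h2; simp [h1]
      · have h3 : ¬ (i.val = i'.val) := fun h => h2 (Fin.ext h.symm)
        simp [h1, h2, h3]
    · simp only [ChevalleyDatum.xMat, Matrix.of_apply, code, svEval_cons, svEval_nil, lpEval_one]
      have h1 : ¬ (i.val = D.rank + u.val) := by have := i.2; omega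
      by_cases h2 : u = r
      · subst h2
        simp [h1, lpEval_mul x y hx hy, lpEval_ofInt]
      · have h3 : ¬ (D.rank + r.val = D.rank + u.val) := fun h => h2 (Fin.ext (by omega))
        have h3' : ¬ (r.val = u.val) := fun h => h2 (Fin.ext h.symm)
        simp [h1, h2, h3, h3']
  · -- column e_s
    have hs : ¬ (code D (Sum.inr s)) < D.rank := by simp only [code]; omega
    have hcs : code D (Sum.inr s) - D.rank = s.val := by simp only [code]; omega
    rw [colE, if_neg hs, hcs]
    by_cases h1 : s = r
    · subst h1
      rw [if_pos rfl]
      rcases row with i' | u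
      · simp only [ChevalleyDatum.xMat, Matrix.of_apply, code, svEval_cons, svEval_nil]
        have : ¬ (D.rank + s.val = i'.val) := by have := i'.2; omega
        simp [this]
      · simp only [ChevalleyDatum.xMat, Matrix.of_apply, code, svEval_cons, svEval_nil, lpEval_one]
        by_cases h2 : u = s
        · subst h2; simp
        · have : ¬ (D.rank + s.val = D.rank + u.val) := fun h => h2 (Fin.ext (by omega))
          have this' : ¬ (s.val = u.val) := fun h => h2 (Fin.ext h.symm)
          simp [h2, this, this']
    · have h1' : ¬ (s.val = r.val) := fun h => h1 (Fin.ext h)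
      rw [if_neg h1']
      by_cases h2 : s.val = D.negIdx.getD r.val 0
      · rw [if_pos h2]
        rcases row with i' | u
        · simp only [ChevalleyDatum.xMat, Matrix.of_apply, if_neg h1, if_pos h2, code, svEval_append,
            svEval_cons, svEval_nil]
          rw [svEval_map x y (List.range D.rank) (fun i => i)
            (fun i => lpMul (lpOfInt ((D.coroot.getD r.val #[]).getD i 0)) p), filter_range_eq _ _ i'.2]
          have e1 : ¬ (D.rank + s.val = i'.val) := by have := i'.2; omega
          have e2 : ¬ (D.rank + r.val = i'.val) := by have := i'.2; omega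
          simp [e1, e2, lpEval_mul x y hx hy, lpEval_ofInt]
        · simp only [ChevalleyDatum.xMat, Matrix.of_apply, if_neg h1, if_pos h2, code, svEval_append,
            svEval_cons, svEval_nil, lpEval_one]
          rw [svEval_map x y (List.range D.rank) (fun i => i)
            (fun i => lpMul (lpOfInt ((D.coroot.getD r.val #[]).getD i 0)) p)]
          have e0 : (List.range D.rank).filter (fun q => q = D.rank + u.val) = [] := by
            rw [List.filter_eq_nil_iff]
            intro a ha
            have := List.mem_range.mp ha
            simp; omega
          rw [e0]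
          by_cases h3 : u = s
          · subst h3
            have : ¬ (D.rank + r.val = D.rank + u.val) := by omega
            have this' : ¬ (r.val = u.val) := by omega
            simp [this, this']
          · have e3 : ¬ (D.rank + s.val = D.rank + u.val) := fun h => h3 (Fin.ext (by omega))
            have e3' : ¬ (s.val = u.val) := fun h => h3 (Fin.ext h.symm)
            by_cases h4 : u = r
            · subst h4
              simp [h3, e3, e3', lpEval_neg, lpEval_mul x y hx hy, pow_two]
            · have e4 : ¬ (D.rank + r.val = D.rank + u.val) := fun h => h4 (Fin.ext (by omega))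
              have e4' : ¬ (r.val = u.val) := fun h => h4 (Fin.ext h.symm)
              simp [h3, h4, e3, e4, e3', e4']
      · rw [if_neg h2]
        rcases row with i' | u
        · simp only [ChevalleyDatum.xMat, Matrix.of_apply, if_neg h1, if_neg h2, code, svEval_cons]
          have e1 : ¬ (D.rank + s.val = i'.val) := by have := i'.2; omega
          rw [if_neg e1, svEval_flatMap]
          have : ∀ e ∈ (D.chain.getD r.val #[]).toList.filter (fun e => e.1 = s.val),
              svEval x y (e.2.toList.zipIdx.map fun q =>
                (D.rank + q.1.1, lpMul (lpOfInt q.1.2) (lpPow p (q.2 + 1)))) i'.val = 0 := by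
            intro e _
            rw [svEval_map x y e.2.toList.zipIdx (fun q => D.rank + q.1.1)
              (fun q => lpMul (lpOfInt q.1.2) (lpPow p (q.2 + 1)))]
            have : e.2.toList.zipIdx.filter (fun q => D.rank + q.1.1 = i'.val) = [] := by
              rw [List.filter_eq_nil_iff]
              intro a _
              have := i'.2
              simp; omega
            rw [this]; rfl
          rw [List.map_congr_left this]
          simp
        · simp only [ChevalleyDatum.xMat, Matrix.of_apply, if_neg h1, if_neg h2, code, svEval_cons,
            lpEval_one]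
          congr 1
          · by_cases h3 : u = s
            · subst h3; simp
            · have : ¬ (D.rank + s.val = D.rank + u.val) := fun h => h3 (Fin.ext (by omega))
              have this' : ¬ (s.val = u.val) := fun h => h3 (Fin.ext h.symm)
              simp [h3, this, this']
          · rw [svEval_flatMap, ChevalleyDatum.chainCoeff, sum_map_flatMap]
            apply congrArg
            apply List.map_congr_left
            intro e _
            rw [svEval_map x y e.2.toList.zipIdx (fun q => D.rank + q.1.1)
              (fun q => lpMul (lpOfInt q.1.2) (lpPow p (q.2 + 1))), List.map_map]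
            have hf : (e.2.toList.zipIdx.filter fun q => D.rank + q.1.1 = D.rank + u.val) =
                (e.2.toList.zipIdx.filter fun q => q.1.1 = u.val) := by
              apply List.filter_congr
              intro a _
              simp
            rw [hf]
            apply congrArg
            apply List.map_congr_left
            intro q _
            simp [lpEval_mul x y hx hy, lpEval_ofInt, lpEval_pow x y hx hy]

end sound

end Cfsg.Agent.Lib.Helper18

namespace Cfsg.Agent.Lib.Helper18

open Cfsg Cfsg.Lie

/-- apply a word in root elements (parameters are Laurent polynomials) to a sparse vector -/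
def applyWord (D : ChevalleyDatum) (w : List (ℕ × LP)) (v : SV) : SV :=
  w.foldr (fun rp acc => if rp.1 < D.nroots then
    applyCol (colE D rp.1 rp.2) (D.rank + D.nroots) acc else acc) v

/-- difference of sparse vectors -/
def svDiff (v w : SV) : SV := w.foldr (fun e acc => svIns e.1 (lpNeg e.2) acc) v

/-- all coefficients vanish -/
def svIsZero (v : SV) : Bool := v.all fun e => e.2.isEmpty

section sound2
variable {F : Type*} [Field F] (x y : F)

/-- the dense vector represented by a sparse vector -/
def svVec (D : ChevalleyDatum) (v : SV) : D.Idx → F := fun i => svEval x y v (code D i)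

theorem sum_code_mul_svEval (D : ChevalleyDatum) (g : ℕ → F) (v : SV) :
    ∑ c : D.Idx, g (code D c) * svEval x y v (code D c) =
      ((v.filter fun e => e.1 < D.rank + D.nroots).map fun e => lpEval x y e.2 * g e.1).sum := by
  induction v with
  | nil => simp
  | cons e v ih =>
    simp only [svEval_cons, mul_add, Finset.sum_add_distrib, ih, List.filter_cons]
    by_cases h : e.1 < D.rank + D.nroots
    · obtain ⟨c0, hc0⟩ := exists_code D e.1 h
      have : ∑ c : D.Idx, g (code D c) * (if e.1 = code D c then lpEval x y e.2 else 0) =
          lpEval x y e.2 * g e.1 := by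
        rw [Finset.sum_eq_single c0]
        · rw [if_pos hc0.symm, hc0]; ring
        · intro b _ hb
          have : ¬ (e.1 = code D b) := fun h' => hb (code_injective D (h'.symm.trans hc0.symm))
          rw [if_neg this, mul_zero]
        · intro h'; exact absurd (Finset.mem_univ _) h'
      rw [this]
      simp [h]
    · have : ∑ c : D.Idx, g (code D c) * (if e.1 = code D c then lpEval x y e.2 else 0) = 0 := by
        apply Finset.sum_eq_zero
        intro c _
        have : ¬ (e.1 = code D c) := fun h' => h (h' ▸ code_lt D c)
        rw [if_neg this, mul_zero]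
      rw [this]
      simp [h]

theorem applyX_spec (hx : x ≠ 0) (hy : y ≠ 0) (D : ChevalleyDatum) (r : Fin D.nroots) (p : LP) (v : SV) :
    svVec x y D (applyCol (colE D r.val p) (D.rank + D.nroots) v) =
      (D.xMat F r (lpEval x y p)).mulVec (svVec x y D v) := by
  funext row
  simp only [svVec, Matrix.mulVec, dotProduct]
  rw [svEval_applyCol x y hx hy]
  have : ∀ c : D.Idx, D.xMat F r (lpEval x y p) row c * svEval x y v (code D c) =
      (fun k => svEval x y (colE D r.val p k) (code D row)) (code D c) * svEval x y v (code D c) := by
    intro c
    rw [colE_spec x y hx hy]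
  rw [Finset.sum_congr rfl (fun c _ => this c)]
  exact (sum_code_mul_svEval x y D (fun k => svEval x y (colE D r.val p k) (code D row)) v).symm

theorem applyWord_spec (hx : x ≠ 0) (hy : y ≠ 0) (D : ChevalleyDatum) (w : List (ℕ × LP)) (v : SV) :
    svVec x y D (applyWord D w v) =
      (D.wordMat F (w.map fun rp => (rp.1, lpEval x y rp.2))).mulVec (svVec x y D v) := by
  induction w with
  | nil => simp [applyWord, ChevalleyDatum.wordMat]
  | cons a w ih =>
    have hw : D.wordMat F ((a :: w).map fun rp => (rp.1, lpEval x y rp.2)) =
        D.x F a.1 (lpEval x y a.2) * D.wordMat F (w.map fun rp => (rp.1, lpEval x y rp.2)) := by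
      simp [ChevalleyDatum.wordMat]
    have ha : applyWord D (a :: w) v = if a.1 < D.nroots then
        applyCol (colE D a.1 a.2) (D.rank + D.nroots) (applyWord D w v) else applyWord D w v := rfl
    rw [hw, ha, ← Matrix.mulVec_mulVec, ← ih]
    by_cases h : a.1 < D.nroots
    · rw [if_pos h, ChevalleyDatum.x, dif_pos h]
      exact applyX_spec x y hx hy D ⟨a.1, h⟩ a.2 _
    · rw [if_neg h, ChevalleyDatum.x, dif_neg h, Matrix.one_mulVec]

theorem svVec_single (D : ChevalleyDatum) (c : D.Idx) :
    svVec x y D [(code D c, lpOne)] = Pi.single c 1 := by
  funext row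
  simp only [svVec, svEval_cons, svEval_nil, lpEval_one, add_zero]
  by_cases h : row = c
  · subst h; simp
  · have : ¬ (code D c = code D row) := fun h' => h (code_injective D h').symm
    rw [if_neg this, Pi.single_eq_of_ne h]

/-- entries of the matrix of a word, computed symbolically -/
theorem wordMat_apply (hx : x ≠ 0) (hy : y ≠ 0) (D : ChevalleyDatum) (w : List (ℕ × LP)) (row c : D.Idx) :
    D.wordMat F (w.map fun rp => (rp.1, lpEval x y rp.2)) row c =
      svEval x y (applyWord D w [(code D c, lpOne)]) (code D row) := by
  have := congrFun (applyWord_spec x y hx hy D w [(code D c, lpOne)]) row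
  rw [svVec_single, Matrix.mulVec_single_one] at this
  exact this.symm

theorem svEval_diff (v w : SV) (k : ℕ) : svEval x y (svDiff v w) k = svEval x y v k - svEval x y w k := by
  induction w with
  | nil => simp [svDiff]
  | cons e w ih =>
    have : svDiff v (e :: w) = svIns e.1 (lpNeg e.2) (svDiff v w) := rfl
    rw [this, svEval_ins, ih, svEval_cons, lpEval_neg]
    split_ifs <;> ring

theorem svEval_of_isZero {v : SV} (h : svIsZero v = true) (k : ℕ) : svEval x y v k = 0 := by
  induction v with
  | nil => rfl
  | cons e v ih =>
    simp only [svIsZero, List.all_cons, Bool.and_eq_true] at h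
    rw [svEval_cons, lpEval_of_isEmpty x y h.1, ih h.2]
    simp

theorem svEval_eq_of_diff {v w : SV} (h : svIsZero (svDiff v w) = true) (k : ℕ) :
    svEval x y v k = svEval x y w k := by
  have := svEval_of_isZero x y h k
  rw [svEval_diff] at this
  exact sub_eq_zero.mp this

/-- two words give the same matrix if they agree symbolically on every column -/
theorem wordMat_eq_of_check (hx : x ≠ 0) (hy : y ≠ 0) (D : ChevalleyDatum) (w₁ w₂ : List (ℕ × LP))
    (h : ∀ c < D.rank + D.nroots,
      svIsZero (svDiff (applyWord D w₁ [(c, lpOne)]) (applyWord D w₂ [(c, lpOne)])) = true) :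
    D.wordMat F (w₁.map fun rp => (rp.1, lpEval x y rp.2)) =
      D.wordMat F (w₂.map fun rp => (rp.1, lpEval x y rp.2)) := by
  ext row c
  rw [wordMat_apply x y hx hy, wordMat_apply x y hx hy]
  exact svEval_eq_of_diff x y (h _ (code_lt D c)) _

end sound2

end Cfsg.Agent.Lib.Helper18
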