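import Mathlib

set_option autoImplicit false

namespace Cfsg.Agent.Lib.Helper18

section level
variable {W : Type*} [Group W] {X : Type*}

theorem fix_closure (T : Set W) (f : W → X) (hf : ∀ h ∈ T, ∀ w, f (h * w) = f w) :
    ∀ h ∈ Subgroup.closure T, ∀ w, f (h * w) = f w := by
  intro h hh
  induction hh using Subgroup.closure_induction with
  | mem x hx => exact hf x hx
  | one => intro w; rw [one_mul]
  | mul x y _ _ ihx ihy => intro w; rw [mul_assoc, ihx, ihy]
  | inv x _ ih => intro w; rw [← ih (x⁻¹ * w), mul_inv_cancel_left]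

theorem surj_closure (S T : Set W) (hinv : ∀ s ∈ S, s * s = 1)
    (reps : List W) (h1 : (1 : W) ∈ reps)
    (hclos : ∀ u ∈ reps, ∀ s ∈ S, ∃ h ∈ Subgroup.closure T, ∃ u' ∈ reps, u * s = h * u') :
    ∀ x ∈ Subgroup.closure S, ∃ h ∈ Subgroup.closure T, ∃ u ∈ reps, x = h * u := by
  intro x hx
  induction hx using Subgroup.closure_induction_right with
  | one => exact ⟨1, one_mem _, 1, h1, (one_mul 1).symm⟩
  | mul_right x _ y hy ih =>
    obtain ⟨h, hh, u, hu, rfl⟩ := ih
    obtain ⟨h', hh', u', hu', e⟩ := hclos u hu y hy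
    exact ⟨h * h', mul_mem hh hh', u', hu', by rw [mul_assoc, e, mul_assoc]⟩
  | mul_inv_cancel x _ y hy ih =>
    have hyinv : y⁻¹ = y := inv_eq_of_mul_eq_one_right (hinv y hy)
    obtain ⟨h, hh, u, hu, rfl⟩ := ih
    obtain ⟨h', hh', u', hu', e⟩ := hclos u hu y hy
    exact ⟨h * h', mul_mem hh hh', u', hu', by rw [hyinv, mul_assoc, e, mul_assoc]⟩

theorem level_card (S T : Set W) (hTS : T ⊆ S) (hinv : ∀ s ∈ S, s * s = 1)
    (reps : List W) (h1 : (1 : W) ∈ reps)
    (hmem : ∀ u ∈ reps, u ∈ Subgroup.closure S)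
    (hclos : ∀ u ∈ reps, ∀ s ∈ S, ∃ h ∈ Subgroup.closure T, ∃ u' ∈ reps, u * s = h * u')
    (f : W → X) (hf : ∀ h ∈ T, ∀ w, f (h * w) = f w)
    (hnd : (reps.map f).Nodup) :
    Nat.card (Subgroup.closure S) = Nat.card (Subgroup.closure T) * reps.length := by
  have hle : Subgroup.closure T ≤ Subgroup.closure S := Subgroup.closure_mono hTS
  have hfix := fix_closure T f hf
  have hsurj := surj_closure S T hinv reps h1 hclos
  let φ : (Subgroup.closure T) × Fin reps.length → Subgroup.closure S := fun p =>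
    ⟨p.1.1 * reps[p.2], mul_mem (hle p.1.2) (hmem _ (List.getElem_mem _))⟩
  have hinj : Function.Injective φ := by
    rintro ⟨⟨h, hh⟩, k⟩ ⟨⟨h', hh'⟩, k'⟩ e
    have e' : h * reps[k] = h' * reps[k'] := congrArg Subtype.val e
    have e2 : f reps[k] = f reps[k'] := by
      rw [← hfix h hh reps[k], ← hfix h' hh' reps[k'], e']
    have hk : k = k' := by
      have hlen : reps.length = (reps.map f).length := (List.length_map f).symm
      have e3 : (reps.map f)[(k : ℕ)]'(by rw [← hlen]; exact k.2) = (reps.map f)[(k' : ℕ)]'(by rw [← hlen]; exact k'.2) := by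
        simpa using e2
      have := (List.Nodup.getElem_inj_iff hnd).mp e3
      exact Fin.ext this
    subst hk
    have : h = h' := mul_right_cancel e'
    subst this
    rfl
  have hsur : Function.Surjective φ := by
    rintro ⟨x, hx⟩
    obtain ⟨h, hh, u, hu, rfl⟩ := hsurj x hx
    obtain ⟨k, hk, rfl⟩ := List.getElem_of_mem hu
    exact ⟨(⟨h, hh⟩, ⟨k, hk⟩), rfl⟩
  rw [← Nat.card_congr (Equiv.ofBijective φ ⟨hinj, hsur⟩), Nat.card_prod, Nat.card_fin]

theorem level_ker (S T : Set W) (hinv : ∀ s ∈ S, s * s = 1)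
    (reps : List W) (h1 : (1 : W) ∈ reps)
    (hclos : ∀ u ∈ reps, ∀ s ∈ S, ∃ h ∈ Subgroup.closure T, ∃ u' ∈ reps, u * s = h * u')
    (f : W → X) (hf : ∀ h ∈ T, ∀ w, f (h * w) = f w)
    (hnd : (reps.map f).Nodup) :
    ∀ w ∈ Subgroup.closure S, f w = f 1 → w ∈ Subgroup.closure T := by
  intro w hw hfw
  obtain ⟨h, hh, u, hu, rfl⟩ := surj_closure S T hinv reps h1 hclos w hw
  rw [fix_closure T f hf h hh] at hfw
  have : u = 1 := List.inj_on_of_nodup_map hnd hu h1 hfw
  rw [this, mul_one]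
  exact hh

end level

section ded
variable {W : Type*} [Group W]

theorem rel2 {a b : W} (ha : a * a = 1) (hb : b * b = 1) (h : (a * b) ^ 2 = 1) : a = b * a * b := by
  have hai : a⁻¹ = a := inv_eq_of_mul_eq_one_right ha
  have hbi : b⁻¹ = b := inv_eq_of_mul_eq_one_right hb
  have h2 : a * (b * a * b) = 1 := by simpa [pow_succ, mul_assoc] using h
  have := inv_eq_of_mul_eq_one_right h2
  rw [hai] at this
  exact this

theorem rel3 {a b : W} (ha : a * a = 1) (hb : b * b = 1) (h : (a * b) ^ 3 = 1) :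
    a = b * a * b * a * b := by
  have hai : a⁻¹ = a := inv_eq_of_mul_eq_one_right ha
  have h2 : a * (b * a * b * a * b) = 1 := by simpa [pow_succ, mul_assoc] using h
  have := inv_eq_of_mul_eq_one_right h2
  rw [hai] at this
  exact this

theorem rel4 {a b : W} (ha : a * a = 1) (hb : b * b = 1) (h : (a * b) ^ 4 = 1) :
    a = b * a * b * a * b * a * b := by
  have hai : a⁻¹ = a := inv_eq_of_mul_eq_one_right ha
  have h2 : a * (b * a * b * a * b * a * b) = 1 := by simpa [pow_succ, mul_assoc] using h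
  have := inv_eq_of_mul_eq_one_right h2
  rw [hai] at this
  exact this

theorem rel6 {a b : W} (ha : a * a = 1) (hb : b * b = 1) (h : (a * b) ^ 6 = 1) :
    a = b * a * b * a * b * a * b * a * b * a * b := by
  have hai : a⁻¹ = a := inv_eq_of_mul_eq_one_right ha
  have h2 : a * (b * a * b * a * b * a * b * a * b * a * b) = 1 := by
    simpa [pow_succ, mul_assoc] using h
  have := inv_eq_of_mul_eq_one_right h2
  rw [hai] at this
  exact this

theorem step {x y g c : W} (e : x * c = g * y) (p r : W) (hp : p = x) : p * (c * r) = g * (y * r) := by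
  rw [hp, ← mul_assoc, e, mul_assoc]

theorem ded2 {a b x0 x1 x2 x3 g1 g2 g3 : W} (hab : a = b * a * b)
    (e1 : x0 * b = g1 * x1) (e2 : x1 * a = g2 * x2) (e3 : x2 * b = g3 * x3) :
    x0 * a = g1 * g2 * g3 * x3 := by
  calc x0 * a = x0 * (b * a * b) := by rw [← hab]
    _ = (x0 * b) * a * b := by simp only [mul_assoc]
    _ = g1 * (x1 * a) * b := by rw [e1]; simp only [mul_assoc]
    _ = g1 * g2 * (x2 * b) := by rw [e2]; simp only [mul_assoc]
    _ = g1 * g2 * g3 * x3 := by rw [e3]; simp only [mul_assoc]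

theorem ded3 {a b x0 x1 x2 x3 x4 x5 g1 g2 g3 g4 g5 : W} (hab : a = b * a * b * a * b)
    (e1 : x0 * b = g1 * x1) (e2 : x1 * a = g2 * x2) (e3 : x2 * b = g3 * x3)
    (e4 : x3 * a = g4 * x4) (e5 : x4 * b = g5 * x5) :
    x0 * a = g1 * g2 * g3 * g4 * g5 * x5 := by
  calc x0 * a = x0 * (b * a * b * a * b) := by rw [← hab]
    _ = (x0 * b) * a * b * a * b := by simp only [mul_assoc]
    _ = g1 * (x1 * a) * b * a * b := by rw [e1]; simp only [mul_assoc]
    _ = g1 * g2 * (x2 * b) * a * b := by rw [e2]; simp only [mul_assoc]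
    _ = g1 * g2 * g3 * (x3 * a) * b := by rw [e3]; simp only [mul_assoc]
    _ = g1 * g2 * g3 * g4 * (x4 * b) := by rw [e4]; simp only [mul_assoc]
    _ = g1 * g2 * g3 * g4 * g5 * x5 := by rw [e5]; simp only [mul_assoc]

theorem ded4 {a b x0 x1 x2 x3 x4 x5 x6 x7 g1 g2 g3 g4 g5 g6 g7 : W}
    (hab : a = b * a * b * a * b * a * b)
    (e1 : x0 * b = g1 * x1) (e2 : x1 * a = g2 * x2) (e3 : x2 * b = g3 * x3)
    (e4 : x3 * a = g4 * x4) (e5 : x4 * b = g5 * x5) (e6 : x5 * a = g6 * x6)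
    (e7 : x6 * b = g7 * x7) :
    x0 * a = g1 * g2 * g3 * g4 * g5 * g6 * g7 * x7 := by
  calc x0 * a = x0 * (b * a * b * a * b * a * b) := by rw [← hab]
    _ = (x0 * b) * a * b * a * b * a * b := by simp only [mul_assoc]
    _ = g1 * (x1 * a) * b * a * b * a * b := by rw [e1]; simp only [mul_assoc]
    _ = g1 * g2 * (x2 * b) * a * b * a * b := by rw [e2]; simp only [mul_assoc]
    _ = g1 * g2 * g3 * (x3 * a) * b * a * b := by rw [e3]; simp only [mul_assoc]
    _ = g1 * g2 * g3 * g4 * (x4 * b) * a * b := by rw [e4]; simp only [mul_assoc]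
    _ = g1 * g2 * g3 * g4 * g5 * (x5 * a) * b := by rw [e5]; simp only [mul_assoc]
    _ = g1 * g2 * g3 * g4 * g5 * g6 * (x6 * b) := by rw [e6]; simp only [mul_assoc]
    _ = g1 * g2 * g3 * g4 * g5 * g6 * g7 * x7 := by rw [e7]; simp only [mul_assoc]

theorem ded6 {a b x0 x1 x2 x3 x4 x5 x6 x7 x8 x9 x10 x11 g1 g2 g3 g4 g5 g6 g7 g8 g9 g10 g11 : W}
    (hab : a = b * a * b * a * b * a * b * a * b * a * b)
    (e1 : x0 * b = g1 * x1) (e2 : x1 * a = g2 * x2) (e3 : x2 * b = g3 * x3)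
    (e4 : x3 * a = g4 * x4) (e5 : x4 * b = g5 * x5) (e6 : x5 * a = g6 * x6)
    (e7 : x6 * b = g7 * x7) (e8 : x7 * a = g8 * x8) (e9 : x8 * b = g9 * x9)
    (e10 : x9 * a = g10 * x10) (e11 : x10 * b = g11 * x11) :
    x0 * a = g1 * g2 * g3 * g4 * g5 * g6 * g7 * g8 * g9 * g10 * g11 * x11 := by
  calc x0 * a = x0 * (b * a * b * a * b * a * b * a * b * a * b) := by rw [← hab]
    _ = (x0 * b) * a * b * a * b * a * b * a * b * a * b := by simp only [mul_assoc]
    _ = g1 * (x1 * a) * b * a * b * a * b * a * b * a * b := by rw [e1]; simp only [mul_assoc]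
    _ = g1 * g2 * (x2 * b) * a * b * a * b * a * b * a * b := by rw [e2]; simp only [mul_assoc]
    _ = g1 * g2 * g3 * (x3 * a) * b * a * b * a * b * a * b := by rw [e3]; simp only [mul_assoc]
    _ = g1 * g2 * g3 * g4 * (x4 * b) * a * b * a * b * a * b := by rw [e4]; simp only [mul_assoc]
    _ = g1 * g2 * g3 * g4 * g5 * (x5 * a) * b * a * b * a * b := by rw [e5]; simp only [mul_assoc]
    _ = g1 * g2 * g3 * g4 * g5 * g6 * (x6 * b) * a * b * a * b := by rw [e6]; simp only [mul_assoc]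
    _ = g1 * g2 * g3 * g4 * g5 * g6 * g7 * (x7 * a) * b * a * b := by rw [e7]; simp only [mul_assoc]
    _ = g1 * g2 * g3 * g4 * g5 * g6 * g7 * g8 * (x8 * b) * a * b := by rw [e8]; simp only [mul_assoc]
    _ = g1 * g2 * g3 * g4 * g5 * g6 * g7 * g8 * g9 * (x9 * a) * b := by rw [e9]; simp only [mul_assoc]
    _ = g1 * g2 * g3 * g4 * g5 * g6 * g7 * g8 * g9 * g10 * (x10 * b) := by rw [e10]; simp only [mul_assoc]
    _ = g1 * g2 * g3 * g4 * g5 * g6 * g7 * g8 * g9 * g10 * g11 * x11 := by rw [e11]; simp only [mul_assoc]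

theorem rev_edge {x y s : W} (hs : s * s = 1) (e : x * s = 1 * y) : y * s = 1 * x := by
  rw [one_mul] at e
  rw [← e, mul_assoc, hs, mul_one, one_mul]

theorem tree_up {x s : W} (hs : s * s = 1) : (x * s) * s = 1 * x := by
  rw [mul_assoc, hs, mul_one, one_mul]

end ded

end Cfsg.Agent.Lib.Helper18
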