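import Cfsg.Agent.Lib.Helper12.D3Defs
import Cfsg.Agent.Lib.Helper65.D4gCOMM

/-! # A simp-set collector for products of positive root elements of `D₄(K)` in characteristic 2 (helper18, D3 hive)

`simp only [d3coll]`-style normalisation: every product of `xg K r t` with `r` a positive root is rewritten into the sorted
right-associated normal form along the order `18,13,12,14,19,16,15,21,17,20,22,23` (heights increase, so the bubble sort
terminates).  Use: `simp only [d3coll_simps...]`; the lemma list is `d3coll_sw_*`, `d3coll_add`, `d3coll_add'`. -/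

set_option autoImplicit false

namespace Cfsg.Agent.Lib.Helper12.D3

open Cfsg Cfsg.Lie Cfsg.Agent.Lib.Helper36 Cfsg.Agent.Lib.Helper75.D4g

variable {K : Type*} [Field K]

theorem d3coll_single [CharP K 2] (r s c : ℕ) (e : ℤ) (he : e = 1 ∨ e = -1) (hr : r < chevD4.nroots)
    (hs : s < chevD4.nroots) (hne1 : s ≠ r) (hne2 : s ≠ chevD4.neg r)
    (hterms : chevD4.commTerms r s = [(c, e, 1, 1)]) (t u : K) :
    xg K s u * xg K r t = xg K r t * (xg K s u * xg K c (t * u)) := by
  rw [d4gcomm_single r s c e hr hs hne1 hne2 hterms t u, mul_assoc]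
  congr 2
  rcases he with rfl | rfl
  · push_cast
    rw [CharTwo.neg_eq]
    ring
  · push_cast
    ring

theorem d3coll_single' [CharP K 2] (r s c : ℕ) (e : ℤ) (he : e = 1 ∨ e = -1) (hr : r < chevD4.nroots)
    (hs : s < chevD4.nroots) (hne1 : s ≠ r) (hne2 : s ≠ chevD4.neg r)
    (hterms : chevD4.commTerms r s = [(c, e, 1, 1)]) (t u : K) (w : GL chevD4.Idx K) :
    xg K s u * (xg K r t * w) = xg K r t * (xg K s u * (xg K c (t * u) * w)) := by
  rw [← mul_assoc, d3coll_single r s c e he hr hs hne1 hne2 hterms t u, mul_assoc, mul_assoc]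

theorem d3coll_nil (r s : ℕ) (hr : r < chevD4.nroots) (hs : s < chevD4.nroots) (hne1 : s ≠ r)
    (hne2 : s ≠ chevD4.neg r) (hterms : chevD4.commTerms r s = []) (t u : K) :
    xg K s u * xg K r t = xg K r t * xg K s u :=
  (d4gcomm_nil r s hr hs hne1 hne2 hterms t u).symm

theorem d3coll_nil' (r s : ℕ) (hr : r < chevD4.nroots) (hs : s < chevD4.nroots) (hne1 : s ≠ r)
    (hne2 : s ≠ chevD4.neg r) (hterms : chevD4.commTerms r s = []) (t u : K) (w : GL chevD4.Idx K) :
    xg K s u * (xg K r t * w) = xg K r t * (xg K s u * w) := by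
  rw [← mul_assoc, d3coll_nil r s hr hs hne1 hne2 hterms t u, mul_assoc]

theorem d3coll_add (r : ℕ) (a b : K) : xg K r a * xg K r b = xg K r (a + b) := (xGL_add chevD4 hD4 K r a b).symm

theorem d3coll_add' (r : ℕ) (a b : K) (w : GL chevD4.Idx K) : xg K r a * (xg K r b * w) = xg K r (a + b) * w := by
  rw [← mul_assoc, d3coll_add]

theorem d3coll_zero (r : ℕ) : xg K r 0 = 1 := xGL_zero chevD4 hD4 K r

theorem d3coll_inv [CharP K 2] (r : ℕ) (a : K) : (xg K r a)⁻¹ = xg K r a := by
  rw [show (xg K r a)⁻¹ = xg K r (-a) from xGL_inv chevD4 hD4 K r a, CharTwo.neg_eq]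

theorem d3coll_sw_13_18 (t u : K) : xg K 13 u * xg K 18 t = xg K 18 t * xg K 13 u :=
  d3coll_nil 18 13 (by decide) (by decide) (by decide) (by decide) (by decide +kernel) t u

theorem d3coll_sw_13_18' (t u : K) (w : GL chevD4.Idx K) :
    xg K 13 u * (xg K 18 t * w) = xg K 18 t * (xg K 13 u * w) :=
  d3coll_nil' 18 13 (by decide) (by decide) (by decide) (by decide) (by decide +kernel) t u w

theorem d3coll_sw_12_18 (t u : K) : xg K 12 u * xg K 18 t = xg K 18 t * xg K 12 u :=
  d3coll_nil 18 12 (by decide) (by decide) (by decide) (by decide) (by decide +kernel) t u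

theorem d3coll_sw_12_18' (t u : K) (w : GL chevD4.Idx K) :
    xg K 12 u * (xg K 18 t * w) = xg K 18 t * (xg K 12 u * w) :=
  d3coll_nil' 18 12 (by decide) (by decide) (by decide) (by decide) (by decide +kernel) t u w

theorem d3coll_sw_14_18 [CharP K 2] (t u : K) : xg K 14 u * xg K 18 t = xg K 18 t * (xg K 14 u * xg K 19 (t * u)) :=
  d3coll_single 18 14 19 (-1) (Or.inr rfl) (by decide) (by decide) (by decide) (by decide) (by decide +kernel) t u

theorem d3coll_sw_14_18' [CharP K 2] (t u : K) (w : GL chevD4.Idx K) :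
    xg K 14 u * (xg K 18 t * w) = xg K 18 t * (xg K 14 u * (xg K 19 (t * u) * w)) :=
  d3coll_single' 18 14 19 (-1) (Or.inr rfl) (by decide) (by decide) (by decide) (by decide) (by decide +kernel) t u w

theorem d3coll_sw_19_18 (t u : K) : xg K 19 u * xg K 18 t = xg K 18 t * xg K 19 u :=
  d3coll_nil 18 19 (by decide) (by decide) (by decide) (by decide) (by decide +kernel) t u

theorem d3coll_sw_19_18' (t u : K) (w : GL chevD4.Idx K) :
    xg K 19 u * (xg K 18 t * w) = xg K 18 t * (xg K 19 u * w) :=
  d3coll_nil' 18 19 (by decide) (by decide) (by decide) (by decide) (by decide +kernel) t u w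

theorem d3coll_sw_16_18 [CharP K 2] (t u : K) : xg K 16 u * xg K 18 t = xg K 18 t * (xg K 16 u * xg K 21 (t * u)) :=
  d3coll_single 18 16 21 (-1) (Or.inr rfl) (by decide) (by decide) (by decide) (by decide) (by decide +kernel) t u

theorem d3coll_sw_16_18' [CharP K 2] (t u : K) (w : GL chevD4.Idx K) :
    xg K 16 u * (xg K 18 t * w) = xg K 18 t * (xg K 16 u * (xg K 21 (t * u) * w)) :=
  d3coll_single' 18 16 21 (-1) (Or.inr rfl) (by decide) (by decide) (by decide) (by decide) (by decide +kernel) t u w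

theorem d3coll_sw_15_18 [CharP K 2] (t u : K) : xg K 15 u * xg K 18 t = xg K 18 t * (xg K 15 u * xg K 20 (t * u)) :=
  d3coll_single 18 15 20 (-1) (Or.inr rfl) (by decide) (by decide) (by decide) (by decide) (by decide +kernel) t u

theorem d3coll_sw_15_18' [CharP K 2] (t u : K) (w : GL chevD4.Idx K) :
    xg K 15 u * (xg K 18 t * w) = xg K 18 t * (xg K 15 u * (xg K 20 (t * u) * w)) :=
  d3coll_single' 18 15 20 (-1) (Or.inr rfl) (by decide) (by decide) (by decide) (by decide) (by decide +kernel) t u w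

theorem d3coll_sw_21_18 (t u : K) : xg K 21 u * xg K 18 t = xg K 18 t * xg K 21 u :=
  d3coll_nil 18 21 (by decide) (by decide) (by decide) (by decide) (by decide +kernel) t u

theorem d3coll_sw_21_18' (t u : K) (w : GL chevD4.Idx K) :
    xg K 21 u * (xg K 18 t * w) = xg K 18 t * (xg K 21 u * w) :=
  d3coll_nil' 18 21 (by decide) (by decide) (by decide) (by decide) (by decide +kernel) t u w

theorem d3coll_sw_17_18 [CharP K 2] (t u : K) : xg K 17 u * xg K 18 t = xg K 18 t * (xg K 17 u * xg K 22 (t * u)) :=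
  d3coll_single 18 17 22 (-1) (Or.inr rfl) (by decide) (by decide) (by decide) (by decide) (by decide +kernel) t u

theorem d3coll_sw_17_18' [CharP K 2] (t u : K) (w : GL chevD4.Idx K) :
    xg K 17 u * (xg K 18 t * w) = xg K 18 t * (xg K 17 u * (xg K 22 (t * u) * w)) :=
  d3coll_single' 18 17 22 (-1) (Or.inr rfl) (by decide) (by decide) (by decide) (by decide) (by decide +kernel) t u w

theorem d3coll_sw_20_18 (t u : K) : xg K 20 u * xg K 18 t = xg K 18 t * xg K 20 u :=
  d3coll_nil 18 20 (by decide) (by decide) (by decide) (by decide) (by decide +kernel) t u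

theorem d3coll_sw_20_18' (t u : K) (w : GL chevD4.Idx K) :
    xg K 20 u * (xg K 18 t * w) = xg K 18 t * (xg K 20 u * w) :=
  d3coll_nil' 18 20 (by decide) (by decide) (by decide) (by decide) (by decide +kernel) t u w

theorem d3coll_sw_22_18 (t u : K) : xg K 22 u * xg K 18 t = xg K 18 t * xg K 22 u :=
  d3coll_nil 18 22 (by decide) (by decide) (by decide) (by decide) (by decide +kernel) t u

theorem d3coll_sw_22_18' (t u : K) (w : GL chevD4.Idx K) :
    xg K 22 u * (xg K 18 t * w) = xg K 18 t * (xg K 22 u * w) :=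
  d3coll_nil' 18 22 (by decide) (by decide) (by decide) (by decide) (by decide +kernel) t u w

theorem d3coll_sw_23_18 (t u : K) : xg K 23 u * xg K 18 t = xg K 18 t * xg K 23 u :=
  d3coll_nil 18 23 (by decide) (by decide) (by decide) (by decide) (by decide +kernel) t u

theorem d3coll_sw_23_18' (t u : K) (w : GL chevD4.Idx K) :
    xg K 23 u * (xg K 18 t * w) = xg K 18 t * (xg K 23 u * w) :=
  d3coll_nil' 18 23 (by decide) (by decide) (by decide) (by decide) (by decide +kernel) t u w

theorem d3coll_sw_12_13 (t u : K) : xg K 12 u * xg K 13 t = xg K 13 t * xg K 12 u :=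
  d3coll_nil 13 12 (by decide) (by decide) (by decide) (by decide) (by decide +kernel) t u

theorem d3coll_sw_12_13' (t u : K) (w : GL chevD4.Idx K) :
    xg K 12 u * (xg K 13 t * w) = xg K 13 t * (xg K 12 u * w) :=
  d3coll_nil' 13 12 (by decide) (by decide) (by decide) (by decide) (by decide +kernel) t u w

theorem d3coll_sw_14_13 [CharP K 2] (t u : K) : xg K 14 u * xg K 13 t = xg K 13 t * (xg K 14 u * xg K 16 (t * u)) :=
  d3coll_single 13 14 16 (1) (Or.inl rfl) (by decide) (by decide) (by decide) (by decide) (by decide +kernel) t u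

theorem d3coll_sw_14_13' [CharP K 2] (t u : K) (w : GL chevD4.Idx K) :
    xg K 14 u * (xg K 13 t * w) = xg K 13 t * (xg K 14 u * (xg K 16 (t * u) * w)) :=
  d3coll_single' 13 14 16 (1) (Or.inl rfl) (by decide) (by decide) (by decide) (by decide) (by decide +kernel) t u w

theorem d3coll_sw_19_13 [CharP K 2] (t u : K) : xg K 19 u * xg K 13 t = xg K 13 t * (xg K 19 u * xg K 21 (t * u)) :=
  d3coll_single 13 19 21 (1) (Or.inl rfl) (by decide) (by decide) (by decide) (by decide) (by decide +kernel) t u

theorem d3coll_sw_19_13' [CharP K 2] (t u : K) (w : GL chevD4.Idx K) :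
    xg K 19 u * (xg K 13 t * w) = xg K 13 t * (xg K 19 u * (xg K 21 (t * u) * w)) :=
  d3coll_single' 13 19 21 (1) (Or.inl rfl) (by decide) (by decide) (by decide) (by decide) (by decide +kernel) t u w

theorem d3coll_sw_16_13 (t u : K) : xg K 16 u * xg K 13 t = xg K 13 t * xg K 16 u :=
  d3coll_nil 13 16 (by decide) (by decide) (by decide) (by decide) (by decide +kernel) t u

theorem d3coll_sw_16_13' (t u : K) (w : GL chevD4.Idx K) :
    xg K 16 u * (xg K 13 t * w) = xg K 13 t * (xg K 16 u * w) :=
  d3coll_nil' 13 16 (by decide) (by decide) (by decide) (by decide) (by decide +kernel) t u w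

theorem d3coll_sw_15_13 [CharP K 2] (t u : K) : xg K 15 u * xg K 13 t = xg K 13 t * (xg K 15 u * xg K 17 (t * u)) :=
  d3coll_single 13 15 17 (1) (Or.inl rfl) (by decide) (by decide) (by decide) (by decide) (by decide +kernel) t u

theorem d3coll_sw_15_13' [CharP K 2] (t u : K) (w : GL chevD4.Idx K) :
    xg K 15 u * (xg K 13 t * w) = xg K 13 t * (xg K 15 u * (xg K 17 (t * u) * w)) :=
  d3coll_single' 13 15 17 (1) (Or.inl rfl) (by decide) (by decide) (by decide) (by decide) (by decide +kernel) t u w

theorem d3coll_sw_21_13 (t u : K) : xg K 21 u * xg K 13 t = xg K 13 t * xg K 21 u :=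
  d3coll_nil 13 21 (by decide) (by decide) (by decide) (by decide) (by decide +kernel) t u

theorem d3coll_sw_21_13' (t u : K) (w : GL chevD4.Idx K) :
    xg K 21 u * (xg K 13 t * w) = xg K 13 t * (xg K 21 u * w) :=
  d3coll_nil' 13 21 (by decide) (by decide) (by decide) (by decide) (by decide +kernel) t u w

theorem d3coll_sw_17_13 (t u : K) : xg K 17 u * xg K 13 t = xg K 13 t * xg K 17 u :=
  d3coll_nil 13 17 (by decide) (by decide) (by decide) (by decide) (by decide +kernel) t u

theorem d3coll_sw_17_13' (t u : K) (w : GL chevD4.Idx K) :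
    xg K 17 u * (xg K 13 t * w) = xg K 13 t * (xg K 17 u * w) :=
  d3coll_nil' 13 17 (by decide) (by decide) (by decide) (by decide) (by decide +kernel) t u w

theorem d3coll_sw_20_13 [CharP K 2] (t u : K) : xg K 20 u * xg K 13 t = xg K 13 t * (xg K 20 u * xg K 22 (t * u)) :=
  d3coll_single 13 20 22 (1) (Or.inl rfl) (by decide) (by decide) (by decide) (by decide) (by decide +kernel) t u

theorem d3coll_sw_20_13' [CharP K 2] (t u : K) (w : GL chevD4.Idx K) :
    xg K 20 u * (xg K 13 t * w) = xg K 13 t * (xg K 20 u * (xg K 22 (t * u) * w)) :=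
  d3coll_single' 13 20 22 (1) (Or.inl rfl) (by decide) (by decide) (by decide) (by decide) (by decide +kernel) t u w

theorem d3coll_sw_22_13 (t u : K) : xg K 22 u * xg K 13 t = xg K 13 t * xg K 22 u :=
  d3coll_nil 13 22 (by decide) (by decide) (by decide) (by decide) (by decide +kernel) t u

theorem d3coll_sw_22_13' (t u : K) (w : GL chevD4.Idx K) :
    xg K 22 u * (xg K 13 t * w) = xg K 13 t * (xg K 22 u * w) :=
  d3coll_nil' 13 22 (by decide) (by decide) (by decide) (by decide) (by decide +kernel) t u w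

theorem d3coll_sw_23_13 (t u : K) : xg K 23 u * xg K 13 t = xg K 13 t * xg K 23 u :=
  d3coll_nil 13 23 (by decide) (by decide) (by decide) (by decide) (by decide +kernel) t u

theorem d3coll_sw_23_13' (t u : K) (w : GL chevD4.Idx K) :
    xg K 23 u * (xg K 13 t * w) = xg K 13 t * (xg K 23 u * w) :=
  d3coll_nil' 13 23 (by decide) (by decide) (by decide) (by decide) (by decide +kernel) t u w

theorem d3coll_sw_14_12 [CharP K 2] (t u : K) : xg K 14 u * xg K 12 t = xg K 12 t * (xg K 14 u * xg K 15 (t * u)) :=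
  d3coll_single 12 14 15 (1) (Or.inl rfl) (by decide) (by decide) (by decide) (by decide) (by decide +kernel) t u

theorem d3coll_sw_14_12' [CharP K 2] (t u : K) (w : GL chevD4.Idx K) :
    xg K 14 u * (xg K 12 t * w) = xg K 12 t * (xg K 14 u * (xg K 15 (t * u) * w)) :=
  d3coll_single' 12 14 15 (1) (Or.inl rfl) (by decide) (by decide) (by decide) (by decide) (by decide +kernel) t u w

theorem d3coll_sw_19_12 [CharP K 2] (t u : K) : xg K 19 u * xg K 12 t = xg K 12 t * (xg K 19 u * xg K 20 (t * u)) :=
  d3coll_single 12 19 20 (1) (Or.inl rfl) (by decide) (by decide) (by decide) (by decide) (by decide +kernel) t u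

theorem d3coll_sw_19_12' [CharP K 2] (t u : K) (w : GL chevD4.Idx K) :
    xg K 19 u * (xg K 12 t * w) = xg K 12 t * (xg K 19 u * (xg K 20 (t * u) * w)) :=
  d3coll_single' 12 19 20 (1) (Or.inl rfl) (by decide) (by decide) (by decide) (by decide) (by decide +kernel) t u w

theorem d3coll_sw_16_12 [CharP K 2] (t u : K) : xg K 16 u * xg K 12 t = xg K 12 t * (xg K 16 u * xg K 17 (t * u)) :=
  d3coll_single 12 16 17 (1) (Or.inl rfl) (by decide) (by decide) (by decide) (by decide) (by decide +kernel) t u

theorem d3coll_sw_16_12' [CharP K 2] (t u : K) (w : GL chevD4.Idx K) :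
    xg K 16 u * (xg K 12 t * w) = xg K 12 t * (xg K 16 u * (xg K 17 (t * u) * w)) :=
  d3coll_single' 12 16 17 (1) (Or.inl rfl) (by decide) (by decide) (by decide) (by decide) (by decide +kernel) t u w

theorem d3coll_sw_15_12 (t u : K) : xg K 15 u * xg K 12 t = xg K 12 t * xg K 15 u :=
  d3coll_nil 12 15 (by decide) (by decide) (by decide) (by decide) (by decide +kernel) t u

theorem d3coll_sw_15_12' (t u : K) (w : GL chevD4.Idx K) :
    xg K 15 u * (xg K 12 t * w) = xg K 12 t * (xg K 15 u * w) :=
  d3coll_nil' 12 15 (by decide) (by decide) (by decide) (by decide) (by decide +kernel) t u w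

theorem d3coll_sw_21_12 [CharP K 2] (t u : K) : xg K 21 u * xg K 12 t = xg K 12 t * (xg K 21 u * xg K 22 (t * u)) :=
  d3coll_single 12 21 22 (1) (Or.inl rfl) (by decide) (by decide) (by decide) (by decide) (by decide +kernel) t u

theorem d3coll_sw_21_12' [CharP K 2] (t u : K) (w : GL chevD4.Idx K) :
    xg K 21 u * (xg K 12 t * w) = xg K 12 t * (xg K 21 u * (xg K 22 (t * u) * w)) :=
  d3coll_single' 12 21 22 (1) (Or.inl rfl) (by decide) (by decide) (by decide) (by decide) (by decide +kernel) t u w

theorem d3coll_sw_17_12 (t u : K) : xg K 17 u * xg K 12 t = xg K 12 t * xg K 17 u :=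
  d3coll_nil 12 17 (by decide) (by decide) (by decide) (by decide) (by decide +kernel) t u

theorem d3coll_sw_17_12' (t u : K) (w : GL chevD4.Idx K) :
    xg K 17 u * (xg K 12 t * w) = xg K 12 t * (xg K 17 u * w) :=
  d3coll_nil' 12 17 (by decide) (by decide) (by decide) (by decide) (by decide +kernel) t u w

theorem d3coll_sw_20_12 (t u : K) : xg K 20 u * xg K 12 t = xg K 12 t * xg K 20 u :=
  d3coll_nil 12 20 (by decide) (by decide) (by decide) (by decide) (by decide +kernel) t u

theorem d3coll_sw_20_12' (t u : K) (w : GL chevD4.Idx K) :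
    xg K 20 u * (xg K 12 t * w) = xg K 12 t * (xg K 20 u * w) :=
  d3coll_nil' 12 20 (by decide) (by decide) (by decide) (by decide) (by decide +kernel) t u w

theorem d3coll_sw_22_12 (t u : K) : xg K 22 u * xg K 12 t = xg K 12 t * xg K 22 u :=
  d3coll_nil 12 22 (by decide) (by decide) (by decide) (by decide) (by decide +kernel) t u

theorem d3coll_sw_22_12' (t u : K) (w : GL chevD4.Idx K) :
    xg K 22 u * (xg K 12 t * w) = xg K 12 t * (xg K 22 u * w) :=
  d3coll_nil' 12 22 (by decide) (by decide) (by decide) (by decide) (by decide +kernel) t u w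

theorem d3coll_sw_23_12 (t u : K) : xg K 23 u * xg K 12 t = xg K 12 t * xg K 23 u :=
  d3coll_nil 12 23 (by decide) (by decide) (by decide) (by decide) (by decide +kernel) t u

theorem d3coll_sw_23_12' (t u : K) (w : GL chevD4.Idx K) :
    xg K 23 u * (xg K 12 t * w) = xg K 12 t * (xg K 23 u * w) :=
  d3coll_nil' 12 23 (by decide) (by decide) (by decide) (by decide) (by decide +kernel) t u w

theorem d3coll_sw_19_14 (t u : K) : xg K 19 u * xg K 14 t = xg K 14 t * xg K 19 u :=
  d3coll_nil 14 19 (by decide) (by decide) (by decide) (by decide) (by decide +kernel) t u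

theorem d3coll_sw_19_14' (t u : K) (w : GL chevD4.Idx K) :
    xg K 19 u * (xg K 14 t * w) = xg K 14 t * (xg K 19 u * w) :=
  d3coll_nil' 14 19 (by decide) (by decide) (by decide) (by decide) (by decide +kernel) t u w

theorem d3coll_sw_16_14 (t u : K) : xg K 16 u * xg K 14 t = xg K 14 t * xg K 16 u :=
  d3coll_nil 14 16 (by decide) (by decide) (by decide) (by decide) (by decide +kernel) t u

theorem d3coll_sw_16_14' (t u : K) (w : GL chevD4.Idx K) :
    xg K 16 u * (xg K 14 t * w) = xg K 14 t * (xg K 16 u * w) :=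
  d3coll_nil' 14 16 (by decide) (by decide) (by decide) (by decide) (by decide +kernel) t u w

theorem d3coll_sw_15_14 (t u : K) : xg K 15 u * xg K 14 t = xg K 14 t * xg K 15 u :=
  d3coll_nil 14 15 (by decide) (by decide) (by decide) (by decide) (by decide +kernel) t u

theorem d3coll_sw_15_14' (t u : K) (w : GL chevD4.Idx K) :
    xg K 15 u * (xg K 14 t * w) = xg K 14 t * (xg K 15 u * w) :=
  d3coll_nil' 14 15 (by decide) (by decide) (by decide) (by decide) (by decide +kernel) t u w

theorem d3coll_sw_21_14 (t u : K) : xg K 21 u * xg K 14 t = xg K 14 t * xg K 21 u :=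
  d3coll_nil 14 21 (by decide) (by decide) (by decide) (by decide) (by decide +kernel) t u

theorem d3coll_sw_21_14' (t u : K) (w : GL chevD4.Idx K) :
    xg K 21 u * (xg K 14 t * w) = xg K 14 t * (xg K 21 u * w) :=
  d3coll_nil' 14 21 (by decide) (by decide) (by decide) (by decide) (by decide +kernel) t u w

theorem d3coll_sw_17_14 (t u : K) : xg K 17 u * xg K 14 t = xg K 14 t * xg K 17 u :=
  d3coll_nil 14 17 (by decide) (by decide) (by decide) (by decide) (by decide +kernel) t u

theorem d3coll_sw_17_14' (t u : K) (w : GL chevD4.Idx K) :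
    xg K 17 u * (xg K 14 t * w) = xg K 14 t * (xg K 17 u * w) :=
  d3coll_nil' 14 17 (by decide) (by decide) (by decide) (by decide) (by decide +kernel) t u w

theorem d3coll_sw_20_14 (t u : K) : xg K 20 u * xg K 14 t = xg K 14 t * xg K 20 u :=
  d3coll_nil 14 20 (by decide) (by decide) (by decide) (by decide) (by decide +kernel) t u

theorem d3coll_sw_20_14' (t u : K) (w : GL chevD4.Idx K) :
    xg K 20 u * (xg K 14 t * w) = xg K 14 t * (xg K 20 u * w) :=
  d3coll_nil' 14 20 (by decide) (by decide) (by decide) (by decide) (by decide +kernel) t u w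

theorem d3coll_sw_22_14 [CharP K 2] (t u : K) : xg K 22 u * xg K 14 t = xg K 14 t * (xg K 22 u * xg K 23 (t * u)) :=
  d3coll_single 14 22 23 (1) (Or.inl rfl) (by decide) (by decide) (by decide) (by decide) (by decide +kernel) t u

theorem d3coll_sw_22_14' [CharP K 2] (t u : K) (w : GL chevD4.Idx K) :
    xg K 22 u * (xg K 14 t * w) = xg K 14 t * (xg K 22 u * (xg K 23 (t * u) * w)) :=
  d3coll_single' 14 22 23 (1) (Or.inl rfl) (by decide) (by decide) (by decide) (by decide) (by decide +kernel) t u w

theorem d3coll_sw_23_14 (t u : K) : xg K 23 u * xg K 14 t = xg K 14 t * xg K 23 u :=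
  d3coll_nil 14 23 (by decide) (by decide) (by decide) (by decide) (by decide +kernel) t u

theorem d3coll_sw_23_14' (t u : K) (w : GL chevD4.Idx K) :
    xg K 23 u * (xg K 14 t * w) = xg K 14 t * (xg K 23 u * w) :=
  d3coll_nil' 14 23 (by decide) (by decide) (by decide) (by decide) (by decide +kernel) t u w

theorem d3coll_sw_16_19 (t u : K) : xg K 16 u * xg K 19 t = xg K 19 t * xg K 16 u :=
  d3coll_nil 19 16 (by decide) (by decide) (by decide) (by decide) (by decide +kernel) t u

theorem d3coll_sw_16_19' (t u : K) (w : GL chevD4.Idx K) :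
    xg K 16 u * (xg K 19 t * w) = xg K 19 t * (xg K 16 u * w) :=
  d3coll_nil' 19 16 (by decide) (by decide) (by decide) (by decide) (by decide +kernel) t u w

theorem d3coll_sw_15_19 (t u : K) : xg K 15 u * xg K 19 t = xg K 19 t * xg K 15 u :=
  d3coll_nil 19 15 (by decide) (by decide) (by decide) (by decide) (by decide +kernel) t u

theorem d3coll_sw_15_19' (t u : K) (w : GL chevD4.Idx K) :
    xg K 15 u * (xg K 19 t * w) = xg K 19 t * (xg K 15 u * w) :=
  d3coll_nil' 19 15 (by decide) (by decide) (by decide) (by decide) (by decide +kernel) t u w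

theorem d3coll_sw_21_19 (t u : K) : xg K 21 u * xg K 19 t = xg K 19 t * xg K 21 u :=
  d3coll_nil 19 21 (by decide) (by decide) (by decide) (by decide) (by decide +kernel) t u

theorem d3coll_sw_21_19' (t u : K) (w : GL chevD4.Idx K) :
    xg K 21 u * (xg K 19 t * w) = xg K 19 t * (xg K 21 u * w) :=
  d3coll_nil' 19 21 (by decide) (by decide) (by decide) (by decide) (by decide +kernel) t u w

theorem d3coll_sw_17_19 [CharP K 2] (t u : K) : xg K 17 u * xg K 19 t = xg K 19 t * (xg K 17 u * xg K 23 (t * u)) :=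
  d3coll_single 19 17 23 (-1) (Or.inr rfl) (by decide) (by decide) (by decide) (by decide) (by decide +kernel) t u

theorem d3coll_sw_17_19' [CharP K 2] (t u : K) (w : GL chevD4.Idx K) :
    xg K 17 u * (xg K 19 t * w) = xg K 19 t * (xg K 17 u * (xg K 23 (t * u) * w)) :=
  d3coll_single' 19 17 23 (-1) (Or.inr rfl) (by decide) (by decide) (by decide) (by decide) (by decide +kernel) t u w

theorem d3coll_sw_20_19 (t u : K) : xg K 20 u * xg K 19 t = xg K 19 t * xg K 20 u :=
  d3coll_nil 19 20 (by decide) (by decide) (by decide) (by decide) (by decide +kernel) t u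

theorem d3coll_sw_20_19' (t u : K) (w : GL chevD4.Idx K) :
    xg K 20 u * (xg K 19 t * w) = xg K 19 t * (xg K 20 u * w) :=
  d3coll_nil' 19 20 (by decide) (by decide) (by decide) (by decide) (by decide +kernel) t u w

theorem d3coll_sw_22_19 (t u : K) : xg K 22 u * xg K 19 t = xg K 19 t * xg K 22 u :=
  d3coll_nil 19 22 (by decide) (by decide) (by decide) (by decide) (by decide +kernel) t u

theorem d3coll_sw_22_19' (t u : K) (w : GL chevD4.Idx K) :
    xg K 22 u * (xg K 19 t * w) = xg K 19 t * (xg K 22 u * w) :=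
  d3coll_nil' 19 22 (by decide) (by decide) (by decide) (by decide) (by decide +kernel) t u w

theorem d3coll_sw_23_19 (t u : K) : xg K 23 u * xg K 19 t = xg K 19 t * xg K 23 u :=
  d3coll_nil 19 23 (by decide) (by decide) (by decide) (by decide) (by decide +kernel) t u

theorem d3coll_sw_23_19' (t u : K) (w : GL chevD4.Idx K) :
    xg K 23 u * (xg K 19 t * w) = xg K 19 t * (xg K 23 u * w) :=
  d3coll_nil' 19 23 (by decide) (by decide) (by decide) (by decide) (by decide +kernel) t u w

theorem d3coll_sw_15_16 (t u : K) : xg K 15 u * xg K 16 t = xg K 16 t * xg K 15 u :=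
  d3coll_nil 16 15 (by decide) (by decide) (by decide) (by decide) (by decide +kernel) t u

theorem d3coll_sw_15_16' (t u : K) (w : GL chevD4.Idx K) :
    xg K 15 u * (xg K 16 t * w) = xg K 16 t * (xg K 15 u * w) :=
  d3coll_nil' 16 15 (by decide) (by decide) (by decide) (by decide) (by decide +kernel) t u w

theorem d3coll_sw_21_16 (t u : K) : xg K 21 u * xg K 16 t = xg K 16 t * xg K 21 u :=
  d3coll_nil 16 21 (by decide) (by decide) (by decide) (by decide) (by decide +kernel) t u

theorem d3coll_sw_21_16' (t u : K) (w : GL chevD4.Idx K) :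
    xg K 21 u * (xg K 16 t * w) = xg K 16 t * (xg K 21 u * w) :=
  d3coll_nil' 16 21 (by decide) (by decide) (by decide) (by decide) (by decide +kernel) t u w

theorem d3coll_sw_17_16 (t u : K) : xg K 17 u * xg K 16 t = xg K 16 t * xg K 17 u :=
  d3coll_nil 16 17 (by decide) (by decide) (by decide) (by decide) (by decide +kernel) t u

theorem d3coll_sw_17_16' (t u : K) (w : GL chevD4.Idx K) :
    xg K 17 u * (xg K 16 t * w) = xg K 16 t * (xg K 17 u * w) :=
  d3coll_nil' 16 17 (by decide) (by decide) (by decide) (by decide) (by decide +kernel) t u w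

theorem d3coll_sw_20_16 [CharP K 2] (t u : K) : xg K 20 u * xg K 16 t = xg K 16 t * (xg K 20 u * xg K 23 (t * u)) :=
  d3coll_single 16 20 23 (-1) (Or.inr rfl) (by decide) (by decide) (by decide) (by decide) (by decide +kernel) t u

theorem d3coll_sw_20_16' [CharP K 2] (t u : K) (w : GL chevD4.Idx K) :
    xg K 20 u * (xg K 16 t * w) = xg K 16 t * (xg K 20 u * (xg K 23 (t * u) * w)) :=
  d3coll_single' 16 20 23 (-1) (Or.inr rfl) (by decide) (by decide) (by decide) (by decide) (by decide +kernel) t u w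

theorem d3coll_sw_22_16 (t u : K) : xg K 22 u * xg K 16 t = xg K 16 t * xg K 22 u :=
  d3coll_nil 16 22 (by decide) (by decide) (by decide) (by decide) (by decide +kernel) t u

theorem d3coll_sw_22_16' (t u : K) (w : GL chevD4.Idx K) :
    xg K 22 u * (xg K 16 t * w) = xg K 16 t * (xg K 22 u * w) :=
  d3coll_nil' 16 22 (by decide) (by decide) (by decide) (by decide) (by decide +kernel) t u w

theorem d3coll_sw_23_16 (t u : K) : xg K 23 u * xg K 16 t = xg K 16 t * xg K 23 u :=
  d3coll_nil 16 23 (by decide) (by decide) (by decide) (by decide) (by decide +kernel) t u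

theorem d3coll_sw_23_16' (t u : K) (w : GL chevD4.Idx K) :
    xg K 23 u * (xg K 16 t * w) = xg K 16 t * (xg K 23 u * w) :=
  d3coll_nil' 16 23 (by decide) (by decide) (by decide) (by decide) (by decide +kernel) t u w

theorem d3coll_sw_21_15 [CharP K 2] (t u : K) : xg K 21 u * xg K 15 t = xg K 15 t * (xg K 21 u * xg K 23 (t * u)) :=
  d3coll_single 15 21 23 (-1) (Or.inr rfl) (by decide) (by decide) (by decide) (by decide) (by decide +kernel) t u

theorem d3coll_sw_21_15' [CharP K 2] (t u : K) (w : GL chevD4.Idx K) :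
    xg K 21 u * (xg K 15 t * w) = xg K 15 t * (xg K 21 u * (xg K 23 (t * u) * w)) :=
  d3coll_single' 15 21 23 (-1) (Or.inr rfl) (by decide) (by decide) (by decide) (by decide) (by decide +kernel) t u w

theorem d3coll_sw_17_15 (t u : K) : xg K 17 u * xg K 15 t = xg K 15 t * xg K 17 u :=
  d3coll_nil 15 17 (by decide) (by decide) (by decide) (by decide) (by decide +kernel) t u

theorem d3coll_sw_17_15' (t u : K) (w : GL chevD4.Idx K) :
    xg K 17 u * (xg K 15 t * w) = xg K 15 t * (xg K 17 u * w) :=
  d3coll_nil' 15 17 (by decide) (by decide) (by decide) (by decide) (by decide +kernel) t u w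

theorem d3coll_sw_20_15 (t u : K) : xg K 20 u * xg K 15 t = xg K 15 t * xg K 20 u :=
  d3coll_nil 15 20 (by decide) (by decide) (by decide) (by decide) (by decide +kernel) t u

theorem d3coll_sw_20_15' (t u : K) (w : GL chevD4.Idx K) :
    xg K 20 u * (xg K 15 t * w) = xg K 15 t * (xg K 20 u * w) :=
  d3coll_nil' 15 20 (by decide) (by decide) (by decide) (by decide) (by decide +kernel) t u w

theorem d3coll_sw_22_15 (t u : K) : xg K 22 u * xg K 15 t = xg K 15 t * xg K 22 u :=
  d3coll_nil 15 22 (by decide) (by decide) (by decide) (by decide) (by decide +kernel) t u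

theorem d3coll_sw_22_15' (t u : K) (w : GL chevD4.Idx K) :
    xg K 22 u * (xg K 15 t * w) = xg K 15 t * (xg K 22 u * w) :=
  d3coll_nil' 15 22 (by decide) (by decide) (by decide) (by decide) (by decide +kernel) t u w

theorem d3coll_sw_23_15 (t u : K) : xg K 23 u * xg K 15 t = xg K 15 t * xg K 23 u :=
  d3coll_nil 15 23 (by decide) (by decide) (by decide) (by decide) (by decide +kernel) t u

theorem d3coll_sw_23_15' (t u : K) (w : GL chevD4.Idx K) :
    xg K 23 u * (xg K 15 t * w) = xg K 15 t * (xg K 23 u * w) :=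
  d3coll_nil' 15 23 (by decide) (by decide) (by decide) (by decide) (by decide +kernel) t u w

theorem d3coll_sw_17_21 (t u : K) : xg K 17 u * xg K 21 t = xg K 21 t * xg K 17 u :=
  d3coll_nil 21 17 (by decide) (by decide) (by decide) (by decide) (by decide +kernel) t u

theorem d3coll_sw_17_21' (t u : K) (w : GL chevD4.Idx K) :
    xg K 17 u * (xg K 21 t * w) = xg K 21 t * (xg K 17 u * w) :=
  d3coll_nil' 21 17 (by decide) (by decide) (by decide) (by decide) (by decide +kernel) t u w

theorem d3coll_sw_20_21 (t u : K) : xg K 20 u * xg K 21 t = xg K 21 t * xg K 20 u :=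
  d3coll_nil 21 20 (by decide) (by decide) (by decide) (by decide) (by decide +kernel) t u

theorem d3coll_sw_20_21' (t u : K) (w : GL chevD4.Idx K) :
    xg K 20 u * (xg K 21 t * w) = xg K 21 t * (xg K 20 u * w) :=
  d3coll_nil' 21 20 (by decide) (by decide) (by decide) (by decide) (by decide +kernel) t u w

theorem d3coll_sw_22_21 (t u : K) : xg K 22 u * xg K 21 t = xg K 21 t * xg K 22 u :=
  d3coll_nil 21 22 (by decide) (by decide) (by decide) (by decide) (by decide +kernel) t u

theorem d3coll_sw_22_21' (t u : K) (w : GL chevD4.Idx K) :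
    xg K 22 u * (xg K 21 t * w) = xg K 21 t * (xg K 22 u * w) :=
  d3coll_nil' 21 22 (by decide) (by decide) (by decide) (by decide) (by decide +kernel) t u w

theorem d3coll_sw_23_21 (t u : K) : xg K 23 u * xg K 21 t = xg K 21 t * xg K 23 u :=
  d3coll_nil 21 23 (by decide) (by decide) (by decide) (by decide) (by decide +kernel) t u

theorem d3coll_sw_23_21' (t u : K) (w : GL chevD4.Idx K) :
    xg K 23 u * (xg K 21 t * w) = xg K 21 t * (xg K 23 u * w) :=
  d3coll_nil' 21 23 (by decide) (by decide) (by decide) (by decide) (by decide +kernel) t u w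

theorem d3coll_sw_20_17 (t u : K) : xg K 20 u * xg K 17 t = xg K 17 t * xg K 20 u :=
  d3coll_nil 17 20 (by decide) (by decide) (by decide) (by decide) (by decide +kernel) t u

theorem d3coll_sw_20_17' (t u : K) (w : GL chevD4.Idx K) :
    xg K 20 u * (xg K 17 t * w) = xg K 17 t * (xg K 20 u * w) :=
  d3coll_nil' 17 20 (by decide) (by decide) (by decide) (by decide) (by decide +kernel) t u w

theorem d3coll_sw_22_17 (t u : K) : xg K 22 u * xg K 17 t = xg K 17 t * xg K 22 u :=
  d3coll_nil 17 22 (by decide) (by decide) (by decide) (by decide) (by decide +kernel) t u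

theorem d3coll_sw_22_17' (t u : K) (w : GL chevD4.Idx K) :
    xg K 22 u * (xg K 17 t * w) = xg K 17 t * (xg K 22 u * w) :=
  d3coll_nil' 17 22 (by decide) (by decide) (by decide) (by decide) (by decide +kernel) t u w

theorem d3coll_sw_23_17 (t u : K) : xg K 23 u * xg K 17 t = xg K 17 t * xg K 23 u :=
  d3coll_nil 17 23 (by decide) (by decide) (by decide) (by decide) (by decide +kernel) t u

theorem d3coll_sw_23_17' (t u : K) (w : GL chevD4.Idx K) :
    xg K 23 u * (xg K 17 t * w) = xg K 17 t * (xg K 23 u * w) :=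
  d3coll_nil' 17 23 (by decide) (by decide) (by decide) (by decide) (by decide +kernel) t u w

theorem d3coll_sw_22_20 (t u : K) : xg K 22 u * xg K 20 t = xg K 20 t * xg K 22 u :=
  d3coll_nil 20 22 (by decide) (by decide) (by decide) (by decide) (by decide +kernel) t u

theorem d3coll_sw_22_20' (t u : K) (w : GL chevD4.Idx K) :
    xg K 22 u * (xg K 20 t * w) = xg K 20 t * (xg K 22 u * w) :=
  d3coll_nil' 20 22 (by decide) (by decide) (by decide) (by decide) (by decide +kernel) t u w

theorem d3coll_sw_23_20 (t u : K) : xg K 23 u * xg K 20 t = xg K 20 t * xg K 23 u :=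
  d3coll_nil 20 23 (by decide) (by decide) (by decide) (by decide) (by decide +kernel) t u

theorem d3coll_sw_23_20' (t u : K) (w : GL chevD4.Idx K) :
    xg K 23 u * (xg K 20 t * w) = xg K 20 t * (xg K 23 u * w) :=
  d3coll_nil' 20 23 (by decide) (by decide) (by decide) (by decide) (by decide +kernel) t u w

theorem d3coll_sw_23_22 (t u : K) : xg K 23 u * xg K 22 t = xg K 22 t * xg K 23 u :=
  d3coll_nil 22 23 (by decide) (by decide) (by decide) (by decide) (by decide +kernel) t u

theorem d3coll_sw_23_22' (t u : K) (w : GL chevD4.Idx K) :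
    xg K 23 u * (xg K 22 t * w) = xg K 22 t * (xg K 23 u * w) :=
  d3coll_nil' 22 23 (by decide) (by decide) (by decide) (by decide) (by decide +kernel) t u w

/-- congruence for the normal form of the radical `X_14 X_19 X_16 X_15 X_21 X_17 X_20 X_22 X_23` -/
theorem d3coll_nf9 (a1 a2 a3 a4 a5 a6 a7 a8 a9 b1 b2 b3 b4 b5 b6 b7 b8 b9 : K) (h1 : a1 = b1) (h2 : a2 = b2)
    (h3 : a3 = b3) (h4 : a4 = b4) (h5 : a5 = b5) (h6 : a6 = b6) (h7 : a7 = b7) (h8 : a8 = b8) (h9 : a9 = b9) :
    xg K 14 a1 * (xg K 19 a2 * (xg K 16 a3 * (xg K 15 a4 * (xg K 21 a5 * (xg K 17 a6 * (xg K 20 a7 *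
      (xg K 22 a8 * xg K 23 a9))))))) =
    xg K 14 b1 * (xg K 19 b2 * (xg K 16 b3 * (xg K 15 b4 * (xg K 21 b5 * (xg K 17 b6 * (xg K 20 b7 *
      (xg K 22 b8 * xg K 23 b9))))))) := by
  subst h1 h2 h3 h4 h5 h6 h7 h8 h9
  rfl

/-- congruence for the full normal form `X_18 X_13 X_12 X_14 X_19 X_16 X_15 X_21 X_17 X_20 X_22 X_23` -/
theorem d3coll_nf12 (z1 z2 z3 a1 a2 a3 a4 a5 a6 a7 a8 a9 y1 y2 y3 b1 b2 b3 b4 b5 b6 b7 b8 b9 : K)
    (g1 : z1 = y1) (g2 : z2 = y2) (g3 : z3 = y3) (h1 : a1 = b1) (h2 : a2 = b2)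
    (h3 : a3 = b3) (h4 : a4 = b4) (h5 : a5 = b5) (h6 : a6 = b6) (h7 : a7 = b7) (h8 : a8 = b8) (h9 : a9 = b9) :
    xg K 18 z1 * (xg K 13 z2 * (xg K 12 z3 * (xg K 14 a1 * (xg K 19 a2 * (xg K 16 a3 * (xg K 15 a4 * (xg K 21 a5 *
      (xg K 17 a6 * (xg K 20 a7 * (xg K 22 a8 * xg K 23 a9)))))))))) =
    xg K 18 y1 * (xg K 13 y2 * (xg K 12 y3 * (xg K 14 b1 * (xg K 19 b2 * (xg K 16 b3 * (xg K 15 b4 * (xg K 21 b5 *
      (xg K 17 b6 * (xg K 20 b7 * (xg K 22 b8 * xg K 23 b9)))))))))) := by
  subst g1 g2 g3 h1 h2 h3 h4 h5 h6 h7 h8 h9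
  rfl

end Cfsg.Agent.Lib.Helper12.D3
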