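import Cfsg.Agent.Lib.Helper37.D4O8Defs
import Cfsg.Agent.Lib.Helper25.Do_REL2_0
import Cfsg.Agent.Lib.Helper25.Do_REL2_1
import Cfsg.Agent.Lib.Helper25.Do_REL2_2
import Cfsg.Agent.Lib.Helper25.Do_REL2_3
import Cfsg.Agent.Lib.Helper25.Do_REL2_4
import Cfsg.Agent.Lib.Helper25.Do_REL2_5
import Cfsg.Agent.Lib.Helper25.Do_REL2_6
import Cfsg.Agent.Lib.Helper25.Do_REL2_7
import Cfsg.Agent.Lib.Helper25.Do_REL2_8
import Cfsg.Agent.Lib.Helper25.Do_REL2_9
import Cfsg.Agent.Lib.Helper25.Do_REL2_10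
import Cfsg.Agent.Lib.Helper25.Do_REL2_11
import Cfsg.Agent.Lib.Helper25.Do_REL2_12
import Cfsg.Agent.Lib.Helper25.Do_REL2_13
import Cfsg.Agent.Lib.Helper25.Do_REL2_14
import Cfsg.Agent.Lib.Helper25.Do_REL2_15
import Cfsg.Agent.Lib.Helper25.Do_REL2_16
import Cfsg.Agent.Lib.Helper25.Do_REL2_17
import Cfsg.Agent.Lib.Helper25.Do_REL2_18
import Cfsg.Agent.Lib.Helper25.Do_REL2_19
import Cfsg.Agent.Lib.Helper25.Do_REL2_20
import Cfsg.Agent.Lib.Helper73.Do_REL2_21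
import Cfsg.Agent.Lib.Helper73.Do_REL2_22
import Cfsg.Agent.Lib.Helper73.Do_REL2_23
import Cfsg.Agent.Lib.Helper53.Do_REL3

/-! # S1082 hive "Do" (helper37): leaf DO-PSI — the homomorphism `ψ : St → O₈⁺(F)`, `x̄_r(t) ↦ X r t` (helper18) -/

set_option autoImplicit false
set_option linter.unusedSectionVars false
set_option linter.unusedVariables false

namespace Cfsg.Agent.Lib.Helper37.D4O8

open Matrix Module QuadraticMap
open Cfsg.Agent.Lib.Helper8 Cfsg.Agent.Lib.Helper13 Cfsg.Agent.Lib.Helper37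

variable {F : Type*} [Field F]

/-- the images of the free generators -/
noncomputable def psi_gen (p : Fin Cfsg.Lie.chevD4.nroots × F) : OG F := Xn (p.1 : ℕ) p.2

theorem psi_lift_stX (r : ℕ) (t : F) :
    FreeGroup.lift (psi_gen (F := F)) (Cfsg.Lie.chevD4.stX r t) = Xn r t := by
  unfold Cfsg.Lie.ChevalleyDatum.stX
  split_ifs with h
  · rw [FreeGroup.lift_apply_of]; rfl
  · rw [map_one]
    have h' : ¬ r < 24 := h
    unfold Xn
    rw [dif_neg h']

theorem psi_lift_stWord (w : List (ℕ × F)) :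
    FreeGroup.lift (psi_gen (F := F)) (Cfsg.Lie.chevD4.stWord w) = wprod w := by
  unfold Cfsg.Lie.ChevalleyDatum.stWord wprod
  induction w with
  | nil => simp
  | cons p w ih => rw [List.map_cons, List.prod_cons, map_mul, ih, psi_lift_stX, List.map_cons, List.prod_cons]

theorem psi_Xn_add (r : ℕ) (hr : r < 24) (t u : F) : Xn r t * Xn r u = Xn r (t + u) := by
  rw [Xn_of_lt hr, Xn_of_lt hr, Xn_of_lt hr, X_add]

/-- DO-PSI, core: (R2), (R3) as hypotheses -/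
theorem psi_core
    (h2 : ∀ r s : ℕ, r < 24 → s < 24 → s ≠ r → s ≠ Cfsg.Lie.chevD4.neg r → ∀ t u : F,
      (Xn s u)⁻¹ * (Xn r t)⁻¹ * Xn s u * Xn r t = wprod (Cfsg.Lie.chevD4.commWord F r s t u))
    (h3 : ∀ r : ℕ, r < 24 → ∀ t₁ t₂ : F, t₁ ≠ 0 → t₂ ≠ 0 →
      wprod (Cfsg.Lie.chevD4.hWord r t₁) * wprod (Cfsg.Lie.chevD4.hWord r t₂)
        = wprod (Cfsg.Lie.chevD4.hWord r (t₁ * t₂))) :
    ∃ ψ : Cfsg.Lie.chevD4.SteinbergGroup F →* OG F,
      ∀ (r : ℕ) (t : F), ψ (Cfsg.Lie.chevD4.stGen F r t) = Xn r t := by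
  have hrel : ∀ r ∈ Cfsg.Lie.chevD4.steinbergRels F, FreeGroup.lift (psi_gen (F := F)) r = 1 := by
    rintro _ ((⟨r, t₁, t₂, hr, rfl⟩ | ⟨r, s, t, u, hr, hs, hsr, hsn, rfl⟩) | ⟨r, t₁, t₂, hr, h1, h2', rfl⟩)
    · rw [map_mul, map_mul, map_inv, psi_lift_stX, psi_lift_stX, psi_lift_stX, mul_inv_eq_one]
      exact psi_Xn_add r hr t₁ t₂
    · simp only [map_mul, map_inv, psi_lift_stX, psi_lift_stWord]
      rw [mul_inv_eq_one]
      exact h2 r s hr hs hsr hsn t u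
    · unfold Cfsg.Lie.ChevalleyDatum.stH
      simp only [map_mul, map_inv, psi_lift_stWord]
      rw [mul_inv_eq_one]
      exact h3 r hr t₁ t₂ h1 h2'
  refine ⟨PresentedGroup.toGroup hrel, ?_⟩
  intro r t
  exact psi_lift_stX r t

theorem psi_neg (r : ℕ) (hr : r < 24) : Cfsg.Lie.chevD4.neg r = 23 - r := by
  interval_cases r <;> decide

/-- DO-PSI. Clone of helper18's Bo_PSI (`PresentedGroup.toGroup`; relators: `X_add`, `rel2`, `rel3`;
`chevD4.neg r = 23 - r` for `r < 24` by `decide`/`interval_cases`). -/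
theorem exists_psi : ∃ ψ : Cfsg.Lie.chevD4.SteinbergGroup F →* OG F,
    ∀ (r : ℕ) (t : F), ψ (Cfsg.Lie.chevD4.stGen F r t) = Xn r t := by
  apply psi_core
  · intro r s hr hs hsr hsn t u
    rw [psi_neg r hr] at hsn
    interval_cases r
    · exact rel2_0 s hs hsr hsn t u
    · exact rel2_1 s hs hsr hsn t u
    · exact rel2_2 s hs hsr hsn t u
    · exact rel2_3 s hs hsr hsn t u
    · exact rel2_4 s hs hsr hsn t u
    · exact rel2_5 s hs hsr hsn t u
    · exact rel2_6 s hs hsr hsn t u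
    · exact rel2_7 s hs hsr hsn t u
    · exact rel2_8 s hs hsr hsn t u
    · exact rel2_9 s hs hsr hsn t u
    · exact rel2_10 s hs hsr hsn t u
    · exact rel2_11 s hs hsr hsn t u
    · exact rel2_12 s hs hsr hsn t u
    · exact rel2_13 s hs hsr hsn t u
    · exact rel2_14 s hs hsr hsn t u
    · exact rel2_15 s hs hsr hsn t u
    · exact rel2_16 s hs hsr hsn t u
    · exact rel2_17 s hs hsr hsn t u
    · exact rel2_18 s hs hsr hsn t u
    · exact rel2_19 s hs hsr hsn t u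
    · exact rel2_20 s hs hsr hsn t u
    · exact rel2_21 s hs hsr hsn t u
    · exact rel2_22 s hs hsr hsn t u
    · exact rel2_23 s hs hsr hsn t u
  · intro r hr t₁ t₂ h1 h2
    exact rel3 r hr t₁ t₂ h1 h2

end Cfsg.Agent.Lib.Helper37.D4O8
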