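import Cfsg.Agent.Lib.Helper18.ChevHT
import Cfsg.Prelude.Def_ChevB2

set_option autoImplicit false
set_option maxRecDepth 100000

namespace Cfsg.Agent.Lib.Helper18

open Cfsg Cfsg.Lie Cfsg.Agent.Lib.Helper36

/-- the packed tables of `chevB2`, as literals -/
def fastB2 : FastTab where
  n := 8
  l := 2
  negT := 283686952306183
  carT := 9906346297301313158
  corT := 11072532446817249143
  chT := 2096442513095933203070230539979704539162401562986530410264818450567228806883272154068244105038535340544509647121454385885672596523904738117747902943991804958285993474577869455114901936070526318767945968084510828195954381743832772528935478949517446107119595213416099370564299576691859243474414790759940236951564356648538670905241625770863130083302174955919558515703357965337176985032327262700141759891200780016312199852609507371022554288165288000295651307242152590269345714705843669867282384090577234775510064799252518857776850325833563249923028729681238740089474982547447198725683082422409472726570100581266032262577049120035307520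

theorem fastB2_negT : (mkFast chevB2).negT = fastB2.negT := by decide +kernel
theorem fastB2_carT : (mkFast chevB2).carT = fastB2.carT := by decide +kernel
theorem fastB2_corT : (mkFast chevB2).corT = fastB2.corT := by decide +kernel
theorem fastB2_chT : (mkFast chevB2).chT = fastB2.chT := by decide +kernel

theorem mkFast_B2 : mkFast chevB2 = fastB2 :=
  FastTab_ext _ _ (by decide +kernel) (by decide +kernel) fastB2_negT fastB2_carT fastB2_corT fastB2_chT

end Cfsg.Agent.Lib.Helper18
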