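import Cfsg.Agent.Lib.Helper18.ChevHT
import Cfsg.Prelude.Def_ChevG2

set_option autoImplicit false
set_option maxRecDepth 100000

namespace Cfsg.Agent.Lib.Helper18

open Cfsg Cfsg.Lie Cfsg.Agent.Lib.Helper36

/-- the packed tables of `chevG2`, as literals -/
def fastG2 : FastTab where
  n := 12
  l := 2
  negT := 1218426182456967898401291
  carT := 46898437394618914900066867032
  corT := 52488814092936629370832189287
  chT := 43549182518026370496772278644527020032394526798176311274371724519344390817932414342721465757388846368170210225421120965821598677073498418066064160772506757748632460324584523679550302190785858952411705105055950773759355043598133471010207190220508137406498269680883656506816430825602305351182542570128158872921794187587832366850179619974120142308702380974179271691783099823681113193473619089627534036167697678635635036295591503177606948822289973887672570047704916208284737573971000048549158484484442592257574279483377274200736097289020637555461134740387475533778574561144729947728105543364166632546532152189958910057745670669617107971528233096079696982864275447447867092441725232710293814418150276906148100936794125072659767007676182026129578816959370856662914403122261927341022726893077977262641721510742026555503329073527306388861242492585292883419348745622963554279926581782081864629821117037291161852899769204781139124769121171210428741630563243198319739259084626631181767048428992043246288613274764962212300218626081991345587290604355134651202404879672591265659013092455344490679428917413324005577853574733136405012941608539643716644131034385684900376351383034859086588069589112462680495615063370615859562871005083078815386724425858749784022671589132709500989881369541735568141005712173123986506126321286653217989097109734629526184365806014658571624245829528740360231199787065802496323217481059118900602467616215177132274840948025437530975068282971709596801900349994384053865195503616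

theorem fastG2_negT : (mkFast chevG2).negT = fastG2.negT := by decide +kernel
theorem fastG2_carT : (mkFast chevG2).carT = fastG2.carT := by decide +kernel
theorem fastG2_corT : (mkFast chevG2).corT = fastG2.corT := by decide +kernel
theorem fastG2_chT : (mkFast chevG2).chT = fastG2.chT := by decide +kernel

theorem mkFast_G2 : mkFast chevG2 = fastG2 :=
  FastTab_ext _ _ (by decide +kernel) (by decide +kernel) fastG2_negT fastG2_carT fastG2_corT fastG2_chT

end Cfsg.Agent.Lib.Helper18
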