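import Cfsg.Agent.Lib.Helper36.ChevGL
import Cfsg.Agent.S1055

/-! # The 7-dimensional module of `G₂` in characteristic three (helper18)

In characteristic 3 the short root vectors `e_r` together with the coroot `h_a` of the short fundamental
root span a 7-dimensional submodule `W7` (the short-root ideal) of the adjoint module `K^14` of
`G₂(K)`.  `rhoG : G₂(K) →* End_K(W7)` is the (faithful) action. -/

set_option autoImplicit false

namespace Cfsg.Agent.Lib.Helper18.G2M7

open Cfsg Cfsg.Lie Cfsg.Agent.Lib.Helper36

theorem hG2' : chevG2 ∈ [chevG2, chevB2, chevD4, chevF4, chevE6, chevE7, chevE8] := by simp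

/-- the short roots of `G₂` (indices in the frozen table) -/
def isShort (r : ℕ) : Bool := r == 2 || r == 3 || r == 4 || r == 7 || r == 8 || r == 9

/-- the coordinates supporting the short-root ideal -/
def inS : chevG2.Idx → Bool
  | Sum.inl i => i.val == 0
  | Sum.inr r => isShort r.val

theorem tab1 : ∀ r : Fin 12, isShort r.val = false →
    (3 : ℤ) ∣ (chevG2.cartanSR.getD 0 #[]).getD r.val 0 := by decide

theorem tab2 : ∀ r : Fin 12, isShort r.val = true →
    (3 : ℤ) ∣ (chevG2.coroot.getD r.val #[]).getD 1 0 := by decide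

theorem tab3 : ∀ r s u : Fin 12, isShort s.val = true → isShort u.val = false →
    ∀ km ∈ chevG2.chainCoeff r.val s.val u.val, (3 : ℤ) ∣ km.2 := by decide +kernel

theorem tab4 : ∀ r : Fin 12, isShort (chevG2.negIdx.getD r.val 0) = isShort r.val := by decide

section
variable {K : Type*} [Field K]

theorem cast_eq_zero [CharP K 3] (z : ℤ) (hz : (3 : ℤ) ∣ z) : ((z : ℤ) : K) = 0 :=
  (CharP.intCast_eq_zero_iff K 3 z).2 (by exact_mod_cast hz)

/-- the entries of `x_r(t)` from the short-root coordinates to the other ones vanish in characteristic 3 -/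
theorem xMat_zero [CharP K 3] (r : Fin chevG2.nroots) (t : K) (row col : chevG2.Idx)
    (hrow : inS row = false) (hcol : inS col = true) : chevG2.xMat K r t row col = 0 := by
  unfold ChevalleyDatum.xMat
  simp only [Matrix.of_apply]
  rcases col with i | s
  · -- the column of `h_a`
    have hi : i.val = 0 := by simpa [inS] using hcol
    rcases row with i' | u
    · have hi' : i'.val ≠ 0 := by simpa [inS] using hrow
      have : i' ≠ i := fun e => hi' (by rw [e, hi])
      simp [this]
    · have hu : isShort u.val = false := by simpa [inS] using hrow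
      by_cases hur : u = r
      · subst hur
        simp only [if_true]
        rw [hi, cast_eq_zero _ (tab1 u hu)]
        simp
      · simp [hur]
  · have hs : isShort s.val = true := by simpa [inS] using hcol
    by_cases hsr : s = r
    · subst hsr
      simp only [if_true]
      rcases row with i' | u
      · rfl
      · have hu : isShort u.val = false := by simpa [inS] using hrow
        have : u ≠ s := fun e => by rw [e, hs] at hu; exact absurd hu (by simp)
        simp [this]
    · simp only [hsr, if_false]
      by_cases hneg : s.val = chevG2.negIdx.getD r.val 0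
      · simp only [hneg, if_true]
        have hr : isShort r.val = true := by
          have := tab4 r
          rw [← hneg] at this
          rw [← this, hs]
        rcases row with i' | u
        · have hi' : i'.val ≠ 0 := by simpa [inS] using hrow
          have hi1 : i'.val = 1 := by
            have := i'.2
            have h2 : chevG2.rank = 2 := rfl
            omega
          simp only
          rw [hi1, cast_eq_zero _ (tab2 r hr)]
          simp
        · have hu : isShort u.val = false := by simpa [inS] using hrow
          have h1 : u ≠ s := fun e => by rw [e, hs] at hu; exact absurd hu (by simp)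
          have h2 : u ≠ r := fun e => by rw [e, hr] at hu; exact absurd hu (by simp)
          simp [h1, h2]
      · simp only [hneg, if_false]
        rcases row with i' | u
        · rfl
        · have hu : isShort u.val = false := by simpa [inS] using hrow
          have h1 : u ≠ s := fun e => by rw [e, hs] at hu; exact absurd hu (by simp)
          simp only [h1, if_false, zero_add]
          apply List.sum_eq_zero
          intro x hx
          obtain ⟨km, hkm, rfl⟩ := List.mem_map.1 hx
          rw [cast_eq_zero _ (tab3 r s u hs hu km hkm)]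
          simp

/-- block-triangular matrices with respect to the short-root coordinates -/
def BlockZ (M : Matrix chevG2.Idx chevG2.Idx K) : Prop :=
  ∀ row col, inS row = false → inS col = true → M row col = 0

theorem blockZ_one : BlockZ (1 : Matrix chevG2.Idx chevG2.Idx K) := by
  intro row col hr hc
  apply Matrix.one_apply_ne
  intro e
  rw [e, hc] at hr
  exact absurd hr (by simp)

theorem blockZ_mul {A B : Matrix chevG2.Idx chevG2.Idx K} (hA : BlockZ A) (hB : BlockZ B) :
    BlockZ (A * B) := by
  intro row col hr hc
  rw [Matrix.mul_apply]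
  apply Finset.sum_eq_zero
  intro k _
  cases hk : inS k with
  | true => rw [hA row k hr hk, zero_mul]
  | false => rw [hB k col hk hc, mul_zero]

/-- the stabiliser of the short-root coordinate subspace (as block-triangular matrices) -/
def stab (K : Type*) [Field K] : Subgroup (GL chevG2.Idx K) where
  carrier := {g | BlockZ (g : Matrix chevG2.Idx chevG2.Idx K) ∧
    BlockZ ((g⁻¹ : GL chevG2.Idx K) : Matrix chevG2.Idx chevG2.Idx K)}
  one_mem' := by
    refine ⟨?_, ?_⟩
    · exact blockZ_one
    · rw [inv_one]; exact blockZ_one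
  mul_mem' := by
    rintro a b ⟨ha, ha'⟩ ⟨hb, hb'⟩
    refine ⟨?_, ?_⟩
    · rw [Units.val_mul]; exact blockZ_mul ha hb
    · rw [mul_inv_rev, Units.val_mul]; exact blockZ_mul hb' ha'
  inv_mem' := by
    rintro a ⟨ha, ha'⟩
    exact ⟨ha', by rw [inv_inv]; exact ha⟩

theorem x_blockZ [CharP K 3] (r : ℕ) (t : K) : BlockZ (chevG2.x K r t) := by
  unfold ChevalleyDatum.x
  by_cases hr : r < chevG2.nroots
  · rw [dif_pos hr]
    intro row col h1 h2
    exact xMat_zero ⟨r, hr⟩ t row col h1 h2
  · rw [dif_neg hr]
    exact blockZ_one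

theorem xGL_mem_stab [CharP K 3] (r : ℕ) (t : K) : xGL chevG2 hG2' K r t ∈ stab K := by
  refine ⟨?_, ?_⟩
  · rw [xGL_coe]; exact x_blockZ r t
  · rw [xGL_inv, xGL_coe]; exact x_blockZ r (-t)

theorem group_le_stab [CharP K 3] : chevG2.group K ≤ stab K := by
  unfold ChevalleyDatum.group
  rw [Subgroup.closure_le]
  rintro g ⟨r, t, hg⟩
  have h1 : (g : Matrix chevG2.Idx chevG2.Idx K) = chevG2.x K r.val t := by
    rw [hg]; unfold ChevalleyDatum.x; rw [dif_pos r.2]
  have h2 : g = xGL chevG2 hG2' K r.val t := Units.ext (by rw [h1, xGL_coe])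
  rw [h2]
  exact xGL_mem_stab r.val t

/-- the short-root ideal -/
def W7 (K : Type*) [Field K] : Submodule K (chevG2.Idx → K) where
  carrier := {v | ∀ i, inS i = false → v i = 0}
  add_mem' := by
    intro a b ha hb i hi
    rw [Pi.add_apply, ha i hi, hb i hi, add_zero]
  zero_mem' := fun _ _ => rfl
  smul_mem' := by
    intro c a ha i hi
    rw [Pi.smul_apply, ha i hi, smul_zero]

theorem mulVec_mem {M : Matrix chevG2.Idx chevG2.Idx K} (hM : BlockZ M) {v : chevG2.Idx → K}
    (hv : v ∈ W7 K) : M.mulVec v ∈ W7 K := by
  intro i hi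
  rw [Matrix.mulVec, dotProduct]
  apply Finset.sum_eq_zero
  intro k _
  cases hk : inS k with
  | true => rw [hM i k hi hk, zero_mul]
  | false => rw [hv k hk, mul_zero]

/-- `W7` is the space of functions on the seven short-root coordinates -/
noncomputable def W7equiv (K : Type*) [Field K] : ↥(W7 K) ≃ₗ[K] ({i : chevG2.Idx // inS i = true} → K) where
  toFun w := fun i => (w : chevG2.Idx → K) i.1
  map_add' := by intro a b; rfl
  map_smul' := by intro c a; rfl
  invFun f := ⟨fun i => if h : inS i = true then f ⟨i, h⟩ else 0, by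
    intro i hi
    simp [hi]⟩
  left_inv := by
    intro w
    apply Subtype.ext
    funext i
    by_cases h : inS i = true
    · simp [h]
    · have h' : inS i = false := by simpa using h
      simp only [h]
      exact (w.2 i h').symm
  right_inv := by
    intro f
    funext i
    simp [i.2]

theorem finrank_W7 : Module.finrank K ↥(W7 K) = 7 := by
  rw [LinearEquiv.finrank_eq (W7equiv K), Module.finrank_fintype_fun_eq_card]
  rfl

/-- the action of the stabiliser on `W7` -/
noncomputable def rho7 (K : Type*) [Field K] : ↥(stab K) →* Module.End K ↥(W7 K) where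
  toFun g := (Matrix.toLin' ((g : GL chevG2.Idx K) : Matrix chevG2.Idx chevG2.Idx K)).restrict
    (p := W7 K) (q := W7 K) (fun v hv => by
      rw [Matrix.toLin'_apply]
      exact mulVec_mem g.2.1 hv)
  map_one' := by
    apply LinearMap.ext
    intro w
    apply Subtype.ext
    simp [LinearMap.restrict_apply]
  map_mul' := by
    intro a b
    apply LinearMap.ext
    intro w
    apply Subtype.ext
    simp [LinearMap.restrict_apply, Matrix.toLin'_mul]

theorem rho7_apply (g : ↥(stab K)) (w : ↥(W7 K)) :
    ((rho7 K g w : ↥(W7 K)) : chevG2.Idx → K) =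
      ((g : GL chevG2.Idx K) : Matrix chevG2.Idx chevG2.Idx K).mulVec (w : chevG2.Idx → K) := by
  simp [rho7, LinearMap.restrict_apply]

/-- the action of `G₂(K)` on `W7` -/
noncomputable def rhoG (K : Type*) [Field K] [CharP K 3] : ↥(chevG2.group K) →* Module.End K ↥(W7 K) :=
  (rho7 K).comp (Subgroup.inclusion group_le_stab)

theorem rhoG_apply [CharP K 3] (g : ↥(chevG2.group K)) (w : ↥(W7 K)) :
    ((rhoG K g w : ↥(W7 K)) : chevG2.Idx → K) =
      ((g : GL chevG2.Idx K) : Matrix chevG2.Idx chevG2.Idx K).mulVec (w : chevG2.Idx → K) := by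
  unfold rhoG
  rw [MonoidHom.comp_apply, rho7_apply]
  rfl

/-- `x_a(1)` does not act trivially on `W7` -/
theorem rhoG_xa_ne_one [CharP K 3] :
    rhoG K ⟨xGL chevG2 hG2' K 7 1, xGL_mem_group chevG2 hG2' K 7 1⟩ ≠ 1 := by
  intro h
  let j4 : chevG2.Idx := Sum.inr (⟨4, by decide⟩ : Fin chevG2.nroots)
  let i0 : chevG2.Idx := Sum.inl (⟨0, by decide⟩ : Fin chevG2.rank)
  let w : ↥(W7 K) := ⟨Pi.single j4 1, by
    intro i hi
    apply Pi.single_eq_of_ne
    intro e
    rw [e] at hi
    exact absurd hi (by decide)⟩
  have h1 := congrArg (fun f : Module.End K ↥(W7 K) => ((f w : ↥(W7 K)) : chevG2.Idx → K) i0) h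
  simp only [rhoG_apply] at h1
  have hw : ((w : ↥(W7 K)) : chevG2.Idx → K) = Pi.single j4 1 := rfl
  rw [hw, Matrix.mulVec_single_one] at h1
  have h2 : ((xGL chevG2 hG2' K 7 1 : GL chevG2.Idx K) : Matrix chevG2.Idx chevG2.Idx K) i0 j4 = 1 := by
    rw [xGL_coe]
    unfold ChevalleyDatum.x
    rw [dif_pos (by decide : 7 < chevG2.nroots)]
    unfold ChevalleyDatum.xMat
    simp only [Matrix.of_apply, i0, j4]
    have e1 : (⟨4, by decide⟩ : Fin chevG2.nroots) ≠ (⟨7, by decide⟩ : Fin chevG2.nroots) := by
      intro e
      exact absurd (congrArg Fin.val e) (by decide)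
    have e2 : (⟨4, by decide⟩ : Fin chevG2.nroots).val = chevG2.negIdx.getD 7 0 := by decide
    rw [if_neg e1, if_pos e2]
    have e3 : (chevG2.coroot.getD 7 #[]).getD (⟨0, by decide⟩ : Fin chevG2.rank).val 0 = 1 := by decide
    simp only [e3]
    simp
  have h3 : ((1 : Module.End K ↥(W7 K)) w : chevG2.Idx → K) i0 = 0 := by
    show (Pi.single j4 (1 : K) : chevG2.Idx → K) i0 = 0
    exact Pi.single_eq_of_ne (by simp [i0, j4]) _
  rw [h3] at h1
  simp only [Matrix.col_apply] at h1
  rw [h2] at h1
  exact one_ne_zero h1

/-- the action of `G₂(K)` on the short-root ideal is faithful (characteristic 3) -/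
theorem rhoG_injective [CharP K 3] : Function.Injective (rhoG K) := by
  have h21 : (2 : K) ≠ 1 := by
    intro h
    have h1 : (1 : K) = 0 := by
      have : (2 : K) - 1 = 0 := by rw [h]; ring
      have e : (2 : K) - 1 = 1 := by norm_num
      rw [e] at this
      exact this
    exact one_ne_zero h1
  have h20 : (2 : K) ≠ 0 := by
    intro h
    have h3 : (3 : K) = 0 := by exact_mod_cast CharP.cast_eq_zero K 3
    have : (1 : K) = 0 := by
      have e : (1 : K) = 3 - 2 := by norm_num
      rw [e, h3, h, sub_zero]
    exact one_ne_zero this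
  obtain ⟨hsimple, -⟩ := Cfsg.Agent.S1055.result (F := K) ⟨2, h20, h21⟩
  rw [← MonoidHom.ker_eq_bot_iff]
  rcases (rhoG K).normal_ker.eq_bot_or_eq_top with h | h
  · exact h
  · exfalso
    apply rhoG_xa_ne_one (K := K)
    have : (⟨xGL chevG2 hG2' K 7 1, xGL_mem_group chevG2 hG2' K 7 1⟩ : ↥(chevG2.group K)) ∈ (rhoG K).ker := by
      rw [h]; exact Subgroup.mem_top _
    exact MonoidHom.mem_ker.1 this

end

end Cfsg.Agent.Lib.Helper18.G2M7
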