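import Cfsg.Agent.Lib.Helper18.ReeFixU

/-! # `²G₂ ≤ G₂(K)^σ`, and `U¹` (helper18) -/

set_option autoImplicit false

namespace Cfsg.Agent.Lib.Helper18.Ree

open Cfsg Cfsg.Lie Cfsg.Agent.Lib.Helper36 Cfsg.Agent.Lib.Helper18

section
variable (K : Type*) [Field K] [Fintype K] (m : ℕ) (hK : Fintype.card K = 3 ^ (2 * m + 1))

include hK in
/-- the characteristic is 3 -/
theorem charP3 : CharP K 3 := by
  obtain ⟨p, hp⟩ := CharP.exists K
  obtain ⟨n, hpp, hn⟩ := FiniteField.card K p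
  rw [hK] at hn
  have h3 : (3 : ℕ) ∣ p ^ (n : ℕ) := by
    rw [← hn]; exact dvd_pow_self 3 (by omega)
  have h3p : 3 ∣ p := Nat.Prime.dvd_of_dvd_pow Nat.prime_three h3
  have : p = 3 := ((Nat.prime_dvd_prime_iff_eq Nat.prime_three hpp).1 h3p).symm
  rw [← this]; exact hp

end

section
variable (K : Type*) [Field K] [Fintype K] [CharP K 3] (m : ℕ) (hK : Fintype.card K = 3 ^ (2 * m + 1))

omit [Fintype K] [CharP K 3] in
/-- the generators of `²G₂` -/
theorem mem_twistedG2_U (t u v : K) : wordGL chevG2 hG2 K (reeWordU (3 ^ m) t u v) ∈ twistedG2 K (3 ^ m) := by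
  apply Subgroup.subset_closure
  exact ⟨_, ⟨t, u, v, Or.inl rfl⟩, wordGL_coe chevG2 hG2 K _⟩

omit [Fintype K] [CharP K 3] in
theorem mem_twistedG2_V (t u v : K) : wordGL chevG2 hG2 K (reeWordV (3 ^ m) t u v) ∈ twistedG2 K (3 ^ m) := by
  apply Subgroup.subset_closure
  exact ⟨_, ⟨t, u, v, Or.inr rfl⟩, wordGL_coe chevG2 hG2 K _⟩

omit [Fintype K] [CharP K 3] in
theorem wordGL_mem_group (w : List (ℕ × K)) : wordGL chevG2 hG2 K w ∈ chevG2.group K :=
  wordGL_mem chevG2 hG2 K _ w (fun p _ => xGL_mem_group chevG2 hG2 K p.1 p.2)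

omit [Fintype K] [CharP K 3] in
theorem twistedG2_le : twistedG2 K (3 ^ m) ≤ chevG2.group K := by
  unfold twistedG2 ChevalleyDatum.genSubgroup
  rw [Subgroup.closure_le]
  rintro g ⟨w, -, hw⟩
  have : g = wordGL chevG2 hG2 K w := by apply Units.ext; rw [hw, wordGL_coe]
  rw [this]; exact wordGL_mem_group K w

include hK in
/-- `²G₂` is fixed elementwise by `σ` -/
theorem sig_twistedG2 (g : GL chevG2.Idx K) (hg : g ∈ twistedG2 K (3 ^ m)) :
    sig K m ⟨g, twistedG2_le K m hg⟩ = ⟨g, twistedG2_le K m hg⟩ := by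
  have key : ∀ g (hg : g ∈ twistedG2 K (3 ^ m)), ∃ h : g ∈ chevG2.group K, sig K m ⟨g, h⟩ = ⟨g, h⟩ := by
    intro g hg
    unfold twistedG2 ChevalleyDatum.genSubgroup at hg
    induction hg using Subgroup.closure_induction with
    | mem x hx =>
      obtain ⟨w, ⟨t, u, v, hw | hw⟩, hxw⟩ := hx
      · have : x = wordGL chevG2 hG2 K (reeWordU (3 ^ m) t u v) := by
          apply Units.ext; rw [hxw, wordGL_coe, hw]
        subst this
        refine ⟨wordGL_mem_group K _, ?_⟩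
        have := sig_U K m hK t u v
        have e : (⟨wordGL chevG2 hG2 K (reeWordU (3 ^ m) t u v), wordGL_mem_group K _⟩ : ↥(chevG2.group K)) =
            wordGr chevG2 hG2 K (reeWordU (3 ^ m) t u v) := by
          apply Subtype.ext; rw [wordGr_coe]
        rw [e]; exact this
      · have : x = wordGL chevG2 hG2 K (reeWordV (3 ^ m) t u v) := by
          apply Units.ext; rw [hxw, wordGL_coe, hw]
        subst this
        refine ⟨wordGL_mem_group K _, ?_⟩
        have := sig_V K m hK t u v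
        have e : (⟨wordGL chevG2 hG2 K (reeWordV (3 ^ m) t u v), wordGL_mem_group K _⟩ : ↥(chevG2.group K)) =
            wordGr chevG2 hG2 K (reeWordV (3 ^ m) t u v) := by
          apply Subtype.ext; rw [wordGr_coe]
        rw [e]; exact this
    | one => exact ⟨one_mem _, map_one _⟩
    | mul x y _ _ ihx ihy =>
      obtain ⟨hx, ex⟩ := ihx
      obtain ⟨hy, ey⟩ := ihy
      refine ⟨mul_mem hx hy, ?_⟩
      have : (⟨x * y, mul_mem hx hy⟩ : ↥(chevG2.group K)) = ⟨x, hx⟩ * ⟨y, hy⟩ := rfl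
      rw [this, map_mul, ex, ey]
    | inv x _ ihx =>
      obtain ⟨hx, ex⟩ := ihx
      refine ⟨inv_mem hx, ?_⟩
      have : (⟨x⁻¹, inv_mem hx⟩ : ↥(chevG2.group K)) = (⟨x, hx⟩ : ↥(chevG2.group K))⁻¹ := rfl
      rw [this, map_inv, ex]
  obtain ⟨h, e⟩ := key g hg
  exact e

omit [Fintype K] in
/-- the parametrisation of `U¹` is injective -/
theorem reeU_inj (t u v t' u' v' : K)
    (h : wordGL chevG2 hG2 K (reeWordU (3 ^ m) t u v) = wordGL chevG2 hG2 K (reeWordU (3 ^ m) t' u' v')) :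
    t = t' ∧ u = u' ∧ v = v' := by
  rw [canonU, canonU, ← wordGL_mkC, ← wordGL_mkC] at h
  have h2 := congrArg (fun g : GL chevG2.Idx K => (g : Matrix chevG2.Idx chevG2.Idx K)) h
  simp only [wordGL_coe] at h2
  rw [← canW_eq, ← canW_eq] at h2
  have hu := pos_unique chevG2 hG2 K _ _ h2
  have h6 : t = t' := by
    have := hu 6 (by decide +kernel); simpa [mkC] using this
  subst h6
  have h10 : u = u' := by
    have := hu 10 (by decide +kernel); simpa [mkC] using this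
  have h11 : v = v' := by
    have := hu 11 (by decide +kernel); simpa [mkC] using this
  exact ⟨rfl, h10, h11⟩

omit [Fintype K] [CharP K 3] in
theorem reeU_mem_pos (t u v : K) : wordGL chevG2 hG2 K (reeWordU (3 ^ m) t u v) ∈ chevG2.posUnipotent K := by
  apply wordGL_mem
  intro p hp
  simp only [reeWordU, List.mem_cons, List.not_mem_nil, or_false] at hp
  have h6 : chevG2.IsPosRoot 6 := by decide +kernel
  have h7 : chevG2.IsPosRoot 7 := by decide +kernel
  have h8 : chevG2.IsPosRoot 8 := by decide +kernel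
  have h9 : chevG2.IsPosRoot 9 := by decide +kernel
  have h10 : chevG2.IsPosRoot 10 := by decide +kernel
  have h11 : chevG2.IsPosRoot 11 := by decide +kernel
  rcases hp with rfl | rfl | rfl | rfl | rfl | rfl
  · exact xGL_mem_pos chevG2 hG2 K _ h7 _
  · exact xGL_mem_pos chevG2 hG2 K _ h6 _
  · exact xGL_mem_pos chevG2 hG2 K _ h8 _
  · exact xGL_mem_pos chevG2 hG2 K _ h9 _
  · exact xGL_mem_pos chevG2 hG2 K _ h10 _
  · exact xGL_mem_pos chevG2 hG2 K _ h11 _

include hK in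
/-- `U ∩ ²G₂` consists of the generators of `U¹` -/
theorem mem_U1_iff (g : GL chevG2.Idx K) :
    g ∈ chevG2.posUnipotent K ⊓ twistedG2 K (3 ^ m) ↔ ∃ t u v : K, g = wordGL chevG2 hG2 K (reeWordU (3 ^ m) t u v) := by
  constructor
  · rintro ⟨hU, hG⟩
    exact fixU_eq K m hK g hU (twistedG2_le K m hG) (sig_twistedG2 K m hK g hG)
  · rintro ⟨t, u, v, rfl⟩
    exact ⟨reeU_mem_pos K m t u v, mem_twistedG2_U K m t u v⟩

include hK in
/-- `|U¹| = q³` -/
theorem card_U1 : Nat.card ↥(chevG2.posUnipotent K ⊓ twistedG2 K (3 ^ m)) = (3 ^ (2 * m + 1)) ^ 3 := by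
  have e : (K × K × K) ≃ ↥(chevG2.posUnipotent K ⊓ twistedG2 K (3 ^ m)) := by
    refine Equiv.ofBijective (fun p => ⟨wordGL chevG2 hG2 K (reeWordU (3 ^ m) p.1 p.2.1 p.2.2),
      (mem_U1_iff K m hK _).2 ⟨_, _, _, rfl⟩⟩) ⟨?_, ?_⟩
    · rintro ⟨t, u, v⟩ ⟨t', u', v'⟩ h
      have h' := congrArg Subtype.val h
      obtain ⟨rfl, rfl, rfl⟩ := reeU_inj K m t u v t' u' v' h'
      rfl
    · rintro ⟨g, hg⟩
      obtain ⟨t, u, v, rfl⟩ := (mem_U1_iff K m hK g).1 hg
      exact ⟨(t, u, v), rfl⟩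
  rw [← Nat.card_congr e, Nat.card_prod, Nat.card_prod, Nat.card_eq_fintype_card, hK]
  ring

end

end Cfsg.Agent.Lib.Helper18.Ree
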