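import Cfsg.Agent.Lib.Helper18.G2M7
import Cfsg.Agent.Lib.Helper18.ReeGroup

/-! # The faithful 7-dimensional module of the small Ree groups (helper18) -/

set_option autoImplicit false

namespace Cfsg.Agent.Lib.Helper18.G2M7

open Cfsg Cfsg.Lie Cfsg.Agent.Lib.Helper36

/-- the small Ree group `²G₂(3^(2m+1))` acts faithfully on the 7-dimensional short-root ideal `W7 K` -/
theorem exists_ree_mod7 {K : Type*} [Field K] [Fintype K] {m : ℕ} (hK : Fintype.card K = 3 ^ (2 * m + 1)) :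
    ∃ ρ : ↥(twistedG2 K (3 ^ m)) →* Module.End K ↥(W7 K), Function.Injective ρ ∧
      Module.finrank K ↥(W7 K) = 7 ∧
      ∀ (g : ↥(twistedG2 K (3 ^ m))) (w : ↥(W7 K)), ((ρ g w : ↥(W7 K)) : chevG2.Idx → K) =
        ((g : GL chevG2.Idx K) : Matrix chevG2.Idx chevG2.Idx K).mulVec (w : chevG2.Idx → K) := by
  haveI : CharP K 3 := Cfsg.Agent.Lib.Helper18.Ree.charP3 K m hK
  have hle : twistedG2 K (3 ^ m) ≤ chevG2.group K := Cfsg.Agent.Lib.Helper18.Ree.twistedG2_le K m
  refine ⟨(rhoG K).comp (Subgroup.inclusion hle), ?_, finrank_W7, ?_⟩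
  · exact rhoG_injective.comp (Subgroup.inclusion_injective hle)
  · intro g w
    rw [MonoidHom.comp_apply, rhoG_apply]
    rfl

end Cfsg.Agent.Lib.Helper18.G2M7
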