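import Mathlib

set_option autoImplicit false

namespace Cfsg.Agent.Lib.Helper18

/-- exponent pair of a Laurent monomial in two variables -/
abbrev Mono := ℤ × ℤ
/-- Laurent polynomials in two variables with integer coefficients, as association lists -/
abbrev LP := List (Mono × ℤ)
/-- sparse vectors with Laurent polynomial coefficients, keys are natural numbers -/
abbrev SV := List (ℕ × LP)

def lpIns (m : Mono) (c : ℤ) : LP → LP
  | [] => if c = 0 then [] else [(m, c)]
  | (m', c') :: l =>
    if m = m' then (if c + c' = 0 then l else (m, c + c') :: l) else (m', c') :: lpIns m c l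

def lpAdd (p q : LP) : LP := p.foldr (fun t acc => lpIns t.1 t.2 acc) q

def lpMulMono (m : Mono) (c : ℤ) (q : LP) (acc : LP) : LP :=
  q.foldr (fun t' acc' => lpIns (m.1 + t'.1.1, m.2 + t'.1.2) (c * t'.2) acc') acc

def lpMul (p q : LP) : LP := p.foldr (fun t acc => lpMulMono t.1 t.2 q acc) []

def lpOfInt (z : ℤ) : LP := if z = 0 then [] else [((0, 0), z)]
def lpOne : LP := [((0, 0), 1)]
def lpNeg (p : LP) : LP := p.map fun t => (t.1, -t.2)
def lpPow (p : LP) : ℕ → LP
  | 0 => lpOne
  | n + 1 => lpMul (lpPow p n) p

def svIns (k : ℕ) (a : LP) : SV → SV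
  | [] => if a.isEmpty then [] else [(k, a)]
  | (k', a') :: l =>
    if k = k' then (if (lpAdd a a').isEmpty then l else (k, lpAdd a a') :: l)
    else (k', a') :: svIns k a l

/-- apply the sparse matrix with columns `col` to the sparse vector `v` -/
def applyCol (col : ℕ → SV) (bound : ℕ) (v : SV) : SV :=
  v.foldr (fun ka acc => if ka.1 < bound then
    (col ka.1).foldr (fun jb acc' => svIns jb.1 (lpMul ka.2 jb.2) acc') acc else acc) []

section eval
variable {F : Type*} [Field F] (x y : F)

def monoEval (m : Mono) : F := x ^ m.1 * y ^ m.2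

def lpEval (p : LP) : F := (p.map fun t => (t.2 : F) * monoEval x y t.1).sum

@[simp] theorem lpEval_nil : lpEval x y [] = 0 := rfl

theorem lpEval_cons (t : Mono × ℤ) (p : LP) :
    lpEval x y (t :: p) = (t.2 : F) * monoEval x y t.1 + lpEval x y p := by
  simp [lpEval]

theorem lpEval_ins (m : Mono) (c : ℤ) (l : LP) :
    lpEval x y (lpIns m c l) = (c : F) * monoEval x y m + lpEval x y l := by
  induction l with
  | nil =>
    unfold lpIns
    split_ifs with h
    · simp [h]
    · simp [lpEval]
  | cons t l ih =>
    obtain ⟨m', c'⟩ := t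
    unfold lpIns
    split_ifs with h1 h2
    · subst h1
      have : ((c : F) + (c' : F)) = 0 := by exact_mod_cast congrArg (Int.cast : ℤ → F) h2
      rw [lpEval_cons]
      simp only
      linear_combination (-(monoEval x y m)) * this
    · subst h1
      rw [lpEval_cons, lpEval_cons]
      push_cast
      ring
    · rw [lpEval_cons, lpEval_cons, ih]
      ring

theorem lpEval_add (p q : LP) : lpEval x y (lpAdd p q) = lpEval x y p + lpEval x y q := by
  induction p with
  | nil => simp [lpAdd]
  | cons t p ih =>
    have : lpAdd (t :: p) q = lpIns t.1 t.2 (lpAdd p q) := rfl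
    rw [this, lpEval_ins, ih, lpEval_cons]
    ring

theorem monoEval_add (hx : x ≠ 0) (hy : y ≠ 0) (m m' : Mono) :
    monoEval x y (m.1 + m'.1, m.2 + m'.2) = monoEval x y m * monoEval x y m' := by
  simp only [monoEval, zpow_add₀ hx, zpow_add₀ hy]
  ring

theorem lpEval_mulMono (hx : x ≠ 0) (hy : y ≠ 0) (m : Mono) (c : ℤ) (q acc : LP) :
    lpEval x y (lpMulMono m c q acc) = (c : F) * monoEval x y m * lpEval x y q + lpEval x y acc := by
  induction q with
  | nil => simp [lpMulMono]
  | cons t q ih =>
    have : lpMulMono m c (t :: q) acc =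
        lpIns (m.1 + t.1.1, m.2 + t.1.2) (c * t.2) (lpMulMono m c q acc) := rfl
    rw [this, lpEval_ins, ih, lpEval_cons, monoEval_add x y hx hy]
    push_cast
    ring

theorem lpEval_mul (hx : x ≠ 0) (hy : y ≠ 0) (p q : LP) :
    lpEval x y (lpMul p q) = lpEval x y p * lpEval x y q := by
  induction p with
  | nil => simp [lpMul]
  | cons t p ih =>
    have : lpMul (t :: p) q = lpMulMono t.1 t.2 q (lpMul p q) := rfl
    rw [this, lpEval_mulMono x y hx hy, ih, lpEval_cons]
    ring

theorem lpEval_ofInt (z : ℤ) : lpEval x y (lpOfInt z) = (z : F) := by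
  unfold lpOfInt
  split_ifs with h
  · simp [h]
  · simp [lpEval, monoEval]

@[simp] theorem lpEval_one : lpEval x y lpOne = 1 := by
  simp [lpOne, lpEval, monoEval]

theorem lpEval_neg (p : LP) : lpEval x y (lpNeg p) = - lpEval x y p := by
  induction p with
  | nil => simp [lpNeg]
  | cons t p ih =>
    have : lpNeg (t :: p) = (t.1, -t.2) :: lpNeg p := rfl
    rw [this, lpEval_cons, lpEval_cons, ih]
    push_cast
    ring

theorem lpEval_pow (hx : x ≠ 0) (hy : y ≠ 0) (p : LP) (n : ℕ) :
    lpEval x y (lpPow p n) = lpEval x y p ^ n := by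
  induction n with
  | zero => simp [lpPow]
  | succ n ih => rw [lpPow, lpEval_mul x y hx hy, ih, pow_succ]

theorem lpEval_of_isEmpty {p : LP} (h : p.isEmpty = true) : lpEval x y p = 0 := by
  rw [List.isEmpty_iff] at h
  subst h
  rfl

/-- value of the sparse vector at key `k` -/
def svEval (v : SV) (k : ℕ) : F := ((v.filter fun e => e.1 = k).map fun e => lpEval x y e.2).sum

@[simp] theorem svEval_nil (k : ℕ) : svEval x y [] k = 0 := rfl

theorem svEval_cons (e : ℕ × LP) (v : SV) (k : ℕ) :
    svEval x y (e :: v) k = (if e.1 = k then lpEval x y e.2 else 0) + svEval x y v k := by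
  unfold svEval
  rw [List.filter_cons]
  split_ifs with h1 h2 h2
  · simp
  · simp at h1; exact absurd h1 h2
  · simp at h1; exact absurd h2 h1
  · simp

theorem svEval_append (v w : SV) (k : ℕ) :
    svEval x y (v ++ w) k = svEval x y v k + svEval x y w k := by
  unfold svEval
  rw [List.filter_append, List.map_append, List.sum_append]

theorem svEval_ins (k : ℕ) (a : LP) (v : SV) (j : ℕ) :
    svEval x y (svIns k a v) j = (if k = j then lpEval x y a else 0) + svEval x y v j := by
  induction v with
  | nil =>
    unfold svIns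
    by_cases h : a.isEmpty = true
    · rw [if_pos h, lpEval_of_isEmpty x y h]; simp
    · rw [if_neg h, svEval_cons]
  | cons e v ih =>
    obtain ⟨k', a'⟩ := e
    unfold svIns
    by_cases h1 : k = k'
    · subst h1
      rw [if_pos rfl]
      by_cases h2 : (lpAdd a a').isEmpty = true
      · have h0 := lpEval_of_isEmpty x y h2
        rw [lpEval_add] at h0
        rw [if_pos h2, svEval_cons]
        by_cases h3 : k = j
        · simp only [h3, if_true]
          linear_combination (-1 : F) * h0
        · simp [h3]
      · rw [if_neg h2, svEval_cons, svEval_cons, lpEval_add]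
        by_cases h3 : k = j
        · simp only [h3, if_true]
          ring
        · simp [h3]
    · rw [if_neg h1, svEval_cons, svEval_cons, ih]
      ring

theorem svEval_foldr_ins (hx : x ≠ 0) (hy : y ≠ 0) (a : LP) (w acc : SV) (j : ℕ) :
    svEval x y (w.foldr (fun jb acc' => svIns jb.1 (lpMul a jb.2) acc') acc) j =
      lpEval x y a * svEval x y w j + svEval x y acc j := by
  induction w with
  | nil => simp
  | cons e w ih =>
    rw [List.foldr_cons, svEval_ins, ih, svEval_cons, lpEval_mul x y hx hy]
    split_ifs <;> ring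

theorem svEval_applyCol (hx : x ≠ 0) (hy : y ≠ 0) (col : ℕ → SV) (bound : ℕ) (v : SV) (j : ℕ) :
    svEval x y (applyCol col bound v) j =
      ((v.filter fun e => e.1 < bound).map fun e => lpEval x y e.2 * svEval x y (col e.1) j).sum := by
  induction v with
  | nil => simp [applyCol]
  | cons e v ih =>
    have : applyCol col bound (e :: v) = if e.1 < bound then
        (col e.1).foldr (fun jb acc' => svIns jb.1 (lpMul e.2 jb.2) acc') (applyCol col bound v)
        else applyCol col bound v := rfl
    rw [this, List.filter_cons]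
    by_cases h1 : e.1 < bound
    · rw [if_pos h1, if_pos (by simpa using h1), svEval_foldr_ins x y hx hy, ih]; simp
    · rw [if_neg h1, if_neg (by simpa using h1), ih]

end eval

end Cfsg.Agent.Lib.Helper18
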