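import Mathlib
import Cfsg.Prelude.Def_Transfer

/-! # The diagonal case of the maximal-component lemma (helper18; for S1305)

`J` a perfect subgroup commuting with its conjugate `J^a` (`a` an involution), `K = {x x^a}` the diagonal, `x ↦ x x^a`
injective on `J`; `B` an elementary abelian 2-group centralizing `a` and `K` and permuting `{J, J^a}`; `A ≤ K` elementary
abelian of order `> 2`.  Then `C(b) ∩ C(J)` contains an elementary abelian 2-subgroup of order `> |B|`. -/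

set_option autoImplicit false

namespace Cfsg.Agent.Lib.Helper18.Mc

open Subgroup

variable {G : Type*} [Group G]

/-- two elementwise commuting elementary abelian `2`-subgroups meeting trivially generate an elementary abelian
`2`-subgroup of order the product -/
theorem mcdiag_prod (P Q : Subgroup G) (hP : Cfsg.IsElementaryAbelian 2 P) (hQ : Cfsg.IsElementaryAbelian 2 Q)
    (hc : ∀ p ∈ P, ∀ q ∈ Q, p * q = q * p) (hd : ∀ g, g ∈ P → g ∈ Q → g = 1) :
    ∃ E : Subgroup G, P ≤ E ∧ Q ≤ E ∧ (∀ e ∈ E, ∃ p ∈ P, ∃ q ∈ Q, e = p * q) ∧ Cfsg.IsElementaryAbelian 2 E ∧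
      Nat.card E = Nat.card P * Nat.card Q := by
  have hcomm : ∀ (m : ↥P) (n : ↥Q), Commute (P.subtype m) (Q.subtype n) := fun m n => hc m m.2 n n.2
  let f : ↥P × ↥Q →* G := MonoidHom.noncommCoprod P.subtype Q.subtype hcomm
  have hf : ∀ x : ↥P × ↥Q, f x = (x.1 : G) * (x.2 : G) := fun x => by
    simp [f, MonoidHom.noncommCoprod_apply]
  have hinj : Function.Injective f := by
    rw [injective_iff_map_eq_one]
    rintro ⟨⟨p, hp⟩, ⟨q, hq⟩⟩ h
    rw [hf] at h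
    simp only at h
    have hpq : p = q⁻¹ := eq_inv_of_mul_eq_one_left h
    have hpQ : p ∈ Q := by rw [hpq]; exact inv_mem hq
    have hp1 : p = 1 := hd p hp hpQ
    have hq1 : q = 1 := by rw [hp1, one_mul] at h; exact h
    subst hp1; subst hq1; rfl
  refine ⟨f.range, ?_, ?_, ?_, ⟨?_, ?_⟩, ?_⟩
  · intro p hp
    exact ⟨(⟨p, hp⟩, 1), by rw [hf]; simp⟩
  · intro q hq
    exact ⟨(1, ⟨q, hq⟩), by rw [hf]; simp⟩
  · rintro e ⟨x, rfl⟩
    exact ⟨x.1, x.1.2, x.2, x.2.2, hf x⟩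
  · constructor
    constructor
    rintro ⟨_, ⟨x, rfl⟩⟩ ⟨_, ⟨y, rfl⟩⟩
    apply Subtype.ext
    show f x * f y = f y * f x
    rw [← map_mul, ← map_mul]
    congr 1
    ext
    · exact congrArg Subtype.val (hP.1.is_comm.comm x.1 y.1)
    · exact congrArg Subtype.val (hQ.1.is_comm.comm x.2 y.2)
  · rintro e ⟨x, rfl⟩
    rw [← map_pow]
    have h1 : x ^ 2 = 1 := by
      ext
      · show ((x.1 ^ 2 : ↥P) : G) = 1
        rw [Subgroup.coe_pow]; exact hP.2 _ x.1.2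
      · show ((x.2 ^ 2 : ↥Q) : G) = 1
        rw [Subgroup.coe_pow]; exact hQ.2 _ x.2.2
    rw [h1, map_one]
  · rw [← Nat.card_prod]
    exact (Nat.card_congr (Equiv.ofInjective f hinj)).symm

theorem mcdiag_inv_eq_self {B : Subgroup G} (hB : Cfsg.IsElementaryAbelian 2 B) {β : G} (h : β ∈ B) : β⁻¹ = β := by
  have h2 : β ^ 2 = 1 := hB.2 β h
  rw [pow_two] at h2
  exact inv_eq_of_mul_eq_one_left h2

/-- the diagonal map `x ↦ x · x^a` on `J` -/
noncomputable def mcdiagPhi (a : G) (J : Subgroup G)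
    (hJa : ∀ x ∈ J, ∀ y ∈ J, x * (a * y * a⁻¹) = (a * y * a⁻¹) * x) : ↥J →* G where
  toFun x := (x : G) * (a * x * a⁻¹)
  map_one' := by simp
  map_mul' x y := by
    show ((x * y : ↥J) : G) * (a * ((x * y : ↥J) : G) * a⁻¹) = (x : G) * (a * x * a⁻¹) * ((y : G) * (a * y * a⁻¹))
    have h := hJa y y.2 x x.2
    have e : a * ((x * y : ↥J) : G) * a⁻¹ = (a * x * a⁻¹) * (a * y * a⁻¹) := by
      rw [Subgroup.coe_mul]; group
    rw [e, Subgroup.coe_mul]
    calc (x : G) * y * ((a * x * a⁻¹) * (a * y * a⁻¹)) = x * (y * (a * x * a⁻¹)) * (a * y * a⁻¹) := by group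
      _ = x * ((a * x * a⁻¹) * y) * (a * y * a⁻¹) := by rw [h]
      _ = (x : G) * (a * x * a⁻¹) * ((y : G) * (a * y * a⁻¹)) := by group

/-- the diagonal case: a too large elementary abelian `2`-subgroup of `C(b) ∩ C(J)` -/
theorem diag_rank [Finite G] (a b : G) (ha : a * a = 1) (hab : a * b = b * a)
    (J K B A : Subgroup G)
    (hJb : ∀ x ∈ J, x * b = b * x)
    (hJa : ∀ x ∈ J, ∀ y ∈ J, x * (a * y * a⁻¹) = (a * y * a⁻¹) * x)
    (hK : ∀ k : G, k ∈ K → ∃ x ∈ J, k = x * (a * x * a⁻¹))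
    (hinj : ∀ x ∈ J, x * (a * x * a⁻¹) = 1 → x = 1)
    (hBa : ∀ β ∈ B, β * a = a * β)
    (hBK : ∀ β ∈ B, ∀ x ∈ J, β * (x * (a * x * a⁻¹)) = (x * (a * x * a⁻¹)) * β)
    (hBel : Cfsg.IsElementaryAbelian 2 B) (hb : b ∈ B)
    (hperm : ∀ β ∈ B, (∀ x ∈ J, β * x * β⁻¹ ∈ J) ∨ (∀ x ∈ J, ∃ y ∈ J, β * x * β⁻¹ = a * y * a⁻¹))
    (hAK : A ≤ K) (hAel : Cfsg.IsElementaryAbelian 2 A) (hA2 : 2 < Nat.card A) :
    ∃ E : Subgroup G, (∀ e ∈ E, e * b = b * e) ∧ (∀ e ∈ E, ∀ x ∈ J, e * x = x * e) ∧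
      Cfsg.IsElementaryAbelian 2 E ∧ Nat.card B < Nat.card E := by
  classical
  have hainv : a⁻¹ = a := inv_eq_of_mul_eq_one_left ha
  set φ := mcdiagPhi a J hJa with hφdef
  have hφ : ∀ x : ↥J, φ x = (x : G) * (a * x * a⁻¹) := fun x => rfl
  have hφinj : Function.Injective φ := by
    rw [injective_iff_map_eq_one]
    intro x hx
    rw [hφ] at hx
    exact Subtype.ext (hinj x x.2 hx)
  -- the stabiliser of `J` in `B`
  let B₀ : Subgroup G :=
    { carrier := {β | β ∈ B ∧ ∀ x ∈ J, β * x * β⁻¹ ∈ J}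
      mul_mem' := by
        rintro β γ ⟨hβ, hβJ⟩ ⟨hγ, hγJ⟩
        refine ⟨mul_mem hβ hγ, fun x hx => ?_⟩
        have : β * γ * x * (β * γ)⁻¹ = β * (γ * x * γ⁻¹) * β⁻¹ := by group
        rw [this]
        exact hβJ _ (hγJ x hx)
      one_mem' := ⟨one_mem _, fun x hx => by simpa using hx⟩
      inv_mem' := by
        rintro β ⟨hβ, hβJ⟩
        refine ⟨inv_mem hβ, fun x hx => ?_⟩
        rw [mcdiag_inv_eq_self hBel hβ]
        exact hβJ x hx }
  have hB₀ : ∀ β, β ∈ B₀ ↔ β ∈ B ∧ ∀ x ∈ J, β * x * β⁻¹ ∈ J := fun β => Iff.rfl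
  have hB₀B : B₀ ≤ B := fun β hβ => hβ.1
  -- `B₀` centralizes `J`
  have hcentJ : ∀ β ∈ B₀, ∀ x ∈ J, β * x = x * β := by
    rintro β ⟨hβ, hβJ⟩ x hx
    have hx' := hβJ x hx
    have e1 : φ ⟨β * x * β⁻¹, hx'⟩ = φ ⟨x, hx⟩ := by
      rw [hφ, hφ]
      show β * x * β⁻¹ * (a * (β * x * β⁻¹) * a⁻¹) = x * (a * x * a⁻¹)
      have h1 := hBK β hβ x hx
      have h2 := hBa β hβ
      have h3 : β⁻¹ * a⁻¹ = a⁻¹ * β⁻¹ := by
        rw [← mul_inv_rev, ← mul_inv_rev, h2]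
      calc β * x * β⁻¹ * (a * (β * x * β⁻¹) * a⁻¹)
          = β * x * β⁻¹ * ((a * β) * x * (β⁻¹ * a⁻¹)) := by group
        _ = β * x * β⁻¹ * ((β * a) * x * (a⁻¹ * β⁻¹)) := by rw [h2, h3]
        _ = β * (x * (a * x * a⁻¹)) * β⁻¹ := by group
        _ = (x * (a * x * a⁻¹)) * β * β⁻¹ := by rw [h1]
        _ = x * (a * x * a⁻¹) := by group
    have e2 := congrArg Subtype.val (hφinj e1)
    simp only at e2
    calc β * x = (β * x * β⁻¹) * β := by group
      _ = x * β := by rw [e2]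
  -- index at most two
  have hidx : Nat.card B ≤ 2 * Nat.card B₀ := by
    by_cases hall : ∀ β ∈ B, β ∈ B₀
    · have : B ≤ B₀ := hall
      have := Subgroup.card_le_of_le this
      omega
    · push_neg at hall
      obtain ⟨γ, hγ, hγ0⟩ := hall
      have hsw : ∀ β ∈ B, β ∉ B₀ → ∀ x ∈ J, ∃ y ∈ J, β * x * β⁻¹ = a * y * a⁻¹ := by
        intro β hβ hβ0
        rcases hperm β hβ with h | h
        · exact absurd ⟨hβ, h⟩ hβ0
        · exact h
      have hsub : (B : Set G) ⊆ (B₀ : Set G) ∪ (fun g => g * γ⁻¹) '' (B₀ : Set G) := by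
        intro β hβ
        by_cases hβ0 : β ∈ B₀
        · exact Or.inl hβ0
        · right
          refine ⟨β * γ, ⟨mul_mem hβ hγ, fun x hx => ?_⟩, by group⟩
          obtain ⟨y, hy, ey⟩ := hsw γ hγ hγ0 x hx
          obtain ⟨z, hz, ez⟩ := hsw β hβ hβ0 y hy
          have h2 := hBa β hβ
          have h3 : β⁻¹ * a⁻¹ = a⁻¹ * β⁻¹ := by
            rw [← mul_inv_rev, ← mul_inv_rev, h2]
          have : β * γ * x * (β * γ)⁻¹ = z := by
            calc β * γ * x * (β * γ)⁻¹ = β * (γ * x * γ⁻¹) * β⁻¹ := by group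
              _ = β * (a * y * a⁻¹) * β⁻¹ := by rw [ey]
              _ = (β * a) * y * (a⁻¹ * β⁻¹) := by group
              _ = (a * β) * y * (β⁻¹ * a⁻¹) := by rw [h2, h3]
              _ = a * (β * y * β⁻¹) * a⁻¹ := by group
              _ = a * (a * z * a⁻¹) * a⁻¹ := by rw [ez]
              _ = (a * a) * z * (a * a)⁻¹ := by group
              _ = z := by rw [ha]; group
          rw [this]
          exact hz
      have hfin : ((B₀ : Set G) ∪ (fun g => g * γ⁻¹) '' (B₀ : Set G)).Finite := Set.toFinite _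
      calc Nat.card B = (B : Set G).ncard := (Nat.card_coe_set_eq _)
        _ ≤ ((B₀ : Set G) ∪ (fun g => g * γ⁻¹) '' (B₀ : Set G)).ncard := Set.ncard_le_ncard hsub hfin
        _ ≤ (B₀ : Set G).ncard + ((fun g => g * γ⁻¹) '' (B₀ : Set G)).ncard := Set.ncard_union_le _ _
        _ ≤ (B₀ : Set G).ncard + (B₀ : Set G).ncard :=
            Nat.add_le_add_left (Set.ncard_image_le (Set.toFinite _)) _
        _ = 2 * Nat.card B₀ := by
            rw [show (B₀ : Set G).ncard = Nat.card B₀ from (Nat.card_coe_set_eq _)]; ring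
  -- the copy of `A` inside `J^a`
  let ψ : ↥J →* G :=
    { toFun := fun x => a * x * a⁻¹
      map_one' := by simp
      map_mul' := fun x y => by rw [Subgroup.coe_mul]; group }
  have hψ : ∀ x : ↥J, ψ x = a * x * a⁻¹ := fun x => rfl
  have hψinj : Function.Injective ψ := by
    intro x y h
    rw [hψ, hψ] at h
    apply Subtype.ext
    have := mul_left_cancel (mul_right_cancel h)
    exact this
  let A₀ : Subgroup ↥J := A.comap φ
  let A' : Subgroup G := A₀.map ψ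
  have hA'mem : ∀ g ∈ A', ∃ x : ↥J, φ x ∈ A ∧ g = a * x * a⁻¹ := by
    rintro g ⟨x, hx, rfl⟩
    exact ⟨x, hx, rfl⟩
  have hcardA₀ : Nat.card A₀ = Nat.card A := by
    let Θ : ↥A₀ → ↥A := fun x => ⟨φ x.1, x.2⟩
    have hΘ : Function.Bijective Θ := by
      constructor
      · intro x y h
        have := congrArg Subtype.val h
        exact Subtype.ext (hφinj this)
      · rintro ⟨k, hk⟩
        obtain ⟨x, hx, e⟩ := hK k (hAK hk)
        refine ⟨⟨⟨x, hx⟩, ?_⟩, ?_⟩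
        · show φ ⟨x, hx⟩ ∈ A
          rw [hφ]; rw [← e]; exact hk
        · apply Subtype.ext
          show φ ⟨x, hx⟩ = k
          rw [hφ]; exact e.symm
    exact Nat.card_congr (Equiv.ofBijective Θ hΘ)
  have hcardA' : Nat.card A' = Nat.card A := by
    rw [← hcardA₀]
    exact Subgroup.card_map_of_injective hψinj
  have hA₀comm : ∀ x ∈ A₀, ∀ y ∈ A₀, x * y = y * x := by
    intro x hx y hy
    apply hφinj
    rw [map_mul, map_mul]
    have := hAel.1.is_comm.comm (⟨φ x, hx⟩ : ↥A) ⟨φ y, hy⟩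
    exact congrArg Subtype.val this
  have hA₀sq : ∀ x ∈ A₀, x ^ 2 = 1 := by
    intro x hx
    apply hφinj
    rw [map_pow, map_one]
    exact hAel.2 _ hx
  have hA'el : Cfsg.IsElementaryAbelian 2 A' := by
    constructor
    · constructor
      constructor
      rintro ⟨_, ⟨x, hx, rfl⟩⟩ ⟨_, ⟨y, hy, rfl⟩⟩
      apply Subtype.ext
      show ψ x * ψ y = ψ y * ψ x
      rw [← map_mul, ← map_mul, hA₀comm x hx y hy]
    · rintro _ ⟨x, hx, rfl⟩
      rw [← map_pow, hA₀sq x hx, map_one]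
  have hB₀el : Cfsg.IsElementaryAbelian 2 B₀ := by
    constructor
    · constructor
      constructor
      rintro ⟨x, hx⟩ ⟨y, hy⟩
      apply Subtype.ext
      show x * y = y * x
      exact congrArg Subtype.val (hBel.1.is_comm.comm (⟨x, hB₀B hx⟩ : ↥B) ⟨y, hB₀B hy⟩)
    · intro x hx
      exact hBel.2 x (hB₀B hx)
  have hcomm : ∀ p ∈ B₀, ∀ q ∈ A', p * q = q * p := by
    intro p hp q hq
    obtain ⟨x, -, rfl⟩ := hA'mem q hq
    have h1 := hcentJ p hp x x.2
    have h2 := hBa p (hB₀B hp)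
    have h3 : p * a⁻¹ = a⁻¹ * p := by rw [hainv]; exact h2
    calc p * (a * ↑x * a⁻¹) = (p * a) * x * a⁻¹ := by group
      _ = a * (p * x) * a⁻¹ := by rw [h2]; group
      _ = a * (x * p) * a⁻¹ := by rw [h1]
      _ = a * x * (p * a⁻¹) := by group
      _ = a * ↑x * a⁻¹ * p := by rw [h3]; group
  have hdisj : ∀ g, g ∈ B₀ → g ∈ A' → g = 1 := by
    intro g hg hg'
    obtain ⟨x, hxA, rfl⟩ := hA'mem g hg'
    have h2 := hBa _ (hB₀B hg)
    -- a x a⁻¹ = x
    have e1 : a * (x : G) * a⁻¹ = x := by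
      have : a * ↑x * a⁻¹ * a = a * (a * ↑x * a⁻¹) := h2
      have h4 : a * (x : G) = a * (a * ↑x * a⁻¹) := by
        rw [← this]; group
      have h5 : (x : G) = a * ↑x * a⁻¹ := mul_left_cancel h4
      exact h5.symm
    have hsq : (a * (x : G) * a⁻¹) ^ 2 = 1 := hBel.2 _ (hB₀B hg)
    have hx1 : (x : G) = 1 := by
      apply hinj x x.2
      rw [e1] at hsq ⊢
      rw [← pow_two]; exact hsq
    rw [hx1]; group
  obtain ⟨E, hPE, hQE, hEmem, hEel, hEcard⟩ := mcdiag_prod B₀ A' hB₀el hA'el hcomm hdisj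
  refine ⟨E, ?_, ?_, hEel, ?_⟩
  · intro e he
    obtain ⟨p, hp, q, hq, rfl⟩ := hEmem e he
    obtain ⟨x, -, rfl⟩ := hA'mem q hq
    have h1 : p * b = b * p :=
      congrArg Subtype.val (hBel.1.is_comm.comm (⟨p, hB₀B hp⟩ : ↥B) ⟨b, hb⟩)
    have h2 := hJb x x.2
    have h3 : a⁻¹ * b = b * a⁻¹ := by rw [hainv]; exact hab
    calc p * (a * ↑x * a⁻¹) * b = p * (a * ↑x * (a⁻¹ * b)) := by group
      _ = p * (a * (↑x * b) * a⁻¹) := by rw [h3]; group
      _ = p * ((a * b) * ↑x * a⁻¹) := by rw [h2]; group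
      _ = (p * b) * (a * ↑x * a⁻¹) := by rw [hab]; group
      _ = b * (p * (a * ↑x * a⁻¹)) := by rw [h1]; group
  · intro e he y hy
    obtain ⟨p, hp, q, hq, rfl⟩ := hEmem e he
    obtain ⟨x, -, rfl⟩ := hA'mem q hq
    have h1 := hcentJ p hp y hy
    have h2 := hJa y hy x x.2
    calc p * (a * ↑x * a⁻¹) * y = p * ((a * ↑x * a⁻¹) * y) := by group
      _ = p * (y * (a * ↑x * a⁻¹)) := by rw [h2]
      _ = (p * y) * (a * ↑x * a⁻¹) := by group
      _ = y * (p * (a * ↑x * a⁻¹)) := by rw [h1]; group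
  · rw [hEcard, hcardA']
    have hpos : 0 < Nat.card B₀ := Nat.card_pos
    calc Nat.card B ≤ 2 * Nat.card B₀ := hidx
      _ < Nat.card B₀ * Nat.card A := by nlinarith

end Cfsg.Agent.Lib.Helper18.Mc
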