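import Cfsg.Agent.Lib.Helper18.RODefs

/-! # Abstract Ree data: basic consequences (helper18) -/

set_option autoImplicit false
set_option linter.unusedSectionVars false

namespace Cfsg.Agent.Lib.Helper18.RO

variable {K : Type*} [Field K] [CharP K 3] {G : Type*} [Group G] {m : ℕ} (D : ReeData K G m)

theorem three_eq_zero : (3 : K) = 0 := by
  have := CharP.cast_eq_zero K 3
  exact_mod_cast this

theorem two_ne_zero' : (2 : K) ≠ 0 := by
  intro h
  have h3 : (3 : K) = 0 := three_eq_zero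
  have : (1 : K) = 0 := by linear_combination h3 - h
  exact one_ne_zero this

theorem odd_exp (m : ℕ) : Odd (3 ^ m * 3) := (Odd.pow (by decide)).mul (by decide)

theorem neg_pow_exp (m : ℕ) (t : K) : (-t) ^ (3 ^ m * 3) = -(t ^ (3 ^ m * 3)) := (odd_exp m).neg_pow t

namespace ReeData

theorem uE_zero : D.uE (0, 0, 0) = 1 := by
  have h := D.uE_mul 0 0 0 0 0 0
  have hθ : 3 ^ m * 3 ≠ 0 := by positivity
  simp only [add_zero, zero_pow hθ, mul_zero, sub_zero, zero_mul] at h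
  have h2 : D.uE (0, 0, 0) * D.uE (0, 0, 0) = D.uE (0, 0, 0) * 1 := by rw [mul_one]; simpa using h
  exact mul_left_cancel h2

theorem uE_eq_one_iff (p : K × K × K) : D.uE p = 1 ↔ p = (0, 0, 0) := by
  constructor
  · intro h
    rw [← D.uE_zero] at h
    exact D.uE_inj h
  · rintro rfl
    exact D.uE_zero

theorem uE_cube (t u v : K) : D.uE (t, u, v) ^ 3 = D.uE (0, 0, -(t ^ (3 ^ m * 3 + 2))) := by
  have h3 : (3 : K) = 0 := three_eq_zero
  rw [pow_succ, pow_two, D.uE_mul, D.uE_mul]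
  congr 1
  refine Prod.ext ?_ (Prod.ext ?_ ?_)
  · show t + t + t = 0
    linear_combination t * h3
  · show u + u - t ^ (3 ^ m * 3) * t + u - t ^ (3 ^ m * 3) * (t + t) = 0
    linear_combination (u - t ^ (3 ^ m * 3) * t) * h3
  · show v + v - t * u - t ^ (3 ^ m * 3) * t ^ 2 + t ^ (3 ^ m * 3) * t * t + v - t * (u + u - t ^ (3 ^ m * 3) * t) -
      t ^ (3 ^ m * 3) * (t + t) ^ 2 + t ^ (3 ^ m * 3) * (t + t) * t = -(t ^ (3 ^ m * 3 + 2))
    rw [pow_add]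
    linear_combination (v - t * u) * h3

theorem uE_pow_nine (p : K × K × K) : D.uE p ^ 9 = 1 := by
  obtain ⟨t, u, v⟩ := p
  have h3 : (3 : K) = 0 := three_eq_zero
  have hθ : 3 ^ m * 3 + 2 ≠ 0 := by positivity
  rw [show 9 = 3 * 3 by norm_num, pow_mul, D.uE_cube, D.uE_cube, zero_pow hθ, neg_zero]
  exact D.uE_zero

/-- the subgroup `U` -/
def U : Subgroup G where
  carrier := Set.range D.uE
  mul_mem' := by
    rintro _ _ ⟨⟨t, u, v⟩, rfl⟩ ⟨⟨t', u', v'⟩, rfl⟩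
    exact ⟨_, (D.uE_mul t u v t' u' v').symm⟩
  one_mem' := ⟨_, D.uE_zero⟩
  inv_mem' := by
    rintro _ ⟨p, rfl⟩
    have h : (D.uE p)⁻¹ = D.uE p ^ 8 := by
      have h9 := D.uE_pow_nine p
      have : D.uE p * D.uE p ^ 8 = 1 := by rw [← pow_succ', h9]
      exact inv_eq_of_mul_eq_one_right this
    rw [h]
    have hpow : ∀ n : ℕ, D.uE p ^ n ∈ Set.range D.uE := by
      intro n
      induction n with
      | zero => exact ⟨_, by rw [pow_zero]; exact D.uE_zero⟩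
      | succ n ih =>
        obtain ⟨⟨t, u, v⟩, hq⟩ := ih
        obtain ⟨t', u', v'⟩ := p
        rw [pow_succ, ← hq]
        exact ⟨_, (D.uE_mul t u v t' u' v').symm⟩
    exact hpow 8

theorem mem_U (g : G) : g ∈ D.U ↔ ∃ p, D.uE p = g := Iff.rfl

theorem uE_mem_U (p : K × K × K) : D.uE p ∈ D.U := ⟨p, rfl⟩

theorem hE_conj_mem_U (s : Kˣ) (x : G) (hx : x ∈ D.U) : D.hE s * x * (D.hE s)⁻¹ ∈ D.U := by
  obtain ⟨⟨t, u, v⟩, rfl⟩ := hx
  rw [D.conj]
  exact D.uE_mem_U _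

theorem hE_inv_conj_mem_U (s : Kˣ) (x : G) (hx : x ∈ D.U) : (D.hE s)⁻¹ * x * D.hE s ∈ D.U := by
  have := D.hE_conj_mem_U s⁻¹ x hx
  rw [map_inv, inv_inv] at this
  exact this

/-- the relation `c2 = c1^(3θ+1)` -/
theorem c2_eq (s : Kˣ) : (D.c2 s : K) = (D.c1 s : K) ^ (3 ^ m * 3 + 1) := by
  have h := D.uE_mul 1 0 0 1 0 0
  have h2 : D.hE s * (D.uE (1, 0, 0) * D.uE (1, 0, 0)) * (D.hE s)⁻¹ = D.hE s * _ * (D.hE s)⁻¹ :=
    congrArg (fun x => D.hE s * x * (D.hE s)⁻¹) h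
  have e : D.hE s * (D.uE (1, 0, 0) * D.uE (1, 0, 0)) * (D.hE s)⁻¹ =
      (D.hE s * D.uE (1, 0, 0) * (D.hE s)⁻¹) * (D.hE s * D.uE (1, 0, 0) * (D.hE s)⁻¹) := by group
  rw [e, D.conj, D.conj, D.uE_mul] at h2
  have h3 := D.uE_inj h2
  have h4 := congrArg (fun q : K × K × K => q.2.1) h3
  simp only [mul_one, mul_zero, add_zero, zero_sub, one_pow, mul_neg] at h4
  rw [pow_succ]
  exact (neg_injective h4).symm

/-- the relation `s = c1(s)^(3θ+2)` -/
theorem c3_eq (s : Kˣ) : (s : K) = (D.c1 s : K) ^ (3 ^ m * 3 + 2) := by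
  have h := D.uE_mul 1 0 0 (-1) 0 0
  have h2 : D.hE s * (D.uE (1, 0, 0) * D.uE (-1, 0, 0)) * (D.hE s)⁻¹ = D.hE s * _ * (D.hE s)⁻¹ :=
    congrArg (fun x => D.hE s * x * (D.hE s)⁻¹) h
  have e : D.hE s * (D.uE (1, 0, 0) * D.uE (-1, 0, 0)) * (D.hE s)⁻¹ =
      (D.hE s * D.uE (1, 0, 0) * (D.hE s)⁻¹) * (D.hE s * D.uE (-1, 0, 0) * (D.hE s)⁻¹) := by group
  rw [e, D.conj, D.conj, D.conj, D.uE_mul] at h2
  have h3 := D.uE_inj h2
  have h4 := congrArg (fun q : K × K × K => q.2.2) h3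
  simp only [mul_one, mul_zero, add_zero, zero_sub, one_pow, sub_zero, mul_neg, neg_pow_exp, neg_neg,
    zero_mul, neg_zero, zero_add] at h4
  have h2' : (2 : K) ≠ 0 := two_ne_zero'
  have h5 : (2 : K) * ((s : K) - (D.c1 s : K) ^ (3 ^ m * 3 + 2)) = 0 := by
    rw [pow_add]
    linear_combination (-1 : K) * h4
  rcases mul_eq_zero.1 h5 with h | h
  · exact absurd h h2'
  · exact sub_eq_zero.1 h

theorem c1_injective : Function.Injective D.c1 := by
  intro s s' h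
  apply Units.ext
  rw [D.c3_eq s, D.c3_eq s', h]

end ReeData

end Cfsg.Agent.Lib.Helper18.RO
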