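import Cfsg.Agent.Lib.Helper18.RO1

/-! # Abstract Ree data: normalisers and centralisers (helper18) -/

set_option autoImplicit false
set_option linter.unusedSectionVars false

namespace Cfsg.Agent.Lib.Helper18.RO

variable {K : Type*} [Field K] [CharP K 3] {G : Type*} [Group G] {m : ℕ} (D : ReeData K G m)

namespace ReeData

/-- an element normalising `U` lies in `B = U H` -/
theorem mem_B_of_normalizes (g : G) (h : ∀ x ∈ D.U, g * x * g⁻¹ ∈ D.U) :
    ∃ p s, g = D.uE p * D.hE s := by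
  rcases D.cases g with ⟨p, s, rfl⟩ | ⟨p, s, p', rfl⟩
  · exact ⟨p, s, rfl⟩
  · exfalso
    set x := D.uE ((1 : K), (0 : K), (0 : K)) with hx
    set y := (D.uE p')⁻¹ * x * D.uE p' with hy
    have hyU : y ∈ D.U := mul_mem (mul_mem (inv_mem (D.uE_mem_U _)) (D.uE_mem_U _)) (D.uE_mem_U _)
    have h1 := h y hyU
    have e : D.uE p * D.hE s * D.nE * D.uE p' * y * (D.uE p * D.hE s * D.nE * D.uE p')⁻¹ =
        D.uE p * (D.hE s * (D.nE * x * D.nE⁻¹) * (D.hE s)⁻¹) * (D.uE p)⁻¹ := by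
      rw [hy]; group
    rw [e] at h1
    have h2 : D.hE s * (D.nE * x * D.nE⁻¹) * (D.hE s)⁻¹ ∈ D.U := by
      have := mul_mem (mul_mem (inv_mem (D.uE_mem_U p)) h1) (D.uE_mem_U p)
      have e2 : (D.uE p)⁻¹ * (D.uE p * (D.hE s * (D.nE * x * D.nE⁻¹) * (D.hE s)⁻¹) * (D.uE p)⁻¹) * D.uE p =
          D.hE s * (D.nE * x * D.nE⁻¹) * (D.hE s)⁻¹ := by group
      rw [e2] at this
      exact this
    have h3 : D.nE * x * D.nE⁻¹ ∈ D.U := by
      have := D.hE_inv_conj_mem_U s _ h2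
      have e3 : (D.hE s)⁻¹ * (D.hE s * (D.nE * x * D.nE⁻¹) * (D.hE s)⁻¹) * D.hE s = D.nE * x * D.nE⁻¹ := by
        group
      rw [e3] at this
      exact this
    obtain ⟨q, hq⟩ := h3
    have h4 : D.uE (0, 0, 0) * D.hE 1 * D.nE * x = D.uE q * D.hE 1 * D.nE * D.uE (0, 0, 0) := by
      rw [D.uE_zero, map_one, one_mul, one_mul, mul_one, mul_one, hq]
      group
    obtain ⟨-, -, h5⟩ := D.big_unique _ _ _ _ _ _ h4
    have h6 := congrArg (fun r : K × K × K => r.1) h5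
    exact one_ne_zero h6

/-- the fixed points of `h(s)` on `U` -/
theorem centralizer_U (s : Kˣ) (h1 : D.c1 s ≠ 1) (h2 : D.c2 s ≠ 1) (h3 : s ≠ 1) (p : K × K × K)
    (e : D.hE s * D.uE p * (D.hE s)⁻¹ = D.uE p) : p = (0, 0, 0) := by
  obtain ⟨t, u, v⟩ := p
  rw [D.conj] at e
  have e2 := D.uE_inj e
  have e3 : (D.c1 s : K) * t = t ∧ (D.c2 s : K) * u = u ∧ (s : K) * v = v := by
    refine ⟨congrArg (fun r : K × K × K => r.1) e2, congrArg (fun r : K × K × K => r.2.1) e2,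
      congrArg (fun r : K × K × K => r.2.2) e2⟩
  have key : ∀ (c : Kˣ) (x : K), c ≠ 1 → (c : K) * x = x → x = 0 := by
    intro c x hc hx
    have : ((c : K) - 1) * x = 0 := by linear_combination hx
    rcases mul_eq_zero.1 this with h | h
    · exfalso
      apply hc
      apply Units.ext
      rw [Units.val_one]
      linear_combination h
    · exact h
  rw [key _ t h1 e3.1, key _ u h2 e3.2.1, key _ v h3 e3.2.2]

/-- `U ∩ H = 1` -/
theorem uE_eq_hE [Fintype K] (hK : Fintype.card K = 3 ^ (2 * m + 1)) (p : K × K × K) (s : Kˣ)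
    (e : D.uE p = D.hE s) : p = (0, 0, 0) ∧ s = 1 := by
  classical
  have h9 : D.hE s ^ 9 = 1 := by rw [← e]; exact D.uE_pow_nine p
  rw [← map_pow, ← map_one D.hE] at h9
  have h9' : s ^ 9 = 1 := D.hE_inj h9
  have hq : s ^ (3 ^ (2 * m + 1) - 1) = 1 := by
    have := pow_card_eq_one (G := Kˣ) (x := s)
    rw [Fintype.card_units, hK] at this
    exact this
  have hcop : Nat.Coprime 9 (3 ^ (2 * m + 1) - 1) := by
    have h1 : 1 ≤ 3 ^ (2 * m + 1) := Nat.one_le_pow _ _ (by norm_num)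
    have h3 : (3 ^ (2 * m + 1) - 1) % 3 = 2 := by
      have : 3 ^ (2 * m + 1) = 3 * 3 ^ (2 * m) := by ring
      omega
    have : Nat.Coprime 3 (3 ^ (2 * m + 1) - 1) := by
      rw [Nat.Prime.coprime_iff_not_dvd Nat.prime_three]
      omega
    exact Nat.Coprime.pow_left 2 this
  have hs : s = 1 := by
    have h1 : orderOf s ∣ 9 := orderOf_dvd_of_pow_eq_one h9'
    have h2 : orderOf s ∣ 3 ^ (2 * m + 1) - 1 := orderOf_dvd_of_pow_eq_one hq
    have h3 : orderOf s ∣ 1 := by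
      have := Nat.dvd_gcd h1 h2
      rwa [hcop] at this
    exact orderOf_eq_one_iff.1 (Nat.dvd_one.1 h3)
  refine ⟨?_, hs⟩
  rw [hs, map_one] at e
  exact (D.uE_eq_one_iff p).1 e

end ReeData

end Cfsg.Agent.Lib.Helper18.RO
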