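import Cfsg.Agent.Lib.Helper18.RO2

/-! # Abstract Ree data: normalising an automorphism on the torus (helper18) -/

set_option autoImplicit false
set_option linter.unusedSectionVars false

namespace Cfsg.Agent.Lib.Helper18.RO

variable {K : Type*} [Field K] [CharP K 3] [Fintype K] {G : Type*} [Group G] {m : ℕ} (D : ReeData K G m)

theorem card_units_K (hK : Fintype.card K = 3 ^ (2 * m + 1)) : Nat.card Kˣ = 3 ^ (2 * m + 1) - 1 := by
  classical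
  rw [Nat.card_eq_fintype_card, Fintype.card_units, hK]

theorem q_bound (hm : 1 ≤ m) : 3 * 3 ^ m + 2 < 3 ^ (2 * m + 1) - 1 := by
  have h1 : 3 ^ (2 * m + 1) = 3 * 3 ^ m * 3 ^ m := by ring
  have h2 : 3 ^ 1 ≤ 3 ^ m := Nat.pow_le_pow_right (by norm_num) hm
  have h3 : 3 * 3 ^ m * 3 ≤ 3 * 3 ^ m * 3 ^ m := Nat.mul_le_mul_left _ (by simpa using h2)
  rw [h1]
  omega

/-- a generator of `Kˣ` -/
theorem exists_gen (hK : Fintype.card K = 3 ^ (2 * m + 1)) :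
    ∃ ζ : Kˣ, (∀ s : Kˣ, s ∈ Subgroup.zpowers ζ) ∧ ∀ k : ℕ, ζ ^ k = 1 → 3 ^ (2 * m + 1) - 1 ∣ k := by
  obtain ⟨ζ, hζ⟩ := IsCyclic.exists_generator (α := Kˣ)
  refine ⟨ζ, hζ, fun k hk => ?_⟩
  have h1 : orderOf ζ = Nat.card Kˣ := orderOf_eq_card_of_forall_mem_zpowers hζ
  rw [card_units_K hK] at h1
  rw [← h1]
  exact orderOf_dvd_of_pow_eq_one hk

namespace ReeData

theorem c3_eq_units (s : Kˣ) : s = D.c1 s ^ (3 ^ m * 3 + 2) := by
  apply Units.ext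
  rw [Units.val_pow_eq_pow_val]
  exact D.c3_eq s

theorem c2_eq_units (s : Kˣ) : D.c2 s = D.c1 s ^ (3 ^ m * 3 + 1) := by
  apply Units.ext
  rw [Units.val_pow_eq_pow_val]
  exact D.c2_eq s

/-- the generator acts without fixed points on `U` -/
theorem gen_facts (hK : Fintype.card K = 3 ^ (2 * m + 1)) (hm : 1 ≤ m) (ζ : Kˣ)
    (hζ : ∀ k : ℕ, ζ ^ k = 1 → 3 ^ (2 * m + 1) - 1 ∣ k) :
    D.c1 ζ ≠ 1 ∧ D.c2 ζ ≠ 1 ∧ ζ ≠ 1 ∧ ζ ^ 2 ≠ 1 := by
  have hb := q_bound hm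
  have e : 3 ^ m * 3 = 3 * 3 ^ m := by ring
  have hζ1 : ζ ≠ 1 := by
    intro h
    have := hζ 1 (by rw [h, pow_one])
    have := Nat.le_of_dvd (by norm_num) this
    omega
  have hζ2 : ζ ^ 2 ≠ 1 := by
    intro h
    have := Nat.le_of_dvd (by norm_num) (hζ 2 h)
    omega
  refine ⟨?_, ?_, hζ1, hζ2⟩
  · intro h
    apply hζ1
    rw [D.c3_eq_units ζ, h, one_pow]
  · intro h
    rw [D.c2_eq_units] at h
    have h2 : ζ ^ (3 ^ m * 3 + 1) = 1 := by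
      conv_lhs => rw [D.c3_eq_units ζ]
      rw [← pow_mul, mul_comm, pow_mul, h, one_pow]
    have := Nat.le_of_dvd (by positivity) (hζ _ h2)
    omega

instance finite_U : Finite ↥D.U := by
  have : Function.Surjective (fun p : K × K × K => (⟨D.uE p, D.uE_mem_U p⟩ : ↥D.U)) := by
    rintro ⟨x, p, rfl⟩
    exact ⟨p, rfl⟩
  exact Finite.of_surjective _ this

/-- step 2: after conjugation by an element of `U`, the torus is mapped into itself -/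
theorem exists_conj_H (hK : Fintype.card K = 3 ^ (2 * m + 1)) (hm : 1 ≤ m) (α : G ≃* G)
    (hU : ∀ x, x ∈ D.U ↔ α x ∈ D.U) :
    ∃ v ∈ D.U, ∀ s, ∃ s', v * α (D.hE s) * v⁻¹ = D.hE s' := by
  obtain ⟨ζ, hgen, hζ⟩ := exists_gen (K := K) hK
  obtain ⟨h1, h2, h3, -⟩ := D.gen_facts hK hm ζ hζ
  set y := α (D.hE ζ) with hy
  have hsymm : ∀ x ∈ D.U, α.symm x ∈ D.U := by
    intro x hx
    rw [hU, MulEquiv.apply_symm_apply]
    exact hx
  have hnorm : ∀ x ∈ D.U, y * x * y⁻¹ ∈ D.U := by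
    intro x hx
    have h4 := (hU _).1 (D.hE_conj_mem_U ζ _ (hsymm x hx))
    rw [map_mul, map_mul, map_inv, MulEquiv.apply_symm_apply] at h4
    exact h4
  have hnorm' : ∀ x ∈ D.U, y⁻¹ * x * y ∈ D.U := by
    intro x hx
    have h4 := (hU _).1 (D.hE_inv_conj_mem_U ζ _ (hsymm x hx))
    rw [map_mul, map_mul, map_inv, MulEquiv.apply_symm_apply] at h4
    exact h4
  obtain ⟨p₀, s₀, hy0⟩ := D.mem_B_of_normalizes y hnorm
  have hcent : ∀ x ∈ D.U, y * x * y⁻¹ = x → x = 1 := by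
    intro x hx hxy
    obtain ⟨p, hp⟩ := hsymm x hx
    have h5 : D.hE ζ * D.uE p * (D.hE ζ)⁻¹ = D.uE p := by
      apply α.injective
      rw [map_mul, map_mul, map_inv, hp, MulEquiv.apply_symm_apply]
      exact hxy
    have h6 := D.centralizer_U ζ h1 h2 h3 p h5
    rw [h6, D.uE_zero] at hp
    have : α.symm x = α.symm 1 := by rw [← hp, map_one]
    exact α.symm.injective this
  let ψ : ↥D.U → ↥D.U := fun v => ⟨(v : G) * y * (v : G)⁻¹ * y⁻¹, by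
    have e : (v : G) * y * (v : G)⁻¹ * y⁻¹ = (v : G) * (y * (v : G)⁻¹ * y⁻¹) := by group
    rw [e]
    exact mul_mem v.2 (hnorm _ (inv_mem v.2))⟩
  have hinj : Function.Injective ψ := by
    intro v w hvw
    have h7 : (v : G) * y * (v : G)⁻¹ * y⁻¹ = (w : G) * y * (w : G)⁻¹ * y⁻¹ := congrArg Subtype.val hvw
    have h8 : (v : G) * y * (v : G)⁻¹ = (w : G) * y * (w : G)⁻¹ := mul_right_cancel h7
    have h9 : y * ((w : G)⁻¹ * v) * y⁻¹ = (w : G)⁻¹ * v := by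
      have : y = ((w : G)⁻¹ * v) * y * ((w : G)⁻¹ * v)⁻¹ := by
        calc y = (w : G)⁻¹ * ((w : G) * y * (w : G)⁻¹) * w := by group
          _ = (w : G)⁻¹ * ((v : G) * y * (v : G)⁻¹) * w := by rw [h8]
          _ = _ := by group
      calc y * ((w : G)⁻¹ * v) * y⁻¹ = (((w : G)⁻¹ * v) * y * ((w : G)⁻¹ * v)⁻¹) * ((w : G)⁻¹ * v) * y⁻¹ := by
            rw [← this]
        _ = (w : G)⁻¹ * v := by group
    have h10 := hcent _ (mul_mem (inv_mem w.2) v.2) h9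
    apply Subtype.ext
    have : (v : G) = (w : G) * ((w : G)⁻¹ * v) := by group
    rw [this, h10, mul_one]
  have hsurj : Function.Surjective ψ := Finite.injective_iff_surjective.1 hinj
  obtain ⟨v, hv⟩ := hsurj ⟨(D.uE p₀)⁻¹, inv_mem (D.uE_mem_U p₀)⟩
  have hv' : (v : G) * y * (v : G)⁻¹ * y⁻¹ = (D.uE p₀)⁻¹ := congrArg Subtype.val hv
  have hvy : (v : G) * y * (v : G)⁻¹ = D.hE s₀ := by
    calc (v : G) * y * (v : G)⁻¹ = ((v : G) * y * (v : G)⁻¹ * y⁻¹) * y := by group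
      _ = (D.uE p₀)⁻¹ * (D.uE p₀ * D.hE s₀) := by rw [hv', ← hy0]
      _ = D.hE s₀ := by group
  refine ⟨v, v.2, fun s => ?_⟩
  obtain ⟨k, rfl⟩ := Subgroup.mem_zpowers_iff.1 (hgen s)
  refine ⟨s₀ ^ k, ?_⟩
  rw [map_zpow, map_zpow, map_zpow, ← hvy, ← hy, conj_zpow]

end ReeData

end Cfsg.Agent.Lib.Helper18.RO
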