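import Cfsg.Agent.Lib.Helper18.RO3

/-! # Abstract Ree data: the field automorphism attached to an automorphism (helper18) -/

set_option autoImplicit false
set_option linter.unusedSectionVars false

namespace Cfsg.Agent.Lib.Helper18.RO

variable {K : Type*} [Field K] [CharP K 3] [Fintype K] {G : Type*} [Group G] {m : ℕ} (D : ReeData K G m)

namespace ReeData

theorem uE_split (t u v : K) : D.uE (t, u, v) = D.uE (t, 0, 0) * D.uE (0, u, v) := by
  have hθ : 3 ^ m * 3 ≠ 0 := by positivity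
  rw [D.uE_mul]
  simp [zero_pow hθ]

theorem uE_mul_first (p q : K × K × K) : ∃ u v, D.uE p * D.uE q = D.uE (p.1 + q.1, u, v) := by
  obtain ⟨t, u, v⟩ := p
  obtain ⟨t', u', v'⟩ := q
  exact ⟨_, _, D.uE_mul t u v t' u' v'⟩

/-- the elements of `U` with trivial cube -/
theorem cube_eq_one_iff (t u v : K) : D.uE (t, u, v) ^ 3 = 1 ↔ t = 0 := by
  rw [D.uE_cube, D.uE_eq_one_iff]
  constructor
  · intro h
    have h2 : -(t ^ (3 ^ m * 3 + 2)) = 0 := congrArg (fun r : K × K × K => r.2.2) h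
    rw [neg_eq_zero] at h2
    exact pow_eq_zero_iff (by positivity) |>.1 h2
  · rintro rfl
    have hθ : 3 ^ m * 3 + 2 ≠ 0 := by positivity
    rw [zero_pow hθ, neg_zero]

include D in
/-- the `(3θ+2)`-th power map is injective on `Kˣ` -/
theorem pow_injective (a b : Kˣ) (h : a ^ (3 ^ m * 3 + 2) = b ^ (3 ^ m * 3 + 2)) : a = b := by
  obtain ⟨a', rfl⟩ := D.c1_surj a
  obtain ⟨b', rfl⟩ := D.c1_surj b
  rw [← D.c3_eq_units, ← D.c3_eq_units] at h
  rw [h]

/-- `c1` commutes with every endomorphism of `Kˣ` -/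
theorem c1_comm (σ : Kˣ →* Kˣ) (s : Kˣ) : σ (D.c1 s) = D.c1 (σ s) := by
  apply D.pow_injective
  rw [← map_pow, ← D.c3_eq_units, ← D.c3_eq_units]

section iota

variable (α : G ≃* G) (hU : ∀ x, x ∈ D.U ↔ α x ∈ D.U) (hH : ∀ s, ∃ s', α (D.hE s) = D.hE s')

include hU in
theorem U2_stable (u v : K) : ∃ u' v', α (D.uE (0, u, v)) = D.uE (0, u', v') := by
  obtain ⟨⟨t', u', v'⟩, hp⟩ := (hU _).1 (D.uE_mem_U (0, u, v))
  have h1 : α (D.uE (0, u, v)) ^ 3 = 1 := by
    rw [← map_pow, (D.cube_eq_one_iff 0 u v).2 rfl, map_one]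
  rw [← hp, D.cube_eq_one_iff] at h1
  exact ⟨u', v', by rw [← hp, h1]⟩

include hU hH in
/-- step 3 -/
theorem exists_iota :
    ∃ (ι : K ≃+* K) (c : Kˣ), (∀ s : Kˣ, α (D.hE s) = D.hE (Units.map (ι : K →* K) s)) ∧
      ∀ t u v, ∃ u' v', α (D.uE (t, u, v)) = D.uE (ι t * c, u', v') := by
  classical
  -- the map on the torus
  choose σ₀ hσ₀ using hH
  have σ_mul : ∀ a b, σ₀ (a * b) = σ₀ a * σ₀ b := by
    intro a b
    apply D.hE_inj
    rw [← hσ₀, map_mul, map_mul, map_mul, hσ₀, hσ₀]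
  have σ_one : σ₀ 1 = 1 := by
    apply D.hE_inj
    rw [← hσ₀, map_one, map_one]
  let σ : Kˣ →* Kˣ := { toFun := σ₀, map_one' := σ_one, map_mul' := σ_mul }
  have hσ : ∀ s, α (D.hE s) = D.hE (σ s) := hσ₀
  -- the map on the first coordinate
  have hr : ∀ t : K, ∃ r : K × K × K, α (D.uE (t, 0, 0)) = D.uE r := by
    intro t
    obtain ⟨r, hr⟩ := (hU _).1 (D.uE_mem_U (t, 0, 0))
    exact ⟨r, hr.symm⟩
  choose r hr using hr
  let f : K → K := fun t => (r t).1
  have hf : ∀ t u v, ∃ u' v', α (D.uE (t, u, v)) = D.uE (f t, u', v') := by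
    intro t u v
    obtain ⟨u₂, v₂, h2⟩ := D.U2_stable α hU u v
    rw [D.uE_split, map_mul, hr, h2]
    obtain ⟨u₃, v₃, h3⟩ := D.uE_mul_first (r t) (0, u₂, v₂)
    refine ⟨u₃, v₃, ?_⟩
    rw [h3]
    simp only [add_zero]
    rfl
  have f_add : ∀ t t', f (t + t') = f t + f t' := by
    intro t t'
    obtain ⟨u₁, v₁, h1⟩ := D.uE_mul_first (t, 0, 0) (t', 0, 0)
    obtain ⟨u₂, v₂, h2⟩ := hf (t + t') u₁ v₁
    obtain ⟨u₃, v₃, h3⟩ := D.uE_mul_first (r t) (r t')
    have h4 : α (D.uE (t, 0, 0) * D.uE (t', 0, 0)) = D.uE ((r t).1 + (r t').1, u₃, v₃) := by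
      rw [map_mul, hr, hr, h3]
    rw [h1] at h4
    simp only at h4
    rw [h2] at h4
    exact congrArg (fun q : K × K × K => q.1) (D.uE_inj h4)
  have f_zero : f 0 = 0 := by
    have := f_add 0 0
    rw [add_zero] at this
    exact left_eq_add.1 this
  have f_equiv : ∀ (s : Kˣ) (t : K), f ((D.c1 s : K) * t) = (D.c1 (σ s) : K) * f t := by
    intro s t
    have h1 : α (D.hE s * D.uE (t, 0, 0) * (D.hE s)⁻¹) =
        D.hE (σ s) * D.uE (r t) * (D.hE (σ s))⁻¹ := by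
      rw [map_mul, map_mul, map_inv, hσ, hr]
    rw [D.conj] at h1
    obtain ⟨u₂, v₂, h2⟩ := hf ((D.c1 s : K) * t) ((D.c2 s : K) * 0) ((s : K) * 0)
    rw [h2] at h1
    rcases hrt : r t with ⟨a, b, c⟩
    rw [hrt, D.conj] at h1
    have := congrArg (fun q : K × K × K => q.1) (D.uE_inj h1)
    simp only at this
    rw [this]
    show _ = _ * (r t).1
    rw [hrt]
  have f_inj : ∀ t, f t = 0 → t = 0 := by
    intro t ht
    rcases hrt : r t with ⟨a, b, c⟩
    have h1 : α (D.uE (t, 0, 0)) ^ 3 = 1 := by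
      rw [hr, hrt]
      have : a = 0 := by
        have : f t = a := by show (r t).1 = a; rw [hrt]
        rw [← this, ht]
      rw [this]
      exact (D.cube_eq_one_iff 0 b c).2 rfl
    rw [← map_pow] at h1
    have h2 : D.uE (t, 0, 0) ^ 3 = 1 := by
      apply α.injective
      rw [h1, map_one]
    exact (D.cube_eq_one_iff t 0 0).1 h2
  have f_units : ∀ (x : Kˣ) (t : K), f ((x : K) * t) = (σ x : K) * f t := by
    intro x t
    obtain ⟨s, rfl⟩ := D.c1_surj x
    rw [f_equiv, D.c1_comm]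
  have f1 : f 1 ≠ 0 := fun h => one_ne_zero (f_inj 1 h)
  -- the ring homomorphism
  let ι₀ : K → K := fun x => if hx : x = 0 then 0 else (σ (Units.mk0 x hx) : K)
  have ι₀_zero : ι₀ 0 = 0 := by simp [ι₀]
  have ι₀_unit : ∀ x : Kˣ, ι₀ (x : K) = (σ x : K) := by
    intro x
    have hx : (x : K) ≠ 0 := x.ne_zero
    simp only [ι₀, hx, dite_false]
    congr 2
    exact Units.ext rfl
  have f_eq : ∀ x : K, f x = ι₀ x * f 1 := by
    intro x
    by_cases hx : x = 0
    · rw [hx, f_zero, ι₀_zero, zero_mul]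
    · have := f_units (Units.mk0 x hx) 1
      rw [Units.val_mk0, mul_one] at this
      rw [this, ← ι₀_unit, Units.val_mk0]
  have ι₀_one : ι₀ 1 = 1 := by
    have := ι₀_unit 1
    rw [Units.val_one] at this
    rw [this, map_one, Units.val_one]
  have ι₀_mul : ∀ x y, ι₀ (x * y) = ι₀ x * ι₀ y := by
    intro x y
    by_cases hx : x = 0
    · rw [hx, zero_mul, ι₀_zero, zero_mul]
    by_cases hy : y = 0
    · rw [hy, mul_zero, ι₀_zero, mul_zero]
    have h1 := ι₀_unit (Units.mk0 x hx * Units.mk0 y hy)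
    rw [Units.val_mul, Units.val_mk0, Units.val_mk0] at h1
    rw [h1, map_mul, Units.val_mul, ← ι₀_unit, ← ι₀_unit, Units.val_mk0, Units.val_mk0]
  have ι₀_add : ∀ x y, ι₀ (x + y) = ι₀ x + ι₀ y := by
    intro x y
    have h1 := f_add x y
    rw [f_eq, f_eq x, f_eq y, ← add_mul] at h1
    exact mul_right_cancel₀ f1 h1
  let ι₁ : K →+* K :=
    { toFun := ι₀, map_one' := ι₀_one, map_mul' := ι₀_mul, map_zero' := ι₀_zero, map_add' := ι₀_add }
  have hbij : Function.Bijective ι₁ :=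
    ⟨ι₁.injective, Finite.injective_iff_surjective.1 ι₁.injective⟩
  let ι : K ≃+* K := RingEquiv.ofBijective ι₁ hbij
  have hι : ∀ x, ι x = ι₀ x := fun x => rfl
  refine ⟨ι, Units.mk0 (f 1) f1, ?_, ?_⟩
  · intro s
    rw [hσ]
    congr 1
    apply Units.ext
    rw [Units.coe_map]
    show _ = ι (s : K)
    rw [hι, ι₀_unit]
  · intro t u v
    obtain ⟨u', v', h⟩ := hf t u v
    refine ⟨u', v', ?_⟩
    rw [h, f_eq, hι, Units.val_mk0]

end iota

end ReeData

end Cfsg.Agent.Lib.Helper18.RO
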