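import Cfsg.Agent.Lib.Helper18.RO4

/-! # Abstract Ree data: an automorphism fixing the torus and the first coordinates is trivial on `U`
(helper18) -/

set_option autoImplicit false
set_option linter.unusedSectionVars false

namespace Cfsg.Agent.Lib.Helper18.RO

variable {K : Type*} [Field K] [CharP K 3] [Fintype K] {G : Type*} [Group G] {m : ℕ} (D : ReeData K G m)

namespace ReeData

/-- the commutator of an element of `U` with an element of `U₂` -/
theorem comm_id (t a b u c : K) :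
    D.uE (t, a, b) * D.uE (0, u, c) = D.uE (0, u, c) * D.uE (t, a, b) * D.uE (0, 0, t * u) := by
  have hθ : 3 ^ m * 3 ≠ 0 := by positivity
  rw [D.uE_mul, D.uE_mul, D.uE_mul]
  congr 1
  simp only [zero_pow hθ]
  refine Prod.ext ?_ (Prod.ext ?_ ?_)
  · show t + 0 = 0 + t + 0
    ring
  · show a + u - 0 * t = u + a - t ^ (3 ^ m * 3) * 0 + 0 - 0 * (0 + t)
    ring
  · show b + c - 0 * a - 0 * t ^ 2 + 0 * t * 0 =
      c + b - t * u - t ^ (3 ^ m * 3) * 0 ^ 2 + t ^ (3 ^ m * 3) * 0 * t + t * u -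
        0 * (u + a - t ^ (3 ^ m * 3) * 0) - 0 * (0 + t) ^ 2 + 0 * (0 + t) * 0
    ring

theorem uE_split2 (u v : K) : D.uE (0, u, v) = D.uE (0, u, 0) * D.uE (0, 0, v) := by
  have hθ : 3 ^ m * 3 ≠ 0 := by positivity
  rw [D.uE_mul]
  simp [zero_pow hθ]

theorem c1_neg_one : D.c1 (-1) = -1 := by
  have h1 : D.c1 (-1) * D.c1 (-1) = 1 := by rw [← map_mul, neg_mul_neg, one_mul, map_one]
  have h2 := D.c3_eq_units (-1)
  obtain ⟨k, hk⟩ : ∃ k, 3 ^ m * 3 + 2 = 2 * k + 1 := by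
    obtain ⟨j, hj⟩ := odd_exp m
    exact ⟨j + 1, by omega⟩
  rw [hk, pow_succ, pow_mul, pow_two, h1, one_pow, one_mul] at h2
  exact h2.symm

theorem c2_neg_one : D.c2 (-1) = 1 := by
  rw [D.c2_eq_units, D.c1_neg_one]
  obtain ⟨j, hj⟩ := odd_exp m
  have : 3 ^ m * 3 + 1 = 2 * (j + 1) := by omega
  rw [this, pow_mul, neg_one_sq, one_pow]

include D in
/-- every element of `K` is of the form `-(t^(3θ+2))` -/
theorem exists_pow (w : K) : ∃ t : K, -(t ^ (3 ^ m * 3 + 2)) = w := by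
  by_cases hw : w = 0
  · refine ⟨0, ?_⟩
    have hθ : 3 ^ m * 3 + 2 ≠ 0 := by positivity
    rw [hw, zero_pow hθ, neg_zero]
  · refine ⟨(D.c1 (Units.mk0 (-w) (neg_ne_zero.2 hw)) : K), ?_⟩
    rw [← D.c3_eq, Units.val_mk0, neg_neg]

section gamma

variable (γ : G ≃* G) (hH : ∀ s, γ (D.hE s) = D.hE s)
  (hUt : ∀ t u v, ∃ u' v', γ (D.uE (t, u, v)) = D.uE (t, u', v'))

include hUt in
theorem gamma_Z (w : K) : γ (D.uE (0, 0, w)) = D.uE (0, 0, w) := by
  obtain ⟨t, rfl⟩ := D.exists_pow w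
  obtain ⟨a, b, h⟩ := hUt t 0 0
  rw [← D.uE_cube t 0 0, map_pow, h, D.uE_cube, D.uE_cube]

include hH hUt in
theorem gamma_U2a (u : K) : γ (D.uE (0, u, 0)) = D.uE (0, u, 0) := by
  obtain ⟨ν, ρ, h⟩ := hUt 0 u 0
  obtain ⟨a, b, hx⟩ := hUt 1 0 0
  -- ν = u
  have h1 := D.comm_id 1 0 0 u 0
  have h2 := congrArg γ h1
  rw [map_mul, map_mul, map_mul, hx, h, D.gamma_Z γ hUt, D.comm_id 1 a b ν ρ] at h2
  have h3 := D.uE_inj (mul_left_cancel h2)
  have hν : ν = u := by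
    have := congrArg (fun q : K × K × K => q.2.2) h3
    simpa using this
  -- ρ = 0
  have h4 : γ (D.hE (-1) * D.uE (0, u, 0) * (D.hE (-1))⁻¹) =
      D.hE (-1) * D.uE (0, ν, ρ) * (D.hE (-1))⁻¹ := by
    rw [map_mul, map_mul, map_inv, hH, h]
  rw [D.conj, D.conj, D.c2_neg_one, Units.val_one, one_mul, one_mul, mul_zero, mul_zero, h] at h4
  have h5 := congrArg (fun q : K × K × K => q.2.2) (D.uE_inj h4)
  simp only [Units.val_neg, Units.val_one, neg_mul, one_mul] at h5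
  have hρ : ρ = 0 := by
    have h2' : (2 : K) ≠ 0 := two_ne_zero'
    have : (2 : K) * ρ = 0 := by linear_combination h5
    exact (mul_eq_zero.1 this).resolve_left h2'
  rw [h, hν, hρ]

include hH hUt in
theorem gamma_U2 (u v : K) : γ (D.uE (0, u, v)) = D.uE (0, u, v) := by
  rw [D.uE_split2, map_mul, D.gamma_U2a γ hH hUt, D.gamma_Z γ hUt]

end gamma

end ReeData

end Cfsg.Agent.Lib.Helper18.RO
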