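import Cfsg.Agent.Lib.Helper18.RO5

/-! # Abstract Ree data: the first level (helper18) -/

set_option autoImplicit false
set_option linter.unusedSectionVars false

namespace Cfsg.Agent.Lib.Helper18.RO

variable {K : Type*} [Field K] [CharP K 3] [Fintype K] {G : Type*} [Group G] {m : ℕ} (D : ReeData K G m)

theorem frob_add (m : ℕ) (x y : K) : (x + y) ^ (3 ^ m * 3) = x ^ (3 ^ m * 3) + y ^ (3 ^ m * 3) := by
  have : Fact (Nat.Prime 3) := ⟨Nat.prime_three⟩
  rw [← pow_succ]
  exact add_pow_char_pow x y 3 (m + 1)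

namespace ReeData

section gamma

variable (γ : G ≃* G) (hH : ∀ s, γ (D.hE s) = D.hE s)
  (hUt : ∀ t u v, ∃ u' v', γ (D.uE (t, u, v)) = D.uE (t, u', v'))

include hH hUt in
theorem gamma_U1 (hK : Fintype.card K = 3 ^ (2 * m + 1)) (hm : 1 ≤ m) (t : K) :
    γ (D.uE (t, 0, 0)) = D.uE (t, 0, 0) := by
  have h3 : (3 : K) = 0 := three_eq_zero
  have hgk : ∀ t : K, ∃ r : K × K, γ (D.uE (t, 0, 0)) = D.uE (t, r.1, r.2) := by
    intro t
    obtain ⟨a, b, h⟩ := hUt t 0 0
    exact ⟨(a, b), h⟩
  choose r hr using hgk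
  let g : K → K := fun t => (r t).1
  let k : K → K := fun t => (r t).2
  have hgk : ∀ t, γ (D.uE (t, 0, 0)) = D.uE (t, g t, k t) := hr
  -- the product relation
  have hprod : ∀ t t' : K, g (t + t') = g t + g t' ∧ k (t + t') = k t + k t' - t' * g t := by
    intro t t'
    have h1 := D.uE_mul t 0 0 t' 0 0
    rw [D.uE_split (t + t')] at h1
    have h2 := congrArg γ h1
    rw [map_mul, map_mul, hgk, hgk, hgk, D.gamma_U2 γ hH hUt, D.uE_mul, D.uE_mul] at h2
    have h4 := D.uE_inj h2
    have h5 := congrArg (fun q : K × K × K => q.2.1) h4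
    have h6 := congrArg (fun q : K × K × K => q.2.2) h4
    simp only at h5 h6
    have hθ : 3 ^ m * 3 ≠ 0 := by positivity
    rw [zero_pow hθ] at h5 h6
    constructor
    · linear_combination (-1 : K) * h5
    · linear_combination (-1 : K) * h6
  have g_add : ∀ t t', g (t + t') = g t + g t' := fun t t' => (hprod t t').1
  have g_zero : g 0 = 0 := by
    have := g_add 0 0
    rw [add_zero] at this
    exact left_eq_add.1 this
  have g_neg : ∀ t, g (-t) = -g t := by
    intro t
    have := g_add t (-t)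
    rw [add_neg_cancel, g_zero] at this
    linear_combination (-1 : K) * this
  have g_sym : ∀ t t', t' * g t = t * g t' := by
    intro t t'
    have h1 := (hprod t t').2
    have h2 := (hprod t' t).2
    rw [add_comm t' t] at h2
    linear_combination h1 - h2
  -- equivariance
  have hequiv : ∀ (s : Kˣ) (t : K), g ((D.c1 s : K) * t) = (D.c2 s : K) * g t ∧
      k ((D.c1 s : K) * t) = (s : K) * k t := by
    intro s t
    have h1 : γ (D.hE s * D.uE (t, 0, 0) * (D.hE s)⁻¹) =
        D.hE s * D.uE (t, g t, k t) * (D.hE s)⁻¹ := by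
      rw [map_mul, map_mul, map_inv, hH, hgk]
    rw [D.conj, D.conj, mul_zero, mul_zero, hgk] at h1
    have h4 := D.uE_inj h1
    exact ⟨congrArg (fun q : K × K × K => q.2.1) h4, congrArg (fun q : K × K × K => q.2.2) h4⟩
  -- g = 0
  have g_one : g 1 = 0 := by
    have h1 := (hequiv (-1) 1).1
    rw [D.c1_neg_one, D.c2_neg_one, Units.val_neg, Units.val_one, one_mul, neg_mul, one_mul, g_neg] at h1
    have h2' : (2 : K) ≠ 0 := two_ne_zero'
    have : (2 : K) * g 1 = 0 := by linear_combination (-1 : K) * h1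
    exact (mul_eq_zero.1 this).resolve_left h2'
  have g_all : ∀ t, g t = 0 := by
    intro t
    have := g_sym t 1
    rw [one_mul, g_one, mul_zero] at this
    exact this
  -- k
  have k_add : ∀ t t', k (t + t') = k t + k t' := by
    intro t t'
    have := (hprod t t').2
    rw [g_all, mul_zero, sub_zero] at this
    exact this
  have k_zero : k 0 = 0 := by
    have := k_add 0 0
    rw [add_zero] at this
    exact left_eq_add.1 this
  have k_unit : ∀ x : Kˣ, k (x : K) = (x : K) ^ (3 ^ m * 3 + 2) * k 1 := by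
    intro x
    obtain ⟨s, rfl⟩ := D.c1_surj x
    have := (hequiv s 1).2
    rw [mul_one] at this
    rw [this, ← D.c3_eq]
  have k_one : k 1 = 0 := by
    obtain ⟨ζ, -, hζ⟩ := exists_gen (K := K) hK
    obtain ⟨-, -, hζ1, hζ2⟩ := D.gen_facts hK hm ζ hζ
    have hz1 : (ζ : K) + 1 ≠ 0 := by
      intro h
      apply hζ2
      apply Units.ext
      rw [Units.val_pow_eq_pow_val, Units.val_one]
      have : (ζ : K) = -1 := by linear_combination h
      rw [this]
      ring
    have h1 := k_add (ζ : K) 1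
    have h2 := k_unit (Units.mk0 _ hz1)
    have h3' := k_unit ζ
    rw [Units.val_mk0] at h2
    rw [h2, h3'] at h1
    have e1 : ((ζ : K) + 1) ^ (3 ^ m * 3 + 2) = ((ζ : K) ^ (3 ^ m * 3) + 1) * ((ζ : K) + 1) ^ 2 := by
      rw [pow_add, frob_add, one_pow]
    rw [e1] at h1
    have h4 : ((1 : K) - ζ) * ((ζ : K) ^ (3 ^ m * 3) - ζ) * k 1 = 0 := by
      rw [pow_add] at h1
      linear_combination h1 - ((ζ : K) ^ (3 ^ m * 3) * ζ + ζ) * k 1 * h3
    have hne1 : (1 : K) - ζ ≠ 0 := by
      intro h
      apply hζ1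
      apply Units.ext
      rw [Units.val_one]
      linear_combination (-1 : K) * h
    have hne2 : (ζ : K) ^ (3 ^ m * 3) - ζ ≠ 0 := by
      intro h
      have h5 : ζ ^ (3 ^ m * 3 - 1) = 1 := by
        have h6 : ζ ^ (3 ^ m * 3 - 1) * ζ = 1 * ζ := by
          rw [← pow_succ, Nat.sub_add_cancel (Nat.succ_le_of_lt (by positivity)), one_mul]
          apply Units.ext
          rw [Units.val_pow_eq_pow_val]
          linear_combination h
        exact mul_right_cancel h6
      have h7 := hζ _ h5
      have hb := q_bound hm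
      have hpos : 0 < 3 ^ m * 3 - 1 := by
        have : 1 ≤ 3 ^ m := Nat.one_le_pow _ _ (by norm_num)
        omega
      have := Nat.le_of_dvd hpos h7
      omega
    rcases mul_eq_zero.1 h4 with h | h
    · rcases mul_eq_zero.1 h with h | h
      · exact absurd h hne1
      · exact absurd h hne2
    · exact h
  have k_all : ∀ t, k t = 0 := by
    intro t
    by_cases ht : t = 0
    · rw [ht, k_zero]
    · have := k_unit (Units.mk0 t ht)
      rw [Units.val_mk0, k_one, mul_zero] at this
      exact this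
  rw [hgk, g_all, k_all]

include hH hUt in
/-- step 5: `γ` is trivial on `U` -/
theorem gamma_U (hK : Fintype.card K = 3 ^ (2 * m + 1)) (hm : 1 ≤ m) (p : K × K × K) :
    γ (D.uE p) = D.uE p := by
  obtain ⟨t, u, v⟩ := p
  rw [D.uE_split, map_mul, D.gamma_U1 γ hH hUt hK hm, D.gamma_U2 γ hH hUt]

end gamma

end ReeData

end Cfsg.Agent.Lib.Helper18.RO
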