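import Cfsg.Agent.Lib.Helper18.RO6

/-! # Abstract Ree data: the Weyl element (helper18) -/

set_option autoImplicit false
set_option linter.unusedSectionVars false

namespace Cfsg.Agent.Lib.Helper18.RO

variable {K : Type*} [Field K] [CharP K 3] [Fintype K] {G : Type*} [Group G] {m : ℕ} (D : ReeData K G m)

namespace ReeData

theorem hE_comm (a b : Kˣ) : D.hE a * D.hE b = D.hE b * D.hE a := by
  rw [← map_mul, ← map_mul, mul_comm]

theorem n_conj' (s : Kˣ) : D.nE * D.hE s = (D.hE s)⁻¹ * D.nE := by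
  have := D.n_conj s
  rw [map_inv] at this
  rw [← this]
  group

theorem conj_inv (s : Kˣ) (p : K × K × K) : ∃ p', (D.hE s)⁻¹ * D.uE p * D.hE s = D.uE p' := by
  obtain ⟨t, u, v⟩ := p
  have := D.conj s⁻¹ t u v
  rw [map_inv, inv_inv] at this
  exact ⟨_, this⟩

/-- the centraliser of the torus is the torus -/
theorem centralizer_H (hK : Fintype.card K = 3 ^ (2 * m + 1)) (hm : 1 ≤ m) (g : G)
    (hg : ∀ s, g * D.hE s = D.hE s * g) : ∃ z, g = D.hE z := by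
  obtain ⟨ζ, -, hζ⟩ := exists_gen (K := K) hK
  obtain ⟨h1, h2, h3, h4⟩ := D.gen_facts hK hm ζ hζ
  rcases D.cases g with ⟨p, s, rfl⟩ | ⟨p, s, p', rfl⟩
  · have e := hg ζ
    have e2 : D.hE ζ * D.uE p * (D.hE ζ)⁻¹ = D.uE p := by
      have : D.hE ζ * (D.uE p * D.hE s) = D.uE p * D.hE s * D.hE ζ := e.symm
      calc D.hE ζ * D.uE p * (D.hE ζ)⁻¹ = (D.hE ζ * (D.uE p * D.hE s)) * (D.hE s)⁻¹ * (D.hE ζ)⁻¹ := by group
        _ = D.uE p * D.hE s * D.hE ζ * (D.hE s)⁻¹ * (D.hE ζ)⁻¹ := by rw [this]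
        _ = D.uE p * (D.hE s * D.hE ζ) * (D.hE s)⁻¹ * (D.hE ζ)⁻¹ := by group
        _ = D.uE p * (D.hE ζ * D.hE s) * (D.hE s)⁻¹ * (D.hE ζ)⁻¹ := by rw [D.hE_comm s ζ]
        _ = D.uE p := by group
    have := D.centralizer_U ζ h1 h2 h3 p e2
    rw [this, D.uE_zero, one_mul]
    exact ⟨s, rfl⟩
  · exfalso
    have e := hg ζ
    obtain ⟨⟨t, u, v⟩, rfl⟩ : ∃ q, p = q := ⟨p, rfl⟩
    obtain ⟨⟨t', u', v'⟩, rfl⟩ : ∃ q, p' = q := ⟨p', rfl⟩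
    have e2 : D.uE (t, u, v) * D.hE s * D.nE * D.uE (t', u', v') =
        (D.hE ζ * D.uE (t, u, v) * (D.hE ζ)⁻¹) * D.hE (ζ * s * ζ) * D.nE *
          (D.hE ζ * D.uE (t', u', v') * (D.hE ζ)⁻¹) := by
      have e3 : D.hE ζ * (D.uE (t, u, v) * D.hE s * D.nE * D.uE (t', u', v')) * (D.hE ζ)⁻¹ =
          D.uE (t, u, v) * D.hE s * D.nE * D.uE (t', u', v') := by
        rw [← e]; group
      rw [← e3, map_mul, map_mul]
      have e4 : D.nE * (D.hE ζ)⁻¹ = D.hE ζ * D.nE := by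
        have := D.n_conj' ζ⁻¹
        rw [map_inv, inv_inv] at this
        exact this
      calc D.hE ζ * (D.uE (t, u, v) * D.hE s * D.nE * D.uE (t', u', v')) * (D.hE ζ)⁻¹
          = (D.hE ζ * D.uE (t, u, v) * (D.hE ζ)⁻¹) * D.hE ζ * D.hE s * (D.nE * (D.hE ζ)⁻¹) *
            (D.hE ζ * D.uE (t', u', v') * (D.hE ζ)⁻¹) := by group
        _ = _ := by rw [e4]; group
    rw [D.conj, D.conj] at e2
    obtain ⟨-, hs, -⟩ := D.big_unique _ _ _ _ _ _ e2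
    apply h4
    have : ζ * s * ζ = s * ζ ^ 2 := by rw [pow_two]; rw [mul_comm ζ s, mul_assoc]
    rw [this] at hs
    exact (mul_eq_left.1 hs.symm)

section gamma

variable (γ : G ≃* G) (hH : ∀ s, γ (D.hE s) = D.hE s) (hU : ∀ p, γ (D.uE p) = D.uE p)

include hH hU in
/-- step 6 -/
theorem gamma_n (hK : Fintype.card K = 3 ^ (2 * m + 1)) (hm : 1 ≤ m) : γ D.nE = D.nE := by
  -- `γ(n) = n h(z)`
  have h1 : ∀ s, (D.nE⁻¹ * γ D.nE) * D.hE s = D.hE s * (D.nE⁻¹ * γ D.nE) := by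
    intro s
    have e1 : γ D.nE * D.hE s = (D.hE s)⁻¹ * γ D.nE := by
      have := congrArg γ (D.n_conj' s)
      rw [map_mul, map_mul, map_inv, hH] at this
      exact this
    have e2 : D.nE⁻¹ * (D.hE s)⁻¹ = D.hE s * D.nE⁻¹ := by
      have := D.n_conj' s
      calc D.nE⁻¹ * (D.hE s)⁻¹ = D.nE⁻¹ * ((D.hE s)⁻¹ * D.nE) * D.nE⁻¹ := by group
        _ = D.nE⁻¹ * (D.nE * D.hE s) * D.nE⁻¹ := by rw [this]
        _ = _ := by group
    calc (D.nE⁻¹ * γ D.nE) * D.hE s = D.nE⁻¹ * (γ D.nE * D.hE s) := by group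
      _ = D.nE⁻¹ * ((D.hE s)⁻¹ * γ D.nE) := by rw [e1]
      _ = (D.nE⁻¹ * (D.hE s)⁻¹) * γ D.nE := by group
      _ = (D.hE s * D.nE⁻¹) * γ D.nE := by rw [e2]
      _ = _ := by group
  obtain ⟨z, hz⟩ := D.centralizer_H hK hm _ h1
  have hx : γ D.nE = D.nE * D.hE z := by rw [← hz]; group
  -- the Bruhat form of `n u n⁻¹`
  obtain ⟨u, hu⟩ : ∃ u, u = D.uE ((0 : K), (0 : K), (1 : K)) := ⟨_, rfl⟩
  have hγu : γ u = u := by rw [hu, hU]
  have hcell : ∃ p₁ s₁ p₂, D.nE * u * D.nE⁻¹ = D.uE p₁ * D.hE s₁ * D.nE * D.uE p₂ := by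
    rcases D.cases (D.nE * u * D.nE⁻¹) with ⟨q, r, h⟩ | h
    · exfalso
      have h2 : D.uE (0, 0, 0) * D.hE 1 * D.nE * u = D.uE q * D.hE r * D.nE * D.uE (0, 0, 0) := by
        rw [D.uE_zero, map_one, one_mul, one_mul, mul_one, ← h]; group
      rw [hu] at h2
      obtain ⟨-, -, h3⟩ := D.big_unique _ _ _ _ _ _ h2
      have := congrArg (fun r : K × K × K => r.2.2) h3
      exact one_ne_zero this
    · exact h
  obtain ⟨p₁, s₁, p₂, hy⟩ := hcell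
  have e1 : γ (D.nE * u * D.nE⁻¹) = (D.hE z)⁻¹ * (D.nE * u * D.nE⁻¹) * D.hE z := by
    rw [map_mul, map_mul, map_inv, hx, hγu]
    have : D.nE * D.hE z = (D.hE z)⁻¹ * D.nE := D.n_conj' z
    rw [this]; group
  have e2 : γ (D.nE * u * D.nE⁻¹) = D.uE p₁ * D.hE (s₁ * z⁻¹) * D.nE * D.uE p₂ := by
    rw [hy, map_mul, map_mul, map_mul, hU, hU, hH, hx, map_mul, map_inv]
    have : D.nE * D.hE z = (D.hE z)⁻¹ * D.nE := D.n_conj' z
    calc D.uE p₁ * D.hE s₁ * (D.nE * D.hE z) * D.uE p₂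
        = D.uE p₁ * D.hE s₁ * ((D.hE z)⁻¹ * D.nE) * D.uE p₂ := by rw [this]
      _ = _ := by group
  obtain ⟨q₁, hq₁⟩ := D.conj_inv z p₁
  obtain ⟨q₂, hq₂⟩ := D.conj_inv z p₂
  have e3 : (D.hE z)⁻¹ * (D.nE * u * D.nE⁻¹) * D.hE z =
      D.uE q₁ * D.hE (z⁻¹ * s₁ * z⁻¹) * D.nE * D.uE q₂ := by
    rw [hy, ← hq₁, ← hq₂, map_mul, map_mul, map_inv]
    have : D.nE * D.hE z = (D.hE z)⁻¹ * D.nE := D.n_conj' z
    calc (D.hE z)⁻¹ * (D.uE p₁ * D.hE s₁ * D.nE * D.uE p₂) * D.hE z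
        = (D.hE z)⁻¹ * D.uE p₁ * D.hE z * ((D.hE z)⁻¹ * D.hE s₁) * (D.nE * D.hE z) *
          ((D.hE z)⁻¹ * D.uE p₂ * D.hE z) := by group
      _ = _ := by rw [this]; group
  rw [e1, e3] at e2
  obtain ⟨-, hs, -⟩ := D.big_unique _ _ _ _ _ _ e2
  have hz1 : z = 1 := by
    have : z⁻¹ * (s₁ * z⁻¹) = s₁ * z⁻¹ := by rw [← mul_assoc]; exact hs
    have := mul_eq_right.1 this
    exact inv_eq_one.1 this
  rw [hx, hz1, map_one, mul_one]

include hH hU in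
theorem gamma_id (hK : Fintype.card K = 3 ^ (2 * m + 1)) (hm : 1 ≤ m) (g : G) : γ g = g := by
  have hn := D.gamma_n γ hH hU hK hm
  rcases D.cases g with ⟨p, s, rfl⟩ | ⟨p, s, p', rfl⟩
  · rw [map_mul, hU, hH]
  · rw [map_mul, map_mul, map_mul, hU, hU, hH, hn]

end gamma

end ReeData

end Cfsg.Agent.Lib.Helper18.RO
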