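import Cfsg.Agent.Lib.Helper18.RO7

/-! # Abstract Ree data: rigidity of automorphisms and the outer automorphism group (helper18) -/

set_option autoImplicit false
set_option linter.unusedSectionVars false

namespace Cfsg.Agent.Lib.Helper18.RO

variable {K : Type*} [Field K] [CharP K 3] [Fintype K] {G : Type*} [Group G] {m : ℕ} (D : ReeData K G m)

namespace ReeData

/-- `Φ` is the field automorphism attached to `ι` -/
def IsField (Φ : G ≃* G) (ι : K ≃+* K) : Prop :=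
  (∀ t u v : K, Φ (D.uE (t, u, v)) = D.uE (ι t, ι u, ι v)) ∧
    (∀ s : Kˣ, Φ (D.hE s) = D.hE (Units.map (ι : K →* K) s)) ∧ Φ D.nE = D.nE

theorem isField_unique (Φ Ψ : G ≃* G) (ι : K ≃+* K) (h1 : D.IsField Φ ι) (h2 : D.IsField Ψ ι) (g : G) :
    Φ g = Ψ g := by
  rcases D.cases g with ⟨⟨t, u, v⟩, s, rfl⟩ | ⟨⟨t, u, v⟩, s, ⟨t', u', v'⟩, rfl⟩
  · rw [map_mul, map_mul, h1.1, h2.1, h1.2.1, h2.2.1]
  · rw [map_mul, map_mul, map_mul, map_mul, map_mul, map_mul, h1.1, h2.1, h1.2.1, h2.2.1, h1.2.2, h2.2.2,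
      h1.1, h2.1]

/-- **Rigidity**: every automorphism mapping `U` to a conjugate of `U` is inner times field -/
theorem rigid (hK : Fintype.card K = 3 ^ (2 * m + 1)) (hm : 1 ≤ m)
    (hΦ : ∀ ι : K ≃+* K, ∃ Φ : G ≃* G, D.IsField Φ ι)
    (α : G ≃* G) (hsyl : ∃ g : G, ∀ x, x ∈ D.U ↔ g * α x * g⁻¹ ∈ D.U) :
    ∃ (y : G) (ι : K ≃+* K) (Φ : G ≃* G), D.IsField Φ ι ∧ ∀ x, α x = y * Φ x * y⁻¹ := by
  obtain ⟨g, hg⟩ := hsyl
  -- step 1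
  let α₁ : G ≃* G := MulAut.conj g * α
  have hα₁ : ∀ x, α₁ x = g * α x * g⁻¹ := fun x => rfl
  have hU₁ : ∀ x, x ∈ D.U ↔ α₁ x ∈ D.U := hg
  -- step 2
  obtain ⟨v, hv, hvH⟩ := D.exists_conj_H hK hm α₁ hU₁
  let α₂ : G ≃* G := MulAut.conj v * α₁
  have hα₂ : ∀ x, α₂ x = v * α₁ x * v⁻¹ := fun x => rfl
  have hU₂ : ∀ x, x ∈ D.U ↔ α₂ x ∈ D.U := by
    intro x
    rw [hα₂, hU₁ x]
    constructor
    · intro h
      exact mul_mem (mul_mem hv h) (inv_mem hv)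
    · intro h
      have := mul_mem (mul_mem (inv_mem hv) h) hv
      have e : v⁻¹ * (v * α₁ x * v⁻¹) * v = α₁ x := by group
      rw [e] at this
      exact this
  have hH₂ : ∀ s, ∃ s', α₂ (D.hE s) = D.hE s' := hvH
  -- step 3
  obtain ⟨ι, c, hιH, hιU⟩ := D.exists_iota α₂ hU₂ hH₂
  obtain ⟨Φ, hΦ1, hΦ2, hΦ3⟩ := hΦ ι
  -- step 4
  let β : G ≃* G := Φ⁻¹ * α₂
  have hβ : ∀ x, β x = Φ.symm (α₂ x) := fun x => rfl
  have hΦsymmU : ∀ t u v : K, Φ.symm (D.uE (t, u, v)) = D.uE (ι.symm t, ι.symm u, ι.symm v) := by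
    intro t u v
    rw [MulEquiv.symm_apply_eq, hΦ1, RingEquiv.apply_symm_apply, RingEquiv.apply_symm_apply,
      RingEquiv.apply_symm_apply]
  have hβH : ∀ s, β (D.hE s) = D.hE s := by
    intro s
    rw [hβ, hιH, MulEquiv.symm_apply_eq, hΦ2]
  set c' : Kˣ := Units.map (ι.symm : K →* K) c with hc'
  have hβU : ∀ t u v, ∃ u' v', β (D.uE (t, u, v)) = D.uE (t * (c' : K), u', v') := by
    intro t u v
    obtain ⟨u', v', h⟩ := hιU t u v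
    refine ⟨ι.symm u', ι.symm v', ?_⟩
    rw [hβ, h, hΦsymmU, map_mul, RingEquiv.symm_apply_apply]
    rfl
  obtain ⟨s₁, hs₁⟩ := D.c1_surj c'⁻¹
  let γ : G ≃* G := MulAut.conj (D.hE s₁) * β
  have hγ : ∀ x, γ x = D.hE s₁ * β x * (D.hE s₁)⁻¹ := fun x => rfl
  have hγH : ∀ s, γ (D.hE s) = D.hE s := by
    intro s
    rw [hγ, hβH, D.hE_comm s₁ s]
    group
  have hγU : ∀ t u v, ∃ u' v', γ (D.uE (t, u, v)) = D.uE (t, u', v') := by
    intro t u v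
    obtain ⟨u', v', h⟩ := hβU t u v
    refine ⟨(D.c2 s₁ : K) * u', (s₁ : K) * v', ?_⟩
    rw [hγ, h, D.conj, hs₁]
    have e : ((c'⁻¹ : Kˣ) : K) * (t * (c' : K)) = t := by
      rw [Units.val_inv_eq_inv_val]
      field_simp
    rw [e]
  have hγid : ∀ x, γ x = x :=
    D.gamma_id γ hγH (D.gamma_U γ hγH hγU hK hm) hK hm
  -- unwinding
  refine ⟨(Φ (D.hE s₁) * v * g)⁻¹, ι, Φ, ⟨hΦ1, hΦ2, hΦ3⟩, fun x => ?_⟩
  have h1 := hγid x
  rw [hγ, hβ, hα₂, hα₁] at h1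
  have h2 : Φ.symm (v * (g * α x * g⁻¹) * v⁻¹) = (D.hE s₁)⁻¹ * x * D.hE s₁ := by
    calc Φ.symm (v * (g * α x * g⁻¹) * v⁻¹)
        = (D.hE s₁)⁻¹ * (D.hE s₁ * Φ.symm (v * (g * α x * g⁻¹) * v⁻¹) * (D.hE s₁)⁻¹) * D.hE s₁ := by group
      _ = _ := by rw [h1]
  rw [MulEquiv.symm_apply_eq, map_mul, map_mul, map_inv] at h2
  calc α x = (v * g)⁻¹ * (v * (g * α x * g⁻¹) * v⁻¹) * (v * g) := by group
    _ = (v * g)⁻¹ * ((Φ (D.hE s₁))⁻¹ * Φ x * Φ (D.hE s₁)) * (v * g) := by rw [h2]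
    _ = _ := by group

/-- a field automorphism which is inner is trivial -/
theorem inner_field (hK : Fintype.card K = 3 ^ (2 * m + 1)) (Φ₁ Φ₂ : G ≃* G) (ι₁ ι₂ : K ≃+* K)
    (h1 : D.IsField Φ₁ ι₁) (h2 : D.IsField Φ₂ ι₂) (z : G) (hz : ∀ x, Φ₂ x = z * Φ₁ x * z⁻¹) : ι₁ = ι₂ := by
  -- `z` normalises `U`
  have hnorm : ∀ x ∈ D.U, z * x * z⁻¹ ∈ D.U := by
    rintro _ ⟨⟨t, u, v⟩, rfl⟩
    have := hz (D.uE (ι₁.symm t, ι₁.symm u, ι₁.symm v))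
    rw [h1.1, h2.1, RingEquiv.apply_symm_apply, RingEquiv.apply_symm_apply, RingEquiv.apply_symm_apply] at this
    rw [← this]
    exact D.uE_mem_U _
  obtain ⟨p₀, s₀, rfl⟩ := D.mem_B_of_normalizes z hnorm
  have key : ∀ s : Kˣ, Units.map (ι₁ : K →* K) s = Units.map (ι₂ : K →* K) s := by
    intro s
    have h3 := hz (D.hE s)
    rw [h1.2.1, h2.2.1] at h3
    set a := Units.map (ι₁ : K →* K) s
    set b := Units.map (ι₂ : K →* K) s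
    have h4 : D.uE p₀ * (D.hE a * (D.uE p₀)⁻¹ * (D.hE a)⁻¹) = D.hE (b * a⁻¹) := by
      rw [map_mul, map_inv, h3]
      have : D.hE s₀ * D.hE a = D.hE a * D.hE s₀ := D.hE_comm s₀ a
      calc D.uE p₀ * (D.hE a * (D.uE p₀)⁻¹ * (D.hE a)⁻¹)
          = D.uE p₀ * (D.hE a * D.hE s₀) * (D.hE s₀)⁻¹ * (D.uE p₀)⁻¹ * (D.hE a)⁻¹ := by group
        _ = D.uE p₀ * (D.hE s₀ * D.hE a) * (D.hE s₀)⁻¹ * (D.uE p₀)⁻¹ * (D.hE a)⁻¹ := by rw [this]
        _ = _ := by group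
    have h5 : D.uE p₀ * (D.hE a * (D.uE p₀)⁻¹ * (D.hE a)⁻¹) ∈ D.U :=
      mul_mem (D.uE_mem_U _) (D.hE_conj_mem_U a _ (inv_mem (D.uE_mem_U _)))
    obtain ⟨q, hq⟩ := h5
    rw [h4] at hq
    have := (D.uE_eq_hE hK q _ hq).2
    exact (mul_inv_eq_one.1 this).symm
  ext x
  by_cases hx : x = 0
  · rw [hx, map_zero, map_zero]
  · have := congrArg Units.val (key (Units.mk0 x hx))
    rw [Units.coe_map, Units.coe_map, Units.val_mk0] at this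
    exact this

/-- **The outer automorphism group** has as many elements as `K` has automorphisms -/
theorem card_out (hK : Fintype.card K = 3 ^ (2 * m + 1)) (hm : 1 ≤ m)
    (hΦ : ∀ ι : K ≃+* K, ∃ Φ : G ≃* G, D.IsField Φ ι)
    (hsyl : ∀ α : G ≃* G, ∃ g : G, ∀ x, x ∈ D.U ↔ g * α x * g⁻¹ ∈ D.U) :
    Nat.card (MulAut G ⧸ (MulAut.conj : G →* MulAut G).range) = Nat.card (K ≃+* K) := by
  choose Φ hΦ' using hΦ
  let F : (K ≃+* K) → MulAut G ⧸ (MulAut.conj : G →* MulAut G).range := fun ι => QuotientGroup.mk (Φ ι)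
  have hinj : Function.Injective F := by
    intro ι₁ ι₂ h
    have h' : (Φ ι₁)⁻¹ * Φ ι₂ ∈ (MulAut.conj : G →* MulAut G).range := QuotientGroup.eq.1 h
    obtain ⟨y, hy⟩ := h'
    refine D.inner_field hK (Φ ι₁) (Φ ι₂) ι₁ ι₂ (hΦ' ι₁) (hΦ' ι₂) (Φ ι₁ y) (fun x => ?_)
    have h3 := DFunLike.congr_fun hy x
    rw [MulAut.conj_apply, MulAut.mul_apply] at h3
    have h4 : Φ ι₂ x = Φ ι₁ (y * x * y⁻¹) := by
      rw [h3]
      exact (MulEquiv.apply_symm_apply (Φ ι₁) _).symm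
    rw [h4, map_mul, map_mul, map_inv]
  have hsurj : Function.Surjective F := by
    intro q
    obtain ⟨α, rfl⟩ := QuotientGroup.mk_surjective q
    obtain ⟨y, ι, Ψ, hΨ, hα⟩ := D.rigid hK hm (fun ι => ⟨Φ ι, hΦ' ι⟩) α (hsyl α)
    refine ⟨ι, ?_⟩
    apply QuotientGroup.eq.2
    refine ⟨(Φ ι).symm y, ?_⟩
    ext x
    rw [MulAut.conj_apply, MulAut.mul_apply, hα x, ← D.isField_unique (Φ ι) Ψ ι (hΦ' ι) hΨ x]
    show _ = (Φ ι).symm _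
    rw [MulEquiv.eq_symm_apply, map_mul, map_mul, map_inv, MulEquiv.apply_symm_apply]
  exact (Nat.card_congr (Equiv.ofBijective F ⟨hinj, hsurj⟩)).symm

end ReeData

end Cfsg.Agent.Lib.Helper18.RO
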