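import Mathlib

/-! # Abstract data of a small Ree group (helper18)

`ReeData K G m` records the structure of `²G₂(3^(2m+1))` used in the determination of its
automorphisms: the parametrisation `uE` of `U¹`, the torus `hE`, the Weyl element `nE`, the
multiplication law of `U¹`, the torus action, and the Bruhat decomposition with uniqueness. -/

set_option autoImplicit false

namespace Cfsg.Agent.Lib.Helper18.RO

structure ReeData (K : Type*) [Field K] (G : Type*) [Group G] (m : ℕ) where
  uE : K × K × K → G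
  hE : Kˣ →* G
  nE : G
  c1 : Kˣ →* Kˣ
  c2 : Kˣ →* Kˣ
  uE_inj : Function.Injective uE
  hE_inj : Function.Injective hE
  uE_mul : ∀ t u v t' u' v' : K, uE (t, u, v) * uE (t', u', v') =
    uE (t + t', u + u' - t' ^ (3 ^ m * 3) * t,
      v + v' - t' * u - t' ^ (3 ^ m * 3) * t ^ 2 + t' ^ (3 ^ m * 3) * t * t')
  conj : ∀ (s : Kˣ) (t u v : K), hE s * uE (t, u, v) * (hE s)⁻¹ =
    uE ((c1 s : K) * t, (c2 s : K) * u, (s : K) * v)
  c1_surj : Function.Surjective c1
  n_conj : ∀ s : Kˣ, nE * hE s * nE⁻¹ = hE s⁻¹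
  cases : ∀ g : G, (∃ p s, g = uE p * hE s) ∨ (∃ p s p', g = uE p * hE s * nE * uE p')
  big_unique : ∀ p s p' q r q', uE p * hE s * nE * uE p' = uE q * hE r * nE * uE q' →
    p = q ∧ s = r ∧ p' = q'
  big_not_borel : ∀ p s p' q r, uE p * hE s * nE * uE p' ≠ uE q * hE r

end Cfsg.Agent.Lib.Helper18.RO
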