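import Cfsg.Agent.Lib.Helper18.ReeGroup
import Cfsg.Agent.Lib.Helper36.ChevTwBN

/-! # `σ` on `U`, `H`, `B`, `N` (helper18, small Ree groups) -/

set_option autoImplicit false

namespace Cfsg.Agent.Lib.Helper18.Ree

open Cfsg Cfsg.Lie Cfsg.Agent.Lib.Helper36 Cfsg.Agent.Lib.Helper18

/-- the table facts about `ρ` and `λ` -/
theorem rho_spec : ∀ r < 12, rhoG2.getD r 0 < 12 ∧
    (chevG2.IsPosRoot (rhoG2.getD r 0) ↔ chevG2.IsPosRoot r) ∧
    (chevG2.IsNegRoot (rhoG2.getD r 0) ↔ chevG2.IsNegRoot r) ∧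
    rhoG2.getD (chevG2.neg r) 0 = chevG2.neg (rhoG2.getD r 0) ∧
    lamG2.getD (chevG2.neg r) 0 = lamG2.getD r 0 ∧ Odd (lamG2.getD r 0) ∧ chevG2.neg r < 12 ∧
    ∀ i < 2, rhoG2.getD (chevG2.reflectRoot i r) 0 = chevG2.reflectRoot (1 - i) (rhoG2.getD r 0) := by
  decide +kernel

theorem rho_simple : ∀ i < 2, rhoG2.getD (chevG2.simple i) 0 = chevG2.simple (1 - i) ∧
    lamG2.getD (chevG2.simple i) 0 = (if i = 0 then 3 else 1) ∧ chevG2.simple i < 12 := by
  decide +kernel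

section
variable (K : Type*) [Field K] [Fintype K] [CharP K 3] (m : ℕ)

open Classical in
/-- `σ` as a function on `GL` (the identity element outside the group) -/
noncomputable def S (g : GL chevG2.Idx K) : GL chevG2.Idx K :=
  if h : g ∈ chevG2.group K then ((sig K m ⟨g, h⟩ : ↥(chevG2.group K)) : GL chevG2.Idx K) else 1

theorem S_of_mem {g : GL chevG2.Idx K} (h : g ∈ chevG2.group K) :
    S K m g = ((sig K m ⟨g, h⟩ : ↥(chevG2.group K)) : GL chevG2.Idx K) := dif_pos h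

theorem S_mem (g : GL chevG2.Idx K) : S K m g ∈ chevG2.group K := by
  unfold S
  split_ifs with h
  · exact (sig K m ⟨g, h⟩).2
  · exact one_mem _

theorem S_mul {x y : GL chevG2.Idx K} (hx : x ∈ chevG2.group K) (hy : y ∈ chevG2.group K) :
    S K m (x * y) = S K m x * S K m y := by
  rw [S_of_mem K m (mul_mem hx hy), S_of_mem K m hx, S_of_mem K m hy, ← Subgroup.coe_mul, ← map_mul]
  rfl

theorem S_one : S K m 1 = 1 := by
  rw [S_of_mem K m (one_mem _)]
  have : (⟨1, one_mem _⟩ : ↥(chevG2.group K)) = 1 := rfl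
  rw [this, map_one]; rfl

theorem S_inv {x : GL chevG2.Idx K} (hx : x ∈ chevG2.group K) : S K m x⁻¹ = (S K m x)⁻¹ := by
  rw [S_of_mem K m (inv_mem hx), S_of_mem K m hx, ← Subgroup.coe_inv, ← map_inv]
  rfl

theorem S_wordGL (w : List (ℕ × K)) (hw : ∀ q ∈ w, q.1 < 12) :
    S K m (wordGL chevG2 hG2 K w) = wordGL chevG2 hG2 K (sigWord K m w) := by
  rw [S_of_mem K m (wordGL_mem_group K w)]
  have e : (⟨wordGL chevG2 hG2 K w, wordGL_mem_group K w⟩ : ↥(chevG2.group K)) = wordGr chevG2 hG2 K w := by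
    apply Subtype.ext; rw [wordGr_coe]
  rw [e, sig_word K m w hw, wordGr_coe]

theorem S_X (r : ℕ) (hr : r < 12) (t : K) :
    S K m (X K r t) = X K (rhoG2.getD r 0) ((t ^ 3 ^ m) ^ lamG2.getD r 0) := by
  have h := S_wordGL K m [(r, t)] (by simp [hr])
  simpa [wordGL, sigWord] using h

/-- `σ` on a closure of elements of the group -/
theorem S_closure (T : Set (GL chevG2.Idx K)) (hT : ∀ x ∈ T, x ∈ chevG2.group K) (S' : Subgroup (GL chevG2.Idx K))
    (h : ∀ x ∈ T, S K m x ∈ S') : ∀ g ∈ Subgroup.closure T, S K m g ∈ S' := by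
  have hle : Subgroup.closure T ≤ chevG2.group K := (Subgroup.closure_le _).2 hT
  intro g hg
  induction hg using Subgroup.closure_induction with
  | mem x hx => exact h x hx
  | one => rw [S_one]; exact one_mem _
  | mul x y hx hy ihx ihy => rw [S_mul K m (hle hx) (hle hy)]; exact mul_mem ihx ihy
  | inv x hx ihx => rw [S_inv K m (hle hx)]; exact inv_mem ihx

theorem S_pos (g : GL chevG2.Idx K) (hg : g ∈ chevG2.posUnipotent K) : S K m g ∈ chevG2.posUnipotent K := by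
  refine S_closure K m _ ?_ _ ?_ g hg
  · rintro x ⟨r, t, hr, hx⟩
    have ex : x = X K r t := Units.ext (by rw [hx, xGL_coe])
    rw [ex]; exact xGL_mem_group chevG2 hG2 K r t
  · rintro x ⟨r, t, hr, hx⟩
    have ex : x = X K r t := Units.ext (by rw [hx, xGL_coe])
    rw [ex, S_X K m r hr.1]
    exact xGL_mem_pos chevG2 hG2 K _ ((rho_spec r hr.1).2.1.2 hr) _

theorem S_neg (g : GL chevG2.Idx K) (hg : g ∈ chevG2.negUnipotent K) : S K m g ∈ chevG2.negUnipotent K := by
  refine S_closure K m _ ?_ _ ?_ g hg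
  · rintro x ⟨r, t, hr, hx⟩
    have ex : x = X K r t := Units.ext (by rw [hx, xGL_coe])
    rw [ex]; exact xGL_mem_group chevG2 hG2 K r t
  · rintro x ⟨r, t, hr, hx⟩
    have ex : x = X K r t := Units.ext (by rw [hx, xGL_coe])
    rw [ex, S_X K m r hr.1]
    exact Subgroup.subset_closure ⟨_, _, (rho_spec r hr.1).2.2.1.2 hr, xGL_coe chevG2 hG2 K _ _⟩

end

end Cfsg.Agent.Lib.Helper18.Ree
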