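import Cfsg.Agent.Lib.Helper18.ReeDesc1

/-! # `σ` on `N`, `H`, `B` and on the groups `U_w⁻` (helper18, small Ree groups) -/

set_option autoImplicit false

namespace Cfsg.Agent.Lib.Helper18.Ree

open Cfsg Cfsg.Lie Cfsg.Agent.Lib.Helper36 Cfsg.Agent.Lib.Helper18

section
variable (K : Type*) [Field K] [Fintype K] [CharP K 3] (m : ℕ)

/-- the twisted parameter -/
def tp (r : ℕ) (t : K) : K := (t ^ 3 ^ m) ^ lamG2.getD r 0

omit [Fintype K] [CharP K 3] in
theorem tp_neg (r : ℕ) (hr : r < 12) (t : K) : tp K m r (-t) = -tp K m r t := by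
  unfold tp
  rw [neg_pow_t, (rho_spec r hr).2.2.2.2.2.1.neg_pow]

omit [Fintype K] [CharP K 3] in
theorem tp_inv (r : ℕ) (t : K) : tp K m r t⁻¹ = (tp K m r t)⁻¹ := by
  unfold tp
  rw [inv_pow, inv_pow]

omit [Fintype K] [CharP K 3] in
theorem tp_one (r : ℕ) : tp K m r 1 = 1 := by
  unfold tp; rw [one_pow, one_pow]

omit [Fintype K] [CharP K 3] in
theorem tp_ne_zero (r : ℕ) (t : K) (ht : t ≠ 0) : tp K m r t ≠ 0 := by
  unfold tp; exact pow_ne_zero _ (pow_ne_zero _ ht)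

theorem S_nGL (r : ℕ) (hr : r < 12) (t : K) :
    S K m (nGL chevG2 hG2 K r t) = nGL chevG2 hG2 K (rhoG2.getD r 0) (tp K m r t) := by
  obtain ⟨-, -, -, h4, h5, -, h7, -⟩ := rho_spec r hr
  unfold nGL
  rw [S_wordGL K m _ (by
    intro q hq
    simp only [ChevalleyDatum.nWord, List.mem_cons, List.not_mem_nil, or_false] at hq
    rcases hq with rfl | rfl | rfl
    · exact hr
    · exact h7
    · exact hr)]
  congr 1
  simp only [sigWord, ChevalleyDatum.nWord, List.map_cons, List.map_nil]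
  have e1 : ((-t⁻¹) ^ 3 ^ m) ^ lamG2.getD (chevG2.neg r) 0 = -(tp K m r t)⁻¹ := by
    rw [h5]
    have := tp_neg K m r hr t⁻¹
    unfold tp at this ⊢
    rw [this, ← inv_pow, ← inv_pow]
  rw [e1, h4]
  rfl

theorem S_hGL (r : ℕ) (hr : r < 12) (t : K) :
    S K m (hGL chevG2 hG2 K r t) = hGL chevG2 hG2 K (rhoG2.getD r 0) (tp K m r t) := by
  have hG : ∀ c : K, nGL chevG2 hG2 K r c ∈ chevG2.group K := fun c => wordGL_mem_group K _
  rw [hGL_eq, hGL_eq, S_mul K m (hG _) (hG _), S_nGL K m r hr, S_nGL K m r hr, tp_neg K m r hr, tp_one]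

theorem S_nWordGL (l : List ℕ) (hl : ∀ i ∈ l, i < 2) :
    S K m (nWordGL chevG2 hG2 K l) = nWordGL chevG2 hG2 K (l.map fun i => 1 - i) := by
  induction l with
  | nil => simp [nWordGL, S_one]
  | cons i l ih =>
    have hi := hl i List.mem_cons_self
    have hl' : ∀ i' ∈ l, i' < 2 := fun i' h => hl i' (List.mem_cons_of_mem _ h)
    obtain ⟨h1, -, h3⟩ := rho_simple i hi
    have e1 : nWordGL chevG2 hG2 K (i :: l) = nGL chevG2 hG2 K (chevG2.simple i) 1 * nWordGL chevG2 hG2 K l := by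
      simp [nWordGL]
    have e2 : nWordGL chevG2 hG2 K ((i :: l).map fun i => 1 - i) =
        nGL chevG2 hG2 K (chevG2.simple (1 - i)) 1 * nWordGL chevG2 hG2 K (l.map fun i => 1 - i) := by
      simp [nWordGL]
    have hnG : nGL chevG2 hG2 K (chevG2.simple i) 1 ∈ chevG2.group K := wordGL_mem_group K _
    rw [e1, e2, S_mul K m hnG
      (monomial_le_group chevG2 hG2 K (nWordGL_mem chevG2 hG2 K l (fun j hj => hl' j hj))), ih hl',
      S_nGL K m _ h3, h1, tp_one]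

theorem S_diag (h : GL chevG2.Idx K) (hh : h ∈ chevG2.diagonalSubgroup K) : S K m h ∈ chevG2.diagonalSubgroup K := by
  refine S_closure K m _ ?_ _ ?_ h hh
  · rintro x ⟨r, t, hr, ht, hx⟩
    have ex : x = hGL chevG2 hG2 K r t := Units.ext (by rw [hx, hGL_coe])
    rw [ex]; exact wordGL_mem_group K _
  · rintro x ⟨r, t, hr, ht, hx⟩
    have ex : x = hGL chevG2 hG2 K r t := Units.ext (by rw [hx, hGL_coe])
    rw [ex, S_hGL K m r hr]
    exact hGL_mem_diag chevG2 hG2 K _ (rho_spec r hr).1 _ (tp_ne_zero K m r t ht)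

theorem S_borel (b : GL chevG2.Idx K) (hb : b ∈ chevG2.borelSubgroup K) : S K m b ∈ chevG2.borelSubgroup K := by
  obtain ⟨u, hu, h, hh, rfl⟩ := (mem_borel_iff chevG2 hG2 K b).1 hb
  rw [S_mul K m (posUnipotent_le_group chevG2 hG2 K hu) (diagonal_le_group chevG2 hG2 K hh)]
  exact mul_mem (pos_le_borel chevG2 K (S_pos K m u hu))
    ((le_sup_right : chevG2.diagonalSubgroup K ≤ chevG2.borelSubgroup K) (S_diag K m h hh))

/-- `ρ` intertwines the Weyl words `l` and `l.map (1 - ·)` -/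
theorem rho_wRoot (l : List ℕ) (hl : ∀ i ∈ l, i < 2) (r : ℕ) (hr : r < 12) :
    rhoG2.getD (wRoot chevG2 l r) 0 = wRoot chevG2 (l.map fun i => 1 - i) (rhoG2.getD r 0) := by
  induction l with
  | nil => rfl
  | cons i l ih =>
    have hi := hl i List.mem_cons_self
    have hl' : ∀ i' ∈ l, i' < 2 := fun i' h => hl i' (List.mem_cons_of_mem _ h)
    show rhoG2.getD (chevG2.reflectRoot i (wRoot chevG2 l r)) 0 =
      chevG2.reflectRoot (1 - i) (wRoot chevG2 (l.map fun i => 1 - i) (rhoG2.getD r 0))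
    rw [← ih hl']
    exact (rho_spec _ (wRoot_lt chevG2 hG2 l hl' r hr)).2.2.2.2.2.2.2 i hi

/-- `σ` maps `U_w⁻` to `U_{ρ w}⁻` -/
theorem S_sGens (l : List ℕ) (hl : ∀ i ∈ l, i < 2) (u : GL chevG2.Idx K)
    (hu : u ∈ Subgroup.closure (sGens chevG2 K l)) :
    S K m u ∈ Subgroup.closure (sGens chevG2 K (l.map fun i => 1 - i)) := by
  refine S_closure K m _ ?_ _ ?_ u hu
  · rintro x ⟨s, t, hs, hws, hx⟩
    have ex : x = X K s t := Units.ext hx
    rw [ex]; exact xGL_mem_group chevG2 hG2 K s t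
  · rintro x ⟨s, t, hs, hws, hx⟩
    have ex : x = X K s t := Units.ext hx
    rw [ex, S_X K m s hs.1]
    refine Subgroup.subset_closure ⟨_, _, (rho_spec s hs.1).2.1.2 hs, ?_, rfl⟩
    rw [← rho_wRoot l hl s hs.1]
    exact (rho_spec _ hws.1).2.2.1.2 hws

end

end Cfsg.Agent.Lib.Helper18.Ree
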