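import Cfsg.Agent.Lib.Helper18.ReeDesc2
import Cfsg.Agent.Lib.Helper36.ChevTwDescent

/-! # Bruhat descent for the fixed points of `σ` (helper18, small Ree groups; after helper36's `sigma_descent`) -/

set_option autoImplicit false

namespace Cfsg.Agent.Lib.Helper18.Ree

open Cfsg Cfsg.Lie Cfsg.Agent.Lib.Helper36 Cfsg.Agent.Lib.Helper18

section
variable (K : Type*) [Field K] [Fintype K] [CharP K 3] (m : ℕ)

/-- an element of the Chevalley group fixed by `σ` is `u₁ (h₁ n_l) u` with all three factors fixed by `σ`,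
and the Weyl element commutes with the symmetry -/
theorem descent (g : GL chevG2.Idx K) (hg : g ∈ chevG2.group K) (hσ : S K m g = g) :
    ∃ l : List ℕ, (∀ i ∈ l, i < 2) ∧ (∀ r < 12, wRoot chevG2 (l.map fun i => 1 - i) r = wRoot chevG2 l r) ∧
      ∃ u₁ ∈ chevG2.posUnipotent K, ∃ h₁ ∈ chevG2.diagonalSubgroup K, ∃ u ∈ Subgroup.closure (sGens chevG2 K l),
        g = u₁ * (h₁ * nWordGL chevG2 hG2 K l) * u ∧ S K m u₁ = u₁ ∧ S K m u = u ∧
        S K m (h₁ * nWordGL chevG2 hG2 K l) = h₁ * nWordGL chevG2 hG2 K l := by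
  have h45 : ∀ i < chevG2.rank, H45 chevG2 K i := fun i hi => Cfsg.Agent.S1045.result chevG2 hG2 i hi
  obtain ⟨l, hl, b, hb, u, hu, e3⟩ := bruhat_form chevG2 hG2 K g hg
  have hl2 : ∀ i ∈ l, i < 2 := hl
  set n := nWordGL chevG2 hG2 K l with hn
  set l' := l.map (fun i => 1 - i) with hl'def
  have hl' : ∀ i ∈ l', i < chevG2.rank := by
    intro i hi
    obtain ⟨j, hj, rfl⟩ := List.mem_map.1 hi
    show 1 - j < 2
    omega
  set n' := nWordGL chevG2 hG2 K l' with hn'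
  have hσn : S K m n = n' := S_nWordGL K m l hl2
  have hnN : n ∈ chevG2.monomialSubgroup K := nWordGL_mem chevG2 hG2 K l hl
  have hn'N : n' ∈ chevG2.monomialSubgroup K := nWordGL_mem chevG2 hG2 K l' hl'
  have hUB : chevG2.posUnipotent K ≤ chevG2.borelSubgroup K := pos_le_borel chevG2 K
  have hHB : chevG2.diagonalSubgroup K ≤ chevG2.borelSubgroup K := by
    unfold ChevalleyDatum.borelSubgroup; exact le_sup_right
  have hBG := borel_le_group chevG2 hG2 K
  have hNG := monomial_le_group chevG2 hG2 K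
  have hUG := posUnipotent_le_group chevG2 hG2 K
  have hHG := diagonal_le_group chevG2 hG2 K
  have huU : u ∈ chevG2.posUnipotent K := sGens_le_pos chevG2 K l hu
  have hσb : S K m b ∈ chevG2.borelSubgroup K := S_borel K m b hb
  have hσu' : S K m u ∈ Subgroup.closure (sGens chevG2 K l') := S_sGens K m l hl2 u hu
  have hσuU : S K m u ∈ chevG2.posUnipotent K := sGens_le_pos chevG2 K l' hσu'
  -- both cells contain g
  have e4 : g = S K m b * n' * S K m u := by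
    rw [← hσn, ← S_mul K m (hBG hb) (hNG hnN), ← S_mul K m (mul_mem (hBG hb) (hNG hnN)) (hUG huU), ← e3, hσ]
  have hc1 : g ∈ cell chevG2 K n := ⟨b, hb, u, hUB huU, e3⟩
  have hc2 : g ∈ cell chevG2 K n' := ⟨S K m b, hσb, S K m u, hUB hσuU, e4⟩
  have h0 := bruhat_unique' chevG2 hG2 K h45 n n' g hnN hn'N hc1 hc2
  have hperm : ∀ r < 12, wRoot chevG2 l' r = wRoot chevG2 l r :=
    fun r hr => (wRoot_eq_of_mem_diag chevG2 hG2 K l l' hl hl' h0 r hr).symm
  -- the generators of U_w⁻ agree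
  have hsg : sGens chevG2 K l' = sGens chevG2 K l := by
    ext x
    constructor
    · rintro ⟨s, t, hs, hws, hx⟩
      exact ⟨s, t, hs, by rw [← hperm s hs.1]; exact hws, hx⟩
    · rintro ⟨s, t, hs, hws, hx⟩
      exact ⟨s, t, hs, by rw [hperm s hs.1]; exact hws, hx⟩
  rw [hsg] at hσu'
  -- rewrite σ g in the cell form for n
  set h₀ := n⁻¹ * n' with hh₀
  have hnh : n * h₀ * n⁻¹ ∈ chevG2.diagonalSubgroup K := by
    have := conj_mem_diag chevG2 hG2 K n⁻¹ h₀ (inv_mem hnN) h0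
    rwa [inv_inv] at this
  have e5 : b * n * u = (S K m b * (n * h₀ * n⁻¹)) * n * S K m u := by
    rw [← e3, e4, hh₀]; group
  obtain ⟨hbb, huu⟩ := cell_unique chevG2 hG2 K l n (actsBy_nWordGL chevG2 hG2 K l hl) b (S K m b * (n * h₀ * n⁻¹))
    u (S K m u) hb (mul_mem hσb (hHB hnh)) hu hσu' e5
  -- split b
  obtain ⟨u1, hu1, h1, hh1, hb1⟩ := (mem_borel_iff chevG2 hG2 K b).1 hb
  have hσu1 : S K m u1 ∈ chevG2.posUnipotent K := S_pos K m u1 hu1
  have hσh1 : S K m h1 ∈ chevG2.diagonalSubgroup K := S_diag K m h1 hh1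
  have e6 : u1 * h1 = S K m u1 * (S K m h1 * (n * h₀ * n⁻¹)) := by
    rw [hb1, ← mul_assoc, ← S_mul K m (hUG hu1) (hHG hh1), hb1]; exact hbb
  have e7 : (S K m u1)⁻¹ * u1 = (S K m h1 * (n * h₀ * n⁻¹)) * h1⁻¹ := by
    rw [inv_mul_eq_iff_eq_mul, ← mul_assoc, ← e6]; group
  have e8 : (S K m u1)⁻¹ * u1 ∈ chevG2.posUnipotent K ⊓ chevG2.diagonalSubgroup K :=
    Subgroup.mem_inf.2 ⟨mul_mem (inv_mem hσu1) hu1, by
      rw [e7]; exact mul_mem (mul_mem hσh1 hnh) (inv_mem hh1)⟩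
  rw [pos_inf_diagonal chevG2 hG2 K, Subgroup.mem_bot] at e8
  have hu1fix : S K m u1 = u1 := (inv_mul_eq_one.1 e8)
  have hh1eq : h1 = S K m h1 * (n * h₀ * n⁻¹) := by
    rw [hu1fix] at e6
    exact mul_left_cancel e6
  refine ⟨l, hl2, hperm, u1, hu1, h1, hh1, u, hu, ?_, hu1fix, huu.symm, ?_⟩
  · rw [← hn, e3, ← hb1]; group
  · rw [← hn, S_mul K m (hHG hh1) (hNG hnN), hσn]
    conv_rhs => rw [hh1eq]
    rw [hh₀]; group

end

end Cfsg.Agent.Lib.Helper18.Ree
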