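import Cfsg.Agent.Lib.Helper18.ReeSigma
import Cfsg.Agent.Lib.Helper18.ChevOrdMain

/-! # The generators of `²G₂` are fixed by `σ`; the fixed points of `σ` on `U` (helper18) -/

set_option autoImplicit false

namespace Cfsg.Agent.Lib.Helper18.Ree

open Cfsg Cfsg.Lie Cfsg.Agent.Lib.Helper36 Cfsg.Agent.Lib.Helper18

section
variable (K : Type*) [Field K]

/-- root elements of `G₂(K)` in `GL` -/
noncomputable abbrev X (r : ℕ) (c : K) : GL chevG2.Idx K := xGL chevG2 hG2 K r c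

theorem commTerms_76 : chevG2.commTerms 7 6 = [(8, -1, 1, 1), (9, 1, 2, 1), (10, 1, 3, 1), (11, 1, 3, 2)] := by
  decide +kernel

theorem commTerms_45 : chevG2.commTerms 4 5 = [(3, 1, 1, 1), (2, 1, 2, 1), (1, -1, 3, 1), (0, 1, 3, 2)] := by
  decide +kernel

/-- the commutator formula in `GL` -/
theorem comm_GL (r s : ℕ) (hr : r < 12) (hs : s < 12) (hrs : s ≠ r) (hneg : s ≠ chevG2.neg r) (t u : K) :
    X K s u * X K r t = X K r t * X K s u * wordGL chevG2 hG2 K (chevG2.commWord K r s t u) := by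
  apply Units.ext
  rw [Units.val_mul, Units.val_mul, Units.val_mul, xGL_coe, xGL_coe, wordGL_coe]
  exact comm_formula_all chevG2 hG2 r s hr hs hrs hneg t u

theorem swapP (T t : K) :
    X K 6 t * X K 7 T = X K 7 T * X K 6 t *
      (X K 8 (T * t) * X K 9 (T ^ 2 * t) * X K 10 (-(T ^ 3 * t)) * X K 11 (-(T ^ 3 * t ^ 2))) := by
  rw [comm_GL K 7 6 (by norm_num) (by norm_num) (by norm_num) (by decide) T t]
  congr 1
  unfold ChevalleyDatum.commWord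
  rw [commTerms_76]
  simp only [wordGL, List.map_cons, List.map_nil, List.prod_cons, List.prod_nil, mul_one]
  have e1 : ((-1 : ℤ) : K) * (-T) ^ 1 * t ^ 1 = T * t := by push_cast; ring
  have e2 : ((1 : ℤ) : K) * (-T) ^ 2 * t ^ 1 = T ^ 2 * t := by push_cast; ring
  have e3 : ((1 : ℤ) : K) * (-T) ^ 3 * t ^ 1 = -(T ^ 3 * t) := by push_cast; ring
  have e4 : ((1 : ℤ) : K) * (-T) ^ 3 * t ^ 2 = -(T ^ 3 * t ^ 2) := by push_cast; ring
  rw [e1, e2, e3, e4]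
  simp only [mul_assoc]

theorem swapN (T t : K) :
    X K 5 (-t) * X K 4 (-T) = X K 4 (-T) * X K 5 (-t) *
      (X K 3 (-(T * t)) * X K 2 (-(T ^ 2 * t)) * X K 1 (T ^ 3 * t) * X K 0 (T ^ 3 * t ^ 2)) := by
  rw [comm_GL K 4 5 (by norm_num) (by norm_num) (by norm_num) (by decide) (-T) (-t)]
  congr 1
  unfold ChevalleyDatum.commWord
  rw [commTerms_45]
  simp only [wordGL, List.map_cons, List.map_nil, List.prod_cons, List.prod_nil, mul_one]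
  have e1 : ((1 : ℤ) : K) * (- -T) ^ 1 * (-t) ^ 1 = -(T * t) := by push_cast; ring
  have e2 : ((1 : ℤ) : K) * (- -T) ^ 2 * (-t) ^ 1 = -(T ^ 2 * t) := by push_cast; ring
  have e3 : ((-1 : ℤ) : K) * (- -T) ^ 3 * (-t) ^ 1 = T ^ 3 * t := by push_cast; ring
  have e4 : ((1 : ℤ) : K) * (- -T) ^ 3 * (-t) ^ 2 = T ^ 3 * t ^ 2 := by push_cast; ring
  rw [e1, e2, e3, e4]
  simp only [mul_assoc]

end

section abel
variable {M : Type*} [Group M] {A : Type*} [AddGroup A]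

/-- four pairwise commuting one-parameter subgroups -/
structure Ab4 (f1 f2 f3 f4 : A → M) : Prop where
  add1 : ∀ a b, f1 (a + b) = f1 a * f1 b
  add2 : ∀ a b, f2 (a + b) = f2 a * f2 b
  add3 : ∀ a b, f3 (a + b) = f3 a * f3 b
  add4 : ∀ a b, f4 (a + b) = f4 a * f4 b
  c12 : ∀ a b, Commute (f1 a) (f2 b)
  c13 : ∀ a b, Commute (f1 a) (f3 b)
  c14 : ∀ a b, Commute (f1 a) (f4 b)
  c23 : ∀ a b, Commute (f2 a) (f3 b)
  c24 : ∀ a b, Commute (f2 a) (f4 b)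
  c34 : ∀ a b, Commute (f3 a) (f4 b)

/-- the product of four commuting elements -/
def A4 (f1 f2 f3 f4 : A → M) (a b c d : A) : M := f1 a * f2 b * f3 c * f4 d

variable {f1 f2 f3 f4 : A → M}

theorem Ab4.zero1 (h : Ab4 f1 f2 f3 f4) : f1 0 = 1 := by
  have := h.add1 0 0
  rw [add_zero] at this
  exact (mul_eq_left.1 this.symm)

theorem Ab4.zero2 (h : Ab4 f1 f2 f3 f4) : f2 0 = 1 := by
  have := h.add2 0 0
  rw [add_zero] at this
  exact (mul_eq_left.1 this.symm)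

theorem Ab4.zero3 (h : Ab4 f1 f2 f3 f4) : f3 0 = 1 := by
  have := h.add3 0 0
  rw [add_zero] at this
  exact (mul_eq_left.1 this.symm)

theorem Ab4.zero4 (h : Ab4 f1 f2 f3 f4) : f4 0 = 1 := by
  have := h.add4 0 0
  rw [add_zero] at this
  exact (mul_eq_left.1 this.symm)

theorem A4_mul (h : Ab4 f1 f2 f3 f4) (a b c d a' b' c' d' : A) :
    A4 f1 f2 f3 f4 a b c d * A4 f1 f2 f3 f4 a' b' c' d' = A4 f1 f2 f3 f4 (a + a') (b + b') (c + c') (d + d') := by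
  unfold A4
  rw [h.add1, h.add2, h.add3, h.add4]
  have h4 : Commute (f4 d) (f1 a' * f2 b' * f3 c') :=
    (((h.c14 a' d).symm.mul_right (h.c24 b' d).symm)).mul_right (h.c34 c' d).symm
  rw [h4.mul_mul_mul_comm]
  have h3 : Commute (f3 c) (f1 a' * f2 b') := (h.c13 a' c).symm.mul_right (h.c23 b' c).symm
  rw [h3.mul_mul_mul_comm]
  have h2 : Commute (f2 b) (f1 a') := (h.c12 a' b).symm
  rw [h2.mul_mul_mul_comm]

theorem A4_1 (h : Ab4 f1 f2 f3 f4) (a : A) : f1 a = A4 f1 f2 f3 f4 a 0 0 0 := by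
  unfold A4; rw [h.zero2, h.zero3, h.zero4, mul_one, mul_one, mul_one]
theorem A4_2 (h : Ab4 f1 f2 f3 f4) (a : A) : f2 a = A4 f1 f2 f3 f4 0 a 0 0 := by
  unfold A4; rw [h.zero1, h.zero3, h.zero4, mul_one, mul_one, one_mul]
theorem A4_3 (h : Ab4 f1 f2 f3 f4) (a : A) : f3 a = A4 f1 f2 f3 f4 0 0 a 0 := by
  unfold A4; rw [h.zero1, h.zero2, h.zero4, mul_one, one_mul, one_mul]
theorem A4_4 (h : Ab4 f1 f2 f3 f4) (a : A) : f4 a = A4 f1 f2 f3 f4 0 0 0 a := by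
  unfold A4; rw [h.zero1, h.zero2, h.zero3, one_mul, one_mul, one_mul]

end abel

section
variable (K : Type*) [Field K] [CharP K 3]

theorem ab4P : Ab4 (X K 8) (X K 9) (X K 10) (X K 11) where
  add1 := xGL_add chevG2 hG2 K 8
  add2 := xGL_add chevG2 hG2 K 9
  add3 := xGL_add chevG2 hG2 K 10
  add4 := xGL_add chevG2 hG2 K 11
  c12 := tw_commute chevG2 hG2 K 3 8 9 (by decide +kernel)
  c13 := tw_commute chevG2 hG2 K 3 8 10 (by decide +kernel)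
  c14 := tw_commute chevG2 hG2 K 3 8 11 (by decide +kernel)
  c23 := tw_commute chevG2 hG2 K 3 9 10 (by decide +kernel)
  c24 := tw_commute chevG2 hG2 K 3 9 11 (by decide +kernel)
  c34 := tw_commute chevG2 hG2 K 3 10 11 (by decide +kernel)

theorem ab4N : Ab4 (X K 3) (X K 2) (X K 1) (X K 0) where
  add1 := xGL_add chevG2 hG2 K 3
  add2 := xGL_add chevG2 hG2 K 2
  add3 := xGL_add chevG2 hG2 K 1
  add4 := xGL_add chevG2 hG2 K 0
  c12 := tw_commute chevG2 hG2 K 3 3 2 (by decide +kernel)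
  c13 := tw_commute chevG2 hG2 K 3 3 1 (by decide +kernel)
  c14 := tw_commute chevG2 hG2 K 3 3 0 (by decide +kernel)
  c23 := tw_commute chevG2 hG2 K 3 2 1 (by decide +kernel)
  c24 := tw_commute chevG2 hG2 K 3 2 0 (by decide +kernel)
  c34 := tw_commute chevG2 hG2 K 3 1 0 (by decide +kernel)

/-- the abelian part, positive side -/
noncomputable abbrev AP (a b c d : K) : GL chevG2.Idx K := A4 (X K 8) (X K 9) (X K 10) (X K 11) a b c d
/-- the abelian part, negative side -/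
noncomputable abbrev AN (a b c d : K) : GL chevG2.Idx K := A4 (X K 3) (X K 2) (X K 1) (X K 0) a b c d

theorem AP_zero : AP K 0 0 0 0 = 1 := by
  unfold AP A4; rw [(ab4P K).zero1, (ab4P K).zero2, (ab4P K).zero3, (ab4P K).zero4]; simp

theorem AN_zero : AN K 0 0 0 0 = 1 := by
  unfold AN A4; rw [(ab4N K).zero1, (ab4N K).zero2, (ab4N K).zero3, (ab4N K).zero4]; simp

/-- `x_b(t) x_a(T) = x_a(T) x_b(t) A(...)` -/
theorem swapP' (T t : K) :
    X K 6 t * X K 7 T = X K 7 T * X K 6 t * AP K (T * t) (T ^ 2 * t) (-(T ^ 3 * t)) (-(T ^ 3 * t ^ 2)) :=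
  swapP K T t

theorem swapN' (T t : K) :
    X K 5 (-t) * X K 4 (-T) = X K 4 (-T) * X K 5 (-t) * AN K (-(T * t)) (-(T ^ 2 * t)) (T ^ 3 * t) (T ^ 3 * t ^ 2) :=
  swapN K T t

/-- the other direction -/
theorem swapP'' (T t : K) :
    X K 7 T * X K 6 t = X K 6 t * X K 7 T * AP K (-(T * t)) (-(T ^ 2 * t)) (T ^ 3 * t) (T ^ 3 * t ^ 2) := by
  rw [swapP' K T t, mul_assoc, A4_mul (ab4P K)]
  simp only [add_neg_cancel, neg_add_cancel]
  rw [show A4 (X K 8) (X K 9) (X K 10) (X K 11) 0 0 0 0 = 1 from AP_zero K, mul_one]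

theorem swapN'' (T t : K) :
    X K 4 (-T) * X K 5 (-t) = X K 5 (-t) * X K 4 (-T) * AN K (T * t) (T ^ 2 * t) (-(T ^ 3 * t)) (-(T ^ 3 * t ^ 2)) := by
  rw [swapN' K T t, mul_assoc, A4_mul (ab4N K)]
  simp only [add_neg_cancel, neg_add_cancel]
  rw [show A4 (X K 3) (X K 2) (X K 1) (X K 0) 0 0 0 0 = 1 from AN_zero K, mul_one]

/-- reordering inside the abelian part -/
theorem permP (P Q U' V' : K) : X K 10 P * X K 11 Q * X K 8 U' * X K 9 V' = AP K U' V' P Q := by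
  rw [A4_3 (ab4P K) P, A4_4 (ab4P K) Q, A4_1 (ab4P K) U', A4_2 (ab4P K) V', A4_mul (ab4P K), A4_mul (ab4P K),
    A4_mul (ab4P K)]
  simp only [add_zero, zero_add]

theorem permN (P Q U' V' : K) : X K 1 P * X K 0 Q * X K 3 U' * X K 2 V' = AN K U' V' P Q := by
  rw [A4_3 (ab4N K) P, A4_4 (ab4N K) Q, A4_1 (ab4N K) U', A4_2 (ab4N K) V', A4_mul (ab4N K), A4_mul (ab4N K),
    A4_mul (ab4N K)]
  simp only [add_zero, zero_add]

/-- the polynomial identity behind `σ(u) = u` for the generators of `U¹` -/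
theorem fixP (T t u v U' V' : K) :
    X K 6 t * X K 7 T * X K 10 (t * T ^ 3 + u) * X K 11 (t ^ 2 * T ^ 3 + v) * X K 8 U' * X K 9 V' =
      X K 7 T * X K 6 t * X K 8 (T * t + U') * X K 9 (T ^ 2 * t + V') * X K 10 u * X K 11 v := by
  have e1 : X K 6 t * X K 7 T * X K 10 (t * T ^ 3 + u) * X K 11 (t ^ 2 * T ^ 3 + v) * X K 8 U' * X K 9 V' =
      (X K 6 t * X K 7 T) * (X K 10 (t * T ^ 3 + u) * X K 11 (t ^ 2 * T ^ 3 + v) * X K 8 U' * X K 9 V') := by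
    simp only [mul_assoc]
  have e2 : X K 7 T * X K 6 t * X K 8 (T * t + U') * X K 9 (T ^ 2 * t + V') * X K 10 u * X K 11 v =
      (X K 7 T * X K 6 t) * AP K (T * t + U') (T ^ 2 * t + V') u v := by
    unfold AP A4; simp only [mul_assoc]
  rw [e1, e2, permP, swapP' K T t, mul_assoc, A4_mul (ab4P K)]
  congr 2 <;> ring

theorem fixN (T t u v U' V' : K) :
    X K 5 (-t) * X K 4 (-T) * X K 1 (-(t * T ^ 3 + u)) * X K 0 (-(t ^ 2 * T ^ 3 + v)) * X K 3 (-U') * X K 2 (-V') =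
      X K 4 (-T) * X K 5 (-t) * X K 3 (-(T * t + U')) * X K 2 (-(T ^ 2 * t + V')) * X K 1 (-u) * X K 0 (-v) := by
  have e1 : X K 5 (-t) * X K 4 (-T) * X K 1 (-(t * T ^ 3 + u)) * X K 0 (-(t ^ 2 * T ^ 3 + v)) * X K 3 (-U') *
      X K 2 (-V') =
      (X K 5 (-t) * X K 4 (-T)) * (X K 1 (-(t * T ^ 3 + u)) * X K 0 (-(t ^ 2 * T ^ 3 + v)) * X K 3 (-U') *
        X K 2 (-V')) := by
    simp only [mul_assoc]
  have e2 : X K 4 (-T) * X K 5 (-t) * X K 3 (-(T * t + U')) * X K 2 (-(T ^ 2 * t + V')) * X K 1 (-u) * X K 0 (-v) =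
      (X K 4 (-T) * X K 5 (-t)) * AN K (-(T * t + U')) (-(T ^ 2 * t + V')) (-u) (-v) := by
    unfold AN A4; simp only [mul_assoc]
  rw [e1, e2, permN, swapN' K T t, mul_assoc, A4_mul (ab4N K)]
  congr 2 <;> ring

end

section
variable (K : Type*) [Field K] [Fintype K] [CharP K 3] (m : ℕ) (hK : Fintype.card K = 3 ^ (2 * m + 1))

include hK in
theorem pow_q (x : K) : x ^ 3 ^ (2 * m + 1) = x := by
  rw [← hK]; exact FiniteField.pow_card x

include hK in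
theorem pow_tt3 (x : K) : ((x ^ 3 ^ m) ^ 3 ^ m) ^ 3 = x := by
  rw [← pow_mul, ← pow_mul]
  have : 3 ^ m * (3 ^ m * 3) = 3 ^ (2 * m + 1) := by ring
  rw [this, pow_q K m hK]

omit [Fintype K] in
theorem add_pow_t (x y : K) : (x + y) ^ 3 ^ m = x ^ 3 ^ m + y ^ 3 ^ m := add_pow_char_pow x y 3 m

omit [Fintype K] in
theorem add_pow_3 (x y : K) : (x + y) ^ 3 = x ^ 3 + y ^ 3 := add_pow_char x y 3

omit [Fintype K] [CharP K 3] in
theorem sigWord_U (t u v : K) :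
    sigWord K m (reeWordU (3 ^ m) t u v) =
      [(6, ((t ^ 3 ^ m) ^ 3 ^ m) ^ 3), (7, (t ^ 3 ^ m) ^ 1), (10, ((t ^ (3 ^ m + 1) + u ^ 3 ^ m) ^ 3 ^ m) ^ 3),
        (11, ((t ^ (2 * 3 ^ m + 1) + v ^ 3 ^ m) ^ 3 ^ m) ^ 3), (8, (u ^ 3 ^ m) ^ 1), (9, (v ^ 3 ^ m) ^ 1)] := rfl

omit [Fintype K] [CharP K 3] in
theorem sigWord_V (t u v : K) :
    sigWord K m (reeWordV (3 ^ m) t u v) =
      [(5, ((-(t ^ 3 ^ m)) ^ 3 ^ m) ^ 3), (4, ((-t) ^ 3 ^ m) ^ 1), (1, ((-(t ^ (3 ^ m + 1) + u ^ 3 ^ m)) ^ 3 ^ m) ^ 3),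
        (0, ((-(t ^ (2 * 3 ^ m + 1) + v ^ 3 ^ m)) ^ 3 ^ m) ^ 3), (3, ((-u) ^ 3 ^ m) ^ 1), (2, ((-v) ^ 3 ^ m) ^ 1)] := rfl

theorem odd_t : Odd (3 ^ m) := Odd.pow (by decide)

omit [Fintype K] [CharP K 3] in
theorem reeU_lt (t u v : K) : ∀ q ∈ reeWordU (3 ^ m) t u v, q.1 < 12 := by
  intro q hq
  simp only [reeWordU, List.mem_cons, List.not_mem_nil, or_false] at hq
  rcases hq with rfl | rfl | rfl | rfl | rfl | rfl <;> simp [g2a, g2b, g2ab, g2aab, g2aaab, g2aaabb]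

omit [Fintype K] [CharP K 3] in
theorem reeV_lt (t u v : K) : ∀ q ∈ reeWordV (3 ^ m) t u v, q.1 < 12 := by
  intro q hq
  have : reeWordV (3 ^ m) t u v = [(4, -(t ^ 3 ^ m)), (5, -t), (3, -(t ^ (3 ^ m + 1) + u ^ 3 ^ m)),
      (2, -(t ^ (2 * 3 ^ m + 1) + v ^ 3 ^ m)), (1, -u), (0, -v)] := rfl
  rw [this] at hq
  simp only [List.mem_cons, List.not_mem_nil, or_false] at hq
  rcases hq with rfl | rfl | rfl | rfl | rfl | rfl <;> simp

include hK in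
theorem e3_aux (t u : K) :
    ((t ^ (3 ^ m + 1) + u ^ 3 ^ m) ^ 3 ^ m) ^ 3 = t * (t ^ 3 ^ m) ^ 3 + u := by
  rw [add_pow_t, add_pow_3, pow_tt3 K m hK u]
  have : ((t ^ (3 ^ m + 1)) ^ 3 ^ m) ^ 3 = ((t ^ 3 ^ m) ^ 3 ^ m) ^ 3 * (t ^ 3 ^ m) ^ 3 := by ring
  rw [this, pow_tt3 K m hK t]

include hK in
theorem e4_aux (t v : K) :
    ((t ^ (2 * 3 ^ m + 1) + v ^ 3 ^ m) ^ 3 ^ m) ^ 3 = t ^ 2 * (t ^ 3 ^ m) ^ 3 + v := by
  rw [add_pow_t, add_pow_3, pow_tt3 K m hK v]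
  have : ((t ^ (2 * 3 ^ m + 1)) ^ 3 ^ m) ^ 3 = (((t ^ 3 ^ m) ^ 3 ^ m) ^ 3) ^ 2 * (t ^ 3 ^ m) ^ 3 := by ring
  rw [this, pow_tt3 K m hK t]

include hK in
/-- the generators of `U¹` are fixed by `σ` -/
theorem sig_U (t u v : K) :
    sig K m (wordGr chevG2 hG2 K (reeWordU (3 ^ m) t u v)) = wordGr chevG2 hG2 K (reeWordU (3 ^ m) t u v) := by
  rw [sig_word K m _ (reeU_lt K m t u v)]
  apply Subtype.ext
  rw [wordGr_coe, wordGr_coe, sigWord_U, pow_tt3 K m hK t, e3_aux K m hK, e4_aux K m hK, pow_one, pow_one, pow_one]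
  have h := fixP K (t ^ 3 ^ m) t u v (u ^ 3 ^ m) (v ^ 3 ^ m)
  have e5 : t ^ 3 ^ m * t = t ^ (3 ^ m + 1) := (pow_succ _ _).symm
  have e6 : (t ^ 3 ^ m) ^ 2 * t = t ^ (2 * 3 ^ m + 1) := by ring
  rw [e5, e6] at h
  simp only [wordGL, reeWordU, g2a, g2b, g2ab, g2aab, g2aaab, g2aaabb, List.map_cons, List.map_nil, List.prod_cons,
    List.prod_nil, mul_one]
  simp only [← mul_assoc]
  exact h

omit [Fintype K] [CharP K 3] in
theorem neg_pow_t (x : K) : (-x) ^ 3 ^ m = -(x ^ 3 ^ m) := (odd_t m).neg_pow x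

omit [Fintype K] [CharP K 3] in
theorem neg_pow_3 (x : K) : (-x) ^ 3 = -(x ^ 3) := Odd.neg_pow (by decide) x

include hK in
/-- the generators of `V¹` are fixed by `σ` -/
theorem sig_V (t u v : K) :
    sig K m (wordGr chevG2 hG2 K (reeWordV (3 ^ m) t u v)) = wordGr chevG2 hG2 K (reeWordV (3 ^ m) t u v) := by
  rw [sig_word K m _ (reeV_lt K m t u v)]
  apply Subtype.ext
  rw [wordGr_coe, wordGr_coe, sigWord_V]
  simp only [neg_pow_t, neg_pow_3]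
  rw [pow_tt3 K m hK t, e3_aux K m hK, e4_aux K m hK, pow_one, pow_one, pow_one]
  have h := fixN K (t ^ 3 ^ m) t u v (u ^ 3 ^ m) (v ^ 3 ^ m)
  have e5 : t ^ 3 ^ m * t = t ^ (3 ^ m + 1) := (pow_succ _ _).symm
  have e6 : (t ^ 3 ^ m) ^ 2 * t = t ^ (2 * 3 ^ m + 1) := by ring
  rw [e5, e6] at h
  have e7 : reeWordV (3 ^ m) t u v = [(4, -(t ^ 3 ^ m)), (5, -t), (3, -(t ^ (3 ^ m + 1) + u ^ 3 ^ m)),
      (2, -(t ^ (2 * 3 ^ m + 1) + v ^ 3 ^ m)), (1, -u), (0, -v)] := rfl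
  rw [e7]
  simp only [wordGL, List.map_cons, List.map_nil, List.prod_cons, List.prod_nil, mul_one]
  simp only [← mul_assoc]
  exact h

end

end Cfsg.Agent.Lib.Helper18.Ree
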