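import Cfsg.Agent.Lib.Helper18.ReeFix

/-! # The fixed points of `σ` on `U` are the generators of `U¹` (helper18) -/

set_option autoImplicit false

namespace Cfsg.Agent.Lib.Helper18.Ree

open Cfsg Cfsg.Lie Cfsg.Agent.Lib.Helper36 Cfsg.Agent.Lib.Helper18

theorem posRoots_G2 : chevG2.posRoots = [6, 7, 8, 9, 10, 11] := by decide +kernel

section
variable (K : Type*) [Field K]

/-- the canonical word of an element of `U` -/
def canW (c : ℕ → K) : List (ℕ × K) := [(6, c 6), (7, c 7), (8, c 8), (9, c 9), (10, c 10), (11, c 11)]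

theorem canW_eq (c : ℕ → K) : (chevG2.posRoots.map fun r => (r, c r)) = canW K c := by
  rw [posRoots_G2]; rfl

theorem canW_lt (c : ℕ → K) : ∀ q ∈ canW K c, q.1 < 12 := by
  intro q hq
  simp only [canW, List.mem_cons, List.not_mem_nil, or_false] at hq
  rcases hq with rfl | rfl | rfl | rfl | rfl | rfl <;> simp

/-- the coefficient function with given values -/
def mkC (c6 c7 c8 c9 c10 c11 : K) : ℕ → K := fun r =>
  if r = 6 then c6 else if r = 7 then c7 else if r = 8 then c8 else if r = 9 then c9 else if r = 10 then c10 else c11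

end

section
variable (K : Type*) [Field K] [CharP K 3]

theorem wordGL_canW (c : ℕ → K) :
    wordGL chevG2 hG2 K (canW K c) = X K 6 (c 6) * X K 7 (c 7) * AP K (c 8) (c 9) (c 10) (c 11) := by
  simp only [wordGL, canW, List.map_cons, List.map_nil, List.prod_cons, List.prod_nil, mul_one, AP, A4]
  simp only [mul_assoc]

theorem wordGL_mkC (c6 c7 c8 c9 c10 c11 : K) :
    wordGL chevG2 hG2 K (canW K (mkC K c6 c7 c8 c9 c10 c11)) = X K 6 c6 * X K 7 c7 * AP K c8 c9 c10 c11 := by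
  rw [wordGL_canW]
  simp [mkC]

end

section
variable (K : Type*) [Field K] [Fintype K] [CharP K 3] (m : ℕ) (hK : Fintype.card K = 3 ^ (2 * m + 1))

omit [Fintype K] [CharP K 3] in
theorem sigWord_canW (c : ℕ → K) :
    sigWord K m (canW K c) = [(7, (c 6 ^ 3 ^ m) ^ 1), (6, (c 7 ^ 3 ^ m) ^ 3), (10, (c 8 ^ 3 ^ m) ^ 3),
      (11, (c 9 ^ 3 ^ m) ^ 3), (8, (c 10 ^ 3 ^ m) ^ 1), (9, (c 11 ^ 3 ^ m) ^ 1)] := rfl

/-- the image under `σ` of an element of `U` in canonical form -/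
theorem sig_canW (c : ℕ → K) :
    ((sig K m (wordGr chevG2 hG2 K (canW K c)) : ↥(chevG2.group K)) : GL chevG2.Idx K) =
      wordGL chevG2 hG2 K (canW K (mkC K ((c 7 ^ 3 ^ m) ^ 3) (c 6 ^ 3 ^ m)
        (-(c 6 ^ 3 ^ m * (c 7 ^ 3 ^ m) ^ 3) + c 10 ^ 3 ^ m)
        (-((c 6 ^ 3 ^ m) ^ 2 * (c 7 ^ 3 ^ m) ^ 3) + c 11 ^ 3 ^ m)
        ((c 6 ^ 3 ^ m) ^ 3 * (c 7 ^ 3 ^ m) ^ 3 + (c 8 ^ 3 ^ m) ^ 3)
        ((c 6 ^ 3 ^ m) ^ 3 * ((c 7 ^ 3 ^ m) ^ 3) ^ 2 + (c 9 ^ 3 ^ m) ^ 3))) := by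
  rw [sig_word K m _ (canW_lt K c), wordGr_coe, sigWord_canW, wordGL_mkC]
  simp only [wordGL, List.map_cons, List.map_nil, List.prod_cons, List.prod_nil, mul_one, pow_one]
  set α := c 6 ^ 3 ^ m
  set β := (c 7 ^ 3 ^ m) ^ 3
  have e1 : X K 7 α * (X K 6 β * (X K 10 ((c 8 ^ 3 ^ m) ^ 3) * (X K 11 ((c 9 ^ 3 ^ m) ^ 3) *
      (X K 8 (c 10 ^ 3 ^ m) * X K 9 (c 11 ^ 3 ^ m))))) =
      (X K 7 α * X K 6 β) * (X K 10 ((c 8 ^ 3 ^ m) ^ 3) * X K 11 ((c 9 ^ 3 ^ m) ^ 3) *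
      X K 8 (c 10 ^ 3 ^ m) * X K 9 (c 11 ^ 3 ^ m)) := by
    simp only [mul_assoc]
  rw [e1, permP, swapP'' K α β, mul_assoc, A4_mul (ab4P K)]

include hK in
theorem pow_t3t (x : K) : ((x ^ 3 ^ m) ^ 3) ^ 3 ^ m = x := by
  rw [← pow_mul, ← pow_mul]
  have : 3 ^ m * (3 * 3 ^ m) = 3 ^ (2 * m + 1) := by ring
  rw [this, pow_q K m hK]

omit [Fintype K] in
/-- the canonical form of a generator of `U¹` -/
theorem canonU (t u v : K) :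
    wordGL chevG2 hG2 K (reeWordU (3 ^ m) t u v) =
      X K 6 t * X K 7 (t ^ 3 ^ m) * AP K (u ^ 3 ^ m) (v ^ 3 ^ m) ((t ^ 3 ^ m) ^ 3 * t + u)
        ((t ^ 3 ^ m) ^ 3 * t ^ 2 + v) := by
  have e1 : wordGL chevG2 hG2 K (reeWordU (3 ^ m) t u v) =
      (X K 7 (t ^ 3 ^ m) * X K 6 t) * AP K (t ^ (3 ^ m + 1) + u ^ 3 ^ m) (t ^ (2 * 3 ^ m + 1) + v ^ 3 ^ m) u v := by
    simp only [wordGL, reeWordU, g2a, g2b, g2ab, g2aab, g2aaab, g2aaabb, List.map_cons, List.map_nil, List.prod_cons,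
      List.prod_nil, mul_one, AP, A4]
    simp only [mul_assoc]
  rw [e1, swapP'' K (t ^ 3 ^ m) t, mul_assoc, A4_mul (ab4P K)]
  congr 2 <;> ring

include hK in
/-- **the fixed points of `σ` on `U` are the generators of `U¹`** -/
theorem fixU_eq (g : GL chevG2.Idx K) (hgU : g ∈ chevG2.posUnipotent K) (hgG : g ∈ chevG2.group K)
    (hσ : sig K m ⟨g, hgG⟩ = ⟨g, hgG⟩) :
    ∃ t u v : K, g = wordGL chevG2 hG2 K (reeWordU (3 ^ m) t u v) := by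
  obtain ⟨c, -, hc⟩ := pos_exists chevG2 hG2 K g hgU
  rw [canW_eq] at hc
  have hg : g = wordGL chevG2 hG2 K (canW K c) := by
    apply Units.ext; rw [hc, wordGL_coe]
  have hg' : (⟨g, hgG⟩ : ↥(chevG2.group K)) = wordGr chevG2 hG2 K (canW K c) := by
    apply Subtype.ext; rw [wordGr_coe]; exact hg
  rw [hg'] at hσ
  have h1 := sig_canW K m c
  rw [hσ, wordGr_coe] at h1
  set c' := mkC K ((c 7 ^ 3 ^ m) ^ 3) (c 6 ^ 3 ^ m)
        (-(c 6 ^ 3 ^ m * (c 7 ^ 3 ^ m) ^ 3) + c 10 ^ 3 ^ m)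
        (-((c 6 ^ 3 ^ m) ^ 2 * (c 7 ^ 3 ^ m) ^ 3) + c 11 ^ 3 ^ m)
        ((c 6 ^ 3 ^ m) ^ 3 * (c 7 ^ 3 ^ m) ^ 3 + (c 8 ^ 3 ^ m) ^ 3)
        ((c 6 ^ 3 ^ m) ^ 3 * ((c 7 ^ 3 ^ m) ^ 3) ^ 2 + (c 9 ^ 3 ^ m) ^ 3) with hc'
  have h2 : chevG2.wordMat K (chevG2.posRoots.map fun r => (r, c r)) =
      chevG2.wordMat K (chevG2.posRoots.map fun r => (r, c' r)) := by
    rw [canW_eq, canW_eq, ← wordGL_coe chevG2 hG2, ← wordGL_coe chevG2 hG2, h1]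
  have hu := pos_unique chevG2 hG2 K c c' h2
  have h6 : c 6 = (c 7 ^ 3 ^ m) ^ 3 := by
    have := hu 6 (by decide +kernel); rw [this, hc']; simp [mkC]
  have h7 : c 7 = c 6 ^ 3 ^ m := by
    have := hu 7 (by decide +kernel); rw [this, hc']; simp [mkC]
  have h10 : c 10 = (c 6 ^ 3 ^ m) ^ 3 * (c 7 ^ 3 ^ m) ^ 3 + (c 8 ^ 3 ^ m) ^ 3 := by
    have := hu 10 (by decide +kernel); rw [this, hc']; simp [mkC]
  have h11 : c 11 = (c 6 ^ 3 ^ m) ^ 3 * ((c 7 ^ 3 ^ m) ^ 3) ^ 2 + (c 9 ^ 3 ^ m) ^ 3 := by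
    have := hu 11 (by decide +kernel); rw [this, hc']; simp [mkC]
  refine ⟨c 6, (c 8 ^ 3 ^ m) ^ 3, (c 9 ^ 3 ^ m) ^ 3, ?_⟩
  rw [hg, wordGL_canW, canonU, pow_t3t K m hK, pow_t3t K m hK, ← h7]
  rw [← h6] at h10 h11
  rw [← h7] at h10 h11
  rw [h10, h11]

end

end Cfsg.Agent.Lib.Helper18.Ree
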