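import Cfsg.Agent.Lib.Helper36.ReeMul2
import Cfsg.Agent.Lib.Helper36.ReeCore
import Cfsg.Agent.Lib.Helper36.ReeBN
import Cfsg.Agent.Lib.Helper36.ReeTau

/-! # Generation of `U¹` in `²G₂(q)` (helper18) -/

set_option autoImplicit false

namespace Cfsg.Agent.Lib.Helper18.ReeGen

open Cfsg Cfsg.Lie Cfsg.Agent.Lib.Helper18 Cfsg.Agent.Lib.Helper36

section
variable {K : Type*} [Field K] [Fintype K] {m : ℕ}

/-- quotient of two elements of `U¹` with the same first coordinate -/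
theorem reeUel_quot (hK : Fintype.card K = 3 ^ (2 * m + 1)) (T A B A' B' : K) :
    reeUel m (T, A, B) * (reeUel m (T, A', B'))⁻¹ = reeUel m (0, A - A', B - B' + T * (A - A')) := by
  have hθ : 3 ^ m * 3 ≠ 0 := by positivity
  rw [mul_inv_eq_iff_eq_mul, reeUel_mul hK]
  congr 1
  refine Prod.ext ?_ (Prod.ext ?_ ?_)
  · show T = 0 + T
    ring
  · show A = A - A' + A' - T ^ (3 ^ m * 3) * 0
    ring
  · show B = B - B' + T * (A - A') + B' - T * (A - A') - T ^ (3 ^ m * 3) * 0 ^ 2 + T ^ (3 ^ m * 3) * 0 * T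
    ring

/-- the torus character on the first coordinate is onto -/
theorem exists_torChi_6 (hK : Fintype.card K = 3 ^ (2 * m + 1)) (c : Kˣ) :
    ∃ s : Kˣ, torChi (s ^ 3 ^ m) s 6 = (c : K) := by
  refine ⟨c ^ (3 * 3 ^ m + 2), ?_⟩
  rw [torChi_6]
  congr 1
  rw [inv_mul_eq_iff_eq_mul]
  have hq := ree_units_pow_card hK c
  rw [← pow_mul, ← pow_mul, ← pow_mul, ← pow_succ]
  have e : (3 * 3 ^ m + 2) * (3 ^ m * 3) + 1 = 3 ^ (2 * m + 1) * 3 + (3 * 3 ^ m + 2) * 2 - 3 := by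
    have h1 : 3 ^ (2 * m + 1) = 3 * 3 ^ m * 3 ^ m := by ring
    have h2 : 1 ≤ 3 ^ m := Nat.one_le_pow _ _ (by norm_num)
    rw [h1]
    have : (3 * 3 ^ m + 2) * (3 ^ m * 3) + 1 + 3 = 3 * 3 ^ m * 3 ^ m * 3 + (3 * 3 ^ m + 2) * 2 := by ring
    omega
  have h3 : c ^ (3 ^ (2 * m + 1) * 3 + (3 * 3 ^ m + 2) * 2 - 3) * c ^ 3 = c ^ ((3 * 3 ^ m + 2) * 2) * c ^ 3 := by
    rw [← pow_add, Nat.sub_add_cancel (by
      have h2 : 1 ≤ 3 ^ (2 * m + 1) := Nat.one_le_pow _ _ (by norm_num)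
      omega), pow_add, pow_mul, hq, mul_comm]
  rw [e]
  exact (mul_right_cancel h3).symm

section lemmaA
variable (X : Subgroup (GL chevG2.Idx K))

/-- level 1: every non-zero first coordinate occurs -/
theorem level1 (hK : Fintype.card K = 3 ^ (2 * m + 1)) (hH : ∀ s : Kˣ, reeHm (3 ^ m) s ∈ X)
    (t₀ a₀ b₀ : K) (ht₀ : t₀ ≠ 0) (hx : reeUel m (t₀, a₀, b₀) ∈ X) (t : K) (ht : t ≠ 0) :
    ∃ a b, reeUel m (t, a, b) ∈ X := by
  obtain ⟨s, hs⟩ := exists_torChi_6 hK (Units.mk0 (t / t₀) (div_ne_zero ht ht₀))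
  have h1 := mul_mem (mul_mem (hH s) hx) (inv_mem (hH s))
  rw [ree_conj hK] at h1
  simp only at h1
  rw [hs, Units.val_mk0] at h1
  have e : t / t₀ * t₀ = t := by field_simp
  rw [e] at h1
  exact ⟨_, _, h1⟩

/-- level 1, including zero -/
theorem level1' (hK : Fintype.card K = 3 ^ (2 * m + 1)) (hH : ∀ s : Kˣ, reeHm (3 ^ m) s ∈ X)
    (t₀ a₀ b₀ : K) (ht₀ : t₀ ≠ 0) (hx : reeUel m (t₀, a₀, b₀) ∈ X) (t : K) :
    ∃ a b, reeUel m (t, a, b) ∈ X := by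
  by_cases ht : t = 0
  · refine ⟨0, 0, ?_⟩
    rw [ht, ree_one_eq]
    exact one_mem _
  · exact level1 X hK hH t₀ a₀ b₀ ht₀ hx t ht

/-- the second coordinates of the elements of `X` with first coordinate zero -/
def lev2 (m : ℕ) (X : Subgroup (GL chevG2.Idx K)) : Set K := {u | ∃ b, reeUel m (0, u, b) ∈ X}

theorem lev2_add (hK : Fintype.card K = 3 ^ (2 * m + 1)) (u u' : K) (hu : u ∈ lev2 m X) (hu' : u' ∈ lev2 m X) :
    u + u' ∈ lev2 m X := by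
  obtain ⟨b, hb⟩ := hu
  obtain ⟨b', hb'⟩ := hu'
  have := mul_mem hb hb'
  rw [reeUel_low_mul hK] at this
  exact ⟨_, this⟩

theorem lev2_neg (hK : Fintype.card K = 3 ^ (2 * m + 1)) (u : K) (hu : u ∈ lev2 m X) : -u ∈ lev2 m X := by
  obtain ⟨b, hb⟩ := hu
  have := inv_mem hb
  rw [reeUel_low_inv hK] at this
  exact ⟨_, this⟩

theorem lev2_sub (hK : Fintype.card K = 3 ^ (2 * m + 1)) (u u' : K) (hu : u ∈ lev2 m X) (hu' : u' ∈ lev2 m X) :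
    u - u' ∈ lev2 m X := by
  rw [sub_eq_add_neg]
  exact lev2_add X hK _ _ hu (lev2_neg X hK _ hu')

/-- commutators of level 1 elements -/
theorem lev2_comm (hK : Fintype.card K = 3 ^ (2 * m + 1)) (t a b t' a' b' : K)
    (hx : reeUel m (t, a, b) ∈ X) (hy : reeUel m (t', a', b') ∈ X) :
    t ^ (3 ^ m * 3) * t' - t' ^ (3 ^ m * 3) * t ∈ lev2 m X := by
  have h1 := mul_mem (mul_mem hx hy) (inv_mem (mul_mem hy hx))
  rw [reeUel_mul hK, reeUel_mul hK, add_comm t' t, reeUel_quot hK] at h1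
  have e : a + a' - t' ^ (3 ^ m * 3) * t - (a' + a - t ^ (3 ^ m * 3) * t') =
      t ^ (3 ^ m * 3) * t' - t' ^ (3 ^ m * 3) * t := by ring
  rw [e] at h1
  exact ⟨_, h1⟩

theorem lev2_f (hK : Fintype.card K = 3 ^ (2 * m + 1)) (hH : ∀ s : Kˣ, reeHm (3 ^ m) s ∈ X)
    (t₀ a₀ b₀ : K) (ht₀ : t₀ ≠ 0) (hx : reeUel m (t₀, a₀, b₀) ∈ X) (t t' : K) :
    t ^ (3 ^ m * 3) * t' - t' ^ (3 ^ m * 3) * t ∈ lev2 m X := by
  obtain ⟨a, b, h1⟩ := level1' X hK hH t₀ a₀ b₀ ht₀ hx t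
  obtain ⟨a', b', h2⟩ := level1' X hK hH t₀ a₀ b₀ ht₀ hx t'
  exact lev2_comm X hK _ _ _ _ _ _ h1 h2

/-- level 2 is everything -/
theorem lev2_all (hK : Fintype.card K = 3 ^ (2 * m + 1)) (hm : 1 ≤ m) (hH : ∀ s : Kˣ, reeHm (3 ^ m) s ∈ X)
    (t₀ a₀ b₀ : K) (ht₀ : t₀ ≠ 0) (hx : reeUel m (t₀, a₀, b₀) ∈ X) (u : K) : u ∈ lev2 m X := by
  have hc := ree_charP hK
  have three : (3 : K) = 0 := by
    have := CharP.cast_eq_zero K 3
    exact_mod_cast this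
  have hθ3 : 3 ≤ 3 ^ m := by
    calc 3 = 3 ^ 1 := by norm_num
      _ ≤ 3 ^ m := Nat.pow_le_pow_right (by norm_num) hm
  have hq : 3 ^ (2 * m + 1) = 3 * 3 ^ m * 3 ^ m := by ring
  -- an element not fixed by `φ`
  obtain ⟨s, hs⟩ := exists_unit_pow_ne_one hK (3 * 3 ^ m - 1) (by omega) (by
    rw [hq]
    have : 3 * 3 ^ m * 3 ≤ 3 * 3 ^ m * 3 ^ m := Nat.mul_le_mul_left _ hθ3
    omega)
  set τ : K := (s : K) with hτ
  have hτ0 : τ ≠ 0 := s.ne_zero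
  set f₀ : K := τ ^ (3 ^ m * 3) - τ with hf₀
  have hf₀0 : f₀ ≠ 0 := by
    intro h
    apply hs
    have h3 : s ^ (3 * 3 ^ m) = s := by
      apply Units.ext
      rw [Units.val_pow_eq_pow_val, mul_comm 3]
      exact sub_eq_zero.1 h
    have h4 : s ^ (3 * 3 ^ m - 1) * s = s := by
      rw [← pow_succ]
      have : 3 * 3 ^ m - 1 + 1 = 3 * 3 ^ m := by omega
      rw [this, h3]
    exact mul_eq_right.1 h4
  -- squares times `f₀`
  have hsq : ∀ c : K, c ^ 2 * f₀ ∈ lev2 m X := by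
    intro c
    by_cases hc0 : c = 0
    · rw [hc0]
      refine ⟨0, ?_⟩
      have : (0 : K) ^ 2 * f₀ = 0 := by ring
      rw [this, ree_one_eq]
      exact one_mem _
    · have h1 := lev2_f X hK hH t₀ a₀ b₀ ht₀ hx (c ^ (3 * 3 ^ m - 1) * τ) (c ^ (3 * 3 ^ m - 1))
      have hcq : c ^ 3 ^ (2 * m + 1) = c := ree_pow_card hK c
      have e1 : (c ^ (3 * 3 ^ m - 1)) ^ (3 ^ m * 3) * c ^ (3 * 3 ^ m - 1) = c ^ 2 := by
        rw [← pow_mul, ← pow_add]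
        have e2 : (3 * 3 ^ m - 1) * (3 ^ m * 3) + (3 * 3 ^ m - 1) + 1 = 3 ^ (2 * m + 1) * 3 := by
          obtain ⟨k, hk⟩ : ∃ k, 3 * 3 ^ m = k + 1 := ⟨3 * 3 ^ m - 1, by omega⟩
          have h5 : 3 ^ (2 * m + 1) * 3 = (3 * 3 ^ m) * (3 * 3 ^ m) := by rw [hq]; ring
          have h6 : 3 ^ m * 3 = k + 1 := by rw [← hk]; ring
          rw [h5, hk, h6, Nat.add_sub_cancel]
          ring
        have h7 : c ^ ((3 * 3 ^ m - 1) * (3 ^ m * 3) + (3 * 3 ^ m - 1)) * c = c ^ 2 * c := by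
          rw [← pow_succ, e2, pow_mul, hcq]
          ring
        exact mul_right_cancel₀ hc0 h7
      have e3 : (c ^ (3 * 3 ^ m - 1) * τ) ^ (3 ^ m * 3) * c ^ (3 * 3 ^ m - 1) -
          (c ^ (3 * 3 ^ m - 1)) ^ (3 ^ m * 3) * (c ^ (3 * 3 ^ m - 1) * τ) = c ^ 2 * f₀ := by
        rw [mul_pow, hf₀, ← e1]
        ring
      rw [e3] at h1
      exact h1
  have hx' : ∀ x : K, x * f₀ ∈ lev2 m X := by
    intro x
    have h1 := lev2_sub X hK _ _ (hsq (x + 1)) (hsq (x - 1))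
    have e : (x + 1) ^ 2 * f₀ - (x - 1) ^ 2 * f₀ = x * f₀ := by linear_combination (x * f₀) * three
    rw [e] at h1
    exact h1
  have := hx' (u / f₀)
  rwa [div_mul_cancel₀ u hf₀0] at this

/-- level 3 is everything -/
theorem lev3_all (hK : Fintype.card K = 3 ^ (2 * m + 1)) (hm : 1 ≤ m) (hH : ∀ s : Kˣ, reeHm (3 ^ m) s ∈ X)
    (t₀ a₀ b₀ : K) (ht₀ : t₀ ≠ 0) (hx : reeUel m (t₀, a₀, b₀) ∈ X) (v : K) : reeUel m (0, 0, v) ∈ X := by
  have hθ : 3 ^ m * 3 ≠ 0 := by positivity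
  have z : (0 : K) ^ (3 ^ m * 3) = 0 := zero_pow hθ
  obtain ⟨a, b, h1⟩ := level1 X hK hH t₀ a₀ b₀ ht₀ hx 1 one_ne_zero
  obtain ⟨b', h2⟩ := lev2_all X hK hm hH t₀ a₀ b₀ ht₀ hx v
  have h3 := mul_mem (mul_mem h1 h2) (inv_mem (mul_mem h2 h1))
  have e1 : reeUel m (1, a, b) * reeUel m (0, v, b') = reeUel m (1, a + v, b + b') := by
    rw [reeUel_mul hK]
    congr 1
    refine Prod.ext ?_ (Prod.ext ?_ ?_)
    · show (1 : K) + 0 = 1
      ring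
    · show a + v - 0 ^ (3 ^ m * 3) * 1 = a + v
      rw [z]; ring
    · show b + b' - 0 * a - 0 ^ (3 ^ m * 3) * 1 ^ 2 + 0 ^ (3 ^ m * 3) * 1 * 0 = b + b'
      rw [z]; ring
  have e2 : reeUel m (0, v, b') * reeUel m (1, a, b) = reeUel m (1, a + v, b + b' - v) := by
    rw [reeUel_mul hK]
    congr 1
    refine Prod.ext ?_ (Prod.ext ?_ ?_)
    · show (0 : K) + 1 = 1
      ring
    · show v + a - 1 ^ (3 ^ m * 3) * 0 = a + v
      ring
    · show b' + b - 1 * v - 1 ^ (3 ^ m * 3) * 0 ^ 2 + 1 ^ (3 ^ m * 3) * 0 * 1 = b + b' - v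
      ring
  rw [e1, e2, reeUel_quot hK] at h3
  have e3 : a + v - (a + v) = 0 := by ring
  have e4 : b + b' - (b + b' - v) + 1 * (0 : K) = v := by ring
  rw [e3, e4] at h3
  exact h3

/-- **Lemma A**: a subgroup containing `H¹` and an element of `U¹` with non-zero first coordinate
contains `U¹` -/
theorem pos_le_of_level1 (hK : Fintype.card K = 3 ^ (2 * m + 1)) (hm : 1 ≤ m)
    (hH : ∀ s : Kˣ, reeHm (3 ^ m) s ∈ X)
    (t₀ a₀ b₀ : K) (ht₀ : t₀ ≠ 0) (hx : reeUel m (t₀, a₀, b₀) ∈ X) (p : K × K × K) : reeUel m p ∈ X := by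
  obtain ⟨t, u, v⟩ := p
  -- the case `t = 0`
  have h0 : ∀ u v : K, reeUel m (0, u, v) ∈ X := by
    intro u v
    obtain ⟨b, hb⟩ := lev2_all X hK hm hH t₀ a₀ b₀ ht₀ hx u
    have h3 := lev3_all X hK hm hH t₀ a₀ b₀ ht₀ hx (v - b)
    have := mul_mem hb h3
    rw [reeUel_low_mul hK] at this
    have e1 : u + 0 = u := by ring
    have e2 : b + (v - b) = v := by ring
    rwa [e1, e2] at this
  obtain ⟨a, b, h1⟩ := level1' X hK hH t₀ a₀ b₀ ht₀ hx t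
  have h2 := h0 (u - a) (v - b + t * (u - a))
  rw [← reeUel_quot hK] at h2
  have := mul_mem h2 h1
  rwa [inv_mul_cancel_right] at this

end lemmaA

end

end Cfsg.Agent.Lib.Helper18.ReeGen
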