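import Cfsg.Agent.Lib.Helper18.ReeGen

/-! # `²G₂(q)` is generated by two elements (helper18) -/

set_option autoImplicit false

namespace Cfsg.Agent.Lib.Helper18.ReeGen

open Cfsg Cfsg.Lie Cfsg.Agent.Lib.Helper18 Cfsg.Agent.Lib.Helper36

section
variable {K : Type*} [Field K] [Fintype K] {m : ℕ}

/-- every element of `U¹` is some `u(t,u,v)` -/
theorem exists_reeUel (hK : Fintype.card K = 3 ^ (2 * m + 1)) (g : GL chevG2.Idx K)
    (h1 : g ∈ chevG2.posUnipotent K) (h2 : g ∈ twistedG2 K (3 ^ m)) : ∃ p : K × K × K, g = reeUel m p := by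
  obtain ⟨t, u, v, e⟩ := (ree_pos_inf hK g).1 (Subgroup.mem_inf.2 ⟨h1, h2⟩)
  exact ⟨(t, u, v), e⟩

/-- every element of `H¹` is some `h(s)` -/
theorem exists_reeHm (hK : Fintype.card K = 3 ^ (2 * m + 1)) (g : GL chevG2.Idx K)
    (h1 : g ∈ chevG2.diagonalSubgroup K) (h2 : g ∈ twistedG2 K (3 ^ m)) : ∃ s : Kˣ, g = reeHm (3 ^ m) s :=
  (ree_diag_inf hK g).1 (Subgroup.mem_inf.2 ⟨h1, h2⟩)

/-- the two generators generate everything (in `GL`) -/
theorem two_gen_GL (hK : Fintype.card K = 3 ^ (2 * m + 1)) (hm : 1 ≤ m) (ζ : Kˣ)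
    (hζ : ∀ s : Kˣ, s ∈ Subgroup.zpowers ζ) :
    twistedG2 K (3 ^ m) ≤ Subgroup.closure
      {reeHm (3 ^ m) ζ, reeUel m ((1, 0, 0) : K × K × K) * reeNN (3 ^ m) (1 : K)} := by
  have hc := ree_charP hK
  have three : (3 : K) = 0 := by
    have := CharP.cast_eq_zero K 3
    exact_mod_cast this
  set n := reeNN (3 ^ m) (1 : K) with hn
  set u₀ := reeUel m ((1, 0, 0) : K × K × K) with hu₀
  set X := Subgroup.closure {reeHm (3 ^ m) ζ, u₀ * n} with hX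
  have hnT : n ∈ twistedG2 K (3 ^ m) := reeNN_mem _ _
  have hnM : n ∈ chevG2.monomialSubgroup K := reeNN_mem_mono' hK
  have hu₀T : u₀ ∈ twistedG2 K (3 ^ m) := reeUel_mem _
  have hu₀P : u₀ ∈ chevG2.posUnipotent K := reeUel_mem_pos _
  have ha : reeHm (3 ^ m) ζ ∈ X := Subgroup.subset_closure (by simp)
  have hb : u₀ * n ∈ X := Subgroup.subset_closure (by simp)
  -- `H¹ ≤ X`
  have hH : ∀ s : Kˣ, reeHm (3 ^ m) s ∈ X := by
    intro s
    obtain ⟨k, rfl⟩ := Subgroup.mem_zpowers_iff.1 (hζ s)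
    rw [map_zpow]
    exact zpow_mem ha k
  -- conjugates of `H¹` by `n`
  have hHn : ∀ s : Kˣ, n⁻¹ * reeHm (3 ^ m) s * n ∈ X := by
    intro s
    obtain ⟨s', e⟩ := exists_reeHm hK _
      (conj_mem_diag_of_mem_monomial' chevG2 hG2 K n _ hnM (reeHm_mem_diag _ s))
      (mul_mem (mul_mem (inv_mem hnT) (reeHm_mem hK s)) hnT)
    rw [e]
    exact hH s'
  -- the element `w`
  set a' := reeHm (3 ^ m) (-1 : Kˣ) with ha'
  set w := u₀⁻¹ * (a' * u₀ * a'⁻¹) with hw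
  have hconj : a' * u₀ * a'⁻¹ = reeUel m ((-1, 0, 0) : K × K × K) := by
    rw [ha', hu₀, ree_conj hK]
    simp only [mul_zero, mul_one]
    rw [torChi_6]
    congr 2
    have o1 : (-1 : Kˣ) ^ 3 ^ m = -1 := Odd.neg_one_pow (ree_odd m)
    rw [o1]
    have : ((-1 : Kˣ) ^ 3)⁻¹ * (-1 : Kˣ) ^ 2 = -1 := by
      rw [show (-1 : Kˣ) ^ 3 = -1 from Odd.neg_one_pow (by decide), show (-1 : Kˣ) ^ 2 = 1 from neg_one_sq, mul_one,
        inv_neg, inv_one]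
    rw [this, Units.val_neg, Units.val_one]
  have hwP : w ∈ chevG2.posUnipotent K := by
    rw [hw, hconj]
    exact mul_mem (inv_mem hu₀P) (reeUel_mem_pos _)
  have hwT : w ∈ twistedG2 K (3 ^ m) := by
    rw [hw, hconj]
    exact mul_mem (inv_mem hu₀T) (reeUel_mem _)
  obtain ⟨⟨t₀, a₀, b₀⟩, hwp⟩ := exists_reeUel hK w hwP hwT
  have ht₀ : t₀ ≠ 0 := by
    have h1 : tauU w = t₀ := by rw [hwp, tauU_reeUel]
    have h2 : tauU w = -1 + -1 := by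
      rw [hw, hconj, tauU_mul _ _ (inv_mem hu₀P) (reeUel_mem_pos _), tauU_inv _ hu₀P, hu₀, tauU_reeUel, tauU_reeUel]
    intro h
    rw [h] at h1
    rw [h1] at h2
    have : (1 : K) = 0 := by linear_combination three - h2
    exact one_ne_zero this
  -- `n⁻¹ w n ∈ X`
  have hwn : n⁻¹ * w * n ∈ X := by
    have h1 : (u₀ * n)⁻¹ * (a' * (u₀ * n) * a'⁻¹) ∈ X :=
      mul_mem (inv_mem hb) (mul_mem (mul_mem (hH _) hb) (inv_mem (hH _)))
    have h2 : n⁻¹ * a' * n * a'⁻¹ ∈ X := mul_mem (hHn _) (inv_mem (hH _))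
    have e : n⁻¹ * w * n = (u₀ * n)⁻¹ * (a' * (u₀ * n) * a'⁻¹) * (n⁻¹ * a' * n * a'⁻¹)⁻¹ := by
      rw [hw]; group
    rw [e]
    exact mul_mem h1 (inv_mem h2)
  -- apply Lemma A to the conjugate subgroup
  set X' := X.comap (MulAut.conj n⁻¹).toMonoidHom with hX'
  have hmemX' : ∀ g : GL chevG2.Idx K, g ∈ X' ↔ n⁻¹ * g * n ∈ X := by
    intro g
    rw [hX', Subgroup.mem_comap, MulEquiv.coe_toMonoidHom, MulAut.conj_apply, inv_inv]
  have hH' : ∀ s : Kˣ, reeHm (3 ^ m) s ∈ X' := fun s => (hmemX' _).2 (hHn s)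
  have hw' : reeUel m (t₀, a₀, b₀) ∈ X' := by
    rw [← hwp]
    exact (hmemX' _).2 hwn
  have hA := pos_le_of_level1 X' hK hm hH' t₀ a₀ b₀ ht₀ hw'
  -- `U¹ ≤ X`
  have hU1 : ∀ p : K × K × K, u₀ * reeUel m p * u₀⁻¹ ∈ X := by
    intro p
    have h1 := (hmemX' _).1 (hA p)
    have e : u₀ * reeUel m p * u₀⁻¹ = (u₀ * n) * (n⁻¹ * reeUel m p * n) * (u₀ * n)⁻¹ := by group
    rw [e]
    exact mul_mem (mul_mem hb h1) (inv_mem hb)
  have hU : ∀ p : K × K × K, reeUel m p ∈ X := by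
    intro p
    obtain ⟨p', e⟩ := exists_reeUel hK (u₀⁻¹ * reeUel m p * u₀)
      (mul_mem (mul_mem (inv_mem hu₀P) (reeUel_mem_pos _)) hu₀P)
      (mul_mem (mul_mem (inv_mem hu₀T) (reeUel_mem _)) hu₀T)
    have h1 := hU1 p'
    rw [← e] at h1
    have e2 : u₀ * (u₀⁻¹ * reeUel m p * u₀) * u₀⁻¹ = reeUel m p := by group
    rwa [e2] at h1
  have hnX : n ∈ X := by
    have e : n = u₀⁻¹ * (u₀ * n) := by group
    rw [e]
    exact mul_mem (inv_mem (hU _)) hb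
  -- the generators
  unfold twistedG2 ChevalleyDatum.genSubgroup
  rw [Subgroup.closure_le]
  rintro g ⟨wd, ⟨t, u, v, rfl | rfl⟩, hg⟩
  · have : g = wordGL chevG2 hG2 K (reeWordU (3 ^ m) t u v) := Units.ext (by rw [hg, wordGL_coe])
    rw [this]
    exact hU (t, u, v)
  · have : g = wordGL chevG2 hG2 K (reeWordV (3 ^ m) t u v) := Units.ext (by rw [hg, wordGL_coe])
    rw [this]
    set v' := wordGL chevG2 hG2 K (reeWordV (3 ^ m) t u v) with hv'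
    obtain ⟨p', e⟩ := exists_reeUel hK (n⁻¹ * v' * n) (ree_nn_conj_neg hK v' (reeV_mem_neg _ t u v))
      (mul_mem (mul_mem (inv_mem hnT) (reeV_mem _ t u v)) hnT)
    have e2 : v' = n * (n⁻¹ * v' * n) * n⁻¹ := by group
    rw [SetLike.mem_coe, e2, e]
    exact mul_mem (mul_mem hnX (hU p')) (inv_mem hnX)

/-- `²G₂(q)`, `q > 3`, is generated by two elements -/
theorem two_gen (hK : Fintype.card K = 3 ^ (2 * m + 1)) (hm : 1 ≤ m) :
    ∃ a b : ↥(twistedG2 K (3 ^ m)), Subgroup.closure ({a, b} : Set ↥(twistedG2 K (3 ^ m))) = ⊤ := by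
  classical
  obtain ⟨ζ, hζ⟩ := IsCyclic.exists_generator (α := Kˣ)
  refine ⟨⟨reeHm (3 ^ m) ζ, reeHm_mem hK ζ⟩,
    ⟨reeUel m ((1, 0, 0) : K × K × K) * reeNN (3 ^ m) (1 : K), mul_mem (reeUel_mem _) (reeNN_mem _ _)⟩, ?_⟩
  rw [eq_top_iff]
  intro g _
  have hg := two_gen_GL hK hm ζ hζ g.2
  have hmap : (Subgroup.closure ({⟨reeHm (3 ^ m) ζ, reeHm_mem hK ζ⟩,
      ⟨reeUel m ((1, 0, 0) : K × K × K) * reeNN (3 ^ m) (1 : K), mul_mem (reeUel_mem _) (reeNN_mem _ _)⟩} :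
        Set ↥(twistedG2 K (3 ^ m)))).map (twistedG2 K (3 ^ m)).subtype =
      Subgroup.closure {reeHm (3 ^ m) ζ, reeUel m ((1, 0, 0) : K × K × K) * reeNN (3 ^ m) (1 : K)} := by
    rw [MonoidHom.map_closure]
    congr 1
    simp [Set.image_pair]
  rw [← hmap] at hg
  obtain ⟨g', hg', e⟩ := hg
  have : g' = g := Subtype.ext e
  rwa [this] at hg'

end

end Cfsg.Agent.Lib.Helper18.ReeGen
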