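import Cfsg.Agent.Lib.Helper18.TorusKer
import Cfsg.Agent.Lib.Helper36.ReeStruct
import Cfsg.Agent.Lib.Helper36.ChevTwTorus
import Cfsg.Agent.Lib.Helper36.ChevSolv

/-! # The Weyl element of `²G₂(q)` inverts the torus (helper18) -/

set_option autoImplicit false
set_option linter.unusedSectionVars false

namespace Cfsg.Agent.Lib.Helper18.ReeNInv

open Cfsg Cfsg.Lie Cfsg.Agent.Lib.Helper18 Cfsg.Agent.Lib.Helper36 Matrix

theorem cmat_w0 : Cmat chevG2 (w0word chevG2) = -1 := by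
  ext j k
  fin_cases j <;> fin_cases k <;> decide

section
variable {K : Type*} [Field K] [Fintype K] {m : ℕ}

theorem monoMap_neg_one (t : Fin chevG2.rank → Kˣ) :
    monoMap (-1 : Matrix (Fin chevG2.rank) (Fin chevG2.rank) ℤ) t = t⁻¹ := by
  funext k
  rw [monoMap_apply, Pi.inv_apply]
  rw [Finset.prod_eq_single k]
  · simp
  · intro j _ hjk
    simp [Matrix.one_apply_ne hjk]
  · intro h
    exact absurd (Finset.mem_univ k) h

/-- `n` inverts the torus -/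
theorem reeNN_conj_reeHm (hK : Fintype.card K = 3 ^ (2 * m + 1)) (s : Kˣ) :
    reeNN (3 ^ m) (1 : K) * reeHm (3 ^ m) s * (reeNN (3 ^ m) (1 : K))⁻¹ = reeHm (3 ^ m) s⁻¹ := by
  obtain ⟨σ, hσ⟩ := exists_reeSig hK
  obtain ⟨h₀, hh₀, hn⟩ := reeNN_eq_n0 hK hσ
  have hd : reeHm (3 ^ m) s ∈ chevG2.diagonalSubgroup K := reeHm_mem_diag _ s
  have hc : h₀ * reeHm (3 ^ m) s = reeHm (3 ^ m) s * h₀ := diagonal_comm chevG2 hG2 K _ _ hh₀ hd
  have e : reeNN (3 ^ m) (1 : K) * reeHm (3 ^ m) s * (reeNN (3 ^ m) (1 : K))⁻¹ =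
      reeN0 K * reeHm (3 ^ m) s * (reeN0 K)⁻¹ := by
    rw [hn]
    calc reeN0 K * h₀ * reeHm (3 ^ m) s * (reeN0 K * h₀)⁻¹
        = reeN0 K * (h₀ * reeHm (3 ^ m) s) * h₀⁻¹ * (reeN0 K)⁻¹ := by group
      _ = reeN0 K * (reeHm (3 ^ m) s * h₀) * h₀⁻¹ * (reeN0 K)⁻¹ := by rw [hc]
      _ = _ := by group
  rw [e, map_inv, reeHm_apply]
  unfold reeN0
  rw [conj_torusHom chevG2 hG2 K _ w0word_lt, cmat_w0, monoMap_neg_one, map_inv]

/-- `n⁻¹ h(s) n = h(s⁻¹)` -/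
theorem reeNN_inv_conj_reeHm (hK : Fintype.card K = 3 ^ (2 * m + 1)) (s : Kˣ) :
    (reeNN (3 ^ m) (1 : K))⁻¹ * reeHm (3 ^ m) s * reeNN (3 ^ m) (1 : K) = reeHm (3 ^ m) s⁻¹ := by
  have h := reeNN_conj_reeHm hK s⁻¹
  rw [inv_inv] at h
  rw [← h]
  group

end

end Cfsg.Agent.Lib.Helper18.ReeNInv
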