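import Cfsg.Agent.Lib.Helper18.StN
import Cfsg.Prelude.Def_SteinbergCover
import Cfsg.Agent.Lib.Helper36.ChevHU

/-! # Presented groups as abstract Steinberg systems (helper18) -/

set_option autoImplicit false

namespace Cfsg.Agent.Lib.Helper18

open Cfsg Cfsg.Lie Cfsg.Agent.Lib.Helper36

section
variable (D : ChevalleyDatum) (hD : D ∈ [chevG2, chevB2, chevD4, chevF4, chevE6, chevE7, chevE8])
variable (K : Type*) [Field K]

/-- root element in the Chevalley group -/
def xGr (r : ℕ) (t : K) : ↥(D.group K) := ⟨xGL D hD K r t, xGL_mem_group D hD K r t⟩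

theorem xGL_of_ge (r : ℕ) (hr : ¬ r < D.nroots) (t : K) : xGL D hD K r t = 1 := by
  apply Units.ext
  rw [xGL_coe]
  unfold ChevalleyDatum.x
  rw [dif_neg hr]; rfl

/-- the images of the free generators -/
def genMap (p : Fin D.nroots × K) : ↥(D.group K) := xGr D hD K p.1 p.2

theorem lift_stX (r : ℕ) (t : K) : FreeGroup.lift (genMap D hD K) (D.stX r t) = xGr D hD K r t := by
  unfold ChevalleyDatum.stX
  split_ifs with h
  · rw [FreeGroup.lift_apply_of]; rfl
  · rw [map_one]
    apply Subtype.ext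
    exact (xGL_of_ge D hD K r h t).symm

/-- the word in the Chevalley group -/
def wordGr (w : List (ℕ × K)) : ↥(D.group K) := (w.map fun p => xGr D hD K p.1 p.2).prod

theorem lift_stWord (w : List (ℕ × K)) : FreeGroup.lift (genMap D hD K) (D.stWord w) = wordGr D hD K w := by
  unfold ChevalleyDatum.stWord wordGr
  induction w with
  | nil => simp
  | cons p w ih => rw [List.map_cons, List.prod_cons, map_mul, ih, lift_stX, List.map_cons, List.prod_cons]

theorem wordGr_coe (w : List (ℕ × K)) : ((wordGr D hD K w : ↥(D.group K)) : GL D.Idx K) = wordGL D hD K w := by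
  unfold wordGr wordGL
  induction w with
  | nil => simp
  | cons p w ih => rw [List.map_cons, List.prod_cons, Subgroup.coe_mul, ih, List.map_cons, List.prod_cons]; rfl

include hD in
theorem lift_R1 (r : ℕ) (t₁ t₂ : K) :
    FreeGroup.lift (genMap D hD K) (D.stX r t₁ * D.stX r t₂ * (D.stX r (t₁ + t₂))⁻¹) = 1 := by
  rw [map_mul, map_mul, map_inv, lift_stX, lift_stX, lift_stX, mul_inv_eq_one]
  apply Subtype.ext
  exact xGL_mul D hD K r t₁ t₂

include hD in
theorem lift_R2 (r s : ℕ) (hr : r < D.nroots) (hs : s < D.nroots) (hsr : s ≠ r) (hsn : s ≠ D.neg r) (t u : K) :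
    FreeGroup.lift (genMap D hD K) ((D.stX s u)⁻¹ * (D.stX r t)⁻¹ * D.stX s u * D.stX r t *
      (D.stWord (D.commWord K r s t u))⁻¹) = 1 := by
  simp only [map_mul, map_inv, lift_stX, lift_stWord]
  rw [mul_inv_eq_one]
  apply Subtype.ext
  simp only [Subgroup.coe_mul, Subgroup.coe_inv, wordGr_coe]
  show (xGL D hD K s u)⁻¹ * (xGL D hD K r t)⁻¹ * xGL D hD K s u * xGL D hD K r t = _
  have h := comm_formula_all D hD r s hr hs hsr hsn t u
  have h' : xGL D hD K s u * xGL D hD K r t = xGL D hD K r t * xGL D hD K s u * wordGL D hD K (D.commWord K r s t u) := by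
    apply Units.ext
    simp only [Units.val_mul, xGL_coe, wordGL_coe]
    exact h
  rw [mul_assoc ((xGL D hD K s u)⁻¹ * (xGL D hD K r t)⁻¹), h']
  group

include hD in
theorem lift_R3 (r : ℕ) (hr : r < D.nroots) (t₁ t₂ : K) (h1 : t₁ ≠ 0) (h2 : t₂ ≠ 0) :
    FreeGroup.lift (genMap D hD K) (D.stH r t₁ * D.stH r t₂ * (D.stH r (t₁ * t₂))⁻¹) = 1 := by
  unfold ChevalleyDatum.stH
  simp only [map_mul, map_inv, lift_stWord]
  rw [mul_inv_eq_one]
  apply Subtype.ext
  simp only [Subgroup.coe_mul, wordGr_coe]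
  show hGL D hD K r t₁ * hGL D hD K r t₂ = hGL D hD K r (t₁ * t₂)
  apply Units.ext
  rw [Units.val_mul, hGL_coe, hGL_coe, hGL_coe, (hMat_all D hD r hr t₁ h1).1, (hMat_all D hD r hr t₂ h2).1,
    (hMat_all D hD r hr _ (mul_ne_zero h1 h2)).1, hDiag_mul]

/-- a presented group whose relators contain (R1), (R2), with a homomorphism onto the Chevalley group -/
def presSys (rels : Set (FreeGroup (Fin D.nroots × K)))
    (h1 : ∀ (r : ℕ) (t₁ t₂ : K), r < D.nroots → D.stX r t₁ * D.stX r t₂ * (D.stX r (t₁ + t₂))⁻¹ ∈ rels)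
    (h2 : ∀ (r s : ℕ) (t u : K), r < D.nroots → s < D.nroots → s ≠ r → s ≠ D.neg r →
      (D.stX s u)⁻¹ * (D.stX r t)⁻¹ * D.stX s u * D.stX r t * (D.stWord (D.commWord K r s t u))⁻¹ ∈ rels)
    (θ : PresentedGroup rels →* ↥(D.group K))
    (hθ : ∀ (r : ℕ) (t : K), r < D.nroots →
      ((θ (PresentedGroup.mk rels (D.stX r t)) : GL D.Idx K) : Matrix D.Idx D.Idx K) = D.x K r t) :
    StSys D hD K (PresentedGroup rels) where
  X r t := PresentedGroup.mk rels (D.stX r t)
  X_add r t u := by
    by_cases hr : r < D.nroots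
    · have := PresentedGroup.one_of_mem (h1 r t u hr)
      rw [map_mul, map_mul, map_inv, mul_inv_eq_one] at this
      exact this
    · have e : ∀ v : K, D.stX r v = 1 := by
        intro v
        unfold ChevalleyDatum.stX
        rw [dif_neg hr]
      rw [e, e, e, map_one, mul_one]
  X_comm r s hr hs hsr hsn t u := by
    have := PresentedGroup.one_of_mem (h2 r s t u hr hs hsr hsn)
    rw [map_mul, map_inv, mul_inv_eq_one] at this
    simp only [map_mul, map_inv] at this
    rw [this]
    unfold ChevalleyDatum.stWord wordOf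
    rw [map_list_prod, List.map_map]
    rfl
  π := (D.group K).subtype.comp θ
  π_X r t := by
    by_cases hr : r < D.nroots
    · apply Units.ext
      rw [xGL_coe]
      exact hθ r t hr
    · have e : D.stX r t = 1 := by
        unfold ChevalleyDatum.stX
        rw [dif_neg hr]
      rw [e, map_one, map_one, xGL_of_ge D hD K r hr]
  gen := by
    rw [eq_top_iff, ← PresentedGroup.closure_range_of rels]
    apply Subgroup.closure_mono
    rintro _ ⟨⟨r, t⟩, rfl⟩
    refine ⟨r.val, t, r.isLt, ?_⟩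
    unfold ChevalleyDatum.stX
    rw [dif_pos r.isLt]
    rfl

end

end Cfsg.Agent.Lib.Helper18
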