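import Cfsg.Agent.Lib.Helper18.StH
import Cfsg.Agent.Lib.Helper18.StPres

/-! # The subgroup `H̄` of a presented group (helper18) -/

set_option autoImplicit false

namespace Cfsg.Agent.Lib.Helper18

open Cfsg Cfsg.Lie Cfsg.Agent.Lib.Helper36

section
variable (D : ChevalleyDatum) (hD : D ∈ [chevG2, chevB2, chevD4, chevF4, chevE6, chevE7, chevE8])
variable (K : Type*) [Field K]

theorem mk_stWord (rels : Set (FreeGroup (Fin D.nroots × K))) (w : List (ℕ × K)) :
    PresentedGroup.mk rels (D.stWord w) = wordOf (fun r t => PresentedGroup.mk rels (D.stX r t)) w := by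
  unfold ChevalleyDatum.stWord wordOf
  rw [map_list_prod, List.map_map]
  rfl

theorem mk_stH (rels : Set (FreeGroup (Fin D.nroots × K)))
    (h1 : ∀ (r : ℕ) (t₁ t₂ : K), r < D.nroots → D.stX r t₁ * D.stX r t₂ * (D.stX r (t₁ + t₂))⁻¹ ∈ rels)
    (h2 : ∀ (r s : ℕ) (t u : K), r < D.nroots → s < D.nroots → s ≠ r → s ≠ D.neg r →
      (D.stX s u)⁻¹ * (D.stX r t)⁻¹ * D.stX s u * D.stX r t * (D.stWord (D.commWord K r s t u))⁻¹ ∈ rels)
    (θ : PresentedGroup rels →* ↥(D.group K))
    (hθ : ∀ (r : ℕ) (t : K), r < D.nroots →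
      ((θ (PresentedGroup.mk rels (D.stX r t)) : GL D.Idx K) : Matrix D.Idx D.Idx K) = D.x K r t)
    (i : ℕ) (t : K) :
    PresentedGroup.mk rels (D.stH (D.simple i) t) = hS (presSys D hD K rels h1 h2 θ hθ) i t := by
  unfold ChevalleyDatum.stH
  rw [mk_stWord]
  unfold ChevalleyDatum.hWord
  rw [wordOf_append]
  unfold hS StSys.nb ChevalleyDatum.nWord
  simp only [wordOf, List.map_cons, List.map_nil, List.prod_cons, List.prod_nil, mul_one, mul_assoc]
  rfl

end

end Cfsg.Agent.Lib.Helper18
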