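import Cfsg.Agent.Lib.Helper18.StCenter
import Cfsg.Agent.Lib.Helper18.StPresH

/-! # Special graph automorphisms (types B₂, F₄ in characteristic 2, G₂ in characteristic 3) via
Steinberg's presentation (helper18) -/

set_option autoImplicit false

namespace Cfsg.Agent.Lib.Helper18

open Cfsg Cfsg.Lie Cfsg.Agent.Lib.Helper36

section check
variable (D : ChevalleyDatum)

/-- normalised letter of the commutator word of the image pair -/
def twN1 (p lr ls : ℕ) (c : ℕ × ℤ × ℕ × ℕ) : ℕ × ℤ × ℕ × ℕ :=
  (c.1, (c.2.1 * (-1) ^ c.2.2.1) % (p : ℤ), lr * c.2.2.1, ls * c.2.2.2)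

/-- normalised letter of the image of the commutator word -/
def twN2 (p : ℕ) (rho lam : List ℕ) (c : ℕ × ℤ × ℕ × ℕ) : ℕ × ℤ × ℕ × ℕ :=
  (rho.getD c.1 0, (c.2.1 * (-1) ^ (c.2.2.1 * lam.getD c.1 0)) % (p : ℤ), c.2.2.1 * lam.getD c.1 0,
    c.2.2.2 * lam.getD c.1 0)

/-- the root elements for `k`, `l` commute in characteristic `p` -/
def twGood (p k l : ℕ) : Bool :=
  decide (k = l) || (decide (l ≠ k) && decide (l ≠ D.neg k) &&
    (D.commTerms k l).all fun c => decide (c.2.1 % (p : ℤ) = 0))

def chkTwPair (p : ℕ) (rho lam : List ℕ) (r s : ℕ) : Bool :=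
  let L1 := (D.commTerms (rho.getD r 0) (rho.getD s 0)).filter fun c => decide (c.2.1 % (p : ℤ) ≠ 0)
  let L2 := (D.commTerms r s).filter fun c => decide (c.2.1 % (p : ℤ) ≠ 0)
  decide ((L1.map (twN1 p (lam.getD r 0) (lam.getD s 0))).Perm (L2.map (twN2 p rho lam))) &&
  (L1.all fun c => L1.all fun c' => twGood D p c.1 c'.1) &&
  ((D.commTerms r s).all fun c => decide (c.1 < D.nroots))

def chkTw (p : ℕ) (rho lam : List ℕ) : Bool :=
  (List.range D.nroots).all fun r =>
    decide (rho.getD r 0 < D.nroots) && (decide (lam.getD r 0 = 1) || decide (lam.getD r 0 = p)) &&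
    ((List.range D.nroots).any fun r' => decide (rho.getD r' 0 = r)) &&
    (List.range D.nroots).all fun s =>
      decide (s = r) || decide (s = D.neg r) ||
        (decide (rho.getD s 0 ≠ rho.getD r 0) && decide (rho.getD s 0 ≠ D.neg (rho.getD r 0)) &&
          chkTwPair D p rho lam r s)

end check

section core
variable (D : ChevalleyDatum) (hD : D ∈ [chevG2, chevB2, chevD4, chevF4, chevE6, chevE7, chevE8])
variable (K : Type*) [Field K] (p : ℕ) [hp : Fact p.Prime] [CharP K p]

theorem prod_map_filter_of_one {α M : Type*} [Monoid M] (l : List α) (f : α → M) (P : α → Bool)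
    (h : ∀ x ∈ l, P x = false → f x = 1) : (l.map f).prod = ((l.filter P).map f).prod := by
  induction l with
  | nil => simp
  | cons a l ih =>
    have ih' := ih (fun x hx => h x (List.mem_cons_of_mem _ hx))
    by_cases ha : P a = true
    · rw [List.filter_cons_of_pos ha, List.map_cons, List.map_cons, List.prod_cons, List.prod_cons, ih']
    · have ha' : P a = false := by simpa using ha
      rw [List.filter_cons_of_neg (by simp [ha']), List.map_cons, List.prod_cons, ih',
        h a List.mem_cons_self ha', one_mul]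

include hD in
/-- root elements commute when the commutator word vanishes in characteristic `p` -/
theorem tw_commute (k l : ℕ) (h : twGood D p k l = true) (a b : K) :
    Commute (xGL D hD K k a) (xGL D hD K l b) := by
  unfold twGood at h
  simp only [Bool.or_eq_true, Bool.and_eq_true, decide_eq_true_eq, List.all_eq_true] at h
  rcases h with rfl | ⟨⟨hlk, hln⟩, hall⟩
  · show _ * _ = _ * _
    rw [xGL_mul, xGL_mul, add_comm]
  · by_cases hk : k < D.nroots
    · by_cases hl : l < D.nroots
      · have hf := comm_formula_all D hD k l hk hl hlk hln a b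
        have hw : wordGL D hD K (D.commWord K k l a b) = 1 := by
          unfold wordGL ChevalleyDatum.commWord
          rw [List.map_map]
          apply List.prod_eq_one
          intro x hx
          obtain ⟨c, hc, rfl⟩ := List.mem_map.1 hx
          have h0 : ((c.2.1 : ℤ) : K) = 0 :=
            (CharP.intCast_eq_zero_iff K p _).2 (Int.dvd_of_emod_eq_zero (hall c hc))
          simp only [Function.comp]
          rw [h0, zero_mul, zero_mul, xGL_zero]
        show _ * _ = _ * _
        apply Units.ext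
        rw [Units.val_mul, Units.val_mul, xGL_coe, xGL_coe, hf, ← wordGL_coe D hD, hw, Units.val_one, mul_one]
      · rw [xGL_of_ge D hD K l hl b]
        exact Commute.one_right _
    · rw [xGL_of_ge D hD K k hk a]
      exact Commute.one_left _


omit hp in
theorem intCast_pow_lam (C : ℤ) (l : ℕ) [Fact p.Prime] (hl : l = 1 ∨ l = p) : ((C : ℤ) : K) ^ l = (C : K) := by
  rcases hl with rfl | rfl
  · rw [pow_one]
  · have := map_intCast (frobenius K l) C
    rwa [frobenius_def] at this

include hD in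
/-- the commutator word of the image pair equals the image of the commutator word -/
theorem tw_word_eq (rho lam : List ℕ) (r s : ℕ)
    (hpair : chkTwPair D p rho lam r s = true)
    (hlam : ∀ k < D.nroots, lam.getD k 0 = 1 ∨ lam.getD k 0 = p) (t u : K) :
    wordGL D hD K (D.commWord K (rho.getD r 0) (rho.getD s 0) (t ^ lam.getD r 0) (u ^ lam.getD s 0)) =
      ((D.commWord K r s t u).map fun q => xGL D hD K (rho.getD q.1 0) (q.2 ^ lam.getD q.1 0)).prod := by
  unfold chkTwPair at hpair
  simp only [Bool.and_eq_true, decide_eq_true_eq, List.all_eq_true] at hpair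
  obtain ⟨⟨hperm, hgood⟩, hlt⟩ := hpair
  set P : ℕ × ℤ × ℕ × ℕ → Bool := fun c => decide (c.2.1 % (p : ℤ) ≠ 0) with hP
  set L1 := (D.commTerms (rho.getD r 0) (rho.getD s 0)).filter P with hL1
  set L2 := (D.commTerms r s).filter P with hL2
  set E : ℕ × ℤ × ℕ × ℕ → GL D.Idx K :=
    fun n => xGL D hD K n.1 ((n.2.1 : K) * t ^ n.2.2.1 * u ^ n.2.2.2) with hE
  have hzero : ∀ c : ℕ × ℤ × ℕ × ℕ, P c = false → ((c.2.1 : ℤ) : K) = 0 := by
    intro c hc
    have : c.2.1 % (p : ℤ) = 0 := by simpa [hP] using hc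
    exact (CharP.intCast_eq_zero_iff K p _).2 (Int.dvd_of_emod_eq_zero this)
  -- the left hand side
  have hA : wordGL D hD K (D.commWord K (rho.getD r 0) (rho.getD s 0) (t ^ lam.getD r 0) (u ^ lam.getD s 0)) =
      ((L1.map (twN1 p (lam.getD r 0) (lam.getD s 0))).map E).prod := by
    unfold wordGL ChevalleyDatum.commWord
    rw [List.map_map, prod_map_filter_of_one _ _ P, List.map_map]
    · congr 1
      apply List.map_congr_left
      intro c _
      simp only [Function.comp, hE, twN1]
      congr 1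
      rw [← CharP.intCast_eq_intCast_mod K p]
      push_cast
      rw [neg_pow, ← pow_mul, ← pow_mul]
      ring
    · intro c _ hc
      simp only [Function.comp]
      rw [hzero c hc, zero_mul, zero_mul, xGL_zero]
  -- the right hand side
  have hB : ((D.commWord K r s t u).map fun q => xGL D hD K (rho.getD q.1 0) (q.2 ^ lam.getD q.1 0)).prod =
      ((L2.map (twN2 p rho lam)).map E).prod := by
    unfold ChevalleyDatum.commWord
    rw [List.map_map, prod_map_filter_of_one _ _ P, List.map_map]
    · congr 1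
      apply List.map_congr_left
      intro c hc
      have hc' : c ∈ D.commTerms r s := (List.mem_filter.1 hc).1
      have hl := hlam c.1 (hlt c hc')
      simp only [Function.comp, hE, twN2]
      congr 1
      rw [← CharP.intCast_eq_intCast_mod K p]
      push_cast
      rw [mul_pow, mul_pow, intCast_pow_lam K p c.2.1 _ hl, neg_pow, mul_pow, ← pow_mul, ← pow_mul, ← pow_mul]
      ring
    · intro c hc hPc
      have hl := hlam c.1 (hlt c hc)
      simp only [Function.comp]
      rw [hzero c hPc, zero_mul, zero_mul, zero_pow, xGL_zero]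
      rcases hl with h | h
      · rw [h]; exact one_ne_zero
      · rw [h]; exact hp.out.ne_zero
  rw [hA, hB]
  apply List.Perm.prod_eq' (hperm.map E)
  apply List.pairwise_of_forall_mem_list
  intro a ha b hb
  obtain ⟨a', ha', rfl⟩ := List.mem_map.1 ha
  obtain ⟨b', hb', rfl⟩ := List.mem_map.1 hb
  obtain ⟨c, hc, rfl⟩ := List.mem_map.1 ha'
  obtain ⟨c', hc', rfl⟩ := List.mem_map.1 hb'
  exact tw_commute D hD K p c.1 c'.1 (hgood c hc c' hc') _ _

end core

section hom
variable (D : ChevalleyDatum) (hD : D ∈ [chevG2, chevB2, chevD4, chevF4, chevE6, chevE7, chevE8])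
variable (K : Type*) [Field K] (p : ℕ) [hp : Fact p.Prime] [CharP K p] (rho lam : List ℕ)

/-- images of the free generators under the twisted map -/
def twGen (q : Fin D.nroots × K) : ↥(D.group K) := xGr D hD K (rho.getD q.1 0) (q.2 ^ lam.getD q.1 0)

theorem lift_tw_stX (r : ℕ) (hr : r < D.nroots) (t : K) :
    FreeGroup.lift (twGen D hD K rho lam) (D.stX r t) =
      xGr D hD K (rho.getD r 0) (t ^ lam.getD r 0) := by
  unfold ChevalleyDatum.stX
  rw [dif_pos hr, FreeGroup.lift_apply_of]
  rfl

theorem lift_tw_stWord (w : List (ℕ × K)) (hw : ∀ q ∈ w, q.1 < D.nroots) :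
    FreeGroup.lift (twGen D hD K rho lam) (D.stWord w) =
      wordGr D hD K (w.map fun q => (rho.getD q.1 0, q.2 ^ lam.getD q.1 0)) := by
  unfold ChevalleyDatum.stWord wordGr
  induction w with
  | nil => simp
  | cons q w ih =>
    rw [List.map_cons, List.prod_cons, map_mul, ih (fun q' hq' => hw q' (List.mem_cons_of_mem _ hq')),
      lift_tw_stX D hD K rho lam q.1 (hw q List.mem_cons_self), List.map_cons, List.map_cons, List.prod_cons]

include hD in
theorem tw_rels (h : chkTw D p rho lam = true) :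
    ∀ g ∈ D.steinbergRelsAB K, FreeGroup.lift (twGen D hD K rho lam) g = 1 := by
  unfold chkTw at h
  simp only [List.all_eq_true, List.mem_range, Bool.and_eq_true, Bool.or_eq_true, decide_eq_true_eq,
    List.any_eq_true] at h
  have hlam : ∀ k < D.nroots, lam.getD k 0 = 1 ∨ lam.getD k 0 = p := fun k hk => (h k hk).1.1.2
  rintro _ (⟨r, t₁, t₂, hr, rfl⟩ | ⟨r, s, t, u, hr, hs, hsr, hsn, rfl⟩)
  · rw [map_mul, map_mul, map_inv, lift_tw_stX D hD K rho lam r hr, lift_tw_stX D hD K rho lam r hr,
      lift_tw_stX D hD K rho lam r hr, mul_inv_eq_one]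
    apply Subtype.ext
    show xGL D hD K _ _ * xGL D hD K _ _ = xGL D hD K _ _
    rw [xGL_mul]
    congr 1
    rcases hlam r hr with h1 | h1
    · rw [h1, pow_one, pow_one, pow_one]
    · rw [h1, add_pow_char]
  · obtain ⟨⟨⟨hρr, -⟩, -⟩, hrs⟩ := h r hr
    obtain ⟨⟨⟨hρs, -⟩, -⟩, -⟩ := h s hs
    rcases hrs s hs with (h1 | h1) | h1
    · exact absurd h1 hsr
    · exact absurd h1 hsn
    obtain ⟨⟨hne, hnn⟩, hpair⟩ := h1
    have hlt : ∀ q ∈ D.commWord K r s t u, q.1 < D.nroots := by
      intro q hq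
      unfold ChevalleyDatum.commWord at hq
      obtain ⟨c, hc, rfl⟩ := List.mem_map.1 hq
      have hp3 := hpair
      unfold chkTwPair at hp3
      simp only [Bool.and_eq_true, decide_eq_true_eq, List.all_eq_true] at hp3
      exact hp3.2 c hc
    simp only [map_mul, map_inv]
    rw [lift_tw_stX D hD K rho lam s hs, lift_tw_stX D hD K rho lam r hr,
      lift_tw_stWord D hD K rho lam _ hlt, mul_inv_eq_one]
    apply Subtype.ext
    simp only [Subgroup.coe_mul, Subgroup.coe_inv, wordGr_coe]
    show (xGL D hD K (rho.getD s 0) (u ^ lam.getD s 0))⁻¹ * (xGL D hD K (rho.getD r 0) (t ^ lam.getD r 0))⁻¹ *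
      xGL D hD K (rho.getD s 0) (u ^ lam.getD s 0) * xGL D hD K (rho.getD r 0) (t ^ lam.getD r 0) = _
    have hf := comm_formula_all D hD (rho.getD r 0) (rho.getD s 0) hρr hρs hne hnn
      (t ^ lam.getD r 0) (u ^ lam.getD s 0)
    have h' : xGL D hD K (rho.getD s 0) (u ^ lam.getD s 0) * xGL D hD K (rho.getD r 0) (t ^ lam.getD r 0) =
        xGL D hD K (rho.getD r 0) (t ^ lam.getD r 0) * xGL D hD K (rho.getD s 0) (u ^ lam.getD s 0) *
          wordGL D hD K (D.commWord K (rho.getD r 0) (rho.getD s 0) (t ^ lam.getD r 0) (u ^ lam.getD s 0)) := by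
      apply Units.ext
      simp only [Units.val_mul, xGL_coe, wordGL_coe]
      exact hf
    rw [mul_assoc ((xGL D hD K _ _)⁻¹ * (xGL D hD K _ _)⁻¹), h', tw_word_eq D hD K p rho lam r s hpair hlam t u]
    have e : wordGL D hD K ((D.commWord K r s t u).map fun q => (rho.getD q.1 0, q.2 ^ lam.getD q.1 0)) =
        ((D.commWord K r s t u).map fun q => xGL D hD K (rho.getD q.1 0) (q.2 ^ lam.getD q.1 0)).prod := by
      unfold wordGL
      rw [List.map_map]
      rfl
    rw [e]
    group

include hD in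
/-- the special graph automorphism -/
theorem tw_aut (h : chkTw D p rho lam = true) (hperf : ∀ x : K, ∃ y : K, y ^ p = x)
    (hinj : IsSimpleGroup ↥(D.group K) ∨ Finite K) :
    ∃ α : ↥(D.group K) ≃* ↥(D.group K), ∀ r < D.nroots, ∀ t : K,
      α (xGr D hD K r t) = xGr D hD K (rho.getD r 0) (t ^ lam.getD r 0) := by
  have hrel := tw_rels D hD K p rho lam h
  set ψ : D.SteinbergCover K →* ↥(D.group K) := PresentedGroup.toGroup hrel with hψ_def
  have hψ : ∀ r < D.nroots, ∀ t : K, ψ (PresentedGroup.mk (D.steinbergRelsAB K) (D.stX r t)) =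
      xGr D hD K (rho.getD r 0) (t ^ lam.getD r 0) := by
    intro r hr t
    exact lift_tw_stX D hD K rho lam r hr t
  unfold chkTw at h
  simp only [List.all_eq_true, List.mem_range, Bool.and_eq_true, Bool.or_eq_true, decide_eq_true_eq,
    List.any_eq_true] at h
  -- surjectivity
  have hψsurj : Function.Surjective ψ := by
    intro y
    have h1 : D.group K ≤ (ψ.range).map (D.group K).subtype := by
      apply group_le D hD K
      intro s hs u
      obtain ⟨⟨-, r', hr', hr's⟩, -⟩ := h s hs
      obtain ⟨⟨⟨-, hl⟩, -⟩, -⟩ := h r' hr'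
      have hy : ∃ y : K, y ^ lam.getD r' 0 = u := by
        rcases hl with h1 | h1
        · exact ⟨u, by rw [h1, pow_one]⟩
        · rw [h1]; exact hperf u
      obtain ⟨y, hy⟩ := hy
      refine ⟨xGr D hD K s u, ⟨PresentedGroup.mk (D.steinbergRelsAB K) (D.stX r' y), ?_⟩, rfl⟩
      rw [hψ r' hr' y, hr's, hy]
    obtain ⟨z, ⟨w, hw⟩, hz⟩ := h1 y.2
    refine ⟨w, ?_⟩
    rw [hw]
    exact Subtype.ext hz
  -- the projection of the cover
  have hrelAB : ∀ r ∈ D.steinbergRelsAB K, FreeGroup.lift (genMap D hD K) r = 1 := by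
    rintro _ (⟨r, t₁, t₂, -, rfl⟩ | ⟨r, s, t, u, hr, hs, hsr, hsn, rfl⟩)
    · exact lift_R1 D hD K r t₁ t₂
    · exact lift_R2 D hD K r s hr hs hsr hsn t u
  set θ : D.SteinbergCover K →* ↥(D.group K) := PresentedGroup.toGroup hrelAB with hθ_def
  have hθ : ∀ (r : ℕ) (t : K), θ (PresentedGroup.mk (D.steinbergRelsAB K) (D.stX r t)) = xGr D hD K r t := by
    intro r t
    exact lift_stX D hD K r t
  have hθ' : ∀ (r : ℕ) (t : K), r < D.nroots →
      ((θ (PresentedGroup.mk (D.steinbergRelsAB K) (D.stX r t)) : GL D.Idx K) : Matrix D.Idx D.Idx K) =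
        D.x K r t := by
    intro r t _
    rw [hθ r t]
    rfl
  have hθsurj := surj_of_matching D hD K _ θ (fun r t _ => hθ r t)
  have h1 : ∀ (r : ℕ) (t₁ t₂ : K), r < D.nroots →
      D.stX r t₁ * D.stX r t₂ * (D.stX r (t₁ + t₂))⁻¹ ∈ D.steinbergRelsAB K :=
    fun r t₁ t₂ hr => Or.inl ⟨r, t₁, t₂, hr, rfl⟩
  have h2 : ∀ (r s : ℕ) (t u : K), r < D.nroots → s < D.nroots → s ≠ r → s ≠ D.neg r →
      (D.stX s u)⁻¹ * (D.stX r t)⁻¹ * D.stX s u * D.stX r t * (D.stWord (D.commWord K r s t u))⁻¹ ∈
        D.steinbergRelsAB K :=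
    fun r s t u hr hs hsr hsn => Or.inr ⟨r, s, t, u, hr, hs, hsr, hsn, rfl⟩
  let S := presSys D hD K (D.steinbergRelsAB K) h1 h2 θ hθ'
  have hker : θ.ker ≤ ψ.ker := by
    intro g hg
    rw [MonoidHom.mem_ker] at hg ⊢
    have hπ : S.π g = 1 := by
      show (D.group K).subtype (θ g) = 1
      rw [hg, map_one]
    have hz := (ker_le S g hπ).2
    have hc : ψ g ∈ Subgroup.center ↥(D.group K) := by
      rw [Subgroup.mem_center_iff] at hz ⊢
      intro y
      obtain ⟨w, rfl⟩ := hψsurj y
      rw [← map_mul, ← map_mul, hz w]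
    rw [center_group_eq_bot D hD K, Subgroup.mem_bot] at hc
    exact hc
  set α₀ : ↥(D.group K) →* ↥(D.group K) := θ.liftOfSurjective hθsurj ⟨ψ, hker⟩ with hα₀
  have hα : ∀ x, α₀ (θ x) = ψ x := fun x =>
    θ.liftOfRightInverse_comp_apply _ (Function.rightInverse_surjInv hθsurj) ⟨ψ, hker⟩ x
  have hαsurj : Function.Surjective α₀ := by
    intro y
    obtain ⟨w, rfl⟩ := hψsurj y
    exact ⟨θ w, hα w⟩
  have hαinj : Function.Injective α₀ := by
    rcases hinj with hs | hfin
    · rw [← MonoidHom.ker_eq_bot_iff]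
      rcases hs.eq_bot_or_eq_top_of_normal α₀.ker inferInstance with h0 | h0
      · exact h0
      · exfalso
        have hne : Nontrivial ↥(D.group K) := hs.toNontrivial
        obtain ⟨a, b, hab⟩ := hne
        obtain ⟨a', rfl⟩ := hαsurj a
        obtain ⟨b', rfl⟩ := hαsurj b
        have ha : a' ∈ α₀.ker := h0 ▸ Subgroup.mem_top a'
        have hb : b' ∈ α₀.ker := h0 ▸ Subgroup.mem_top b'
        rw [MonoidHom.mem_ker] at ha hb
        exact hab (ha.trans hb.symm)
    · haveI : Finite ↥(D.group K) := inferInstance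
      exact Finite.injective_iff_surjective.2 hαsurj
  refine ⟨MulEquiv.ofBijective α₀ ⟨hαinj, hαsurj⟩, fun r hr t => ?_⟩
  show α₀ (xGr D hD K r t) = _
  rw [← hθ r t, hα, hψ r hr t]

end hom

end Cfsg.Agent.Lib.Helper18
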