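import Cfsg.Agent.Lib.Helper18.StGraphData
import Cfsg.Agent.Lib.Helper18.StGraph
import Cfsg.Agent.Lib.Helper36.ChevFieldMap
import Cfsg.Prelude.Def_LieTwisted

/-! # The twisting endomorphism `σ` of `G₂(K)` in characteristic 3 (helper18, small Ree groups) -/

set_option autoImplicit false

namespace Cfsg.Agent.Lib.Helper18.Ree

open Cfsg Cfsg.Lie Cfsg.Agent.Lib.Helper36 Cfsg.Agent.Lib.Helper18

theorem hG2 : chevG2 ∈ [chevG2, chevB2, chevD4, chevF4, chevE6, chevE7, chevE8] := by simp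

section
variable (K : Type*) [Field K] [Fintype K] [CharP K 3]

theorem perf3 : ∀ x : K, ∃ y : K, y ^ 3 = x := fun x =>
  Finite.surjective_of_injective (frobenius_inj K 3) x

/-- the exceptional graph automorphism of `G₂(K)` -/
noncomputable def gam : ↥(chevG2.group K) ≃* ↥(chevG2.group K) :=
  Classical.choose (tw_aut chevG2 hG2 K 3 rhoG2 lamG2 chkTw_G2 (perf3 K) (Or.inr inferInstance))

theorem gam_x (r : ℕ) (hr : r < 12) (t : K) :
    gam K (xGr chevG2 hG2 K r t) = xGr chevG2 hG2 K (rhoG2.getD r 0) (t ^ lamG2.getD r 0) :=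
  Classical.choose_spec (tw_aut chevG2 hG2 K 3 rhoG2 lamG2 chkTw_G2 (perf3 K) (Or.inr inferInstance)) r hr t

/-- the field endomorphism `t ↦ t ^ 3 ^ e` on the group -/
noncomputable def fld (e : ℕ) : ↥(chevG2.group K) →* ↥(chevG2.group K) :=
  ((glMap chevG2 (iterateFrobenius K 3 e)).comp (chevG2.group K).subtype).codRestrict (chevG2.group K)
    (fun g => glMap_group_le chevG2 hG2 (iterateFrobenius K 3 e) ⟨g, g.2, rfl⟩)

omit [Fintype K] in
theorem fld_coe (e : ℕ) (g : ↥(chevG2.group K)) :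
    ((fld K e g : ↥(chevG2.group K)) : GL chevG2.Idx K) = glMap chevG2 (iterateFrobenius K 3 e) g := rfl

theorem fld_x (e : ℕ) (r : ℕ) (t : K) :
    fld K e (xGr chevG2 hG2 K r t) = xGr chevG2 hG2 K r (t ^ 3 ^ e) := by
  apply Subtype.ext
  rw [fld_coe]
  show glMap chevG2 (iterateFrobenius K 3 e) (xGL chevG2 hG2 K r t) = xGL chevG2 hG2 K r (t ^ 3 ^ e)
  rw [glMap_xGL, iterateFrobenius_def]

/-- the twisting endomorphism `σ = γ ∘ (t ↦ t ^ 3 ^ e)` -/
noncomputable def sig (e : ℕ) : ↥(chevG2.group K) →* ↥(chevG2.group K) :=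
  (gam K).toMonoidHom.comp (fld K e)

theorem sig_x (e : ℕ) (r : ℕ) (hr : r < 12) (t : K) :
    sig K e (xGr chevG2 hG2 K r t) = xGr chevG2 hG2 K (rhoG2.getD r 0) ((t ^ 3 ^ e) ^ lamG2.getD r 0) := by
  show gam K (fld K e _) = _
  rw [fld_x, gam_x K r hr]

/-- the image of a word -/
def sigWord (e : ℕ) (w : List (ℕ × K)) : List (ℕ × K) :=
  w.map fun q => (rhoG2.getD q.1 0, (q.2 ^ 3 ^ e) ^ lamG2.getD q.1 0)

theorem sig_word (e : ℕ) (w : List (ℕ × K)) (hw : ∀ q ∈ w, q.1 < 12) :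
    sig K e (wordGr chevG2 hG2 K w) = wordGr chevG2 hG2 K (sigWord K e w) := by
  induction w with
  | nil => simp [wordGr, sigWord]
  | cons q w ih =>
    have hq := hw q List.mem_cons_self
    have hw' : ∀ q' ∈ w, q'.1 < 12 := fun q' h => hw q' (List.mem_cons_of_mem _ h)
    have e1 : wordGr chevG2 hG2 K (q :: w) = xGr chevG2 hG2 K q.1 q.2 * wordGr chevG2 hG2 K w := by
      simp [wordGr]
    have e2 : wordGr chevG2 hG2 K (sigWord K e (q :: w)) =
        xGr chevG2 hG2 K (rhoG2.getD q.1 0) ((q.2 ^ 3 ^ e) ^ lamG2.getD q.1 0) *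
          wordGr chevG2 hG2 K (sigWord K e w) := by
      simp [wordGr, sigWord]
    rw [e1, e2, map_mul, ih hw', sig_x K e q.1 hq]

end

end Cfsg.Agent.Lib.Helper18.Ree
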