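import Cfsg.Agent.Lib.Helper36.ReeMain

/-! # Point stabilisers of `²G₂(q)` on the cosets of `B¹` (helper18) -/

set_option autoImplicit false

namespace Cfsg.Agent.Lib.Helper18.ReeStab

open Cfsg Cfsg.Lie Cfsg.Agent.Lib.Helper18 Cfsg.Agent.Lib.Helper36

section
variable {K : Type*} [Field K] [Fintype K] {m : ℕ}

omit [Fintype K] in
/-- conjugation of a `uWord` by a torus element -/
theorem torPair_conj_uWord (a b : Kˣ) (x₇ x₆ x₈ x₉ x₁₀ x₁₁ : K) :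
    torusHom chevG2 K (torPair a b) * wordGL chevG2 hG2 K (uWord x₇ x₆ x₈ x₉ x₁₀ x₁₁) *
        (torusHom chevG2 K (torPair a b))⁻¹ =
      wordGL chevG2 hG2 K (uWord (((a : K) ^ (2 : ℤ) * (b : K) ^ (-1 : ℤ)) * x₇)
        (((a : K) ^ (-3 : ℤ) * (b : K) ^ (2 : ℤ)) * x₆)
        (((a : K) ^ (-1 : ℤ) * (b : K) ^ (1 : ℤ)) * x₈)
        (((a : K) ^ (1 : ℤ) * (b : K) ^ (0 : ℤ)) * x₉)
        (((a : K) ^ (3 : ℤ) * (b : K) ^ (-1 : ℤ)) * x₁₀)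
        (((a : K) ^ (0 : ℤ) * (b : K) ^ (1 : ℤ)) * x₁₁)) := by
  have c7 : chevG2.cartan 0 7 = 2 ∧ chevG2.cartan 1 7 = -1 := by decide
  have c6 : chevG2.cartan 0 6 = -3 ∧ chevG2.cartan 1 6 = 2 := by decide
  have c8 : chevG2.cartan 0 8 = -1 ∧ chevG2.cartan 1 8 = 1 := by decide
  have c9 : chevG2.cartan 0 9 = 1 ∧ chevG2.cartan 1 9 = 0 := by decide
  have c10 : chevG2.cartan 0 10 = 3 ∧ chevG2.cartan 1 10 = -1 := by decide
  have c11 : chevG2.cartan 0 11 = 0 ∧ chevG2.cartan 1 11 = 1 := by decide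
  have h7 := torPair_conj a b 7 (by decide) x₇
  have h6 := torPair_conj a b 6 (by decide) x₆
  have h8 := torPair_conj a b 8 (by decide) x₈
  have h9 := torPair_conj a b 9 (by decide) x₉
  have h10 := torPair_conj a b 10 (by decide) x₁₀
  have h11 := torPair_conj a b 11 (by decide) x₁₁
  rw [c7.1, c7.2] at h7
  rw [c6.1, c6.2] at h6
  rw [c8.1, c8.2] at h8
  rw [c9.1, c9.2] at h9
  rw [c10.1, c10.2] at h10
  rw [c11.1, c11.2] at h11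
  rw [wordGL_uWord, wordGL_uWord, ← h7, ← h6, ← h8, ← h9, ← h10, ← h11]
  group

omit [Fintype K] in
theorem reeUel_zero : reeUel m ((0, 0, 0) : K × K × K) = 1 := by
  have hθ : 3 ^ m ≠ 0 := by positivity
  have z1 : (0 : K) ^ 3 ^ m = 0 := zero_pow hθ
  have z2 : (0 : K) ^ (3 ^ m + 1) = 0 := zero_pow (Nat.succ_ne_zero _)
  have z3 : (0 : K) ^ (2 * 3 ^ m + 1) = 0 := zero_pow (Nat.succ_ne_zero _)
  unfold reeUel
  rw [reeWordU_eq, wordGL_uWord]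
  simp only [z1, z2, z3, add_zero, xGL_zero, mul_one]

omit [Fintype K] in
/-- the action of `h(s)` on `u(t,u,v)` -/
theorem reeHm_conj_reeUel (s : Kˣ) (t u v : K) :
    reeHm (3 ^ m) s * reeUel m (t, u, v) * (reeHm (3 ^ m) s)⁻¹ =
      wordGL chevG2 hG2 K (uWord
        ((((s ^ 3 ^ m : Kˣ) : K) ^ (2 : ℤ) * (s : K) ^ (-1 : ℤ)) * t ^ 3 ^ m)
        ((((s ^ 3 ^ m : Kˣ) : K) ^ (-3 : ℤ) * (s : K) ^ (2 : ℤ)) * t)
        ((((s ^ 3 ^ m : Kˣ) : K) ^ (-1 : ℤ) * (s : K) ^ (1 : ℤ)) * (t ^ (3 ^ m + 1) + u ^ 3 ^ m))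
        ((((s ^ 3 ^ m : Kˣ) : K) ^ (1 : ℤ) * (s : K) ^ (0 : ℤ)) * (t ^ (2 * 3 ^ m + 1) + v ^ 3 ^ m))
        ((((s ^ 3 ^ m : Kˣ) : K) ^ (3 : ℤ) * (s : K) ^ (-1 : ℤ)) * u)
        ((((s ^ 3 ^ m : Kˣ) : K) ^ (0 : ℤ) * (s : K) ^ (1 : ℤ)) * v)) := by
  unfold reeUel
  rw [reeHm_apply, reeWordU_eq, torPair_conj_uWord]

/-- if `h(s)` centralises a non-trivial `u(t,u,v)` then `s = ±1` -/
theorem reeHm_centralizes (hK : Fintype.card K = 3 ^ (2 * m + 1)) (s : Kˣ) (p : K × K × K)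
    (hp : reeUel m p ≠ 1)
    (e : reeHm (3 ^ m) s * reeUel m p * (reeHm (3 ^ m) s)⁻¹ = reeUel m p) : s = 1 ∨ s = -1 := by
  obtain ⟨t, u, v⟩ := p
  rw [reeHm_conj_reeUel] at e
  unfold reeUel at e
  rw [reeWordU_eq] at e
  obtain ⟨-, h2, -, -, h5, h6⟩ := uWord_inj _ _ _ _ _ _ _ _ _ _ _ _ e
  simp only at h2 h5 h6
  have hS : (s : K) ≠ 0 := s.ne_zero
  rw [Units.val_pow_eq_pow_val] at h2 h5 h6
  set S : K := (s : K) with hSdef
  have hq : ∀ x : K, (x ^ 3 ^ m) ^ (3 ^ m * 3) = x := fun x => ree_F1 hK x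
  have hSθ : S ^ 3 ^ m ≠ 0 := pow_ne_zero _ hS
  by_cases hv : v = 0
  · by_cases hu : u = 0
    · by_cases ht : t = 0
      · exfalso
        apply hp
        rw [hv, hu, ht]
        exact reeUel_zero
      · -- `S² = (S^θ)³`
        left
        have h2' : (S ^ 3 ^ m) ^ (-3 : ℤ) * S ^ (2 : ℤ) = 1 := by
          have := mul_right_cancel₀ ht (h2.trans (one_mul t).symm)
          exact this
        have e1 : S ^ 2 = (S ^ 3 ^ m) ^ 3 := by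
          have h3 : (S ^ 3 ^ m) ^ (-3 : ℤ) = ((S ^ 3 ^ m) ^ 3)⁻¹ := by
            rw [zpow_neg]; norm_cast
          rw [h3] at h2'
          have h4 : S ^ (2 : ℤ) = S ^ 2 := by norm_cast
          rw [h4] at h2'
          field_simp at h2'
          exact h2'
        -- raise to `θ`
        have e2 : (S ^ 3 ^ m) ^ 2 = S := by
          have : (S ^ 2) ^ 3 ^ m = ((S ^ 3 ^ m) ^ 3) ^ 3 ^ m := by rw [e1]
          rw [← pow_mul, mul_comm, pow_mul, ← pow_mul (S ^ 3 ^ m) 3, mul_comm 3, hq] at this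
          exact this
        have e3 : S ^ 3 ^ m = S := by
          have h3 : (S ^ 3 ^ m) ^ 3 = S * S ^ 3 ^ m := by rw [pow_succ, e2]
          rw [h3, pow_two] at e1
          exact (mul_left_cancel₀ hS e1).symm
        rw [e3] at e2
        have e4 : S = 1 := by
          have : S * S = S * 1 := by rw [mul_one, ← pow_two, e2]
          exact mul_left_cancel₀ hS this
        exact Units.ext e4
    · -- `(S^θ)³ = S`
      have h5' : (S ^ 3 ^ m) ^ (3 : ℤ) * S ^ (-1 : ℤ) = 1 :=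
        mul_right_cancel₀ hu (h5.trans (one_mul u).symm)
      have e1 : (S ^ 3 ^ m) ^ 3 = S := by
        have h3 : (S ^ 3 ^ m) ^ (3 : ℤ) = (S ^ 3 ^ m) ^ 3 := by norm_cast
        rw [h3, zpow_neg, zpow_one] at h5'
        field_simp at h5'
        exact h5'
      have e2 : S = S ^ 3 ^ m := by
        have : ((S ^ 3 ^ m) ^ 3) ^ 3 ^ m = S ^ 3 ^ m := by rw [e1]
        rw [← pow_mul (S ^ 3 ^ m) 3, mul_comm 3, hq] at this
        exact this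
      rw [← e2] at e1
      have e3 : (S - 1) * (S + 1) = 0 := by
        have : S * (S * S) = S * 1 := by
          rw [mul_one]
          calc S * (S * S) = S ^ 3 := by ring
            _ = S := e1
        have := mul_left_cancel₀ hS this
        linear_combination this
      rcases mul_eq_zero.1 e3 with h | h
      · left; exact Units.ext (sub_eq_zero.1 h)
      · right
        apply Units.ext
        rw [Units.val_neg, Units.val_one]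
        exact eq_neg_of_add_eq_zero_left h
  · left
    have h6' : (S ^ 3 ^ m) ^ (0 : ℤ) * S ^ (1 : ℤ) = 1 :=
      mul_right_cancel₀ hv (h6.trans (one_mul v).symm)
    rw [zpow_zero, zpow_one, one_mul] at h6'
    exact Units.ext h6'

omit [Fintype K] in
/-- `h(-1)` centralises `u(0,1,0)` -/
theorem reeHm_neg_one_conj :
    reeHm (3 ^ m) (-1 : Kˣ) * reeUel m ((0, 1, 0) : K × K × K) * (reeHm (3 ^ m) (-1 : Kˣ))⁻¹ =
      reeUel m ((0, 1, 0) : K × K × K) := by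
  have hθ : 3 ^ m ≠ 0 := by positivity
  have z1 : (0 : K) ^ 3 ^ m = 0 := zero_pow hθ
  have z2 : (0 : K) ^ (3 ^ m + 1) = 0 := zero_pow (Nat.succ_ne_zero _)
  have z3 : (0 : K) ^ (2 * 3 ^ m + 1) = 0 := zero_pow (Nat.succ_ne_zero _)
  have o1 : (-1 : K) ^ 3 ^ m = -1 := Odd.neg_one_pow (ree_odd m)
  have a1 : (-1 : K) ^ (-1 : ℤ) = -1 := by rw [zpow_neg, zpow_one, inv_neg, inv_one]
  have a2 : (-1 : K) ^ (1 : ℤ) = -1 := zpow_one _
  have a3 : (-1 : K) ^ (3 : ℤ) = -1 := by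
    have : (-1 : K) ^ (3 : ℤ) = (-1 : K) ^ 3 := by norm_cast
    rw [this]; ring
  rw [reeHm_conj_reeUel]
  unfold reeUel
  rw [reeWordU_eq]
  simp only [Units.val_pow_eq_pow_val, Units.val_neg, Units.val_one, o1, a1, a2, a3, z1, z2, z3, mul_zero,
    zero_add, add_zero, one_pow, mul_one, mul_neg, neg_neg]

/-- the basic identity in the big cell -/
theorem cell_eq (hK : Fintype.card K = 3 ^ (2 * m + 1)) (u₁ h₁ u₂ h₂ u₃ : GL chevG2.Idx K)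
    (hu₁ : u₁ ∈ chevG2.posUnipotent K) (hh₁ : h₁ ∈ chevG2.diagonalSubgroup K)
    (hu₂ : u₂ ∈ chevG2.posUnipotent K) (hh₂ : h₂ ∈ chevG2.diagonalSubgroup K)
    (hu₃ : u₃ ∈ chevG2.posUnipotent K)
    (e : u₁ * h₁ * reeNN (3 ^ m) (1 : K) = u₃ * reeNN (3 ^ m) (1 : K) * (u₂ * h₂)) :
    u₁ = u₃ ∧ u₂ = 1 := by
  have := ree_charP hK
  have hθ : 3 ^ m ≠ 0 := by positivity
  have hn := reeNN_one_mem_mono (K := K) (3 ^ m) hθ
  have hh' : h₁ * (reeNN (3 ^ m) (1 : K) * h₂⁻¹ * (reeNN (3 ^ m) (1 : K))⁻¹) ∈ chevG2.diagonalSubgroup K :=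
    mul_mem hh₁ (conj_mem_diag_of_mem_monomial chevG2 hG2 K _ h₂⁻¹ hn (inv_mem hh₂))
  have e' : u₁ * (h₁ * (reeNN (3 ^ m) (1 : K) * h₂⁻¹ * (reeNN (3 ^ m) (1 : K))⁻¹)) * reeNN (3 ^ m) (1 : K) * 1 =
      u₃ * 1 * reeNN (3 ^ m) (1 : K) * u₂ := by
    have : u₁ * (h₁ * (reeNN (3 ^ m) (1 : K) * h₂⁻¹ * (reeNN (3 ^ m) (1 : K))⁻¹)) * reeNN (3 ^ m) (1 : K) * 1 =
        (u₁ * h₁ * reeNN (3 ^ m) (1 : K)) * h₂⁻¹ := by group
    rw [this, e]; group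
  obtain ⟨a, -, c⟩ := ree_big_unique hK _ _ _ _ _ _ hu₁ hu₃ (one_mem _) hu₂ hh' (one_mem _) e'
  exact ⟨a, c.symm⟩

/-- the joint stabiliser of `∞`, `0` and `u·0` -/
theorem stab3_GL (hK : Fintype.card K = 3 ^ (2 * m + 1)) (p : K × K × K) (hp : reeUel m p ≠ 1)
    (g : GL chevG2.Idx K) (hg : g ∈ twistedG2 K (3 ^ m))
    (h1 : g ∈ chevG2.borelSubgroup K)
    (h2 : (reeNN (3 ^ m) (1 : K))⁻¹ * g * reeNN (3 ^ m) (1 : K) ∈ chevG2.borelSubgroup K)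
    (h3 : (reeUel m p * reeNN (3 ^ m) (1 : K))⁻¹ * g * (reeUel m p * reeNN (3 ^ m) (1 : K)) ∈
      chevG2.borelSubgroup K) :
    g = 1 ∨ g = reeHm (3 ^ m) (-1 : Kˣ) := by
  have hnG := reeNN_mem (3 ^ m) (1 : K)
  obtain ⟨t₁, u₁, v₁, s₁, rfl⟩ := (ree_borel_inf hK g).1 (Subgroup.mem_inf.2 ⟨h1, hg⟩)
  obtain ⟨t₂, u₂, v₂, s₂, e₂⟩ := (ree_borel_inf hK _).1 (Subgroup.mem_inf.2 ⟨h2, mul_mem (mul_mem (inv_mem hnG) hg) hnG⟩)
  have e₂' : wordGL chevG2 hG2 K (reeWordU (3 ^ m) t₁ u₁ v₁) * reeHm (3 ^ m) s₁ * reeNN (3 ^ m) (1 : K) =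
      1 * reeNN (3 ^ m) (1 : K) * (wordGL chevG2 hG2 K (reeWordU (3 ^ m) t₂ u₂ v₂) * reeHm (3 ^ m) s₂) := by
    rw [← e₂]; group
  obtain ⟨a, -⟩ := cell_eq hK _ _ _ _ _ (reeU_mem_pos _ _ _ _) (reeHm_mem_diag _ _) (reeU_mem_pos _ _ _ _)
    (reeHm_mem_diag _ _) (one_mem _) e₂'
  rw [a, one_mul] at h3 ⊢
  have hhG := reeHm_mem hK s₁
  obtain ⟨t₃, u₃, v₃, s₃, e₃⟩ := (ree_borel_inf hK _).1 (Subgroup.mem_inf.2 ⟨h3, mul_mem (mul_mem (inv_mem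
    (mul_mem (reeUel_mem p) hnG)) hhG) (mul_mem (reeUel_mem p) hnG)⟩)
  have e₃' : (reeHm (3 ^ m) s₁ * reeUel m p * (reeHm (3 ^ m) s₁)⁻¹) * reeHm (3 ^ m) s₁ * reeNN (3 ^ m) (1 : K) =
      reeUel m p * reeNN (3 ^ m) (1 : K) * (wordGL chevG2 hG2 K (reeWordU (3 ^ m) t₃ u₃ v₃) * reeHm (3 ^ m) s₃) := by
    rw [← e₃]; group
  obtain ⟨b, -⟩ := cell_eq hK _ _ _ _ _ (diag_conj_pos _ _ (reeHm_mem_diag _ _) (reeUel_mem_pos p))
    (reeHm_mem_diag _ _) (reeU_mem_pos _ _ _ _) (reeHm_mem_diag _ _) (reeUel_mem_pos p) e₃'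
  rcases reeHm_centralizes hK s₁ p hp b with h | h
  · left; rw [h, map_one]
  · right; rw [h]

/-- `h(-1)` lies in the joint stabiliser of `∞`, `0` and `u(0,1,0)·0` -/
theorem stab3_GL_mem (hK : Fintype.card K = 3 ^ (2 * m + 1)) :
    reeHm (3 ^ m) (-1 : Kˣ) ∈ chevG2.borelSubgroup K ∧
    (reeNN (3 ^ m) (1 : K))⁻¹ * reeHm (3 ^ m) (-1 : Kˣ) * reeNN (3 ^ m) (1 : K) ∈ chevG2.borelSubgroup K ∧
    (reeUel m ((0, 1, 0) : K × K × K) * reeNN (3 ^ m) (1 : K))⁻¹ * reeHm (3 ^ m) (-1 : Kˣ) *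
      (reeUel m ((0, 1, 0) : K × K × K) * reeNN (3 ^ m) (1 : K)) ∈ chevG2.borelSubgroup K := by
  have := ree_charP hK
  have hθ : 3 ^ m ≠ 0 := by positivity
  have hn := reeNN_one_mem_mono (K := K) (3 ^ m) hθ
  have hHB := diagonal_le_borel chevG2 K
  have hd := reeHm_mem_diag (K := K) (3 ^ m) (-1 : Kˣ)
  have h2 := conj_mem_diag_of_mem_monomial' chevG2 hG2 K _ _ hn hd
  refine ⟨hHB hd, hHB h2, ?_⟩
  have e := reeHm_neg_one_conj (K := K) (m := m)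
  have e' : (reeUel m ((0, 1, 0) : K × K × K) * reeNN (3 ^ m) (1 : K))⁻¹ * reeHm (3 ^ m) (-1 : Kˣ) *
      (reeUel m ((0, 1, 0) : K × K × K) * reeNN (3 ^ m) (1 : K)) =
      (reeNN (3 ^ m) (1 : K))⁻¹ * ((reeUel m ((0, 1, 0) : K × K × K))⁻¹ *
        (reeHm (3 ^ m) (-1 : Kˣ) * reeUel m ((0, 1, 0) : K × K × K) * (reeHm (3 ^ m) (-1 : Kˣ))⁻¹) *
          reeHm (3 ^ m) (-1 : Kˣ)) * reeNN (3 ^ m) (1 : K) := by group
  rw [e', e, inv_mul_cancel, one_mul]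
  exact hHB h2

/-- `u·0 ≠ 0` for `u ≠ 1` -/
theorem ne_zero_GL (hK : Fintype.card K = 3 ^ (2 * m + 1)) (p : K × K × K) (hp : reeUel m p ≠ 1) :
    (reeNN (3 ^ m) (1 : K))⁻¹ * (reeUel m p * reeNN (3 ^ m) (1 : K)) ∉ chevG2.borelSubgroup K := by
  intro h
  have hnG := reeNN_mem (3 ^ m) (1 : K)
  obtain ⟨t₂, u₂, v₂, s₂, e₂⟩ := (ree_borel_inf hK _).1 (Subgroup.mem_inf.2 ⟨h, mul_mem (inv_mem hnG) (mul_mem (reeUel_mem p) hnG)⟩)
  have e₂' : reeUel m p * 1 * reeNN (3 ^ m) (1 : K) =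
      1 * reeNN (3 ^ m) (1 : K) * (wordGL chevG2 hG2 K (reeWordU (3 ^ m) t₂ u₂ v₂) * reeHm (3 ^ m) s₂) := by
    rw [← e₂]; group
  obtain ⟨a, -⟩ := cell_eq hK _ _ _ _ _ (reeUel_mem_pos p) (one_mem _) (reeU_mem_pos _ _ _ _)
    (reeHm_mem_diag _ _) (one_mem _) e₂'
  exact hp a

/-- `u·0 ≠ ∞` -/
theorem ne_infty_GL (hK : Fintype.card K = 3 ^ (2 * m + 1)) (p : K × K × K) :
    reeUel m p * reeNN (3 ^ m) (1 : K) ∉ chevG2.borelSubgroup K := by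
  intro h
  apply reeNN_not_borel hK
  have : reeNN (3 ^ m) (1 : K) = (reeUel m p)⁻¹ * (reeUel m p * reeNN (3 ^ m) (1 : K)) := by group
  rw [this]
  exact mul_mem (inv_mem (pos_le_borel chevG2 K (reeUel_mem_pos p))) h

end

end Cfsg.Agent.Lib.Helper18.ReeStab
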