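import Cfsg.Agent.Lib.Helper18.ReeStab

/-! # Three point stabilisers of `²G₂(q)` on the cosets of `B¹` (helper18) -/

set_option autoImplicit false

namespace Cfsg.Agent.Lib.Helper18.ReeStab

open Cfsg Cfsg.Lie Cfsg.Agent.Lib.Helper18 Cfsg.Agent.Lib.Helper36

section abstract
variable {G : Type*} [Group G] {α : Type*} [MulAction G α]

/-- the joint stabiliser of a translated triple has the same cardinality -/
theorem card_stab3_smul (g : G) (x y z : α) :
    Nat.card ↥(MulAction.stabilizer G (g • x) ⊓ MulAction.stabilizer G (g • y) ⊓ MulAction.stabilizer G (g • z)) =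
      Nat.card ↥(MulAction.stabilizer G x ⊓ MulAction.stabilizer G y ⊓ MulAction.stabilizer G z) := by
  have hinj : Function.Injective (MulAut.conj g).toMonoidHom := (MulAut.conj g).injective
  rw [MulAction.stabilizer_smul_eq_stabilizer_map_conj, MulAction.stabilizer_smul_eq_stabilizer_map_conj,
    MulAction.stabilizer_smul_eq_stabilizer_map_conj]
  rw [← Subgroup.map_inf _ _ _ hinj, ← Subgroup.map_inf _ _ _ hinj]
  exact (Nat.card_congr (Subgroup.equivMapOfInjective _ _ hinj).toEquiv).symm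

end abstract

section
variable {K : Type*} [Field K] [Fintype K] {m : ℕ}

/-- the group `²G₂(q)` -/
abbrev RG (K : Type*) [Field K] (m : ℕ) : Type _ := ↥(twistedG2 K (3 ^ m))

/-- the subgroup `B¹` -/
abbrev RB (K : Type*) [Field K] (m : ℕ) : Subgroup (RG K m) :=
  (chevG2.borelSubgroup K ⊓ twistedG2 K (3 ^ m)).subgroupOf (twistedG2 K (3 ^ m))

omit [Fintype K] in
theorem mem_RB (g : RG K m) : g ∈ RB K m ↔ (g : GL chevG2.Idx K) ∈ chevG2.borelSubgroup K := by
  rw [Subgroup.mem_subgroupOf, Subgroup.mem_inf]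
  exact ⟨fun h => h.1, fun h => ⟨h, g.2⟩⟩

/-- the point `g B¹` -/
def pt (g : RG K m) : RG K m ⧸ RB K m := QuotientGroup.mk g

omit [Fintype K] in
theorem pt_eq (g g' : RG K m) : pt g = pt g' ↔ ((g : GL chevG2.Idx K))⁻¹ * g' ∈ chevG2.borelSubgroup K := by
  unfold pt
  rw [QuotientGroup.eq, mem_RB]
  rfl

omit [Fintype K] in
theorem smul_pt (g g' : RG K m) : g • pt g' = pt (g * g') := rfl

omit [Fintype K] in
theorem pt_surj (w : RG K m ⧸ RB K m) : ∃ g, w = pt g := by
  obtain ⟨g, rfl⟩ := QuotientGroup.mk_surjective w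
  exact ⟨g, rfl⟩

omit [Fintype K] in
theorem mem_stab_pt (g g' : RG K m) : g ∈ MulAction.stabilizer (RG K m) (pt g') ↔
    ((g' : GL chevG2.Idx K))⁻¹ * g * g' ∈ chevG2.borelSubgroup K := by
  rw [MulAction.mem_stabilizer_iff, smul_pt, pt_eq]
  constructor
  · intro h
    have := inv_mem h
    have e : (((g * g' : RG K m) : GL chevG2.Idx K)⁻¹ * (g' : GL chevG2.Idx K))⁻¹ =
        ((g' : GL chevG2.Idx K))⁻¹ * g * g' := by
      rw [Subgroup.coe_mul]; group
    rwa [e] at this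
  · intro h
    have := inv_mem h
    have e : (((g' : GL chevG2.Idx K))⁻¹ * g * g')⁻¹ =
        ((g * g' : RG K m) : GL chevG2.Idx K)⁻¹ * (g' : GL chevG2.Idx K) := by
      rw [Subgroup.coe_mul]; group
    rwa [e] at this

/-- the elements `n`, `u(p)`, `h(s)` of `²G₂(q)` -/
noncomputable def nG (K : Type*) [Field K] (m : ℕ) : RG K m := ⟨reeNN (3 ^ m) (1 : K), reeNN_mem _ _⟩

noncomputable def uG (p : K × K × K) : RG K m := ⟨reeUel m p, reeUel_mem p⟩

noncomputable def hG (hK : Fintype.card K = 3 ^ (2 * m + 1)) (s : Kˣ) : RG K m := ⟨reeHm (3 ^ m) s, reeHm_mem hK s⟩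

/-- every point is `∞` or `u h · 0` -/
theorem pt_cases (hK : Fintype.card K = 3 ^ (2 * m + 1)) (w : RG K m ⧸ RB K m) :
    w = pt 1 ∨ ∃ p s, w = (uG p * hG hK s) • pt (nG K m) := by
  obtain ⟨g, rfl⟩ := pt_surj w
  rcases ree_cases hK g g.2 with h | ⟨t, u, v, s, t', u', v', e⟩
  · left
    rw [pt_eq]
    simpa using h
  · right
    refine ⟨(t, u, v), s, ?_⟩
    rw [smul_pt, pt_eq]
    have : ((g : GL chevG2.Idx K))⁻¹ * ((uG (t, u, v) * hG hK s * nG K m : RG K m) : GL chevG2.Idx K) =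
        (reeUel m (t', u', v'))⁻¹ := by
      rw [e]
      simp only [Subgroup.coe_mul, uG, hG, nG, reeUel]
      group
    rw [this]
    exact inv_mem (pos_le_borel chevG2 K (reeUel_mem_pos _))

/-- `B¹` fixes `∞` -/
theorem borel_smul_infty (hK : Fintype.card K = 3 ^ (2 * m + 1)) (p : K × K × K) (s : Kˣ) :
    (uG p * hG hK s) • pt (1 : RG K m) = pt 1 := by
  rw [smul_pt, pt_eq]
  simp only [Subgroup.coe_mul, uG, hG, mul_one, OneMemClass.coe_one]
  exact inv_mem (mul_mem (pos_le_borel chevG2 K (reeUel_mem_pos _)) (diagonal_le_borel chevG2 K (reeHm_mem_diag _ _)))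

/-- `H¹` fixes `0` -/
theorem diag_smul_zero (hK : Fintype.card K = 3 ^ (2 * m + 1)) (s : Kˣ) :
    hG hK s • pt (nG K m) = pt (nG K m) := by
  have := ree_charP hK
  have hθ : 3 ^ m ≠ 0 := by positivity
  have hn := reeNN_one_mem_mono (K := K) (3 ^ m) hθ
  rw [smul_pt, pt_eq]
  have h2 := conj_mem_diag_of_mem_monomial' chevG2 hG2 K _ _ hn (reeHm_mem_diag (K := K) (3 ^ m) s)
  have := inv_mem h2
  have e : ((reeNN (3 ^ m) (1 : K))⁻¹ * reeHm (3 ^ m) s * reeNN (3 ^ m) (1 : K))⁻¹ =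
      ((hG hK s * nG K m : RG K m) : GL chevG2.Idx K)⁻¹ * (nG K m : GL chevG2.Idx K) := by
    simp only [Subgroup.coe_mul, hG, nG]
    group
  rw [e] at this
  exact diagonal_le_borel chevG2 K this

/-- reduction of a triple of distinct points to a canonical one -/
theorem exists_canon (hK : Fintype.card K = 3 ^ (2 * m + 1)) (x y z : RG K m ⧸ RB K m)
    (hxy : x ≠ y) (hxz : x ≠ z) (hyz : y ≠ z) :
    ∃ g : RG K m, ∃ p : K × K × K, reeUel m p ≠ 1 ∧ g • x = pt 1 ∧ g • y = pt (nG K m) ∧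
      g • z = pt (uG p * nG K m) := by
  obtain ⟨gx, rfl⟩ := pt_surj x
  -- move `x` to `∞`
  have hx' : gx⁻¹ • pt gx = pt 1 := by rw [smul_pt, inv_mul_cancel]
  have hy' : gx⁻¹ • y ≠ pt 1 := by
    intro h
    apply hxy
    rw [← hx'] at h
    exact (smul_left_cancel _ h).symm
  rcases pt_cases hK (gx⁻¹ • y) with h | ⟨p₁, s₁, h₁⟩
  · exact absurd h hy'
  set b := uG p₁ * hG hK s₁ with hb
  have hx'' : (b⁻¹ * gx⁻¹) • pt gx = pt 1 := by
    rw [mul_smul, hx', inv_smul_eq_iff, hb, borel_smul_infty]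
  have hy'' : (b⁻¹ * gx⁻¹) • y = pt (nG K m) := by
    rw [mul_smul, h₁, inv_smul_smul]
  have hz1 : (b⁻¹ * gx⁻¹) • z ≠ pt 1 := by
    intro h
    apply hxz
    rw [← hx''] at h
    exact (smul_left_cancel _ h).symm
  have hz2 : (b⁻¹ * gx⁻¹) • z ≠ pt (nG K m) := by
    intro h
    apply hyz
    rw [← hy''] at h
    exact (smul_left_cancel _ h).symm
  rcases pt_cases hK ((b⁻¹ * gx⁻¹) • z) with h | ⟨p₂, s₂, h₂⟩
  · exact absurd h hz1
  rw [mul_smul (uG p₂ : RG K m), diag_smul_zero, smul_pt] at h₂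
  refine ⟨b⁻¹ * gx⁻¹, p₂, ?_, hx'', hy'', h₂⟩
  intro h
  apply hz2
  rw [h₂]
  have : (uG p₂ : RG K m) = 1 := Subtype.ext h
  rw [this, one_mul]

/-- the canonical joint stabiliser -/
noncomputable abbrev canonStab (K : Type*) [Field K] (m : ℕ) (p : K × K × K) : Subgroup (RG K m) :=
  MulAction.stabilizer (RG K m) (pt (1 : RG K m)) ⊓ MulAction.stabilizer (RG K m) (pt (nG K m)) ⊓
    MulAction.stabilizer (RG K m) (pt (uG p * nG K m))

theorem canonStab_cases (hK : Fintype.card K = 3 ^ (2 * m + 1)) (p : K × K × K) (hp : reeUel m p ≠ 1)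
    (t : RG K m) (ht : t ∈ canonStab K m p) : t = 1 ∨ t = hG hK (-1) := by
  rw [Subgroup.mem_inf, Subgroup.mem_inf] at ht
  obtain ⟨⟨h1, h2⟩, h3⟩ := ht
  rw [mem_stab_pt] at h1 h2 h3
  have h1' : (t : GL chevG2.Idx K) ∈ chevG2.borelSubgroup K := by
    simpa using h1
  have h3' : (reeUel m p * reeNN (3 ^ m) (1 : K))⁻¹ * (t : GL chevG2.Idx K) * (reeUel m p * reeNN (3 ^ m) (1 : K)) ∈
      chevG2.borelSubgroup K := by
    simpa only [Subgroup.coe_mul, uG, nG] using h3
  rcases stab3_GL hK p hp t t.2 h1' h2 h3' with h | h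
  · left; exact Subtype.ext h
  · right; exact Subtype.ext h

theorem card_canonStab_le (hK : Fintype.card K = 3 ^ (2 * m + 1)) (p : K × K × K) (hp : reeUel m p ≠ 1) :
    Nat.card ↥(canonStab K m p) ≤ 2 := by
  classical
  have key : ∀ t : ↥(canonStab K m p), (t : RG K m) = 1 ∨ (t : RG K m) = hG hK (-1) :=
    fun t => canonStab_cases hK p hp t t.2
  have : Nat.card ↥(canonStab K m p) ≤ Nat.card Bool := by
    apply Nat.card_le_card_of_injective (fun t : ↥(canonStab K m p) => decide ((t : RG K m) = 1))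
    intro t t' h
    simp only [decide_eq_decide] at h
    apply Subtype.ext
    rcases key t with h1 | h1 <;> rcases key t' with h2 | h2
    · rw [h1, h2]
    · rw [h1, h.1 h1]
    · rw [h2, h.2 h2]
    · rw [h1, h2]
  simpa using this

theorem reeUel_010_ne : reeUel m ((0, 1, 0) : K × K × K) ≠ 1 := by
  intro h
  rw [← reeUel_zero (K := K) (m := m)] at h
  have := reeUel_inj _ _ h
  simp only [Prod.mk.injEq, one_ne_zero, and_false, and_true] at this

theorem hG_neg_one_ne (hK : Fintype.card K = 3 ^ (2 * m + 1)) : hG hK (-1) ≠ (1 : RG K m) := by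
  intro h
  have hc := ree_charP hK
  have three : (3 : K) = 0 := by
    have := CharP.cast_eq_zero K 3
    exact_mod_cast this
  have h1 : reeHm (3 ^ m) (-1 : Kˣ) = reeHm (3 ^ m) (1 : Kˣ) := by
    rw [map_one]
    exact congrArg Subtype.val h
  have h2 : (-1 : Kˣ) = 1 := reeHm_injective _ h1
  have h3 : (-1 : K) = 1 := by
    have := congrArg Units.val h2
    simpa using this
  have : (1 : K) = 0 := by linear_combination three + h3
  exact one_ne_zero this

theorem card_canonStab_eq (hK : Fintype.card K = 3 ^ (2 * m + 1)) :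
    Nat.card ↥(canonStab K m ((0, 1, 0) : K × K × K)) = 2 := by
  have hmem : hG hK (-1) ∈ canonStab K m ((0, 1, 0) : K × K × K) := by
    obtain ⟨a1, a2, a3⟩ := stab3_GL_mem (K := K) (m := m) hK
    refine Subgroup.mem_inf.2 ⟨Subgroup.mem_inf.2 ⟨?_, ?_⟩, ?_⟩
    · rw [mem_stab_pt]
      simpa [hG] using a1
    · rw [mem_stab_pt]
      exact a2
    · rw [mem_stab_pt]
      simpa only [Subgroup.coe_mul, uG, nG, hG] using a3
  rw [Nat.card_eq_two_iff]
  refine ⟨⟨1, one_mem _⟩, ⟨hG hK (-1), hmem⟩, ?_, ?_⟩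
  · intro h
    exact hG_neg_one_ne hK (congrArg Subtype.val h).symm
  · ext t
    simp only [Set.mem_insert_iff, Set.mem_singleton_iff, Set.mem_univ, iff_true]
    rcases canonStab_cases hK _ reeUel_010_ne t t.2 with h | h
    · left; exact Subtype.ext h
    · right; exact Subtype.ext h

/-- the three canonical points are distinct -/
theorem canon_distinct (hK : Fintype.card K = 3 ^ (2 * m + 1)) (p : K × K × K) (hp : reeUel m p ≠ 1) :
    pt (1 : RG K m) ≠ pt (nG K m) ∧ pt (1 : RG K m) ≠ pt (uG p * nG K m) ∧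
      pt (nG K m) ≠ pt (uG p * nG K m) := by
  refine ⟨?_, ?_, ?_⟩
  · rw [Ne, pt_eq]
    intro h
    apply reeNN_not_borel hK
    simpa [nG] using h
  · rw [Ne, pt_eq]
    intro h
    apply ne_infty_GL hK p
    simpa [nG, uG] using h
  · rw [Ne, pt_eq]
    intro h
    apply ne_zero_GL hK p hp
    simpa only [Subgroup.coe_mul, uG, nG] using h

/-- three point stabilisers of `²G₂(q)` on `G¹ / B¹` -/
theorem three_point (hK : Fintype.card K = 3 ^ (2 * m + 1)) :
    (∀ x y z : RG K m ⧸ RB K m, x ≠ y → x ≠ z → y ≠ z →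
        Nat.card ↥(MulAction.stabilizer (RG K m) x ⊓ MulAction.stabilizer (RG K m) y ⊓
          MulAction.stabilizer (RG K m) z) ≤ 2) ∧
      ∃ x y z : RG K m ⧸ RB K m, x ≠ y ∧ x ≠ z ∧ y ≠ z ∧
        Nat.card ↥(MulAction.stabilizer (RG K m) x ⊓ MulAction.stabilizer (RG K m) y ⊓
          MulAction.stabilizer (RG K m) z) = 2 := by
  constructor
  · intro x y z hxy hxz hyz
    obtain ⟨g, p, hp, ex, ey, ez⟩ := exists_canon hK x y z hxy hxz hyz
    rw [← card_stab3_smul g x y z, ex, ey, ez]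
    exact card_canonStab_le hK p hp
  · obtain ⟨d1, d2, d3⟩ := canon_distinct hK ((0, 1, 0) : K × K × K) reeUel_010_ne
    exact ⟨_, _, _, d1, d2, d3, card_canonStab_eq hK⟩

end

end Cfsg.Agent.Lib.Helper18.ReeStab
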