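import Cfsg.Agent.Lib.Helper18.ReeWeyl
import Cfsg.Agent.Lib.Helper36.ChevUN

/-! # The rank one structure of the small Ree group `²G₂(q)` inside `G₂(q)` (helper18) -/

set_option autoImplicit false

namespace Cfsg.Agent.Lib.Helper18.Ree

open Cfsg Cfsg.Lie Cfsg.Agent.Lib.Helper36 Cfsg.Agent.Lib.Helper18

theorem w0_G2 : w0word chevG2 = [0, 1, 0, 1, 0, 1] := by decide +kernel

theorem w0_lt : ∀ i ∈ w0word chevG2, i < chevG2.rank := by
  rw [w0_G2]; decide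

theorem wRoot_w0 : ∀ r < 12, wRoot chevG2 (w0word chevG2) r = chevG2.neg r := by
  rw [w0_G2]; decide +kernel

section
variable (K : Type*) [Field K] [Fintype K] [CharP K 3] (m : ℕ) (hK : Fintype.card K = 3 ^ (2 * m + 1))

/-- the twisted group -/
abbrev G1 : Subgroup (GL chevG2.Idx K) := twistedG2 K (3 ^ m)
/-- `U¹ = U ∩ G¹` -/
abbrev U1 : Subgroup (GL chevG2.Idx K) := chevG2.posUnipotent K ⊓ twistedG2 K (3 ^ m)
/-- `H¹ = H ∩ G¹` -/
abbrev H1 : Subgroup (GL chevG2.Idx K) := chevG2.diagonalSubgroup K ⊓ twistedG2 K (3 ^ m)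
/-- `B¹ = B ∩ G¹` -/
abbrev B1 : Subgroup (GL chevG2.Idx K) := chevG2.borelSubgroup K ⊓ twistedG2 K (3 ^ m)
/-- `N¹ = N ∩ G¹` -/
abbrev N1 : Subgroup (GL chevG2.Idx K) := chevG2.monomialSubgroup K ⊓ twistedG2 K (3 ^ m)
/-- the longest element -/
noncomputable abbrev n0 : GL chevG2.Idx K := nWordGL chevG2 hG2 K (w0word chevG2)

include hK in
/-- elements of `G¹` are fixed by `σ` -/
theorem S_G1 (g : GL chevG2.Idx K) (hg : g ∈ G1 K m) : S K m g = g := by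
  rw [S_of_mem K m (twistedG2_le K m hg), sig_twistedG2 K m hK g hg]

include hK in
/-- the fixed points of `σ` on `U` lie in `U¹` -/
theorem fixU_mem (u : GL chevG2.Idx K) (hu : u ∈ chevG2.posUnipotent K) (hσ : S K m u = u) : u ∈ U1 K m := by
  have hG := posUnipotent_le_group chevG2 hG2 K hu
  rw [S_of_mem K m hG] at hσ
  have : sig K m ⟨u, hG⟩ = ⟨u, hG⟩ := Subtype.ext hσ
  exact (mem_U1_iff K m hK u).2 (fixU_eq K m hK u hu hG this)

omit [Fintype K] [CharP K 3] in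
theorem n0_mem : n0 K ∈ chevG2.monomialSubgroup K := nWordGL_mem chevG2 hG2 K _ w0_lt

omit [Fintype K] [CharP K 3] in
/-- `sGens` of a word acting trivially is empty -/
theorem sGens_id (l : List ℕ) (h : ∀ r < 12, wRoot chevG2 l r = r) : Subgroup.closure (sGens chevG2 K l) = ⊥ := by
  rw [Subgroup.closure_eq_bot_iff]
  rintro x ⟨s, t, hs, hws, -⟩
  exfalso
  rw [h s hs.1] at hws
  have : ¬ (chevG2.IsPosRoot s ∧ chevG2.IsNegRoot s) := by
    have : ∀ s < 12, ¬ (chevG2.IsPosRoot s ∧ chevG2.IsNegRoot s) := by decide +kernel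
    exact this s hs.1
  exact this ⟨hs, hws⟩

include hK in
/-- **the rank one Bruhat decomposition of `G¹`** -/
theorem struct (g : GL chevG2.Idx K) (hg : g ∈ G1 K m) :
    (∃ u ∈ U1 K m, ∃ h ∈ H1 K m, g = u * h) ∨
    (∃ u₁ ∈ U1 K m, ∃ n ∈ N1 K m, (n0 K)⁻¹ * n ∈ chevG2.diagonalSubgroup K ∧ ∃ u ∈ U1 K m, g = u₁ * n * u) := by
  obtain ⟨l, hl, hperm, u₁, hu₁, h₁, hh₁, u, hu, e, f1, f2, f3⟩ :=
    descent K m g (twistedG2_le K m hg) (S_G1 K m hK g hg)
  have hu₁' := fixU_mem K m hK u₁ hu₁ f1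
  have hu' := fixU_mem K m hK u (sGens_le_pos chevG2 K l hu) f2
  have hmid : h₁ * nWordGL chevG2 hG2 K l ∈ G1 K m := by
    have : h₁ * nWordGL chevG2 hG2 K l = u₁⁻¹ * g * u⁻¹ := by rw [e]; group
    rw [this]
    exact mul_mem (mul_mem (inv_mem hu₁'.2) hg) (inv_mem hu'.2)
  have hlr : ∀ i ∈ l, i < chevG2.rank := hl
  rcases weyl_cases l hl hperm with hc | hc
  · left
    have hn : nWordGL chevG2 hG2 K l ∈ chevG2.diagonalSubgroup K := by
      have := mem_diag_of_wRoot_eq chevG2 hG2 K l [] hlr (by simp) (fun r hr => by rw [hc r hr]; rfl)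
      simpa [nWordGL] using this
    have hu1 : u = 1 := by
      have := sGens_id K l hc
      rw [this, Subgroup.mem_bot] at hu
      exact hu
    refine ⟨u₁, hu₁', h₁ * nWordGL chevG2 hG2 K l, ⟨mul_mem hh₁ hn, hmid⟩, ?_⟩
    rw [e, hu1, mul_one]
  · right
    have hn : (n0 K)⁻¹ * nWordGL chevG2 hG2 K l ∈ chevG2.diagonalSubgroup K :=
      mem_diag_of_wRoot_eq chevG2 hG2 K l (w0word chevG2) hlr w0_lt
        (fun r hr => by rw [hc r hr, wRoot_w0 r hr])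
    have hlN : nWordGL chevG2 hG2 K l ∈ chevG2.monomialSubgroup K := nWordGL_mem chevG2 hG2 K l hlr
    have hHN : chevG2.diagonalSubgroup K ≤ chevG2.monomialSubgroup K := by
      unfold ChevalleyDatum.monomialSubgroup; exact le_sup_left
    refine ⟨u₁, hu₁', h₁ * nWordGL chevG2 hG2 K l, ⟨mul_mem (hHN hh₁) hlN, hmid⟩, ?_, u, hu', e⟩
    have h2 : (n0 K)⁻¹ * h₁ * n0 K ∈ chevG2.diagonalSubgroup K :=
      conj_mem_diag chevG2 hG2 K _ _ (n0_mem K) hh₁
    have : (n0 K)⁻¹ * (h₁ * nWordGL chevG2 hG2 K l) =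
        ((n0 K)⁻¹ * h₁ * n0 K) * ((n0 K)⁻¹ * nWordGL chevG2 hG2 K l) := by group
    rw [this]
    exact mul_mem h2 hn

end

end Cfsg.Agent.Lib.Helper18.Ree
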