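import Cfsg.Agent.Lib.Helper18.ReeStruct
import Cfsg.Agent.Lib.Helper36.ChevCentRoot

/-! # Consequences of the rank one structure theorem for `²G₂(q)` (helper18) -/

set_option autoImplicit false

namespace Cfsg.Agent.Lib.Helper18.Ree

open Cfsg Cfsg.Lie Cfsg.Agent.Lib.Helper36 Cfsg.Agent.Lib.Helper18

section
variable (K : Type*) [Field K]

theorem diag_le_mono : chevG2.diagonalSubgroup K ≤ chevG2.monomialSubgroup K := by
  unfold ChevalleyDatum.monomialSubgroup; exact le_sup_left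

theorem diag_le_borel : chevG2.diagonalSubgroup K ≤ chevG2.borelSubgroup K := by
  unfold ChevalleyDatum.borelSubgroup; exact le_sup_right

/-- `n₀ ∉ H` -/
theorem n0_not_mem_diag : n0 K ∉ chevG2.diagonalSubgroup K := by
  intro h
  have h1 := wPerm_eq_of_mem_diagonal chevG2 hG2 K _ w0_lt h ⟨6, by decide⟩
  have h2 := wPerm_val chevG2 hG2 _ w0_lt ⟨6, by decide⟩
  rw [h1] at h2
  have h3 := wRoot_w0 6 (by norm_num)
  rw [← h2] at h3
  revert h3
  decide +kernel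

/-- `n₀ ∉ B` -/
theorem n0_not_mem_borel : n0 K ∉ chevG2.borelSubgroup K := by
  intro h
  have : n0 K ∈ chevG2.borelSubgroup K ⊓ chevG2.monomialSubgroup K := ⟨h, n0_mem K⟩
  rw [borel_inf_monomial chevG2 hG2 K] at this
  exact n0_not_mem_diag K this

/-- an element of `n₀ H` is not in `B` -/
theorem not_mem_borel_of_n0 (n : GL chevG2.Idx K) (hn : (n0 K)⁻¹ * n ∈ chevG2.diagonalSubgroup K) :
    n ∉ chevG2.borelSubgroup K := by
  intro h
  apply n0_not_mem_borel K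
  have : n0 K = n * ((n0 K)⁻¹ * n)⁻¹ := by group
  rw [this]
  exact mul_mem h (inv_mem (diag_le_borel K hn))

/-- two elements of `n₀ H` differ by an element of `H` -/
theorem inv_mul_mem_diag_of_n0 (n n' : GL chevG2.Idx K) (hn : (n0 K)⁻¹ * n ∈ chevG2.diagonalSubgroup K)
    (hn' : (n0 K)⁻¹ * n' ∈ chevG2.diagonalSubgroup K) : n⁻¹ * n' ∈ chevG2.diagonalSubgroup K := by
  have : n⁻¹ * n' = ((n0 K)⁻¹ * n)⁻¹ * ((n0 K)⁻¹ * n') := by group
  rw [this]
  exact mul_mem (inv_mem hn) hn'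

/-- `n₀² ∈ H` -/
theorem n0_sq_mem : n0 K * n0 K ∈ chevG2.diagonalSubgroup K := by
  have h := mem_diag_of_wRoot_eq chevG2 hG2 K (w0word chevG2 ++ w0word chevG2) []
    (by intro i hi; rcases List.mem_append.1 hi with h | h <;> exact w0_lt i h) (by simp)
    (by
      intro r hr
      rw [wRoot_append, wRoot_w0 r hr, wRoot_w0 _ ((rho_spec r hr).2.2.2.2.2.2.1)]
      revert r
      decide +kernel)
  rw [nWordGL_append] at h
  simpa [nWordGL] using h

/-- the product of two elements of `n₀ H` is in `H` -/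
theorem mul_mem_diag_of_n0 (n n' : GL chevG2.Idx K) (hn : (n0 K)⁻¹ * n ∈ chevG2.diagonalSubgroup K)
    (hn' : (n0 K)⁻¹ * n' ∈ chevG2.diagonalSubgroup K) : n * n' ∈ chevG2.diagonalSubgroup K := by
  set h := (n0 K)⁻¹ * n with hh
  set h' := (n0 K)⁻¹ * n' with hh'
  have e : n * n' = (n0 K * n0 K) * ((n0 K)⁻¹ * h * n0 K) * h' := by rw [hh, hh']; group
  rw [e]
  exact mul_mem (mul_mem (n0_sq_mem K) (conj_mem_diag chevG2 hG2 K _ _ (n0_mem K) hn)) hn'

end

section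
variable (K : Type*) [Field K] [Fintype K] [CharP K 3] (m : ℕ) (hK : Fintype.card K = 3 ^ (2 * m + 1))

omit [Fintype K] [CharP K 3] in
/-- a non-trivial element of `V ∩ G¹` -/
theorem exists_v : ∃ v ∈ chevG2.negUnipotent K ⊓ twistedG2 K (3 ^ m), v ≠ 1 := by
  refine ⟨wordGL chevG2 hG2 K (reeWordV (3 ^ m) 0 1 0), ⟨?_, mem_twistedG2_V K m 0 1 0⟩, ?_⟩
  · apply wordGL_mem
    intro p hp
    have e7 : reeWordV (3 ^ m) (0 : K) 1 0 = [(4, -((0 : K) ^ 3 ^ m)), (5, -0), (3, -((0 : K) ^ (3 ^ m + 1) + 1 ^ 3 ^ m)),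
      (2, -((0 : K) ^ (2 * 3 ^ m + 1) + 0 ^ 3 ^ m)), (1, -1), (0, -0)] := rfl
    rw [e7] at hp
    simp only [List.mem_cons, List.not_mem_nil, or_false] at hp
    have h0 : chevG2.IsNegRoot 0 := by decide +kernel
    have h1 : chevG2.IsNegRoot 1 := by decide +kernel
    have h2 : chevG2.IsNegRoot 2 := by decide +kernel
    have h3 : chevG2.IsNegRoot 3 := by decide +kernel
    have h4 : chevG2.IsNegRoot 4 := by decide +kernel
    have h5 : chevG2.IsNegRoot 5 := by decide +kernel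
    rcases hp with rfl | rfl | rfl | rfl | rfl | rfl
    · exact Subgroup.subset_closure ⟨_, _, h4, xGL_coe chevG2 hG2 K _ _⟩
    · exact Subgroup.subset_closure ⟨_, _, h5, xGL_coe chevG2 hG2 K _ _⟩
    · exact Subgroup.subset_closure ⟨_, _, h3, xGL_coe chevG2 hG2 K _ _⟩
    · exact Subgroup.subset_closure ⟨_, _, h2, xGL_coe chevG2 hG2 K _ _⟩
    · exact Subgroup.subset_closure ⟨_, _, h1, xGL_coe chevG2 hG2 K _ _⟩
    · exact Subgroup.subset_closure ⟨_, _, h0, xGL_coe chevG2 hG2 K _ _⟩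
  · have e7 : reeWordV (3 ^ m) (0 : K) 1 0 = [(4, -((0 : K) ^ 3 ^ m)), (5, -0), (3, -((0 : K) ^ (3 ^ m + 1) + 1 ^ 3 ^ m)),
      (2, -((0 : K) ^ (2 * 3 ^ m + 1) + 0 ^ 3 ^ m)), (1, -1), (0, -0)] := rfl
    rw [e7]
    have hpos : 3 ^ m ≠ 0 := pow_ne_zero _ (by norm_num)
    simp only [wordGL, List.map_cons, List.map_nil, List.prod_cons, List.prod_nil, mul_one, zero_pow hpos, neg_zero,
      one_pow, zero_add, ne_eq, Nat.add_eq_zero_iff, one_ne_zero, and_false, not_false_eq_true, zero_pow, add_zero,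
      xGL_zero, one_mul]
    intro h
    have h2 : xGL chevG2 hG2 K 3 (-1) = xGL chevG2 hG2 K 1 1 := by
      have : xGL chevG2 hG2 K 3 (-1) = (xGL chevG2 hG2 K 1 (-1))⁻¹ := eq_inv_of_mul_eq_one_left h
      rw [this, xGL_inv, neg_neg]
    have := xGL_eq_root chevG2 hG2 K 1 3 (by decide) (by decide) (by norm_num) (by decide +kernel) 1 (-1) h2
    exact one_ne_zero this

include hK in
/-- a representative of the longest element in `G¹` -/
theorem exists_nstar : ∃ n ∈ N1 K m, (n0 K)⁻¹ * n ∈ chevG2.diagonalSubgroup K := by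
  obtain ⟨v, ⟨hvV, hvG⟩, hv1⟩ := exists_v K m
  rcases struct K m hK v hvG with ⟨u, hu, h, hh, e⟩ | ⟨u₁, hu₁, n, hn, hn0, u, hu, e⟩
  · exfalso
    have : v ∈ chevG2.borelSubgroup K ⊓ chevG2.negUnipotent K :=
      ⟨by rw [e]; exact mul_mem (pos_le_borel chevG2 K hu.1) (diag_le_borel K hh.1), hvV⟩
    rw [borel_inf_neg chevG2 hG2 K, Subgroup.mem_bot] at this
    exact hv1 this
  · exact ⟨n, hn, hn0⟩

include hK in
/-- `B¹ = U¹ H¹` -/
theorem B1_eq (b : GL chevG2.Idx K) (hb : b ∈ B1 K m) : ∃ u ∈ U1 K m, ∃ h ∈ H1 K m, b = u * h := by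
  rcases struct K m hK b hb.2 with h | ⟨u₁, hu₁, n, hn, hn0, u, hu, e⟩
  · exact h
  · exfalso
    apply not_mem_borel_of_n0 K n hn0
    have : n = u₁⁻¹ * b * u⁻¹ := by rw [e]; group
    rw [this]
    exact mul_mem (mul_mem (inv_mem (pos_le_borel chevG2 K hu₁.1)) hb.1) (inv_mem (pos_le_borel chevG2 K hu.1))

include hK in
/-- `N¹ = H¹ ∪ n H¹` -/
theorem N1_cases (n : GL chevG2.Idx K) (hn : n ∈ N1 K m) :
    n ∈ H1 K m ∨ (n0 K)⁻¹ * n ∈ chevG2.diagonalSubgroup K := by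
  have h45 : ∀ i < chevG2.rank, H45 chevG2 K i := fun i hi => Cfsg.Agent.S1045.result chevG2 hG2 i hi
  rcases struct K m hK n hn.2 with ⟨u, hu, h, hh, e⟩ | ⟨u₁, hu₁, n', hn', hn0, u, hu, e⟩
  · left
    have : n ∈ chevG2.borelSubgroup K ⊓ chevG2.monomialSubgroup K :=
      ⟨by rw [e]; exact mul_mem (pos_le_borel chevG2 K hu.1) (diag_le_borel K hh.1), hn.1⟩
    rw [borel_inf_monomial chevG2 hG2 K] at this
    exact ⟨this, hn.2⟩
  · right
    have hc1 : n ∈ cell chevG2 K n := ⟨1, one_mem _, 1, one_mem _, by simp⟩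
    have hc2 : n ∈ cell chevG2 K n' := ⟨u₁, pos_le_borel chevG2 K hu₁.1, u, pos_le_borel chevG2 K hu.1, e⟩
    have h0 := bruhat_unique' chevG2 hG2 K h45 n n' n hn.1 hn'.1 hc1 hc2
    have : (n0 K)⁻¹ * n = ((n0 K)⁻¹ * n') * (n⁻¹ * n')⁻¹ := by group
    rw [this]
    exact mul_mem hn0 (inv_mem h0)

end

end Cfsg.Agent.Lib.Helper18.Ree
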