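import Cfsg.Agent.Lib.Helper18.ReeDesc3

/-! # The Weyl group elements of `G₂` commuting with the special symmetry (helper18) -/

set_option autoImplicit false

namespace Cfsg.Agent.Lib.Helper18.Ree

open Cfsg Cfsg.Lie Cfsg.Agent.Lib.Helper36 Cfsg.Agent.Lib.Helper18

/-- one reflection step on a list of roots -/
def stepL (i : ℕ) (p : List ℕ) : List ℕ := p.map (chevG2.reflectRoot i)

/-- one round of closing under the two reflections -/
def growL (L : List (List ℕ)) : List (List ℕ) := (L ++ L.map (stepL 0) ++ L.map (stepL 1)).dedup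

/-- all Weyl group elements, as lists of images of the twelve roots -/
def weylAll : List (List ℕ) := growL (growL (growL (growL (growL (growL [List.range 12])))))

theorem weylAll_spec :
    List.range 12 ∈ weylAll ∧ (∀ p ∈ weylAll, ∀ i < 2, stepL i p ∈ weylAll) ∧
    (∀ p ∈ weylAll, (∀ r < 12, rhoG2.getD (p.getD r 0) 0 = p.getD (rhoG2.getD r 0) 0) →
      p = List.range 12 ∨ p = (List.range 12).map chevG2.neg) := by
  decide +kernel

/-- the action of a word on the roots as a list -/
def permOf (l : List ℕ) : List ℕ := (List.range 12).map (wRoot chevG2 l)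

theorem permOf_cons (i : ℕ) (l : List ℕ) : permOf (i :: l) = stepL i (permOf l) := by
  unfold permOf stepL
  rw [List.map_map]
  rfl

theorem permOf_mem (l : List ℕ) (hl : ∀ i ∈ l, i < 2) : permOf l ∈ weylAll := by
  induction l with
  | nil =>
    have : permOf [] = List.range 12 := by
      unfold permOf
      exact List.map_id' _
    rw [this]; exact weylAll_spec.1
  | cons i l ih =>
    rw [permOf_cons]
    exact weylAll_spec.2.1 _ (ih (fun j hj => hl j (List.mem_cons_of_mem _ hj))) i (hl i List.mem_cons_self)

theorem permOf_getD (l : List ℕ) (r : ℕ) (hr : r < 12) : (permOf l).getD r 0 = wRoot chevG2 l r := by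
  unfold permOf
  rw [List.getD_eq_getElem?_getD, List.getElem?_map, List.getElem?_range hr]
  rfl

/-- a Weyl word commuting with the symmetry acts as `1` or as `-1` -/
theorem weyl_cases (l : List ℕ) (hl : ∀ i ∈ l, i < 2)
    (hperm : ∀ r < 12, wRoot chevG2 (l.map fun i => 1 - i) r = wRoot chevG2 l r) :
    (∀ r < 12, wRoot chevG2 l r = r) ∨ (∀ r < 12, wRoot chevG2 l r = chevG2.neg r) := by
  have h := weylAll_spec.2.2 (permOf l) (permOf_mem l hl) (by
    intro r hr
    rw [permOf_getD l r hr, permOf_getD l _ (rho_spec r hr).1, rho_wRoot l hl r hr, hperm _ (rho_spec r hr).1])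
  rcases h with h | h
  · left
    intro r hr
    rw [← permOf_getD l r hr, h, List.getD_eq_getElem?_getD, List.getElem?_range hr]; rfl
  · right
    intro r hr
    rw [← permOf_getD l r hr, h, List.getD_eq_getElem?_getD, List.getElem?_map, List.getElem?_range hr]; rfl

end Cfsg.Agent.Lib.Helper18.Ree
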