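import Cfsg.Agent.Lib.Helper18.RhPTS

/-! # Rh hive (helper38), part B: leaf RH-BURN2 — `∑_g fix(g)² = 2 |G|` (the action on `G / B` is 2-transitive) (helper18) -/

set_option autoImplicit false

namespace Cfsg.Agent.Lib.Helper38.Rh

open Cfsg.Agent.Lib.Helper12.Rt

section partB
variable {K : Type*} [Field K] [Fintype K] {G : Type*} [Group G] {m : ℕ} (D : RtData K G m)
include D

/-- every pair of points is in the orbit of `(B, B)` or of `(B, n B)` -/
theorem burn2_orbit (c c' : G ⧸ D.R.B) :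
    (c, c') ∈ MulAction.orbit G ((((1 : G) : G ⧸ D.R.B)), (((1 : G) : G ⧸ D.R.B))) ∨
    (c, c') ∈ MulAction.orbit G ((((1 : G) : G ⧸ D.R.B)), (((D.R.n : G) : G ⧸ D.R.B))) := by
  obtain ⟨x, rfl⟩ := QuotientGroup.mk_surjective c
  by_cases hcc : ((x : G) : G ⧸ D.R.B) = c'
  · left
    subst hcc
    refine ⟨x, ?_⟩
    show (x • ((1 : G) : G ⧸ D.R.B), x • ((1 : G) : G ⧸ D.R.B)) = _
    rw [MulAction.Quotient.smul_coe, smul_eq_mul, mul_one]
  · right
    rcases points D (x⁻¹ • c') with h1 | ⟨p, hp⟩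
    · exfalso
      apply hcc
      have : c' = x • (x⁻¹ • c') := by rw [smul_smul, mul_inv_cancel, one_smul]
      rw [this, h1, MulAction.Quotient.smul_coe, smul_eq_mul, mul_one]
    · refine ⟨x * D.R.u p, ?_⟩
      show ((x * D.R.u p) • ((1 : G) : G ⧸ D.R.B), (x * D.R.u p) • ((D.R.n : G) : G ⧸ D.R.B)) = _
      have e1 : (x * D.R.u p) • ((1 : G) : G ⧸ D.R.B) = ((x : G) : G ⧸ D.R.B) := by
        rw [MulAction.Quotient.smul_coe, smul_eq_mul, mul_one, QuotientGroup.eq]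
        have : (x * D.R.u p)⁻¹ * x = (D.R.u p)⁻¹ := by group
        rw [this]
        exact inv_mem (D.R.u_mem_B _)
      have e2 : (x * D.R.u p) • ((D.R.n : G) : G ⧸ D.R.B) = c' := by
        have : c' = x • (x⁻¹ • c') := by rw [smul_smul, mul_inv_cancel, one_smul]
        rw [this, hp, MulAction.Quotient.smul_coe, MulAction.Quotient.smul_coe, smul_eq_mul, smul_eq_mul, mul_assoc]
      rw [e1, e2]

/-- the two orbits are different -/
theorem burn2_ne :
    (Quotient.mk'' ((((1 : G) : G ⧸ D.R.B)), (((1 : G) : G ⧸ D.R.B))) :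
      Quotient (MulAction.orbitRel G ((G ⧸ D.R.B) × (G ⧸ D.R.B)))) ≠
    Quotient.mk'' ((((1 : G) : G ⧸ D.R.B)), (((D.R.n : G) : G ⧸ D.R.B))) := by
  intro h
  rw [Quotient.eq''] at h
  obtain ⟨g, hg⟩ := h
  have hg' : (g • ((1 : G) : G ⧸ D.R.B), g • ((D.R.n : G) : G ⧸ D.R.B)) =
      ((((1 : G) : G ⧸ D.R.B)), (((1 : G) : G ⧸ D.R.B))) := hg
  rw [Prod.ext_iff] at hg'
  obtain ⟨h1, h2⟩ := hg'
  simp only [] at h1 h2
  rw [MulAction.Quotient.smul_coe, smul_eq_mul, QuotientGroup.eq] at h1 h2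
  apply D.R.n_not_mem_B
  have : D.R.n = ((g * 1)⁻¹ * 1) * ((g * D.R.n)⁻¹ * 1)⁻¹ := by group
  rw [this]
  exact mul_mem h1 (inv_mem h2)

/-- exactly two orbits on pairs of points -/
theorem burn2_card_orbits :
    Nat.card (Quotient (MulAction.orbitRel G ((G ⧸ D.R.B) × (G ⧸ D.R.B)))) = 2 := by
  rw [Nat.card_eq_two_iff]
  refine ⟨_, _, burn2_ne D, ?_⟩
  ext ω
  simp only [Set.mem_insert_iff, Set.mem_singleton_iff, Set.mem_univ, iff_true]
  induction ω using Quotient.inductionOn' with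
  | h cc =>
    obtain ⟨c, c'⟩ := cc
    rcases burn2_orbit D c c' with h | h
    · left
      exact Quotient.sound' h
    · right
      exact Quotient.sound' h

/-- RH-BURN2.  `∑_g fix(g)² = 2 |G|` (the action is 2-transitive). -/
theorem card_fix_triples :
    Nat.card {x : G × (G ⧸ D.R.B) × (G ⧸ D.R.B) // x.1 • x.2.1 = x.2.1 ∧ x.1 • x.2.2 = x.2.2} = 2 * Nat.card G := by
  have e : {x : G × (G ⧸ D.R.B) × (G ⧸ D.R.B) // x.1 • x.2.1 = x.2.1 ∧ x.1 • x.2.2 = x.2.2} ≃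
      Σ g : G, MulAction.fixedBy ((G ⧸ D.R.B) × (G ⧸ D.R.B)) g :=
    { toFun := fun x => ⟨x.1.1, ⟨x.1.2, by
        show (x.1.1 • x.1.2.1, x.1.1 • x.1.2.2) = x.1.2
        exact Prod.ext x.2.1 x.2.2⟩⟩
      invFun := fun y => ⟨(y.1, y.2.1), by
        have h : (y.1 • y.2.1.1, y.1 • y.2.1.2) = y.2.1 := y.2.2
        exact ⟨congrArg Prod.fst h, congrArg Prod.snd h⟩⟩
      left_inv := fun x => rfl
      right_inv := fun y => rfl }
  rw [Nat.card_congr e, Nat.card_congr (MulAction.sigmaFixedByEquivOrbitsProdGroup G _), Nat.card_prod,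
    burn2_card_orbits D]

end partB

end Cfsg.Agent.Lib.Helper38.Rh
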