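import Cfsg.Agent.Lib.Helper12.RtDefs
import Cfsg.Agent.Lib.Helper12.ReeOutInst
import Cfsg.Agent.Lib.Helper12.ReeNormRee
import Cfsg.Agent.Lib.Helper36.ReeOdd
import Cfsg.Agent.Lib.Helper18.ReeNInv

/-! # Rt hive (helper12): leaf RT-INST — the data of `²G₂(q)` (helper18) -/

set_option autoImplicit false

namespace Cfsg.Agent.Lib.Helper12.Rt

open Cfsg Cfsg.Lie Cfsg.Agent.Lib.Helper36 Cfsg.Agent.Lib.Helper12.ReeOut Cfsg.Agent.Lib.Helper12.ReeInv

variable {K : Type*} [Field K] [Fintype K] {m : ℕ}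

theorem inst_neg_one_ne_one (hK : Fintype.card K = 3 ^ (2 * m + 1)) : (-1 : Kˣ) ≠ 1 := by
  haveI : CharP K 3 := ree_charP hK
  intro h
  have h1 : (-1 : K) = 1 := by
    have := congrArg (fun u : Kˣ => (u : K)) h
    simpa using this
  have h2 : (2 : K) = 0 := by
    have : (1 : K) + 1 = 0 := by
      nth_rewrite 1 [← h1]
      ring
    rw [← this]; norm_num
  have h3 : (3 : K) = 0 := by exact_mod_cast CharP.cast_eq_zero K 3
  have : (1 : K) = 0 := by
    have e : (1 : K) = 3 - 2 := by norm_num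
    rw [e, h3, h2, sub_zero]
  exact one_ne_zero this

theorem inst_hIa [CharP K 3] (hK : Fintype.card K = 3 ^ (2 * m + 1)) : aG hK = hG hK (-1) := by
  symm
  apply eq_aG hK
  · rw [hG_coe]
    exact reeHm_mem_diag _ _
  · intro h
    have : hG hK (-1) = hG hK 1 := by rw [h, map_one]
    exact inst_neg_one_ne_one hK (inst_h_inj hK this)
  · rw [← map_mul]
    have : (-1 : Kˣ) * (-1) = 1 := by simp
    rw [this, map_one]

/-- RT-INST. The data of `²G₂(q)`. -/
noncomputable def rtData18 (hm : 1 ≤ m) (hK : Fintype.card K = 3 ^ (2 * m + 1)) : RtData K ↥(twistedG2 K (3 ^ m)) m :=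
  haveI : CharP K 3 := ree_charP hK
  { R := reeOutData hK
    I := reeInvData hK
    hIa := inst_hIa hK
    card_G := ree_card hK
    n_inv := by
      intro s
      apply Subtype.ext
      exact Cfsg.Agent.Lib.Helper18.ReeNInv.reeNN_inv_conj_reeHm hK s
    fpf := by
      intro s hs hodd p hc
      have hc' : reeHm (3 ^ m) s * reeUel m p * (reeHm (3 ^ m) s)⁻¹ = reeUel m p := congrArg Subtype.val hc
      exact ree_odd_fixed_point_free hK s hs hodd p hc'
    syl2 := fun S => ree_sylow_two_normalizer hm hK S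
    syl2' := fun S => sylow_two hK S }

end Cfsg.Agent.Lib.Helper12.Rt
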