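import Cfsg.Agent.Lib.Helper18.G2M7Ree

/-! # Rt hive (helper12): leaf RT-MOD7 — the faithful 7-dimensional module of `²G₂(q)` (helper18) -/

set_option autoImplicit false

namespace Cfsg.Agent.Lib.Helper12.Rt

open Cfsg Cfsg.Lie Cfsg.Agent.Lib.Helper36

variable {K : Type*} [Field K] [Fintype K] {m : ℕ}

/-- RT-MOD7. The 7-dimensional module: in characteristic 3 the short root vectors and `h_a` span an ideal `W` of the
adjoint module `K^14`, stable under `twistedG2`; the restriction is faithful. -/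
theorem exists_rep7 (hm : 1 ≤ m) (hK : Fintype.card K = 3 ^ (2 * m + 1)) :
    ∃ (W : Submodule K (chevG2.Idx → K)) (ρ : ↥(twistedG2 K (3 ^ m)) →* Module.End K ↥W),
      Module.finrank K ↥W = 7 ∧ Function.Injective ρ := by
  obtain ⟨ρ, hρ, hW, -⟩ := Cfsg.Agent.Lib.Helper18.G2M7.exists_ree_mod7 (K := K) (m := m) hK
  exact ⟨Cfsg.Agent.Lib.Helper18.G2M7.W7 K, ρ, hW, hρ⟩

end Cfsg.Agent.Lib.Helper12.Rt
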