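import Cfsg.Agent.Lib.Helper12.RtSplit2

/-! # Rt hive (helper12): leaf RT-NH — the normaliser of the split torus `H` is `H ∪ H n` (helper18) -/

set_option autoImplicit false

namespace Cfsg.Agent.Lib.Helper12.Rt

open Cfsg.Agent.Lib.Helper12.ReeOut Cfsg.Agent.Lib.Helper12.ReeInv

namespace RtData

variable {K : Type*} [Field K] [Fintype K] {G : Type*} [Group G] {m : ℕ} (D : RtData K G m)

include D in
/-- a non-trivial element of odd order of `Kˣ` -/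
theorem nh_exists_odd (hm : 1 ≤ m) : ∃ s : Kˣ, s ≠ 1 ∧ Odd (orderOf s) := by
  classical
  have hq8 := q_mod8 m
  have hq27 : 27 ≤ 3 ^ (2 * m + 1) := by
    calc 27 = 3 ^ 3 := by norm_num
      _ ≤ 3 ^ (2 * m + 1) := Nat.pow_le_pow_right (by norm_num) (by omega)
  set q := 3 ^ (2 * m + 1) with hq
  have hk1 : (q - 1) / 2 ≠ 1 := by omega
  obtain ⟨ℓ, hℓ, hdvd⟩ := Nat.exists_prime_and_dvd hk1
  have hkodd : ¬ 2 ∣ (q - 1) / 2 := by omega
  have hℓ2 : ℓ ≠ 2 := by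
    rintro rfl
    exact hkodd hdvd
  have hdq : ℓ ∣ q - 1 := by
    have : (q - 1) / 2 ∣ q - 1 := Nat.div_dvd_of_dvd (by omega)
    exact hdvd.trans this
  have hcard : Fintype.card Kˣ = q - 1 := by rw [Fintype.card_units, D.R.hK]
  haveI : Fact ℓ.Prime := ⟨hℓ⟩
  obtain ⟨s, hs⟩ := exists_prime_orderOf_dvd_card ℓ (by rw [hcard]; exact hdq)
  refine ⟨s, ?_, ?_⟩
  · rintro rfl
    rw [orderOf_one] at hs
    exact hℓ.one_lt.ne hs
  · rw [hs]
    exact hℓ.odd_of_ne_two hℓ2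

/-- `n h(s) n⁻¹ = h(s⁻¹)` -/
theorem nh_n_conj (s : Kˣ) : D.R.n * D.R.h s * D.R.n⁻¹ = D.R.h s⁻¹ := by
  have := D.n_inv s⁻¹
  rw [inv_inv] at this
  rw [← this]
  group

/-- an element normalising `H` lies in `H ∪ H n` -/
theorem normalizer_H (hm : 1 ≤ m) (g : G) (hg : ∀ x ∈ D.H, g * x * g⁻¹ ∈ D.H) :
    g ∈ D.H ∨ ∃ s, g = D.R.h s * D.R.n := by
  obtain ⟨s, hs1, hsodd⟩ := D.nh_exists_odd hm
  obtain ⟨s', hs'⟩ := (D.mem_H _).1 (hg (D.R.h s) ((D.mem_H _).2 ⟨s, rfl⟩))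
  have hcomm : g * D.R.h s = D.R.h s' * g := by
    calc g * D.R.h s = (g * D.R.h s * g⁻¹) * g := by group
      _ = D.R.h s' * g := by rw [hs']
  rcases D.R.cases g with hB | ⟨p, s₁, p', rfl⟩
  · left
    obtain ⟨p, s₁, rfl⟩ := (D.R.mem_B g).1 hB
    obtain ⟨p₁, hp₁⟩ := D.conj_hu' s' p
    have h1 : D.R.u p * D.R.h (s₁ * s) = D.R.u p₁ * D.R.h (s' * s₁) := by
      rw [map_mul, map_mul, ← hp₁]
      calc D.R.u p * (D.R.h s₁ * D.R.h s) = D.R.u p * D.R.h s₁ * D.R.h s := by group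
        _ = D.R.h s' * (D.R.u p * D.R.h s₁) := hcomm
        _ = D.R.h s' * D.R.u p * (D.R.h s')⁻¹ * (D.R.h s' * D.R.h s₁) := by group
    obtain ⟨h2, h3⟩ := D.uh_unique _ _ _ _ h1
    have h4 : s' = s := by
      have : s₁ * s = s₁ * s' := by rw [h3, mul_comm]
      exact (mul_left_cancel this).symm
    rw [← h2, h4] at hp₁
    have h5 := D.fpf s hs1 hsodd p hp₁
    rw [D.mem_H]
    exact ⟨s₁, by rw [h5, D.R.u_zero, one_mul]⟩
  · right
    obtain ⟨p₁, hp₁⟩ := D.conj_hu' s' p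
    obtain ⟨p'', hp''⟩ := D.conj_hu' s⁻¹ p'
    have hsinv : D.R.h s⁻¹ = (D.R.h s)⁻¹ := map_inv _ _
    have hnc := D.nh_n_conj s
    have h1 : D.R.u p * D.R.h (s₁ * s⁻¹) * D.R.n * D.R.u p'' =
        D.R.u p₁ * D.R.h (s' * s₁) * D.R.n * D.R.u p' := by
      rw [← hp'', ← hp₁, map_mul, map_mul]
      have e1 : D.R.h s⁻¹ * D.R.n = D.R.n * D.R.h s := by rw [← hnc]; group
      calc D.R.u p * (D.R.h s₁ * D.R.h s⁻¹) * D.R.n * (D.R.h s⁻¹ * D.R.u p' * (D.R.h s⁻¹)⁻¹)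
          = D.R.u p * D.R.h s₁ * (D.R.h s⁻¹ * D.R.n) *
              (D.R.h s⁻¹ * D.R.u p' * (D.R.h s⁻¹)⁻¹) := by group
        _ = D.R.u p * D.R.h s₁ * (D.R.n * D.R.h s) *
              ((D.R.h s)⁻¹ * D.R.u p' * ((D.R.h s)⁻¹)⁻¹) := by rw [e1, hsinv]
        _ = D.R.u p * D.R.h s₁ * D.R.n * D.R.u p' * D.R.h s := by group
        _ = D.R.h s' * (D.R.u p * D.R.h s₁ * D.R.n * D.R.u p') := hcomm
        _ = D.R.h s' * D.R.u p * (D.R.h s')⁻¹ * (D.R.h s' * D.R.h s₁) * D.R.n * D.R.u p' := by group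
    obtain ⟨h2, h3, h4⟩ := D.big_unique _ _ _ _ _ _ h1
    have h5 : s' = s⁻¹ := by
      have : s₁ * s⁻¹ = s₁ * s' := by rw [h3, mul_comm]
      exact (mul_left_cancel this).symm
    have hsi1 : s⁻¹ ≠ 1 := fun h => hs1 (inv_eq_one.1 h)
    have hsiodd : Odd (orderOf s⁻¹) := by rw [orderOf_inv]; exact hsodd
    rw [h4] at hp''
    have h6 := D.fpf s⁻¹ hsi1 hsiodd p' hp''
    rw [← h2, h5] at hp₁
    have h7 := D.fpf s⁻¹ hsi1 hsiodd p hp₁
    exact ⟨s₁, by rw [h6, h7, D.R.u_zero, one_mul, mul_one]⟩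

/-- `n ∉ H` -/
theorem n_not_mem_H : D.R.n ∉ D.H := by
  intro h
  obtain ⟨s, hs⟩ := (D.mem_H _).1 h
  have h1 : D.R.n⁻¹ * D.R.u ((1, 0, 0) : K × K × K) * D.R.n ∈ D.R.B := by
    rw [hs]
    exact mul_mem (mul_mem (inv_mem (D.R.h_mem_B s)) (D.R.u_mem_B _)) (D.R.h_mem_B s)
  have h2 := D.R.opp' _ h1
  have h3 : (1 : K) = 0 := congrArg (fun p : K × K × K => p.1) h2
  exact one_ne_zero h3

/-- `H n ⊆ N(H)` and `H ⊆ N(H)` -/
theorem nh_mem_normalizer (g : G) (hg : g ∈ D.H ∨ ∃ s, g = D.R.h s * D.R.n) :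
    g ∈ Subgroup.normalizer (D.H : Set G) := by
  have hn : D.R.n ∈ Subgroup.normalizer (D.H : Set G) := by
    rw [Subgroup.mem_normalizer_iff]
    intro x
    constructor
    · intro hx
      obtain ⟨s, rfl⟩ := (D.mem_H x).1 hx
      rw [D.nh_n_conj]
      exact (D.mem_H _).2 ⟨_, rfl⟩
    · intro hx
      obtain ⟨s, hs⟩ := (D.mem_H _).1 hx
      have : x = D.R.n⁻¹ * D.R.h s * D.R.n := by rw [← hs]; group
      rw [this, D.n_inv]
      exact (D.mem_H _).2 ⟨_, rfl⟩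
  have hH : D.H ≤ Subgroup.normalizer (D.H : Set G) := Subgroup.le_normalizer
  rcases hg with hg | ⟨s, rfl⟩
  · exact hH hg
  · exact mul_mem (hH ((D.mem_H _).2 ⟨s, rfl⟩)) hn

/-- `|N_G(H)| = 2 (q - 1)` -/
theorem card_normalizer_H (hm : 1 ≤ m) :
    Nat.card ↥(Subgroup.normalizer (D.H : Set G)) = 2 * (3 ^ (2 * m + 1) - 1) := by
  classical
  haveI := D.finite
  have hset : ((Subgroup.normalizer (D.H : Set G) : Subgroup G) : Set G) =
      (D.H : Set G) ∪ (fun x => x * D.R.n) '' (D.H : Set G) := by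
    ext g
    constructor
    · intro hg
      have hg' : ∀ x ∈ D.H, g * x * g⁻¹ ∈ D.H := fun x hx => (Subgroup.mem_normalizer_iff.1 hg x).1 hx
      rcases D.normalizer_H hm g hg' with h | ⟨s, rfl⟩
      · exact Or.inl h
      · exact Or.inr ⟨D.R.h s, (D.mem_H _).2 ⟨s, rfl⟩, rfl⟩
    · rintro (h | ⟨x, hx, rfl⟩)
      · exact D.nh_mem_normalizer g (Or.inl h)
      · obtain ⟨s, rfl⟩ := (D.mem_H x).1 hx
        exact D.nh_mem_normalizer _ (Or.inr ⟨s, rfl⟩)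
  have hdisj : Disjoint (D.H : Set G) ((fun x => x * D.R.n) '' (D.H : Set G)) := by
    rw [Set.disjoint_left]
    rintro g hg ⟨x, hx, rfl⟩
    apply D.n_not_mem_H
    have : D.R.n = x⁻¹ * (x * D.R.n) := by group
    rw [this]
    exact mul_mem (inv_mem hx) hg
  have hinj : Function.Injective (fun x : G => x * D.R.n) := fun a b h => mul_right_cancel h
  calc Nat.card ↥(Subgroup.normalizer (D.H : Set G))
      = Set.ncard ((Subgroup.normalizer (D.H : Set G) : Subgroup G) : Set G) := (Nat.card_coe_set_eq _)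
    _ = Set.ncard ((D.H : Set G) ∪ (fun x => x * D.R.n) '' (D.H : Set G)) := by rw [hset]
    _ = Set.ncard (D.H : Set G) + Set.ncard ((fun x => x * D.R.n) '' (D.H : Set G)) :=
        Set.ncard_union_eq hdisj (Set.toFinite _) (Set.toFinite _)
    _ = Set.ncard (D.H : Set G) + Set.ncard (D.H : Set G) := by rw [Set.ncard_image_of_injective _ hinj]
    _ = 2 * (3 ^ (2 * m + 1) - 1) := by
        have : Set.ncard (D.H : Set G) = Nat.card ↥D.H := (Nat.card_coe_set_eq _).symm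
        rw [this, D.card_H]
        ring

end RtData

end Cfsg.Agent.Lib.Helper12.Rt
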