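import Cfsg.Agent.Lib.Helper12.RtNonsplitB

/-! # Rt hive (helper12) / Rc hive (helper52): `N_G(U) = B`, `|N_G(U)| = q³ (q - 1)` (helper18) -/

set_option autoImplicit false

namespace Cfsg.Agent.Lib.Helper12.Rt

open Cfsg.Agent.Lib.Helper12.ReeOut Cfsg.Agent.Lib.Helper12.ReeInv

namespace RtData

variable {K : Type*} [Field K] [Fintype K] {G : Type*} [Group G] {m : ℕ} (D : RtData K G m)

/-- `(1,0,0) ≠ 0` in `K × K × K` -/
theorem nu_e1_ne_zero : ((1, 0, 0) : K × K × K) ≠ 0 := by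
  intro h
  have : (1 : K) = 0 := congrArg (fun p : K × K × K => p.1) h
  exact one_ne_zero this

/-- `N_G(U) = B` -/
theorem normalizer_U : Subgroup.normalizer (D.R.U : Set G) = D.R.B := by
  apply le_antisymm
  · intro g hg
    have h1 := (Subgroup.mem_normalizer_iff.1 hg (D.R.u (1, 0, 0))).1 (D.R.u_mem_U _)
    obtain ⟨p', hp'⟩ := (D.R.mem_U _).1 h1
    exact D.R.ti g _ p' nu_e1_ne_zero hp'
  · intro b hb
    rw [Subgroup.mem_normalizer_iff]
    intro x
    constructor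
    · intro hx
      obtain ⟨p, rfl⟩ := (D.R.mem_U x).1 hx
      obtain ⟨p', hp'⟩ := D.R.B_conj_U b hb p
      rw [hp']
      exact D.R.u_mem_U _
    · intro hx
      obtain ⟨p, hp⟩ := (D.R.mem_U _).1 hx
      obtain ⟨p', hp'⟩ := D.R.B_conj_U b⁻¹ (inv_mem hb) p
      have : x = b⁻¹ * D.R.u p * b⁻¹⁻¹ := by rw [← hp]; group
      rw [this, hp']
      exact D.R.u_mem_U _

/-- `|N_G(U)| = q³ (q - 1)` -/
theorem card_normalizer_U :
    Nat.card ↥(Subgroup.normalizer (D.R.U : Set G)) = (3 ^ (2 * m + 1)) ^ 3 * (3 ^ (2 * m + 1) - 1) := by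
  rw [D.normalizer_U, D.card_B]

end RtData

end Cfsg.Agent.Lib.Helper12.Rt
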