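import Cfsg.Agent.Lib.Helper18.StPres
import Cfsg.Agent.Lib.Helper36.ChevCore
import Cfsg.Agent.S0312
import Cfsg.Agent.S1042

/-! # The centre of a Chevalley group is trivial; the homomorphisms from the presented groups (helper18) -/

set_option autoImplicit false

namespace Cfsg.Agent.Lib.Helper18

open Cfsg Cfsg.Lie Cfsg.Agent.Lib.Helper36

section
variable (D : ChevalleyDatum) (hD : D ∈ [chevG2, chevB2, chevD4, chevF4, chevE6, chevE7, chevE8])
variable (K : Type*) [Field K]

include hD in
theorem center_group_eq_bot : Subgroup.center ↥(D.group K) = ⊥ := by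
  rw [eq_bot_iff]
  intro z hz
  rw [Subgroup.mem_bot]
  rw [Subgroup.mem_center_iff] at hz
  obtain ⟨P, hB, -, -⟩ := Cfsg.Agent.S1042.result (F := K) D hD
  have hpar : P.parabolic ∅ = P.B := by
    unfold Cfsg.BNPair.parabolic
    rw [Subgroup.closure_empty, sup_bot_eq]
  have hnorm : z ∈ Subgroup.normalizer (P.parabolic ∅ : Set ↥(D.group K)) := by
    rw [Subgroup.mem_set_normalizer_iff]
    intro y
    have : z * y * z⁻¹ = y := by
      rw [← hz y, mul_inv_cancel_right]
    rw [this]
  rw [Cfsg.Agent.S0312.result P (Set.empty_subset _), hpar, hB, Subgroup.mem_subgroupOf] at hnorm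
  apply Subtype.ext
  apply eq_one_of_conj_mem_borel D hD K
  intro g hg
  have h1 := hz ⟨g, hg⟩
  have h2 : g * (z : GL D.Idx K) = (z : GL D.Idx K) * g := congrArg Subtype.val h1
  rw [h2, mul_inv_cancel_right]
  exact hnorm

/-- a homomorphism from a presented group to the Chevalley group matching the generators is onto -/
theorem surj_of_matching (rels : Set (FreeGroup (Fin D.nroots × K))) (θ : PresentedGroup rels →* ↥(D.group K))
    (hθ : ∀ (r : ℕ) (t : K), r < D.nroots → θ (PresentedGroup.mk rels (D.stX r t)) = xGr D hD K r t) :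
    Function.Surjective θ := by
  intro y
  have h1 : D.group K ≤ (θ.range).map (D.group K).subtype := by
    apply group_le D hD K
    intro r hr t
    refine ⟨xGr D hD K r t, ⟨_, hθ r t hr⟩, rfl⟩
  obtain ⟨z, ⟨w, hw⟩, hz⟩ := h1 y.2
  refine ⟨w, ?_⟩
  rw [hw]
  exact Subtype.ext hz

end

end Cfsg.Agent.Lib.Helper18
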