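import Cfsg.Agent.Lib.Helper18.StR1

/-! # Specification of the rank one table data (helper18) -/

set_option autoImplicit false
set_option maxRecDepth 100000

namespace Cfsg.Agent.Lib.Helper18

open Cfsg Cfsg.Lie Cfsg.Agent.Lib.Helper36

theorem ne_of_beq_false {a b : ℕ} (h : Nat.beq a b = false) : a ≠ b := by
  intro e
  rw [e] at h
  have : Nat.beq b b = true := Nat.beq_refl _
  rw [this] at h
  exact Bool.noConfusion h

theorem r1OK_spec (D : ChevalleyDatum) (i γ j : ℕ) (h : r1OK D i γ j = true) :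
    D.simple j ≠ D.simple i ∧ γ ≠ D.simple i ∧ γ ≠ D.simple j ∧ D.IsPosRoot γ ∧
    (∃ (c : ℕ × ℤ × ℕ × ℕ) (W1 W2 : List (ℕ × ℤ × ℕ × ℕ)),
      D.commTerms γ (D.neg (D.simple j)) = W1 ++ c :: W2 ∧ c.1 = D.simple i ∧ (c.2.1 = 1 ∨ c.2.1 = -1) ∧
      c.2.2.1 = 1 ∧ (∀ x ∈ W1, D.IsPosRoot x.1 ∧ x.1 ≠ D.simple i) ∧
      (∀ x ∈ W2, D.IsPosRoot x.1 ∧ x.1 ≠ D.simple i)) ∧
    D.reflectRoot i (D.neg (D.simple j)) ≠ D.reflectRoot i γ ∧
    D.reflectRoot i (D.neg (D.simple j)) ≠ D.neg (D.reflectRoot i γ) ∧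
    D.reflectRoot i γ < D.nroots ∧ D.reflectRoot i (D.neg (D.simple j)) < D.nroots ∧
    ∀ c ∈ D.commTerms (D.reflectRoot i γ) (D.reflectRoot i (D.neg (D.simple j))),
      c.1 = D.neg (D.simple i) ∨ (D.IsPosRoot c.1 ∧ c.1 ≠ D.simple i) := by
  unfold r1OK at h
  simp only [Bool.and_eq_true, Bool.not_eq_true', decide_eq_true_eq, List.all_eq_true, Bool.or_eq_true] at h
  obtain ⟨⟨⟨⟨⟨⟨⟨⟨⟨⟨⟨a1, a2⟩, a3⟩, a4⟩, a5⟩, a6⟩, a7⟩, a8⟩, a9⟩, a10⟩, a11⟩, a12⟩ := h
  refine ⟨ne_of_beq_false a1, ne_of_beq_false a2, ne_of_beq_false a3, a4, ?_, ne_of_beq_false a8,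
    ne_of_beq_false a9, a10, a11, ?_⟩
  · cases hf : (D.commTerms γ (D.neg (D.simple j))).find? (fun c => Nat.beq c.1 (D.simple i)) with
    | none => rw [hf] at a5; exact absurd a5 (by simp)
    | some c =>
      rw [hf] at a5
      simp only [Bool.and_eq_true, Bool.or_eq_true, decide_eq_true_eq] at a5
      obtain ⟨hc1, W1, W2, hsplit, hW1⟩ := List.find?_eq_some_iff_append.1 hf
      have hcp : c.1 = D.simple i := Nat.eq_of_beq_eq_true hc1
      refine ⟨c, W1, W2, hsplit, hcp, a5.1, Nat.eq_of_beq_eq_true a5.2, ?_, ?_⟩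
      · intro x hx
        have hx1 := hW1 x hx
        simp only [Bool.not_eq_true'] at hx1
        have hne := ne_of_beq_false hx1
        have := a7 x (by rw [hsplit]; exact List.mem_append_left _ hx)
        rcases this with h1 | h1
        · exact absurd (Nat.eq_of_beq_eq_true h1) hne
        · exact ⟨h1, hne⟩
      · have hcount := Nat.eq_of_beq_eq_true a6
        rw [hsplit, List.map_append, List.map_cons, List.count_append, List.count_cons, hcp] at hcount
        simp only [beq_self_eq_true, if_true] at hcount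
        have h0 : ((W2.map (·.1)).count (D.simple i)) = 0 := by omega
        rw [List.count_eq_zero] at h0
        intro x hx
        have hne : x.1 ≠ D.simple i := by
          intro e
          apply h0
          rw [← e]
          exact List.mem_map_of_mem hx
        have := a7 x (by rw [hsplit]; exact List.mem_append_right _ (List.mem_cons_of_mem _ hx))
        rcases this with h1 | h1
        · exact absurd (Nat.eq_of_beq_eq_true h1) hne
        · exact ⟨h1, hne⟩
  · intro c hc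
    rcases a12 c hc with h1 | h1
    · exact Or.inl (Nat.eq_of_beq_eq_true h1)
    · exact Or.inr ⟨h1.1, ne_of_beq_false h1.2⟩

end Cfsg.Agent.Lib.Helper18
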