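import Cfsg.Agent.Lib.Helper18.StUp
import Cfsg.Agent.Lib.Helper18.StR1Spec
import Cfsg.Agent.Lib.Helper36.ChevChar
import Cfsg.Agent.Lib.Helper36.ChevBV

/-! # The action of `n̄_p(t)` on the root elements of an abstract Steinberg system (helper18) -/

set_option autoImplicit false
set_option maxRecDepth 100000

namespace Cfsg.Agent.Lib.Helper18

open Cfsg Cfsg.Lie Cfsg.Agent.Lib.Helper36

section G
variable (D : ChevalleyDatum) (hD : D ∈ [chevG2, chevB2, chevD4, chevF4, chevE6, chevE7, chevE8])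
variable (F : Type*) [Field F]

include hD in
/-- `n_p(t) x_r(u) n_p(t)⁻¹ = x_{w_p r}(c u)` in the Chevalley group -/
theorem nGLt_conj (i : ℕ) (hi : i < D.rank) (t : F) (ht : t ≠ 0) (r : ℕ) (hr : r < D.nroots) :
    ∃ c : F, c ≠ 0 ∧ ∀ u : F, nGL D hD F (D.simple i) t * xGL D hD F r u * (nGL D hD F (D.simple i) t)⁻¹ =
      xGL D hD F (D.reflectRoot i r) (c * u) := by
  obtain ⟨hp, -, -, -, hs'⟩ := chkN2_spec D (chkN2_all D hD) i hi
  obtain ⟨h1', h2', h3, -⟩ := hs' r hr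
  have hwr : D.reflectRoot i r < D.nroots := h2' ▸ h1'
  have hh := hGL_mem_diag D hD F (D.simple i) hp t ht
  obtain ⟨χ, hχ, hk⟩ := exists_character_of_mem_diagonal D hD F _ hh
  refine ⟨(χ (D.reflectRoot i r) : F) * ((nEta D i r : ℤ) : F), ?_, fun u => ?_⟩
  · apply mul_ne_zero (Units.ne_zero _)
    rcases h3 with h | h <;> rw [h] <;> simp
  · rw [nGL_eq_hGL_mul D hD F i hi t]
    have e1 : nGL D hD F (D.simple i) 1 * xGL D hD F r u * (nGL D hD F (D.simple i) 1)⁻¹ =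
        xGL D hD F (D.reflectRoot i r) (((nEta D i r : ℤ) : F) * u) := by
      rw [xGL_reflect D hD F i r hi hr]
      congr 3
      rcases h3 with h | h <;> rw [h] <;> simp
    calc hGL D hD F (D.simple i) t * nGL D hD F (D.simple i) 1 * xGL D hD F r u *
          (hGL D hD F (D.simple i) t * nGL D hD F (D.simple i) 1)⁻¹
        = hGL D hD F (D.simple i) t * (nGL D hD F (D.simple i) 1 * xGL D hD F r u *
          (nGL D hD F (D.simple i) 1)⁻¹) * (hGL D hD F (D.simple i) t)⁻¹ := by group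
      _ = _ := by rw [e1, diag_conj_xGL D hD F _ χ hχ hk _ hwr, mul_assoc]

include hD in
theorem simple_facts (i : ℕ) (hi : i < D.rank) :
    D.simple i < D.nroots ∧ D.neg (D.simple i) < D.nroots ∧ D.neg (D.neg (D.simple i)) = D.simple i ∧
      D.IsPosRoot (D.simple i) ∧ D.IsNegRoot (D.neg (D.simple i)) ∧ D.neg (D.simple i) ≠ D.simple i := by
  have hpos := isPosRoot_simple D hD i hi
  exact ⟨hpos.1, wf_neg D (wf_all D hD) _ hpos.1, neg_neg_root D hD _ hpos.1, hpos, isNegRoot_neg D hD _ hpos,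
    (wf2_spec D (wf2_all D hD) _ hpos.1).1⟩

end G

section abstract
variable {D : ChevalleyDatum} {hD : D ∈ [chevG2, chevB2, chevD4, chevF4, chevE6, chevE7, chevE8]}
variable {F : Type*} [Field F] {Γ : Type*} [Group Γ] (S : StSys D hD F Γ)

/-- the action of `n̄_p(t)` on the root elements away from `±p`, on either side -/
theorem nb_conj_side (ρ : ℕ → ℕ) (ht : ℕ → ℤ) (ho : OrdSide D ρ ht) (i : ℕ) (hi : i < D.rank)
    (hu : UpSide D ρ i) (t : F) (ht0 : t ≠ 0) (s : ℕ) (hs : D.IsPosRoot s) (hsp : s ≠ D.simple i) :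
    ∃ c : F, c ≠ 0 ∧ ∀ u : F, S.nb (D.simple i) t * S.X (ρ s) u * (S.nb (D.simple i) t)⁻¹ =
      S.X (D.reflectRoot i (ρ s)) (c * u) := by
  obtain ⟨hp, hnp, hnn, -⟩ := simple_facts D hD i hi
  obtain ⟨c, hc, hG⟩ := nGLt_conj D hD F i hi t ht0 (ρ s) (hu.base s hs hsp).1
  refine ⟨c, hc, fun u => ?_⟩
  obtain ⟨s', hs', hsp', e⟩ := hu.refl s hs hsp
  apply inj_on_side S ρ ht ho
  · exact upS_le_gensS S ρ _ (nb_conj_mem_upS S ρ i hu hp hnp hnn t _ (X_mem_upS S ρ _ s hs hsp u))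
  · rw [e]
    exact X_mem_gensS S ρ 0 s' hs' (Nat.zero_le _) _
  · rw [map_mul, map_mul, map_inv, S.π_nb, S.π_X, S.π_X]
    exact hG u

theorem π_mem_pos (g : Γ) (hg : g ∈ Subgroup.closure (gensS S (fun r => r) 0)) : S.π g ∈ D.posUnipotent F := by
  induction hg using Subgroup.closure_induction with
  | mem x hx =>
    obtain ⟨s, t, hs, -, rfl⟩ := hx
    rw [S.π_X]
    exact Subgroup.subset_closure ⟨s, t, hs, rfl⟩
  | one => rw [map_one]; exact one_mem _
  | mul x y _ _ hx hy => rw [map_mul]; exact mul_mem hx hy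
  | inv x _ hx => rw [map_inv]; exact inv_mem hx

theorem π_mem_neg (g : Γ) (hg : g ∈ Subgroup.closure (gensS S D.neg 0)) : S.π g ∈ D.negUnipotent F := by
  induction hg using Subgroup.closure_induction with
  | mem x hx =>
    obtain ⟨s, t, hs, -, rfl⟩ := hx
    rw [S.π_X]
    exact Subgroup.subset_closure ⟨_, t, isNegRoot_neg D hD s hs, rfl⟩
  | one => rw [map_one]; exact one_mem _
  | mul x y _ _ hx hy => rw [map_mul]; exact mul_mem hx hy
  | inv x _ hx => rw [map_inv]; exact inv_mem hx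

theorem wordOf_map_append (f : (ℕ × ℤ × ℕ × ℕ) → ℕ × F) (W1 W2 : List (ℕ × ℤ × ℕ × ℕ)) (c : ℕ × ℤ × ℕ × ℕ) :
    wordOf S.X ((W1 ++ c :: W2).map f) =
      wordOf S.X (W1.map f) * S.X (f c).1 (f c).2 * wordOf S.X (W2.map f) := by
  rw [List.map_append, List.map_cons, wordOf_append, wordOf_cons, mul_assoc]

/-- the rank one relation: `n̄_p(t) x̄_p(u) n̄_p(t)⁻¹ = x̄_{-p}(c u)` -/
theorem nb_conj_simple (i : ℕ) (hi : i < D.rank) (t : F) (ht0 : t ≠ 0) :
    ∃ c : F, c ≠ 0 ∧ ∀ u : F, S.nb (D.simple i) t * S.X (D.simple i) u * (S.nb (D.simple i) t)⁻¹ =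
      S.X (D.neg (D.simple i)) (c * u) := by
  obtain ⟨hp, hnp, hnn, hpos, hneg, hne⟩ := simple_facts D hD i hi
  obtain ⟨c, hc, hG⟩ := nGLt_conj D hD F i hi t ht0 (D.simple i) hp
  have hrefl : D.reflectRoot i (D.simple i) = D.neg (D.simple i) := by
    unfold ChevalleyDatum.reflectRoot
    simp
  rw [hrefl] at hG
  refine ⟨c, hc, fun u => ?_⟩
  obtain ⟨γ, j, hj, hOK⟩ := exists_r1OK D hD i hi
  obtain ⟨b1, b2, b3, b4, ⟨c0, W1, W2, hsplit, hc0p, hc0C, hc0k, hW1, hW2⟩, b6, b7, b8, b9, b10⟩ :=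
    r1OK_spec D i γ j hOK
  set p := D.simple i with hp_def
  set δ := D.neg (D.simple j) with hδ_def
  obtain ⟨hpj, hnpj, hnnj, hposj, hnegj, hnej⟩ := simple_facts D hD j hj
  have huP := upSidePos D hD i hi
  have huN := upSideNeg D hD i hi
  have hoP := sidePos D hD
  have hoN := sideNeg D hD
  set n := S.nb p t with hn_def
  set Upos : Subgroup Γ := Subgroup.closure (upS S (fun r => r) p) with hU_def
  set Pm : Subgroup Γ := Subgroup.closure (Set.range (S.X (D.neg p)) ∪ (Upos : Set Γ)) with hPm_def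
  have hUP : Upos ≤ Pm := by
    intro x hx
    exact Subgroup.subset_closure (Or.inr hx)
  have hnU : ∀ k ∈ Upos, n * k * n⁻¹ ∈ Upos := fun k hk =>
    nb_conj_mem_upS S (fun r => r) i huP hp hnp hnn t k hk
  -- the conjugates of `x̄_γ`, `x̄_δ`
  obtain ⟨cγ, -, hγ⟩ := nb_conj_side S (fun r => r) _ hoP i hi huP t ht0 γ b4 b2
  obtain ⟨cδ, -, hδ⟩ := nb_conj_side S D.neg _ hoN i hi huN t ht0 (D.simple j) hposj b1
  -- Claim A
  have hA : n * S.X p u * n⁻¹ ∈ Pm := by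
    set a : F := -((c0.2.1 : ℤ) : F) * u with ha_def
    have hδγ : δ ≠ γ := by
      intro e
      rw [← e] at b4
      exact not_pos_and_neg D hD _ b4 hnegj
    have hδnγ : δ ≠ D.neg γ := by
      intro e
      have := congrArg D.neg e
      rw [hδ_def, hnnj, neg_neg_root D hD γ b4.1] at this
      exact b3 this.symm
    have hR2 := S.X_comm γ δ b4.1 hnpj hδγ hδnγ a 1
    unfold ChevalleyDatum.commWord at hR2
    rw [hsplit, wordOf_map_append] at hR2
    have hcoef : ((c0.2.1 : ℤ) : F) * (-a) ^ c0.2.2.1 * (1 : F) ^ c0.2.2.2 = u := by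
      rw [hc0k, pow_one, one_pow, mul_one, ha_def]
      rcases hc0C with h | h <;> rw [h] <;> simp
    simp only [hcoef, hc0p] at hR2
    -- the two outer words lie in `Upos`
    have hW1m : wordOf S.X (W1.map fun c => (c.1, ((c.2.1 : ℤ) : F) * (-a) ^ c.2.2.1 * (1 : F) ^ c.2.2.2)) ∈ Upos := by
      apply wordOf_mem
      intro q hq
      obtain ⟨x, hx, rfl⟩ := List.mem_map.1 hq
      exact X_mem_upS S (fun r => r) p x.1 (hW1 x hx).1 (hW1 x hx).2 _
    have hW2m : wordOf S.X (W2.map fun c => (c.1, ((c.2.1 : ℤ) : F) * (-a) ^ c.2.2.1 * (1 : F) ^ c.2.2.2)) ∈ Upos := by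
      apply wordOf_mem
      intro q hq
      obtain ⟨x, hx, rfl⟩ := List.mem_map.1 hq
      exact X_mem_upS S (fun r => r) p x.1 (hW2 x hx).1 (hW2 x hx).2 _
    set A1 := wordOf S.X (W1.map fun c => (c.1, ((c.2.1 : ℤ) : F) * (-a) ^ c.2.2.1 * (1 : F) ^ c.2.2.2))
    set A2 := wordOf S.X (W2.map fun c => (c.1, ((c.2.1 : ℤ) : F) * (-a) ^ c.2.2.1 * (1 : F) ^ c.2.2.2))
    -- the conjugated commutator
    have hcomm : n * ((S.X δ 1)⁻¹ * (S.X γ a)⁻¹ * S.X δ 1 * S.X γ a) * n⁻¹ ∈ Pm := by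
      have e : n * ((S.X δ 1)⁻¹ * (S.X γ a)⁻¹ * S.X δ 1 * S.X γ a) * n⁻¹ =
          (n * S.X δ 1 * n⁻¹)⁻¹ * (n * S.X γ a * n⁻¹)⁻¹ * (n * S.X δ 1 * n⁻¹) * (n * S.X γ a * n⁻¹) := by group
      rw [e, hγ a, hδ 1, S.X_comm _ _ b8 b9 b6 b7]
      apply wordOf_mem
      intro q hq
      unfold ChevalleyDatum.commWord at hq
      obtain ⟨x, hx, rfl⟩ := List.mem_map.1 hq
      rcases b10 x hx with h | h
      · simp only
        rw [h]
        exact Subgroup.subset_closure (Or.inl ⟨_, rfl⟩)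
      · exact hUP (X_mem_upS S (fun r => r) p x.1 h.1 h.2 _)
    have e2 : n * S.X p u * n⁻¹ = (n * A1 * n⁻¹)⁻¹ *
        (n * ((S.X δ 1)⁻¹ * (S.X γ a)⁻¹ * S.X δ 1 * S.X γ a) * n⁻¹) * (n * A2 * n⁻¹)⁻¹ := by
      rw [hR2]; group
    rw [e2]
    exact mul_mem (mul_mem (inv_mem (hUP (hnU _ hW1m))) hcomm) (inv_mem (hUP (hnU _ hW2m)))
  -- Claim B
  obtain ⟨e, z, hz, hez⟩ := decomp_of_normalizes Upos (S.X (D.neg p)) (S.X_add _)
    (fun a k hk => conj_mem_upS S (fun r => r) i huP _ hnp (Or.inr rfl) hnn a k hk) _ hA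
  -- compare in the Chevalley group
  have hzU : z ∈ Subgroup.closure (gensS S (fun r => r) 0) := upS_le_gensS S _ _ hz
  have hπ : S.π (n * S.X p u * n⁻¹) = xGL D hD F (D.neg p) (c * u) := by
    rw [map_mul, map_mul, map_inv, hn_def, S.π_nb, S.π_X]
    exact hG u
  rw [hez, map_mul, S.π_X] at hπ
  have hπz : S.π z = xGL D hD F (D.neg p) (-e + c * u) := by
    rw [← xGL_mul, ← hπ, ← mul_assoc, xGL_mul, neg_add_cancel, xGL_zero, one_mul]
  have hz1 : S.π z = 1 := by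
    have h1 : S.π z ∈ D.borelSubgroup F ⊓ D.negUnipotent F := by
      refine Subgroup.mem_inf.2 ⟨(le_sup_left : D.posUnipotent F ≤ D.borelSubgroup F) (π_mem_pos S z hzU), ?_⟩
      rw [hπz]
      exact Subgroup.subset_closure ⟨_, _, hneg, rfl⟩
    rw [borel_inf_neg D hD F, Subgroup.mem_bot] at h1
    exact h1
  have hz0 : z = 1 := by
    apply inj_on_side S (fun r => r) _ hoP z 1 hzU (one_mem _)
    rw [hz1, map_one]
  have he : -e + c * u = 0 := by
    apply x_eq_one_iff D hD F (D.neg p) hnp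
    have := congrArg (fun g : GL D.Idx F => (g : Matrix D.Idx D.Idx F)) (hπz.symm.trans hz1)
    simpa [xGL_coe] using this
  rw [hez, hz0, mul_one]
  congr 1
  linear_combination -he

end abstract

end Cfsg.Agent.Lib.Helper18
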