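import Cfsg.Agent.Lib.Helper18.StN
import Cfsg.Agent.Lib.Helper36.ChevWeyl

/-! # The kernel of the projection of an abstract Steinberg system lies in `H̄` (helper18) -/

set_option autoImplicit false
set_option maxRecDepth 100000

namespace Cfsg.Agent.Lib.Helper18

open Cfsg Cfsg.Lie Cfsg.Agent.Lib.Helper36

section abstract
variable {D : ChevalleyDatum} {hD : D ∈ [chevG2, chevB2, chevD4, chevF4, chevE6, chevE7, chevE8]}
variable {F : Type*} [Field F] {Γ : Type*} [Group Γ] (S : StSys D hD F Γ)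

/-- root elements with equal images are equal -/
theorem X_eq_of_xGL_eq (a s : ℕ) (ha : a < D.nroots) (hs : s < D.nroots) (x y : F)
    (h : xGL D hD F a x = xGL D hD F s y) : S.X a x = S.X s y := by
  have hoP := sidePos D hD
  have hoN := sideNeg D hD
  have hmix : ∀ (a b : ℕ) (x y : F), D.IsPosRoot a → D.IsNegRoot b →
      xGL D hD F a x = xGL D hD F b y → x = 0 ∧ y = 0 := by
    intro a b x y ha hb hab
    have h1 : xGL D hD F a x ∈ D.borelSubgroup F ⊓ D.negUnipotent F := by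
      refine Subgroup.mem_inf.2 ⟨(le_sup_left : D.posUnipotent F ≤ D.borelSubgroup F)
        (Subgroup.subset_closure ⟨a, x, ha, rfl⟩), ?_⟩
      rw [hab]
      exact Subgroup.subset_closure ⟨b, _, hb, rfl⟩
    rw [borel_inf_neg D hD F, Subgroup.mem_bot] at h1
    have h1' : xGL D hD F b y = 1 := by rw [← hab, h1]
    constructor
    · apply x_eq_one_iff D hD F a ha.1 x
      have := congrArg (fun g : GL D.Idx F => (g : Matrix D.Idx D.Idx F)) h1
      simpa [xGL_coe] using this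
    · apply x_eq_one_iff D hD F b hb.1 y
      have := congrArg (fun g : GL D.Idx F => (g : Matrix D.Idx D.Idx F)) h1'
      simpa [xGL_coe] using this
  have mN : ∀ (b : ℕ) (y : F), D.IsNegRoot b → S.X b y ∈ Subgroup.closure (gensS S D.neg 0) := by
    intro b y hb
    have e : b = D.neg (D.neg b) := (neg_neg_root D hD b hb.1).symm
    rw [e]
    exact X_mem_gensS S D.neg 0 _ (isPosRoot_neg D hD _ hb) (Nat.zero_le _) _
  rcases pos_or_neg D hD a ha with ha' | ha' <;> rcases pos_or_neg D hD s hs with hs' | hs'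
  · apply inj_on_side S (fun r => r) _ hoP _ _ (X_mem_Ub S _ ha' _) (X_mem_Ub S _ hs' _)
    rw [S.π_X, S.π_X]; exact h
  · obtain ⟨h1, h2⟩ := hmix a s x y ha' hs' h
    rw [h1, h2, S.X_zero, S.X_zero]
  · obtain ⟨h1, h2⟩ := hmix s a y x hs' ha' h.symm
    rw [h1, h2, S.X_zero, S.X_zero]
  · apply inj_on_side S D.neg _ hoN _ _ (mN a x ha') (mN s y hs')
    rw [S.π_X, S.π_X]; exact h

/-- an identity `n x_r(u) n⁻¹ = x_s(c u)` in the Chevalley group lifts to `N̄` -/
theorem transfer (n : Γ) (hn : n ∈ Nb S) (r s : ℕ) (hr : r < D.nroots) (hs : s < D.nroots) (c : F)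
    (h : ∀ u : F, S.π n * xGL D hD F r u * (S.π n)⁻¹ = xGL D hD F s (c * u)) (u : F) :
    n * S.X r u * n⁻¹ = S.X s (c * u) := by
  obtain ⟨l, hl, hact⟩ := Nb_acts S n hn
  obtain ⟨c', -, h'⟩ := hact r hr
  rw [h' u]
  apply X_eq_of_xGL_eq S _ _ (wRoot_lt D hD l hl r hr) hs
  rw [← h u]
  have := congrArg S.π (h' u)
  rw [map_mul, map_mul, map_inv, S.π_X, S.π_X] at this
  exact this.symm

/-- `n̄_p = n̄_p(1)` -/
def nS1 (i : ℕ) : Γ := S.nb (D.simple i) 1

theorem nS1_mem (i : ℕ) (hi : i < D.rank) : nS1 S i ∈ Nb S :=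
  Subgroup.subset_closure ⟨i, 1, hi, one_ne_zero, rfl⟩

/-- `n̄_p x̄_r(u) n̄_p⁻¹ = x̄_{w_p r}(η u)` with the sign of the Chevalley group -/
theorem nS1_conj (i : ℕ) (hi : i < D.rank) (r : ℕ) (hr : r < D.nroots) (u : F) :
    nS1 S i * S.X r u * (nS1 S i)⁻¹ = S.X (D.reflectRoot i r) (((nEta D i r : ℤ) : F) * u) := by
  obtain ⟨-, -, -, -, hs'⟩ := chkN2_spec D (chkN2_all D hD) i hi
  obtain ⟨h1', h2', h3, -⟩ := hs' r hr
  have hwr : D.reflectRoot i r < D.nroots := h2' ▸ h1'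
  apply transfer S _ (nS1_mem S i hi) r _ hr hwr
  intro u
  unfold nS1
  rw [S.π_nb, xGL_reflect D hD F i r hi hr]
  congr 3
  rcases h3 with h | h <;> rw [h] <;> simp

/-- `n̄_p n̄_r(t) n̄_p⁻¹ = n̄_{w_p r}(η t)` -/
theorem nS1_conj_nb (i : ℕ) (hi : i < D.rank) (r : ℕ) (hr : r < D.nroots) (t : F) :
    ∃ ε : F, (ε = 1 ∨ ε = -1) ∧
      nS1 S i * S.nb r t * (nS1 S i)⁻¹ = S.nb (D.reflectRoot i r) (ε * t) := by
  obtain ⟨-, -, -, -, hs'⟩ := chkN2_spec D (chkN2_all D hD) i hi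
  obtain ⟨-, -, h3, -, h5, -⟩ := hs' r hr
  have hnr := wf_neg D (wf_all D hD) r hr
  have hη : nEta D i (D.neg r) = nEta D i r := by
    rcases h3 with h | h <;> rw [h] at h5 ⊢ <;> omega
  refine ⟨((nEta D i r : ℤ) : F), by rcases h3 with h | h <;> rw [h] <;> simp, ?_⟩
  have e : nS1 S i * S.nb r t * (nS1 S i)⁻¹ = (nS1 S i * S.X r t * (nS1 S i)⁻¹) *
      (nS1 S i * S.X (D.neg r) (-t⁻¹) * (nS1 S i)⁻¹) * (nS1 S i * S.X r t * (nS1 S i)⁻¹) := by
    unfold StSys.nb; group
  rw [e, nS1_conj S i hi r hr, nS1_conj S i hi _ hnr, hη, reflectRoot_neg D hD i r hi hr]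
  unfold StSys.nb
  congr 2
  rcases h3 with h | h <;> rw [h] <;> simp

/-- the element `n̄_w` of a word -/
def nbWord (l : List ℕ) : Γ := (l.map fun i => nS1 S i).prod

theorem nbWord_cons (i : ℕ) (l : List ℕ) : nbWord S (i :: l) = nS1 S i * nbWord S l := by
  unfold nbWord
  rw [List.map_cons, List.prod_cons]

theorem nbWord_append (l l' : List ℕ) : nbWord S (l ++ l') = nbWord S l * nbWord S l' := by
  unfold nbWord
  rw [List.map_append, List.prod_append]

theorem nbWord_mem (l : List ℕ) (hl : ∀ i ∈ l, i < D.rank) : nbWord S l ∈ Nb S := by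
  unfold nbWord
  apply Subgroup.list_prod_mem
  intro g hg
  obtain ⟨i, hi, rfl⟩ := List.mem_map.1 hg
  exact nS1_mem S i (hl i hi)

theorem π_nbWord (l : List ℕ) : S.π (nbWord S l) = nWordGL D hD F l := by
  unfold nbWord nWordGL
  rw [map_list_prod, List.map_map]
  congr 1
  apply List.map_congr_left
  intro i _
  exact S.π_nb _ _

theorem nbWord_conj_nb (l : List ℕ) (hl : ∀ i ∈ l, i < D.rank) (r : ℕ) (hr : r < D.nroots) (t : F) :
    ∃ ε : F, (ε = 1 ∨ ε = -1) ∧
      nbWord S l * S.nb r t * (nbWord S l)⁻¹ = S.nb (wRoot D l r) (ε * t) := by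
  induction l with
  | nil => exact ⟨1, Or.inl rfl, by simp [nbWord, wRoot]⟩
  | cons i l ih =>
    have hl' : ∀ i' ∈ l, i' < D.rank := fun i' hi' => hl i' (List.mem_cons_of_mem _ hi')
    have hi := hl i (List.mem_cons_self ..)
    obtain ⟨ε, hε, h⟩ := ih hl'
    obtain ⟨ε', hε', h'⟩ := nS1_conj_nb S i hi _ (wRoot_lt D hD l hl' r hr) (ε * t)
    refine ⟨ε' * ε, ?_, ?_⟩
    · rcases hε with h1 | h1 <;> rcases hε' with h2 | h2 <;> rw [h1, h2] <;> simp
    · rw [nbWord_cons]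
      show _ = S.nb (D.reflectRoot i (wRoot D l r)) (ε' * ε * t)
      rw [mul_assoc ε' ε t, ← h', ← h]
      group

/-- `h̄_p(t)` -/
def hS (i : ℕ) (t : F) : Γ := S.nb (D.simple i) t * S.nb (D.simple i) (-1)

/-- the subgroup `H̄` generated by the `h̄_p(t)`, `p` fundamental -/
def Hb : Subgroup Γ := Subgroup.closure {g : Γ | ∃ (i : ℕ) (t : F), i < D.rank ∧ t ≠ 0 ∧ g = hS S i t}

theorem hS_mem (i : ℕ) (hi : i < D.rank) (t : F) (ht : t ≠ 0) : hS S i t ∈ Hb S :=
  Subgroup.subset_closure ⟨i, t, hi, ht, rfl⟩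

theorem hS_mem_Nb (i : ℕ) (hi : i < D.rank) (t : F) (ht : t ≠ 0) : hS S i t ∈ Nb S :=
  mul_mem (Subgroup.subset_closure ⟨i, t, hi, ht, rfl⟩)
    (Subgroup.subset_closure ⟨i, -1, hi, neg_ne_zero.2 one_ne_zero, rfl⟩)

theorem Hb_le_Nb : Hb S ≤ Nb S := by
  unfold Hb
  rw [Subgroup.closure_le]
  rintro g ⟨i, t, hi, ht, rfl⟩
  exact hS_mem_Nb S i hi t ht

theorem π_hS (i : ℕ) (t : F) : S.π (hS S i t) = hGL D hD F (D.simple i) t := by
  unfold hS
  rw [map_mul, S.π_nb, S.π_nb, hGL_eq]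

theorem π_Hb_mem (h : Γ) (hh : h ∈ Hb S) : S.π h ∈ D.diagonalSubgroup F := by
  unfold Hb at hh
  induction hh using Subgroup.closure_induction with
  | mem x hx =>
    obtain ⟨i, t, hi, ht, rfl⟩ := hx
    rw [π_hS]
    exact hGL_mem_diag D hD F _ (isPosRoot_simple D hD i hi).1 t ht
  | one => rw [map_one]; exact one_mem _
  | mul x y _ _ hx hy => rw [map_mul]; exact mul_mem hx hy
  | inv x _ hx => rw [map_inv]; exact inv_mem hx

/-- `n̄_p(s) = h̄_p(s) n̄_p` -/
theorem nb_eq_hS_mul (i : ℕ) (s : F) : S.nb (D.simple i) s = hS S i s * nS1 S i := by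
  unfold hS nS1
  rw [mul_assoc, ← S.nb_inv, inv_mul_cancel, mul_one]

/-- elements of `N̄` over the diagonal subgroup act on the root elements through a character -/
theorem diag_act (h : Γ) (hh : h ∈ Nb S) (hπ : S.π h ∈ D.diagonalSubgroup F) :
    ∃ χ : ℕ → Fˣ, D.IsRootCharacter χ ∧ ∀ r < D.nroots, ∀ u : F, h * S.X r u * h⁻¹ = S.X r ((χ r : F) * u) := by
  obtain ⟨χ, hχ, hk⟩ := exists_character_of_mem_diagonal D hD F _ hπ
  refine ⟨χ, hχ, fun r hr u => ?_⟩
  apply transfer S h hh r r hr hr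
  intro u
  exact diag_conj_xGL D hD F _ χ hχ hk r hr u

/-- `n̄_p(s)` normalises `H̄`, on the generators -/
theorem nb_conj_hS (i : ℕ) (hi : i < D.rank) (s : F) (hs : s ≠ 0) (j : ℕ) (hj : j < D.rank) (t : F) (ht : t ≠ 0) :
    S.nb (D.simple i) s * hS S j t * (S.nb (D.simple i) s)⁻¹ ∈ Hb S := by
  obtain ⟨hp, hnp, -⟩ := simple_facts D hD i hi
  set h := hS S j t with hh_def
  have hhN : h⁻¹ ∈ Nb S := inv_mem (hS_mem_Nb S j hj t ht)
  have hhπ : S.π h⁻¹ ∈ D.diagonalSubgroup F := by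
    rw [map_inv]
    exact inv_mem (π_Hb_mem S h (hS_mem S j hj t ht))
  obtain ⟨χ, hχ, hact⟩ := diag_act S h⁻¹ hhN hhπ
  set c : F := (χ (D.simple i) : F) with hc_def
  have hc0 : c ≠ 0 := Units.ne_zero _
  have hcn : ((χ (D.neg (D.simple i)) : Fˣ) : F) = c⁻¹ := by
    rw [hχ.1 _ hp]
    simp [hc_def]
  -- h⁻¹ n̄(s) h = n̄(c s)
  have e1 : h⁻¹ * S.nb (D.simple i) s * h = S.nb (D.simple i) (c * s) := by
    have a1 := hact _ hp s
    have a2 := hact _ hnp (-s⁻¹)
    rw [inv_inv] at a1 a2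
    have e : h⁻¹ * S.nb (D.simple i) s * h = (h⁻¹ * S.X (D.simple i) s * h) *
        (h⁻¹ * S.X (D.neg (D.simple i)) (-s⁻¹) * h) * (h⁻¹ * S.X (D.simple i) s * h) := by
      unfold StSys.nb; group
    rw [e, a1, a2, hcn]
    unfold StSys.nb
    congr 2
    rw [mul_inv, mul_neg]
  have e2 : S.nb (D.simple i) s * h * (S.nb (D.simple i) s)⁻¹ =
      h * (hS S i (c * s) * (hS S i s)⁻¹) := by
    have e3 : S.nb (D.simple i) s * h * (S.nb (D.simple i) s)⁻¹ =
        h * (h⁻¹ * S.nb (D.simple i) s * h) * (S.nb (D.simple i) s)⁻¹ := by group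
    rw [e3, e1, nb_eq_hS_mul S i (c * s), nb_eq_hS_mul S i s]
    group
  rw [e2]
  exact mul_mem (hS_mem S j hj t ht)
    (mul_mem (hS_mem S i hi _ (mul_ne_zero hc0 hs)) (inv_mem (hS_mem S i hi s hs)))

/-- `N̄` normalises `H̄` -/
theorem Nb_conj_Hb (n : Γ) (hn : n ∈ Nb S) (h : Γ) (hh : h ∈ Hb S) : n * h * n⁻¹ ∈ Hb S := by
  unfold Nb at hn
  induction hn using Subgroup.closure_induction'' generalizing h with
  | one => simpa using hh
  | mem x hx =>
    obtain ⟨i, s, hi, hs, rfl⟩ := hx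
    apply conj_mem_closure _ _ _ h hh
    rintro k ⟨j, t, hj, ht, rfl⟩
    exact nb_conj_hS S i hi s hs j hj t ht
  | inv_mem x hx =>
    obtain ⟨i, s, hi, hs, rfl⟩ := hx
    rw [S.nb_inv]
    apply conj_mem_closure _ _ _ h hh
    rintro k ⟨j, t, hj, ht, rfl⟩
    exact nb_conj_hS S i hi (-s) (neg_ne_zero.2 hs) j hj t ht
  | mul x y _ _ hx hy =>
    have := hx _ (hy h hh)
    have e : x * y * h * (x * y)⁻¹ = x * (y * h * y⁻¹) * x⁻¹ := by group
    rw [e]
    exact this

/-- every element of `N̄` is `n̄_w h` -/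
theorem Nb_decomp (n : Γ) (hn : n ∈ Nb S) :
    ∃ l : List ℕ, (∀ i ∈ l, i < D.rank) ∧ ∃ h ∈ Hb S, n = nbWord S l * h := by
  have hgen : ∀ (i : ℕ) (s : F), i < D.rank → s ≠ 0 →
      ∃ l : List ℕ, (∀ i ∈ l, i < D.rank) ∧ ∃ h ∈ Hb S, S.nb (D.simple i) s = nbWord S l * h := by
    intro i s hi hs
    refine ⟨[i], by simpa using hi, (nS1 S i)⁻¹ * hS S i s * (nS1 S i), ?_, ?_⟩
    · have := Nb_conj_Hb S _ (inv_mem (nS1_mem S i hi)) _ (hS_mem S i hi s hs)
      rwa [inv_inv] at this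
    · rw [nb_eq_hS_mul S i s]
      simp only [nbWord, List.map_cons, List.map_nil, List.prod_cons, List.prod_nil, mul_one]
      group
  unfold Nb at hn
  induction hn using Subgroup.closure_induction'' with
  | one => exact ⟨[], by simp, 1, one_mem _, by simp [nbWord]⟩
  | mem x hx =>
    obtain ⟨i, s, hi, hs, rfl⟩ := hx
    exact hgen i s hi hs
  | inv_mem x hx =>
    obtain ⟨i, s, hi, hs, rfl⟩ := hx
    rw [S.nb_inv]
    exact hgen i (-s) hi (neg_ne_zero.2 hs)
  | mul x y _ _ hx hy =>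
    obtain ⟨l, hl, h, hh, rfl⟩ := hx
    obtain ⟨l', hl', h', hh', rfl⟩ := hy
    refine ⟨l ++ l', ?_, ((nbWord S l')⁻¹ * h * nbWord S l') * h', ?_, ?_⟩
    · intro i hi
      rcases List.mem_append.1 hi with h1 | h1
      · exact hl i h1
      · exact hl' i h1
    · have := Nb_conj_Hb S _ (inv_mem (nbWord_mem S l' hl')) h hh
      rw [inv_inv] at this
      exact mul_mem this hh'
    · rw [nbWord_append]; group

end abstract

section combi
variable (D : ChevalleyDatum) (hD : D ∈ [chevG2, chevB2, chevD4, chevF4, chevE6, chevE7, chevE8])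

include hD in
/-- a negative root made positive by a word is sent to the negative of a fundamental root by a tail of the word -/
theorem exists_split (l : List ℕ) (hl : ∀ i ∈ l, i < D.rank) (β : ℕ) (hβ : D.IsNegRoot β)
    (hpos : D.IsPosRoot (wRoot D l β)) :
    ∃ (l1 : List ℕ) (a : ℕ) (l2 : List ℕ), l = l1 ++ a :: l2 ∧ wRoot D l2 β = D.neg (D.simple a) := by
  induction l with
  | nil => exact absurd hβ (fun h => not_pos_and_neg D hD β hpos h)
  | cons i t ih =>
    have hl' : ∀ i' ∈ t, i' < D.rank := fun i' hi' => hl i' (List.mem_cons_of_mem _ hi')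
    have hi := hl i (List.mem_cons_self ..)
    have hlt := wRoot_lt D hD t hl' β hβ.1
    rcases pos_or_neg D hD _ hlt with h | h
    · obtain ⟨l1, a, l2, e, h2⟩ := ih hl' h
      exact ⟨i :: l1, a, l2, by rw [e]; rfl, h2⟩
    · refine ⟨[], i, t, rfl, ?_⟩
      -- γ = wRoot t β negative with w_i γ positive, so γ = -p_i
      set γ := wRoot D t β with hγ
      have hpos' : D.IsPosRoot (D.reflectRoot i γ) := hpos
      have hnγ := isPosRoot_neg D hD γ h
      by_contra hne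
      have hne' : D.neg γ ≠ D.simple i := by
        intro e
        apply hne
        rw [← e, neg_neg_root D hD γ hlt]
      obtain ⟨h1, -⟩ := chkPerm_all D hD i hi _ hnγ hne'
      rw [reflectRoot_neg D hD i γ hi hlt] at h1
      have h2 := isNegRoot_neg D hD _ hpos'
      exact not_pos_and_neg D hD _ h1 h2

end combi

section reduce
variable {D : ChevalleyDatum} {hD : D ∈ [chevG2, chevB2, chevD4, chevF4, chevE6, chevE7, chevE8]}
variable {F : Type*} [Field F] {Γ : Type*} [Group Γ] (S : StSys D hD F Γ)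

theorem nS1_mul_nb_mem (a : ℕ) (ha : a < D.rank) (c : F) (hc : c ≠ 0) :
    nS1 S a * S.nb (D.simple a) c ∈ Hb S := by
  -- = h̄_a(-c)⁻¹
  have e : nS1 S a * S.nb (D.simple a) c = (hS S a (-c))⁻¹ := by
    unfold hS nS1
    rw [mul_inv_rev, S.nb_inv, S.nb_inv, neg_neg, neg_neg]
  rw [e]
  exact inv_mem (hS_mem S a ha _ (neg_ne_zero.2 hc))

/-- a word whose image lies in `H` gives an element of `H̄` -/
theorem nbWord_mem_Hb : ∀ (k : ℕ) (l : List ℕ), l.length ≤ k → (∀ i ∈ l, i < D.rank) →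
    nWordGL D hD F l ∈ D.diagonalSubgroup F → nbWord S l ∈ Hb S
  | 0, l, hk, _, _ => by
    have : l = [] := List.length_eq_zero_iff.1 (Nat.le_zero.1 hk)
    rw [this]
    simp [nbWord, one_mem]
  | k + 1, l, hk, hl, hdiag => by
    rcases List.eq_nil_or_concat l with rfl | ⟨l', j, hlj⟩
    · simp [nbWord, one_mem]
    rw [List.concat_eq_append] at hlj
    subst hlj
    have hl' : ∀ i ∈ l', i < D.rank := fun i hi => hl i (by simp [hi])
    have hj : j < D.rank := hl j (by simp)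
    obtain ⟨hp, hnp, hnn, hpos, hneg, hne⟩ := simple_facts D hD j hj
    -- the word fixes p_j
    have hfix : wRoot D (l' ++ [j]) (D.simple j) = D.simple j := by
      have h1 := wPerm_eq_of_mem_diagonal D hD F _ hl hdiag ⟨D.simple j, hp⟩
      have h2 := wPerm_val D hD _ hl ⟨D.simple j, hp⟩
      rw [h1] at h2
      exact h2.symm
    have hrefl : D.reflectRoot j (D.simple j) = D.neg (D.simple j) := by
      unfold ChevalleyDatum.reflectRoot
      simp
    rw [wRoot_append] at hfix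
    have hfix' : wRoot D l' (D.neg (D.simple j)) = D.simple j := by
      have : wRoot D [j] (D.simple j) = D.neg (D.simple j) := hrefl
      rw [this] at hfix
      exact hfix
    obtain ⟨l1, a, l2, e, h2⟩ := exists_split D hD l' hl' _ hneg (by rw [hfix']; exact hpos)
    have hl1 : ∀ i ∈ l1, i < D.rank := fun i hi => hl' i (by rw [e]; simp [hi])
    have ha : a < D.rank := hl' a (by rw [e]; simp)
    have hl2 : ∀ i ∈ l2, i < D.rank := fun i hi => hl' i (by rw [e]; simp [hi])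
    obtain ⟨hpa, -⟩ := simple_facts D hD a ha
    -- wRoot l2 p_j = p_a
    have h3 : wRoot D l2 (D.simple j) = D.simple a := by
      rw [Cfsg.Agent.Lib.Helper18.wRoot_neg D hD l2 hl2 _ hp] at h2
      have := congrArg D.neg h2
      rw [neg_neg_root D hD _ (wRoot_lt D hD l2 hl2 _ hp), neg_neg_root D hD _ hpa] at this
      exact this
    obtain ⟨ε, hε, hconj⟩ := nbWord_conj_nb S l2 hl2 (D.simple j) hp 1
    rw [h3, mul_one] at hconj
    have hε0 : ε ≠ 0 := by rcases hε with h | h <;> rw [h] <;> simp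
    -- n̄_l = (n̄_{l1} (n̄_a n̄_a(ε)) n̄_{l1}⁻¹) n̄_{l1 ++ l2}
    have hh : nS1 S a * S.nb (D.simple a) ε ∈ Hb S := nS1_mul_nb_mem S a ha ε hε0
    have hh' := Nb_conj_Hb S _ (nbWord_mem S l1 hl1) _ hh
    have eform : nbWord S (l' ++ [j]) =
        (nbWord S l1 * (nS1 S a * S.nb (D.simple a) ε) * (nbWord S l1)⁻¹) * nbWord S (l1 ++ l2) := by
      rw [e, nbWord_append, nbWord_append, nbWord_cons, nbWord_append, ← hconj]
      simp only [nbWord, List.map_cons, List.map_nil, List.prod_cons, List.prod_nil, mul_one, nS1]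
      group
    rw [eform]
    refine mul_mem hh' (nbWord_mem_Hb k (l1 ++ l2) ?_ ?_ ?_)
    · have : (l' ++ [j]).length = l1.length + l2.length + 2 := by
        rw [e]; simp; omega
      rw [List.length_append]
      omega
    · intro i hi
      rcases List.mem_append.1 hi with h | h
      · exact hl1 i h
      · exact hl2 i h
    · have h5 := congrArg S.π eform
      rw [π_nbWord, map_mul, π_nbWord] at h5
      have h6 : nWordGL D hD F (l1 ++ l2) =
          (S.π (nbWord S l1 * (nS1 S a * S.nb (D.simple a) ε) * (nbWord S l1)⁻¹))⁻¹ * nWordGL D hD F (l' ++ [j]) := by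
        rw [h5]; group
      rw [h6]
      exact mul_mem (inv_mem (π_Hb_mem S _ hh')) hdiag

/-- the kernel of the projection lies in `H̄` -/
theorem ker_le_Hb (g : Γ) (hg : S.π g = 1) : g ∈ Hb S := by
  obtain ⟨hN, -⟩ := ker_le S g hg
  obtain ⟨l, hl, h, hh, rfl⟩ := Nb_decomp S g hN
  refine mul_mem (nbWord_mem_Hb S l.length l le_rfl hl ?_) hh
  rw [map_mul, π_nbWord] at hg
  have : nWordGL D hD F l = (S.π h)⁻¹ := eq_inv_of_mul_eq_one_left hg
  rw [this]
  exact inv_mem (π_Hb_mem S h hh)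

end reduce

end Cfsg.Agent.Lib.Helper18
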