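import Cfsg.Agent.Lib.Helper18.StConj
import Cfsg.Agent.Lib.Helper36.ChevUN

/-! # The subgroup `N̄` of an abstract Steinberg system, the decomposition `Γ = Ū N̄ Ū` and the kernel of the
projection (helper18) -/

set_option autoImplicit false
set_option maxRecDepth 100000

namespace Cfsg.Agent.Lib.Helper18

open Cfsg Cfsg.Lie Cfsg.Agent.Lib.Helper36

section abstract
variable {D : ChevalleyDatum} {hD : D ∈ [chevG2, chevB2, chevD4, chevF4, chevE6, chevE7, chevE8]}
variable {F : Type*} [Field F] {Γ : Type*} [Group Γ] (S : StSys D hD F Γ)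

/-- the action of `n̄_p(t)` on all root elements -/
theorem nb_conj_all (i : ℕ) (hi : i < D.rank) (t : F) (ht0 : t ≠ 0) (r : ℕ) (hr : r < D.nroots) :
    ∃ c : F, c ≠ 0 ∧ ∀ u : F, S.nb (D.simple i) t * S.X r u * (S.nb (D.simple i) t)⁻¹ =
      S.X (D.reflectRoot i r) (c * u) := by
  obtain ⟨hp, hnp, hnn, hpos, hneg, hne⟩ := simple_facts D hD i hi
  by_cases h1 : r = D.simple i
  · subst h1
    have hrefl : D.reflectRoot i (D.simple i) = D.neg (D.simple i) := by
      unfold ChevalleyDatum.reflectRoot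
      simp
    rw [hrefl]
    exact nb_conj_simple S i hi t ht0
  by_cases h2 : r = D.neg (D.simple i)
  · subst h2
    have hrefl : D.reflectRoot i (D.neg (D.simple i)) = D.simple i := by
      unfold ChevalleyDatum.reflectRoot
      simp [hne]
    rw [hrefl]
    obtain ⟨c, hc, h⟩ := nb_conj_simple S i hi (-t) (neg_ne_zero.2 ht0)
    refine ⟨c⁻¹, inv_ne_zero hc, fun u => ?_⟩
    have h3 := h (c⁻¹ * u)
    rw [← S.nb_inv, inv_inv, mul_inv_cancel_left₀ hc] at h3
    rw [← h3]
    group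
  rcases pos_or_neg D hD r hr with h3 | h3
  · exact nb_conj_side S (fun r => r) _ (sidePos D hD) i hi (upSidePos D hD i hi) t ht0 r h3 h1
  · have h4 := isPosRoot_neg D hD r h3
    have h5 : D.neg r ≠ D.simple i := by
      intro e
      apply h2
      rw [← e, neg_neg_root D hD r hr]
    have := nb_conj_side S D.neg _ (sideNeg D hD) i hi (upSideNeg D hD i hi) t ht0 (D.neg r) h4 h5
    rw [neg_neg_root D hD r hr] at this
    exact this

/-- the generators of `N̄` -/
def nbGens : Set Γ := {g : Γ | ∃ (i : ℕ) (t : F), i < D.rank ∧ t ≠ 0 ∧ g = S.nb (D.simple i) t}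

/-- the subgroup `N̄` -/
def Nb : Subgroup Γ := Subgroup.closure (nbGens S)

/-- `n` acts on the root elements like the word `l` -/
def ActsLike (n : Γ) (l : List ℕ) : Prop :=
  ∀ r < D.nroots, ∃ c : F, c ≠ 0 ∧ ∀ u : F, n * S.X r u * n⁻¹ = S.X (wRoot D l r) (c * u)

theorem wRoot_append (l l' : List ℕ) (r : ℕ) : wRoot D (l ++ l') r = wRoot D l (wRoot D l' r) := by
  unfold wRoot
  rw [List.foldr_append]

theorem Nb_acts (n : Γ) (hn : n ∈ Nb S) : ∃ l : List ℕ, (∀ i ∈ l, i < D.rank) ∧ ActsLike S n l := by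
  unfold Nb at hn
  induction hn using Subgroup.closure_induction'' with
  | one =>
    refine ⟨[], by simp, fun r _ => ⟨1, one_ne_zero, fun u => ?_⟩⟩
    simp [wRoot]
  | mem x hx =>
    obtain ⟨i, t, hi, ht, rfl⟩ := hx
    refine ⟨[i], by simpa using hi, fun r hr => ?_⟩
    exact nb_conj_all S i hi t ht r hr
  | inv_mem x hx =>
    obtain ⟨i, t, hi, ht, rfl⟩ := hx
    refine ⟨[i], by simpa using hi, fun r hr => ?_⟩
    rw [S.nb_inv]
    exact nb_conj_all S i hi (-t) (neg_ne_zero.2 ht) r hr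
  | mul x y _ _ hx hy =>
    obtain ⟨lx, hlx, hax⟩ := hx
    obtain ⟨ly, hly, hay⟩ := hy
    refine ⟨lx ++ ly, ?_, fun r hr => ?_⟩
    · intro i hi
      rcases List.mem_append.1 hi with h | h
      · exact hlx i h
      · exact hly i h
    · obtain ⟨c, hc, h1⟩ := hay r hr
      obtain ⟨c', hc', h2⟩ := hax _ (wRoot_lt D hD ly hly r hr)
      refine ⟨c' * c, mul_ne_zero hc' hc, fun u => ?_⟩
      rw [wRoot_append, mul_assoc c' c u, ← h2, ← h1]
      group

/-- `Ū` -/
def Ub : Subgroup Γ := Subgroup.closure (gensS S (fun r => r) 0)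

/-- the set `Ū N̄ Ū` -/
def bigM : Set Γ := {g : Γ | ∃ u ∈ Ub S, ∃ n ∈ Nb S, ∃ u' ∈ Ub S, g = u * n * u'}

theorem X_mem_Ub (s : ℕ) (hs : D.IsPosRoot s) (t : F) : S.X s t ∈ Ub S :=
  X_mem_gensS S (fun r => r) 0 s hs (Nat.zero_le _) t

theorem Ub_mul_bigM (u : Γ) (hu : u ∈ Ub S) (g : Γ) (hg : g ∈ bigM S) : u * g ∈ bigM S := by
  obtain ⟨u1, hu1, n, hn, u2, hu2, rfl⟩ := hg
  exact ⟨u * u1, mul_mem hu hu1, n, hn, u2, hu2, by group⟩

/-- `Ū = X̄_p Ū_p` -/
theorem Ub_decomp (i : ℕ) (hi : i < D.rank) (u : Γ) (hu : u ∈ Ub S) :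
    ∃ a : F, ∃ z ∈ Subgroup.closure (upS S (fun r => r) (D.simple i)), u = S.X (D.simple i) a * z := by
  obtain ⟨hp, hnp, hnn, hpos, hneg, hne⟩ := simple_facts D hD i hi
  apply decomp_of_normalizes _ (S.X (D.simple i)) (S.X_add _)
    (fun a k hk => conj_mem_upS S (fun r => r) i (upSidePos D hD i hi) _ hp (Or.inl rfl) hnn a k hk)
  refine Subgroup.closure_mono ?_ hu
  rintro x ⟨s, t, hs, -, rfl⟩
  by_cases h : s = D.simple i
  · left; rw [h]; exact ⟨t, rfl⟩
  · right; exact X_mem_upS S (fun r => r) _ s hs h t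

theorem nb_mul_bigM (i : ℕ) (hi : i < D.rank) (t : F) (ht0 : t ≠ 0) (g : Γ) (hg : g ∈ bigM S) :
    S.nb (D.simple i) t * g ∈ bigM S := by
  obtain ⟨hp, hnp, hnn, hpos, hneg, hne⟩ := simple_facts D hD i hi
  obtain ⟨u, hu, n, hn, u', hu', rfl⟩ := hg
  obtain ⟨a, z, hz, rfl⟩ := Ub_decomp S i hi u hu
  set p := D.simple i with hp_def
  set nb := S.nb p t with hnb_def
  have huP := upSidePos D hD i hi
  obtain ⟨c, hc, hconj⟩ := nb_conj_simple S i hi t ht0
  -- z' = nb z nb⁻¹, z'' = X(-p)(e) z' X(-p)(e)⁻¹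
  set e : F := c * a with he_def
  have hz' : nb * z * nb⁻¹ ∈ Subgroup.closure (upS S (fun r => r) p) :=
    nb_conj_mem_upS S (fun r => r) i huP hp hnp hnn t z hz
  have hz'' : S.X (D.neg p) e * (nb * z * nb⁻¹) * (S.X (D.neg p) e)⁻¹ ∈ Subgroup.closure (upS S (fun r => r) p) :=
    conj_mem_upS S (fun r => r) i huP _ hnp (Or.inr rfl) hnn e _ hz'
  set z'' := S.X (D.neg p) e * (nb * z * nb⁻¹) * (S.X (D.neg p) e)⁻¹ with hz''_def
  have hz''U : z'' ∈ Ub S := upS_le_gensS S _ _ hz''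
  set n' := nb * n with hn'_def
  have hnbN : nb ∈ Nb S := Subgroup.subset_closure ⟨i, t, hi, ht0, rfl⟩
  have hn' : n' ∈ Nb S := mul_mem hnbN hn
  have hform : nb * (S.X p a * z * n * u') = z'' * (S.X (D.neg p) e * n') * u' := by
    have h1 : nb * S.X p a * nb⁻¹ = S.X (D.neg p) e := hconj a
    rw [hz''_def, hn'_def, ← h1]
    group
  rw [hform]
  by_cases he0 : e = 0
  · rw [he0, S.X_zero, one_mul]
    exact ⟨z'', hz''U, n', hn', u', hu', rfl⟩
  · obtain ⟨l, hl, hact⟩ := Nb_acts S n'⁻¹ (inv_mem hn')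
    have hs0lt := wRoot_lt D hD l hl _ hnp
    rcases pos_or_neg D hD _ hs0lt with hs0 | hs0
    · obtain ⟨c1, -, h1⟩ := hact _ hnp
      have h2 := h1 e
      rw [inv_inv] at h2
      have h3 : S.X (D.neg p) e * n' = n' * S.X (wRoot D l (D.neg p)) (c1 * e) := by
        rw [← h2]; group
      rw [h3]
      exact ⟨z'', hz''U, n', hn', S.X (wRoot D l (D.neg p)) (c1 * e) * u',
        mul_mem (X_mem_Ub S _ hs0 _) hu', by group⟩
    · obtain ⟨c1, -, h1⟩ := hact _ hp
      have h2 := h1 e⁻¹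
      rw [inv_inv] at h2
      have hwp : wRoot D l p = D.neg (wRoot D l (D.neg p)) := by
        rw [Cfsg.Agent.Lib.Helper18.wRoot_neg D hD l hl p hp, neg_neg_root D hD _ (wRoot_lt D hD l hl p hp)]
      have hpos' : D.IsPosRoot (wRoot D l p) := by
        rw [hwp]; exact isPosRoot_neg D hD _ hs0
      have h3 : S.X p e⁻¹ * n' = n' * S.X (wRoot D l p) (c1 * e⁻¹) := by
        rw [← h2]; group
      have h4 : S.X (D.neg p) e * n' =
          S.X p e⁻¹ * (S.nb p (-e⁻¹) * n') * S.X (wRoot D l p) (c1 * e⁻¹) := by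
        rw [S.X_neg_eq p e he0, mul_assoc, mul_assoc, h3]
        group
      rw [h4]
      have hnbN' : S.nb p (-e⁻¹) ∈ Nb S :=
        Subgroup.subset_closure ⟨i, -e⁻¹, hi, neg_ne_zero.2 (inv_ne_zero he0), rfl⟩
      exact ⟨z'' * S.X p e⁻¹, mul_mem hz''U (X_mem_Ub S _ hpos _), S.nb p (-e⁻¹) * n', mul_mem hnbN' hn',
        S.X (wRoot D l p) (c1 * e⁻¹) * u', mul_mem (X_mem_Ub S _ hpos' _) hu', by group⟩

/-- `Γ` is generated by `Ū` and the `n̄_p(t)` -/
theorem gen_Ub_Nb : Subgroup.closure (gensS S (fun r => r) 0 ∪ nbGens S) = ⊤ := by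
  rw [eq_top_iff, ← S.gen, Subgroup.closure_le]
  rintro g ⟨r, t, hr, rfl⟩
  revert t
  refine root_induction D hD (fun r => ∀ t : F, S.X r t ∈ Subgroup.closure (gensS S (fun r => r) 0 ∪ nbGens S))
    ?_ ?_ r hr
  · intro i hi t
    exact Subgroup.subset_closure (Or.inl ⟨_, t, isPosRoot_simple D hD i hi, Nat.zero_le _, rfl⟩)
  · intro i hi r hr ih t
    obtain ⟨c, hc, h⟩ := nb_conj_all S i hi 1 one_ne_zero r hr
    have h1 := h (c⁻¹ * t)
    rw [mul_inv_cancel_left₀ hc] at h1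
    show S.X (D.reflectRoot i r) t ∈ _
    rw [← h1]
    have hnb : S.nb (D.simple i) 1 ∈ Subgroup.closure (gensS S (fun r => r) 0 ∪ nbGens S) :=
      Subgroup.subset_closure (Or.inr ⟨i, 1, hi, one_ne_zero, rfl⟩)
    exact mul_mem (mul_mem hnb (ih _)) (inv_mem hnb)

theorem bigM_eq_univ (g : Γ) : g ∈ bigM S := by
  have h1 : (1 : Γ) ∈ bigM S := ⟨1, one_mem _, 1, one_mem _, 1, one_mem _, by group⟩
  have hg : g ∈ Subgroup.closure (gensS S (fun r => r) 0 ∪ nbGens S) := by
    rw [gen_Ub_Nb]; trivial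
  have key : ∀ m ∈ bigM S, g * m ∈ bigM S := by
    induction hg using Subgroup.closure_induction'' with
    | one => intro m hm; rwa [one_mul]
    | mem x hx =>
      intro m hm
      rcases hx with hx | hx
      · exact Ub_mul_bigM S x (Subgroup.subset_closure hx) m hm
      · obtain ⟨i, t, hi, ht, rfl⟩ := hx
        exact nb_mul_bigM S i hi t ht m hm
    | inv_mem x hx =>
      intro m hm
      rcases hx with hx | hx
      · exact Ub_mul_bigM S x⁻¹ (inv_mem (Subgroup.subset_closure hx)) m hm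
      · obtain ⟨i, t, hi, ht, rfl⟩ := hx
        rw [S.nb_inv]
        exact nb_mul_bigM S i hi (-t) (neg_ne_zero.2 ht) m hm
    | mul x y _ _ hx hy =>
      intro m hm
      rw [mul_assoc]
      exact hx _ (hy m hm)
  have := key 1 h1
  rwa [mul_one] at this

theorem π_Nb_mem (n : Γ) (hn : n ∈ Nb S) : S.π n ∈ D.monomialSubgroup F := by
  unfold Nb at hn
  induction hn using Subgroup.closure_induction with
  | mem x hx =>
    obtain ⟨i, t, hi, ht, rfl⟩ := hx
    obtain ⟨hp, -⟩ := simple_facts D hD i hi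
    rw [S.π_nb, nGL_eq_hGL_mul D hD F i hi t]
    exact mul_mem ((le_sup_left : D.diagonalSubgroup F ≤ D.monomialSubgroup F) (hGL_mem_diag D hD F _ hp t ht))
      (nGL_mem_mono D hD F _ hp)
  | one => rw [map_one]; exact one_mem _
  | mul x y _ _ hx hy => rw [map_mul]; exact mul_mem hx hy
  | inv x _ hx => rw [map_inv]; exact inv_mem hx

/-- the kernel of the projection lies in `N̄` and in the centre -/
theorem ker_le (g : Γ) (hg : S.π g = 1) : g ∈ Nb S ∧ g ∈ Subgroup.center Γ := by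
  obtain ⟨u, hu, n, hn, u', hu', rfl⟩ := bigM_eq_univ S g
  have hoP := sidePos D hD
  have hoN := sideNeg D hD
  rw [map_mul, map_mul] at hg
  have hπn : S.π n = (S.π u)⁻¹ * (S.π u')⁻¹ := by
    have : S.π n = (S.π u)⁻¹ * (S.π u * S.π n * S.π u') * (S.π u')⁻¹ := by group
    rw [this, hg, mul_one]
  have hn1 : S.π n = 1 := by
    have h1 : S.π n ∈ D.posUnipotent F ⊓ D.monomialSubgroup F := by
      refine Subgroup.mem_inf.2 ⟨?_, π_Nb_mem S n hn⟩
      rw [hπn]
      exact mul_mem (inv_mem (π_mem_pos S u hu)) (inv_mem (π_mem_pos S u' hu'))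
    rw [pos_inf_monomial D hD F, Subgroup.mem_bot] at h1
    exact h1
  have huu : u * u' = 1 := by
    apply inj_on_side S (fun r => r) _ hoP _ 1 (mul_mem hu hu') (one_mem _)
    rw [map_mul, map_one]
    rw [hn1, mul_one] at hg
    exact hg
  -- n is central
  obtain ⟨l, hl, hact⟩ := Nb_acts S n hn
  have hcomm : ∀ r < D.nroots, ∀ v : F, n * S.X r v * n⁻¹ = S.X r v := by
    intro r hr v
    obtain ⟨c, hc, h⟩ := hact r hr
    have hwlt := wRoot_lt D hD l hl r hr
    have hπ : ∀ v : F, xGL D hD F r v = xGL D hD F (wRoot D l r) (c * v) := by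
      intro v
      have := congrArg S.π (h v)
      rw [map_mul, map_mul, map_inv, hn1, S.π_X, S.π_X] at this
      simpa using this
    have hmix : ∀ (a b : ℕ) (x y : F), D.IsPosRoot a → D.IsNegRoot b → x ≠ 0 →
        xGL D hD F a x = xGL D hD F b y → False := by
      intro a b x y ha hb hx hab
      have h1 : xGL D hD F a x ∈ D.borelSubgroup F ⊓ D.negUnipotent F := by
        refine Subgroup.mem_inf.2 ⟨(le_sup_left : D.posUnipotent F ≤ D.borelSubgroup F)
          (Subgroup.subset_closure ⟨a, x, ha, rfl⟩), ?_⟩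
        rw [hab]
        exact Subgroup.subset_closure ⟨b, _, hb, rfl⟩
      rw [borel_inf_neg D hD F, Subgroup.mem_bot] at h1
      have h2 := x_eq_one_iff D hD F a ha.1 x (by
        have := congrArg (fun g : GL D.Idx F => (g : Matrix D.Idx D.Idx F)) h1
        simpa [xGL_coe] using this)
      exact hx h2
    rw [h v]
    rcases pos_or_neg D hD r hr with hr' | hr'
    · rcases pos_or_neg D hD _ hwlt with hw | hw
      · apply inj_on_side S (fun r => r) _ hoP _ _ (X_mem_Ub S _ hw _) (X_mem_Ub S _ hr' _)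
        rw [S.π_X, S.π_X]
        exact (hπ v).symm
      · exact absurd (hπ 1) (fun e => hmix _ _ _ _ hr' hw one_ne_zero e)
    · rcases pos_or_neg D hD _ hwlt with hw | hw
      · exfalso
        exact hmix _ _ _ _ hw hr' (mul_ne_zero hc one_ne_zero) (hπ 1).symm
      · have e1 : r = D.neg (D.neg r) := (neg_neg_root D hD r hr).symm
        have e2 : wRoot D l r = D.neg (D.neg (wRoot D l r)) := (neg_neg_root D hD _ hwlt).symm
        have m1 : S.X (wRoot D l r) (c * v) ∈ Subgroup.closure (gensS S D.neg 0) := by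
          rw [e2]
          exact X_mem_gensS S D.neg 0 _ (isPosRoot_neg D hD _ hw) (Nat.zero_le _) _
        have m2 : S.X r v ∈ Subgroup.closure (gensS S D.neg 0) := by
          rw [e1]
          exact X_mem_gensS S D.neg 0 _ (isPosRoot_neg D hD _ hr') (Nat.zero_le _) _
        apply inj_on_side S D.neg _ hoN _ _ m1 m2
        rw [S.π_X, S.π_X]
        exact (hπ v).symm
  have hncen : n ∈ Subgroup.center Γ := by
    rw [Subgroup.mem_center_iff]
    intro g
    have hg : g ∈ Subgroup.closure {g : Γ | ∃ (r : ℕ) (t : F), r < D.nroots ∧ g = S.X r t} := by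
      rw [S.gen]; trivial
    induction hg using Subgroup.closure_induction with
    | mem x hx =>
      obtain ⟨r, t, hr, rfl⟩ := hx
      have := hcomm r hr t
      rw [mul_inv_eq_iff_eq_mul] at this
      exact this.symm
    | one => simp
    | mul x y _ _ hx hy => rw [mul_assoc, hy, ← mul_assoc, hx, mul_assoc]
    | inv x _ hx =>
      have : x⁻¹ * n = x⁻¹ * (n * x) * x⁻¹ := by group
      rw [this, ← hx]; group
  have hgn : u * n * u' = n := by
    rw [Subgroup.mem_center_iff] at hncen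
    rw [hncen u, mul_assoc, huu, mul_one]
  rw [hgn]
  exact ⟨hn, hncen⟩

end abstract

end Cfsg.Agent.Lib.Helper18
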