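import Cfsg.Agent.Lib.Helper18.StSys
import Cfsg.Agent.Lib.Helper18.ChevOrdAll
import Cfsg.Agent.Lib.Helper18.ChevSplit

/-! # Ordered products in an abstract Steinberg system, on the positive and on the negative side (helper18) -/

set_option autoImplicit false
set_option maxRecDepth 100000

namespace Cfsg.Agent.Lib.Helper18

open Cfsg Cfsg.Lie Cfsg.Agent.Lib.Helper36

/-- an ordered system of roots `ρ r`, `r` running over the positive root indices, with a height function -/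
structure OrdSide (D : ChevalleyDatum) (ρ : ℕ → ℕ) (ht : ℕ → ℤ) : Prop where
  lt : ∀ r, D.IsPosRoot r → ρ r < D.nroots
  ne : ∀ r s, D.IsPosRoot r → D.IsPosRoot s → r < s → ρ s ≠ ρ r ∧ ρ s ≠ D.neg (ρ r)
  terms : ∀ r s, D.IsPosRoot r → D.IsPosRoot s → r < s → ∀ c ∈ D.commTerms (ρ r) (ρ s),
    ∃ c', D.IsPosRoot c' ∧ r < c' ∧ c.1 = ρ c'
  addAt : ∀ r < D.nroots, AddAt D ht r
  pos : ∀ r, D.IsPosRoot r → 0 < ht (ρ r)
  mono : ∀ r s, D.IsPosRoot r → D.IsPosRoot s → r < s → ht (ρ r) < ht (ρ s)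
  prim : ∀ r, D.IsPosRoot r → ∀ d : ℤ, (∀ i < D.rank, d ∣ cor D (ρ r) i) → d ∣ 1
  negne : ∀ r, D.IsPosRoot r → D.neg (ρ r) ≠ ρ r ∧ D.neg (ρ r) < D.nroots

section abstract
variable {D : ChevalleyDatum} {hD : D ∈ [chevG2, chevB2, chevD4, chevF4, chevE6, chevE7, chevE8]}
variable {F : Type*} [Field F] {Γ : Type*} [Group Γ] (S : StSys D hD F Γ)
variable (ρ : ℕ → ℕ) (ht : ℕ → ℤ)

/-- generators of the `m`-th term of the chain -/
def gensS (m : ℕ) : Set Γ := {g : Γ | ∃ (s : ℕ) (t : F), D.IsPosRoot s ∧ m ≤ s ∧ g = S.X (ρ s) t}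

theorem X_mem_gensS (m s : ℕ) (hs : D.IsPosRoot s) (hms : m ≤ s) (u : F) :
    S.X (ρ s) u ∈ Subgroup.closure (gensS S ρ m) :=
  Subgroup.subset_closure ⟨s, u, hs, hms, rfl⟩

theorem gensS_succ_of_not_pos (r : ℕ) (hr : ¬ D.IsPosRoot r) : gensS S ρ r = gensS S ρ (r + 1) := by
  ext g
  constructor
  · rintro ⟨s, t, hs, hms, hg⟩
    refine ⟨s, t, hs, ?_, hg⟩
    rcases Nat.lt_or_ge r s with h | h
    · exact h
    · have : s = r := le_antisymm h hms
      rw [this] at hs
      exact absurd hs hr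
  · rintro ⟨s, t, hs, hms, hg⟩
    exact ⟨s, t, hs, by omega, hg⟩

theorem gensS_of_ge (m : ℕ) (hm : D.nroots ≤ m) : gensS S ρ m = ∅ := by
  ext g
  constructor
  · rintro ⟨s, t, hs, hms, -⟩
    have := hs.1
    omega
  · intro h; exact absurd h (Set.notMem_empty _)

theorem conj_gen_mem_gensS (ho : OrdSide D ρ ht) (r : ℕ) (hr : D.IsPosRoot r) (t : F) (k : Γ)
    (hk : k ∈ gensS S ρ (r + 1)) :
    S.X (ρ r) t * k * (S.X (ρ r) t)⁻¹ ∈ Subgroup.closure (gensS S ρ (r + 1)) := by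
  obtain ⟨s, u, hs, hrs, rfl⟩ := hk
  have hrs' : r < s := hrs
  obtain ⟨h1, h2⟩ := ho.ne r s hr hs hrs'
  rw [S.X_conj (ρ r) (ρ s) (ho.lt r hr) (ho.lt s hs) h1 h2]
  refine mul_mem (X_mem_gensS S ρ _ _ hs hrs _) ?_
  apply wordOf_mem
  intro q hq
  unfold ChevalleyDatum.commWord at hq
  obtain ⟨c, hc, rfl⟩ := List.mem_map.1 hq
  obtain ⟨c', hc', hrc', e⟩ := ho.terms r s hr hs hrs' c hc
  simp only
  rw [e]
  exact X_mem_gensS S ρ _ _ hc' hrc' _

theorem ord_decompS (ho : OrdSide D ρ ht) (r : ℕ) (hr : D.IsPosRoot r) (g : Γ)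
    (hg : g ∈ Subgroup.closure (gensS S ρ r)) :
    ∃ t : F, ∃ b ∈ Subgroup.closure (gensS S ρ (r + 1)), g = S.X (ρ r) t * b := by
  apply decomp_of_normalizes (Subgroup.closure (gensS S ρ (r + 1))) (S.X (ρ r)) (S.X_add (ρ r))
  · intro a k hk
    exact conj_mem_closure _ _ (fun k hk => conj_gen_mem_gensS S ρ ht ho r hr a k hk) k hk
  · refine Subgroup.closure_mono ?_ hg
    rintro x ⟨s, u, hs, hrs, rfl⟩
    rcases Nat.lt_or_ge r s with h | h
    · right
      exact Subgroup.subset_closure ⟨s, u, hs, h, rfl⟩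
    · left
      have : s = r := le_antisymm h hrs
      rw [this]
      exact ⟨u, rfl⟩

/-- the ordered word over the roots `ρ r`, `r` positive in `[m, m + k)` -/
def ordWordS (t : ℕ → F) (m k : ℕ) : List (ℕ × F) :=
  ((List.range' m k).filter fun r => decide (D.IsPosRoot r)).map fun r => (ρ r, t r)

theorem ordWordS_succ_pos (t : ℕ → F) (m k : ℕ) (hm : D.IsPosRoot m) :
    ordWordS (D := D) ρ t m (k + 1) = (ρ m, t m) :: ordWordS (D := D) ρ t (m + 1) k := by
  unfold ordWordS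
  rw [List.range'_succ, List.filter_cons_of_pos (by simpa using hm), List.map_cons]

theorem ordWordS_succ_neg (t : ℕ → F) (m k : ℕ) (hm : ¬ D.IsPosRoot m) :
    ordWordS (D := D) ρ t m (k + 1) = ordWordS (D := D) ρ t (m + 1) k := by
  unfold ordWordS
  rw [List.range'_succ, List.filter_cons_of_neg (by simpa using hm)]

theorem ordWordS_congr (t t' : ℕ → F) (m k : ℕ) (h : ∀ r, m ≤ r → D.IsPosRoot r → t r = t' r) :
    ordWordS (D := D) ρ t m k = ordWordS (D := D) ρ t' m k := by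
  unfold ordWordS
  apply List.map_congr_left
  intro r hr
  rw [List.mem_filter] at hr
  have h1 := (List.mem_range'_1.1 hr.1).1
  have h2 : D.IsPosRoot r := by simpa using hr.2
  rw [h r h1 h2]

theorem ordWordS_mem (t : ℕ → F) (m k : ℕ) :
    wordOf S.X (ordWordS (D := D) ρ t m k) ∈ Subgroup.closure (gensS S ρ m) := by
  apply wordOf_mem
  intro p hp
  unfold ordWordS at hp
  obtain ⟨r, hr, rfl⟩ := List.mem_map.1 hp
  rw [List.mem_filter] at hr
  have h1 := (List.mem_range'_1.1 hr.1).1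
  have h2 : D.IsPosRoot r := by simpa using hr.2
  exact X_mem_gensS S ρ m r h2 h1 _

/-- existence of the ordered product -/
theorem ord_existsS (ho : OrdSide D ρ ht) : ∀ (k m : ℕ), m + k = D.nroots →
    ∀ g ∈ Subgroup.closure (gensS S ρ m), ∃ t : ℕ → F, g = wordOf S.X (ordWordS (D := D) ρ t m k)
  | 0, m, hmk, g, hg => by
    rw [gensS_of_ge S ρ m (by omega), Subgroup.closure_empty, Subgroup.mem_bot] at hg
    refine ⟨fun _ => 0, ?_⟩
    rw [hg]
    unfold ordWordS
    simp [wordOf]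
  | k + 1, m, hmk, g, hg => by
    by_cases hm : D.IsPosRoot m
    · obtain ⟨a, b, hb, rfl⟩ := ord_decompS S ρ ht ho m hm g hg
      obtain ⟨t', ht'⟩ := ord_existsS ho k (m + 1) (by omega) b hb
      refine ⟨Function.update t' m a, ?_⟩
      rw [ordWordS_succ_pos ρ _ m k hm, wordOf_cons, ht']
      simp only [Function.update_self]
      congr 2
      apply ordWordS_congr
      intro r hr _
      rw [Function.update_of_ne (by omega)]
    · rw [gensS_succ_of_not_pos S ρ m hm] at hg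
      obtain ⟨t', ht'⟩ := ord_existsS ho k (m + 1) (by omega) g hg
      exact ⟨t', by rw [ordWordS_succ_neg ρ _ m k hm, ht']⟩

end abstract

section concrete
variable (D : ChevalleyDatum) (hD : D ∈ [chevG2, chevB2, chevD4, chevF4, chevE6, chevE7, chevE8])
variable (F : Type*) [Field F] (ρ : ℕ → ℕ) (ht : ℕ → ℤ)

/-- generators of the chain in the Chevalley group -/
def gensG (m : ℕ) : Set (GL D.Idx F) :=
  {g : GL D.Idx F | ∃ (s : ℕ) (t : F), D.IsPosRoot s ∧ m ≤ s ∧ g = xGL D hD F (ρ s) t}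

theorem ord_le_raisesS (ho : OrdSide D ρ ht) (m : ℕ) (hm : D.IsPosRoot m) (h1 : 1 ≤ ht (ρ m) + 1) :
    Subgroup.closure (gensG D hD F ρ (m + 1)) ≤ raisesSubgroup (lvIW D ht) F (ht (ρ m) + 1) h1 := by
  rw [Subgroup.closure_le]
  rintro g ⟨s, u, hs, hms, rfl⟩
  show Raises (lvIW D ht) (ht (ρ m) + 1) (((xGL D hD F (ρ s) u : GL D.Idx F) : Matrix D.Idx D.Idx F) - 1)
  rw [xGL_coe]
  have h2 := ho.mono m s hm hs hms
  exact (x_sub_one_raisesW D ht (wf_all D hD) F (ρ s) (ho.lt s hs) (ho.addAt _ (ho.lt s hs)) (ho.pos s hs) u).mono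
    (by omega)

theorem xGL_mem_succ_zero (ho : OrdSide D ρ ht) (m : ℕ) (hm : D.IsPosRoot m) (c : F)
    (h : xGL D hD F (ρ m) c ∈ Subgroup.closure (gensG D hD F ρ (m + 1))) : c = 0 := by
  have hp := ho.pos m hm
  have h1 : 1 ≤ ht (ρ m) + 1 := by omega
  have hR : Raises (lvIW D ht) (ht (ρ m) + 1) (D.x F (ρ m) c - 1) := ord_le_raisesS D hD F ρ ht ho m hm h1 h
  obtain ⟨hne, hnr⟩ := ho.negne m hm
  have hlt := ho.lt m hm
  have hzero : ∀ i : Fin D.rank, ((cor D (ρ m) i : ℤ) : F) * c = 0 := by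
    intro i
    by_contra hne0
    have hent : (D.x F (ρ m) c - 1) (Sum.inl i) (Sum.inr ⟨D.neg (ρ m), hnr⟩) ≠ 0 := by
      rw [Matrix.sub_apply, x_apply_inl_neg D F (ρ m) hlt hnr hne i c, Matrix.one_apply_ne (by simp), sub_zero]
      exact hne0
    have := hR _ _ hent
    have hneg := (ho.addAt (ρ m) hlt).1
    simp only [lvIW, enc, Sum.map_inl, Sum.map_inr, lvBW] at this
    rw [hneg] at this
    omega
  by_contra hc
  have hz : ∀ i < D.rank, ((cor D (ρ m) i : ℤ) : F) = 0 := by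
    intro i hi
    rcases mul_eq_zero.1 (hzero ⟨i, hi⟩) with h | h
    · exact h
    · exact absurd h hc
  have := ringChar.charP F
  have hd : ∀ i < D.rank, ((ringChar F : ℕ) : ℤ) ∣ cor D (ρ m) i := by
    intro i hi
    exact (CharP.intCast_eq_zero_iff F (ringChar F) _).1 (hz i hi)
  have h1' := ho.prim m hm _ hd
  have : ringChar F = 1 := by
    have := Int.natCast_dvd_natCast.1 (show ((ringChar F : ℕ) : ℤ) ∣ ((1 : ℕ) : ℤ) by simpa using h1')
    exact Nat.dvd_one.1 this
  exact CharP.ringChar_ne_one this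

theorem ordWordG_mem (t : ℕ → F) (m k : ℕ) :
    wordGL D hD F (ordWordS (D := D) ρ t m k) ∈ Subgroup.closure (gensG D hD F ρ m) := by
  apply wordGL_mem
  intro p hp
  unfold ordWordS at hp
  obtain ⟨r, hr, rfl⟩ := List.mem_map.1 hp
  rw [List.mem_filter] at hr
  have h1 := (List.mem_range'_1.1 hr.1).1
  have h2 : D.IsPosRoot r := by simpa using hr.2
  exact Subgroup.subset_closure ⟨r, t r, h2, h1, rfl⟩

theorem wordGL_cons (p : ℕ × F) (w : List (ℕ × F)) :
    wordGL D hD F (p :: w) = xGL D hD F p.1 p.2 * wordGL D hD F w := by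
  unfold wordGL
  rw [List.map_cons, List.prod_cons]

/-- uniqueness of the ordered product in the Chevalley group -/
theorem ord_uniqueS (ho : OrdSide D ρ ht) : ∀ (k m : ℕ), m + k = D.nroots →
    ∀ t t' : ℕ → F, wordGL D hD F (ordWordS (D := D) ρ t m k) = wordGL D hD F (ordWordS (D := D) ρ t' m k) →
      ∀ r, m ≤ r → D.IsPosRoot r → t r = t' r
  | 0, m, hmk, t, t', _, r, hr, hpos => by
    have := hpos.1
    omega
  | k + 1, m, hmk, t, t', h, r, hr, hpos => by
    by_cases hm : D.IsPosRoot m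
    · rw [ordWordS_succ_pos ρ _ m k hm, ordWordS_succ_pos ρ _ m k hm, wordGL_cons, wordGL_cons] at h
      simp only at h
      have hmem : xGL D hD F (ρ m) (-(t' m) + t m) ∈ Subgroup.closure (gensG D hD F ρ (m + 1)) := by
        have e : xGL D hD F (ρ m) (-(t' m) + t m) = wordGL D hD F (ordWordS (D := D) ρ t' (m + 1) k) *
            (wordGL D hD F (ordWordS (D := D) ρ t (m + 1) k))⁻¹ := by
          rw [← xGL_mul, ← xGL_inv, eq_mul_inv_iff_mul_eq, mul_assoc, h, ← mul_assoc, inv_mul_cancel, one_mul]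
        rw [e]
        exact Subgroup.mul_mem _ (ordWordG_mem D hD F ρ t' (m + 1) k) (inv_mem (ordWordG_mem D hD F ρ t (m + 1) k))
      have h0 := xGL_mem_succ_zero D hD F ρ ht ho m hm _ hmem
      have htm : t m = t' m := by
        have : t m = t' m + (-(t' m) + t m) := by ring
        rw [this, h0, add_zero]
      rcases Nat.lt_or_ge m r with hlt | hge
      · rw [htm] at h
        have hW := mul_left_cancel h
        exact ord_uniqueS ho k (m + 1) (by omega) t t' hW r hlt hpos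
      · have : r = m := le_antisymm hge hr
        rw [this]; exact htm
    · rw [ordWordS_succ_neg ρ _ m k hm, ordWordS_succ_neg ρ _ m k hm] at h
      rcases Nat.lt_or_ge m r with hlt | hge
      · exact ord_uniqueS ho k (m + 1) (by omega) t t' h r hlt hpos
      · have : r = m := le_antisymm hge hr
        rw [this] at hpos
        exact absurd hpos hm

end concrete

section inj
variable {D : ChevalleyDatum} {hD : D ∈ [chevG2, chevB2, chevD4, chevF4, chevE6, chevE7, chevE8]}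
variable {F : Type*} [Field F] {Γ : Type*} [Group Γ] (S : StSys D hD F Γ)
variable (ρ : ℕ → ℕ) (ht : ℕ → ℤ)

/-- the projection is injective on the subgroup generated by the `X (ρ r)`, `r` positive -/
theorem inj_on_side (ho : OrdSide D ρ ht) (g g' : Γ) (hg : g ∈ Subgroup.closure (gensS S ρ 0))
    (hg' : g' ∈ Subgroup.closure (gensS S ρ 0)) (h : S.π g = S.π g') : g = g' := by
  obtain ⟨t, rfl⟩ := ord_existsS S ρ ht ho D.nroots 0 (by omega) g hg
  obtain ⟨t', rfl⟩ := ord_existsS S ρ ht ho D.nroots 0 (by omega) g' hg'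
  rw [S.π_word, S.π_word] at h
  have := ord_uniqueS D hD F ρ ht ho D.nroots 0 (by omega) t t' h
  congr 1
  apply ordWordS_congr
  intro r hr hp
  exact this r hr hp

end inj

end Cfsg.Agent.Lib.Helper18
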