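import Cfsg.Agent.Lib.Helper36.ChevAll
import Cfsg.Prelude.Def_ChevStructure

/-! # Table data for the rank one relation in rank at least two (helper18)

For every fundamental root `p = p_i` there are a positive root `γ ≠ p` and a node `j ≠ i` such that `p` occurs, with
coefficient `±1` and exponent 1 at `γ`, among the roots `k γ + l (-p_j)` of the commutator formula. -/

set_option autoImplicit false
set_option maxRecDepth 100000

namespace Cfsg.Agent.Lib.Helper18

open Cfsg Cfsg.Lie Cfsg.Agent.Lib.Helper36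

/-- the check for a candidate `(γ, j)` -/
def r1OK (D : ChevalleyDatum) (i γ j : ℕ) : Bool :=
  !Nat.beq (D.simple j) (D.simple i) && !Nat.beq γ (D.simple i) && !Nat.beq γ (D.simple j) &&
  decide (D.IsPosRoot γ) &&
  (match (D.commTerms γ (D.neg (D.simple j))).find? (fun c => Nat.beq c.1 (D.simple i)) with
   | some c => (decide (c.2.1 = 1) || decide (c.2.1 = -1)) && Nat.beq c.2.2.1 1
   | none => false) &&
  Nat.beq (((D.commTerms γ (D.neg (D.simple j))).map (·.1)).count (D.simple i)) 1 &&
  ((D.commTerms γ (D.neg (D.simple j))).all fun c => Nat.beq c.1 (D.simple i) || decide (D.IsPosRoot c.1)) &&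
  !Nat.beq (D.reflectRoot i (D.neg (D.simple j))) (D.reflectRoot i γ) &&
  !Nat.beq (D.reflectRoot i (D.neg (D.simple j))) (D.neg (D.reflectRoot i γ)) &&
  decide (D.reflectRoot i γ < D.nroots) && decide (D.reflectRoot i (D.neg (D.simple j)) < D.nroots) &&
  ((D.commTerms (D.reflectRoot i γ) (D.reflectRoot i (D.neg (D.simple j)))).all fun c =>
    Nat.beq c.1 (D.neg (D.simple i)) || (decide (D.IsPosRoot c.1) && !Nat.beq c.1 (D.simple i)))

/-- search for a candidate -/
def r1Find (D : ChevalleyDatum) (i : ℕ) : Option (ℕ × ℕ) :=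
  D.posRoots.findSome? fun γ => (List.range D.rank).findSome? fun j =>
    if r1OK D i γ j then some (γ, j) else none

def chkR1 (D : ChevalleyDatum) : Bool := (List.range D.rank).all fun i => (r1Find D i).isSome

theorem chkR1_G2 : chkR1 chevG2 = true := by decide +kernel
theorem chkR1_B2 : chkR1 chevB2 = true := by decide +kernel
theorem chkR1_D4 : chkR1 chevD4 = true := by decide +kernel
theorem chkR1_F4 : chkR1 chevF4 = true := by decide +kernel
theorem chkR1_E6 : chkR1 chevE6 = true := by decide +kernel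
theorem chkR1_E7 : chkR1 chevE7 = true := by decide +kernel
theorem chkR1_E8 : chkR1 chevE8 = true := by decide +kernel

theorem chkR1_all (D : ChevalleyDatum) (hD : D ∈ [chevG2, chevB2, chevD4, chevF4, chevE6, chevE7, chevE8]) :
    chkR1 D = true :=
  seven_cases (P := fun D => chkR1 D = true) D hD chkR1_G2 chkR1_B2 chkR1_D4 chkR1_F4 chkR1_E6
    chkR1_E7 chkR1_E8

theorem exists_r1OK (D : ChevalleyDatum) (hD : D ∈ [chevG2, chevB2, chevD4, chevF4, chevE6, chevE7, chevE8])
    (i : ℕ) (hi : i < D.rank) : ∃ γ j, j < D.rank ∧ r1OK D i γ j = true := by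
  have h := chkR1_all D hD
  unfold chkR1 at h
  rw [List.all_eq_true] at h
  have h1 := h i (List.mem_range.2 hi)
  rw [Option.isSome_iff_exists] at h1
  obtain ⟨⟨γ, j⟩, h2⟩ := h1
  unfold r1Find at h2
  obtain ⟨γ', -, h3⟩ := List.exists_of_findSome?_eq_some h2
  obtain ⟨j', hj', h4⟩ := List.exists_of_findSome?_eq_some h3
  split_ifs at h4 with h5
  exact ⟨γ', j', List.mem_range.1 hj', h5⟩

end Cfsg.Agent.Lib.Helper18
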