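import Cfsg.Agent.S2397

/-! # A section of a central extension of the Steinberg group from lifts satisfying (R1), (R2) (helper18)

Over a finite field (R3) follows from (R1), (R2) (S2397), so a homomorphism out of `D.SteinbergGroup K` only needs
elements satisfying (R1) and (R2). -/

set_option autoImplicit false

namespace Cfsg.Agent.Lib.Helper18.StSection

open Cfsg Cfsg.Lie

variable {K : Type*} [Field K] {Y : Type*} [Group Y] (D : ChevalleyDatum)

/-- the images of the free generators -/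
def sec_gen (s : ℕ → K → Y) (p : Fin D.nroots × K) : Y := s (p.1 : ℕ) p.2

theorem sec_lift_stX (s : ℕ → K → Y) (h0 : ∀ r t, ¬ r < D.nroots → s r t = 1) (r : ℕ) (t : K) :
    FreeGroup.lift (sec_gen D s) (D.stX r t) = s r t := by
  unfold ChevalleyDatum.stX
  split_ifs with h
  · rw [FreeGroup.lift_apply_of]; rfl
  · rw [map_one, h0 r t h]

theorem sec_lift_stWord (s : ℕ → K → Y) (h0 : ∀ r t, ¬ r < D.nroots → s r t = 1) (w : List (ℕ × K)) :
    FreeGroup.lift (sec_gen D s) (D.stWord w) = (w.map fun p => s p.1 p.2).prod := by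
  unfold ChevalleyDatum.stWord
  induction w with
  | nil => simp
  | cons p w ih => rw [List.map_cons, List.prod_cons, map_mul, ih, sec_lift_stX D s h0, List.map_cons, List.prod_cons]

/-- elements satisfying (R1), (R2) give a homomorphism out of the group presented by (R1), (R2) -/
theorem exists_hom_cover (s : ℕ → K → Y) (h0 : ∀ r t, ¬ r < D.nroots → s r t = 1)
    (h1 : ∀ (r : ℕ) (t u : K), r < D.nroots → s r t * s r u = s r (t + u))
    (h2 : ∀ (r r' : ℕ) (t u : K), r < D.nroots → r' < D.nroots → r' ≠ r → r' ≠ D.neg r →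
      (s r' u)⁻¹ * (s r t)⁻¹ * s r' u * s r t = ((D.commWord K r r' t u).map fun p => s p.1 p.2).prod) :
    ∃ τ : D.SteinbergCover K →* Y, ∀ (r : ℕ) (t : K), τ (D.scGen K r t) = s r t := by
  have hrel : ∀ g ∈ D.steinbergRelsAB K, FreeGroup.lift (sec_gen D s) g = 1 := by
    rintro _ (⟨r, t₁, t₂, hr, rfl⟩ | ⟨r, r', t, u, hr, hr', hne, hneg, rfl⟩)
    · rw [map_mul, map_mul, map_inv, sec_lift_stX D s h0, sec_lift_stX D s h0, sec_lift_stX D s h0, mul_inv_eq_one]
      exact h1 r t₁ t₂ hr
    · simp only [map_mul, map_inv, sec_lift_stX D s h0, sec_lift_stWord D s h0]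
      rw [mul_inv_eq_one]
      exact h2 r r' t u hr hr' hne hneg
  refine ⟨PresentedGroup.toGroup hrel, ?_⟩
  intro r t
  exact sec_lift_stX D s h0 r t

/-- **Part L for the Chevalley types.** Over a finite field, lifts `s r t` of the generators `x̄_r(t)` satisfying (R1), (R2)
give a section of `φ : Y → D.SteinbergGroup K`. -/
theorem exists_section_of_AB [Finite K]
    (hD : D ∈ [chevG2, chevB2, chevD4, chevF4, chevE6, chevE7, chevE8])
    (hK : D ∈ [chevB2, chevG2] → ∃ x : K, x ≠ 0 ∧ x ≠ 1)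
    (φ : Y →* D.SteinbergGroup K) (s : ℕ → K → Y)
    (hs : ∀ (r : ℕ) (t : K), r < D.nroots → φ (s r t) = D.stGen K r t)
    (h0 : ∀ r t, ¬ r < D.nroots → s r t = 1)
    (h1 : ∀ (r : ℕ) (t u : K), r < D.nroots → s r t * s r u = s r (t + u))
    (h2 : ∀ (r r' : ℕ) (t u : K), r < D.nroots → r' < D.nroots → r' ≠ r → r' ≠ D.neg r →
      (s r' u)⁻¹ * (s r t)⁻¹ * s r' u * s r t = ((D.commWord K r r' t u).map fun p => s p.1 p.2).prod) :
    ∃ τ : D.SteinbergGroup K →* Y, φ.comp τ = MonoidHom.id (D.SteinbergGroup K) := by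
  obtain ⟨e, he⟩ := Cfsg.Agent.S2397.result (K := K) D hD hK
  obtain ⟨τ', hτ'⟩ := exists_hom_cover D s h0 h1 h2
  have hcomp : φ.comp τ' = e.toMonoidHom := by
    apply PresentedGroup.ext
    intro p
    have h1' : D.stX (p.1 : ℕ) p.2 = FreeGroup.of p := by
      unfold ChevalleyDatum.stX
      rw [dif_pos p.1.2]
    have e1 : τ' (PresentedGroup.of p) = s (p.1 : ℕ) p.2 := by
      have := hτ' (p.1 : ℕ) p.2
      unfold ChevalleyDatum.scGen at this
      rw [h1'] at this
      exact this
    have e2 : e (PresentedGroup.of p) = D.stGen K (p.1 : ℕ) p.2 := by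
      have := he (p.1 : ℕ) p.2
      unfold ChevalleyDatum.scGen at this
      rw [h1'] at this
      exact this
    rw [MonoidHom.comp_apply, e1, hs _ _ p.1.2]
    exact e2.symm
  refine ⟨τ'.comp e.symm.toMonoidHom, ?_⟩
  ext x
  rw [MonoidHom.comp_apply, MonoidHom.comp_apply, ← MonoidHom.comp_apply φ τ', hcomp]
  simp

end Cfsg.Agent.Lib.Helper18.StSection
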