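import Cfsg.Agent.Lib.Helper18.StTorus
import Cfsg.Agent.Lib.Helper36.ChevRank1

/-! # Steinberg symbols in a Steinberg system: rank one computations (helper18) -/

set_option autoImplicit false

namespace Cfsg.Agent.Lib.Helper18

open Cfsg Cfsg.Lie Cfsg.Agent.Lib.Helper36

section rankone
variable {D : ChevalleyDatum} {hD : D ∈ [chevG2, chevB2, chevD4, chevF4, chevE6, chevE7, chevE8]}
variable {F : Type*} [Field F] {Γ : Type*} [Group Γ] (S : StSys D hD F Γ)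
variable (i : ℕ) (hi : i < D.rank)

include hi

theorem sym_n1_x (u : F) :
    nS1 S i * S.X (D.simple i) u * (nS1 S i)⁻¹ = S.X (D.neg (D.simple i)) (-u) := by
  obtain ⟨hp, hnp, -⟩ := simple_facts D hD i hi
  have := transfer S (nS1 S i) (nS1_mem S i hi) (D.simple i) (D.neg (D.simple i)) hp hnp (-1) (fun u => by
    unfold nS1
    rw [S.π_nb, mul_inv_eq_iff_eq_mul, (rank1Rel_all D hD F _ hp).1 u, neg_one_mul]) u
  rw [this, neg_one_mul]

theorem sym_n1_y (u : F) :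
    nS1 S i * S.X (D.neg (D.simple i)) u * (nS1 S i)⁻¹ = S.X (D.simple i) (-u) := by
  obtain ⟨hp, hnp, -⟩ := simple_facts D hD i hi
  have := transfer S (nS1 S i) (nS1_mem S i hi) (D.neg (D.simple i)) (D.simple i) hnp hp (-1) (fun u => by
    unfold nS1
    rw [S.π_nb, mul_inv_eq_iff_eq_mul, (rank1Rel_all D hD F _ hp).2.1 u, neg_one_mul]) u
  rw [this, neg_one_mul]

theorem sym_h_x (t : F) (ht : t ≠ 0) (u : F) :
    hS S i t * S.X (D.simple i) u * (hS S i t)⁻¹ = S.X (D.simple i) (t ^ 2 * u) := by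
  obtain ⟨hp, hnp, -⟩ := simple_facts D hD i hi
  exact transfer S (hS S i t) (hS_mem_Nb S i hi t ht) (D.simple i) (D.simple i) hp hp (t ^ 2) (fun u => by
    rw [π_hS, hGL_conj_xGL D hD F _ _ hp hp t ht u, gc_self D hD _ hp]
    have e : t ^ (2 : ℤ) = t ^ 2 := zpow_ofNat t 2
    rw [e]) u

theorem sym_h_y (t : F) (ht : t ≠ 0) (u : F) :
    hS S i t * S.X (D.neg (D.simple i)) u * (hS S i t)⁻¹ = S.X (D.neg (D.simple i)) ((t ^ 2)⁻¹ * u) := by
  obtain ⟨hp, hnp, -⟩ := simple_facts D hD i hi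
  exact transfer S (hS S i t) (hS_mem_Nb S i hi t ht) (D.neg (D.simple i)) (D.neg (D.simple i)) hnp hnp
    ((t ^ 2)⁻¹) (fun u => by
    rw [π_hS, hGL_conj_xGL D hD F _ _ hp hnp t ht u, gc_neg D hD _ _ hp, gc_self D hD _ hp]
    have e : t ^ (-2 : ℤ) = (t ^ 2)⁻¹ := by
      rw [zpow_neg, zpow_ofNat]
    rw [e]) u

theorem sym_n_x (t : F) (ht : t ≠ 0) (u : F) :
    S.nb (D.simple i) t * S.X (D.simple i) u * (S.nb (D.simple i) t)⁻¹ =
      S.X (D.neg (D.simple i)) (-((t ^ 2)⁻¹ * u)) := by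
  rw [nb_eq_hS_mul S i t]
  have e : hS S i t * nS1 S i * S.X (D.simple i) u * (hS S i t * nS1 S i)⁻¹ =
      hS S i t * (nS1 S i * S.X (D.simple i) u * (nS1 S i)⁻¹) * (hS S i t)⁻¹ := by group
  rw [e, sym_n1_x S i hi, sym_h_y S i hi t ht, mul_neg]

theorem sym_n_y (t : F) (ht : t ≠ 0) (u : F) :
    S.nb (D.simple i) t * S.X (D.neg (D.simple i)) u * (S.nb (D.simple i) t)⁻¹ =
      S.X (D.simple i) (-(t ^ 2 * u)) := by
  rw [nb_eq_hS_mul S i t]
  have e : hS S i t * nS1 S i * S.X (D.neg (D.simple i)) u * (hS S i t * nS1 S i)⁻¹ =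
      hS S i t * (nS1 S i * S.X (D.neg (D.simple i)) u * (nS1 S i)⁻¹) * (hS S i t)⁻¹ := by group
  rw [e, sym_n1_y S i hi, sym_h_x S i hi t ht, mul_neg]

/-- `n̄(t) = x̄_{-p}(-t⁻¹) x̄_p(t) x̄_{-p}(-t⁻¹)` -/
theorem sym_nb_eq_yxy (t : F) (ht : t ≠ 0) :
    S.nb (D.simple i) t =
      S.X (D.neg (D.simple i)) (-t⁻¹) * S.X (D.simple i) t * S.X (D.neg (D.simple i)) (-t⁻¹) := by
  have e : S.nb (D.simple i) t =
      (S.nb (D.simple i) t * S.X (D.simple i) t * (S.nb (D.simple i) t)⁻¹) *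
      (S.nb (D.simple i) t * S.X (D.neg (D.simple i)) (-t⁻¹) * (S.nb (D.simple i) t)⁻¹) *
      (S.nb (D.simple i) t * S.X (D.simple i) t * (S.nb (D.simple i) t)⁻¹) := by
    conv_lhs => rw [show S.nb (D.simple i) t =
      S.nb (D.simple i) t * S.nb (D.simple i) t * (S.nb (D.simple i) t)⁻¹ by group]
    conv_lhs =>
      enter [1, 2]
      unfold StSys.nb
    group
  rw [e, sym_n_x S i hi t ht, sym_n_y S i hi t ht]
  have e1 : -((t ^ 2)⁻¹ * t) = -t⁻¹ := by field_simp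
  have e2 : -(t ^ 2 * -t⁻¹) = t := by field_simp
  rw [e1, e2]

/-- `n̄(s) n̄(t) n̄(s)⁻¹ = n̄(s² t⁻¹)` -/
theorem sym_nb_conj_nb (s : F) (hs : s ≠ 0) (t : F) (ht : t ≠ 0) :
    S.nb (D.simple i) s * S.nb (D.simple i) t * (S.nb (D.simple i) s)⁻¹ =
      S.nb (D.simple i) (s ^ 2 * t⁻¹) := by
  have e : S.nb (D.simple i) s * S.nb (D.simple i) t * (S.nb (D.simple i) s)⁻¹ =
      (S.nb (D.simple i) s * S.X (D.simple i) t * (S.nb (D.simple i) s)⁻¹) *
      (S.nb (D.simple i) s * S.X (D.neg (D.simple i)) (-t⁻¹) * (S.nb (D.simple i) s)⁻¹) *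
      (S.nb (D.simple i) s * S.X (D.simple i) t * (S.nb (D.simple i) s)⁻¹) := by
    conv_lhs =>
      enter [1, 2]
      unfold StSys.nb
    group
  rw [e, sym_n_x S i hi s hs, sym_n_y S i hi s hs,
    sym_nb_eq_yxy S i hi (s ^ 2 * t⁻¹) (mul_ne_zero (pow_ne_zero 2 hs) (inv_ne_zero ht))]
  have e1 : -((s ^ 2)⁻¹ * t) = -(s ^ 2 * t⁻¹)⁻¹ := by
    rw [mul_inv, inv_inv]
  have e2 : -(s ^ 2 * -t⁻¹) = s ^ 2 * t⁻¹ := by ring
  rw [e1, e2]

/-- the symbol `{t, -t}` is trivial -/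
theorem sym_hS_neg (t : F) (ht : t ≠ 0) : hS S i t * hS S i (-t) = hS S i (-(t ^ 2)) := by
  have h1 := sym_nb_conj_nb S i hi t ht (-1) (neg_ne_zero.2 one_ne_zero)
  have e : t ^ 2 * (-1 : F)⁻¹ = -(t ^ 2) := by
    rw [inv_neg, inv_one, mul_neg, mul_one]
  rw [e, S.nb_inv] at h1
  unfold hS
  rw [← h1]
  group

/-- `h̄(t) n̄(u) h̄(t)⁻¹ = n̄(t² u)` -/
theorem sym_hS_conj_nb (t : F) (ht : t ≠ 0) (u : F) :
    hS S i t * S.nb (D.simple i) u * (hS S i t)⁻¹ = S.nb (D.simple i) (t ^ 2 * u) := by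
  have e : hS S i t * S.nb (D.simple i) u * (hS S i t)⁻¹ =
      (hS S i t * S.X (D.simple i) u * (hS S i t)⁻¹) *
      (hS S i t * S.X (D.neg (D.simple i)) (-u⁻¹) * (hS S i t)⁻¹) *
      (hS S i t * S.X (D.simple i) u * (hS S i t)⁻¹) := by
    conv_lhs =>
      enter [1, 2]
      unfold StSys.nb
    group
  rw [e, sym_h_x S i hi t ht, sym_h_y S i hi t ht]
  unfold StSys.nb
  congr 2
  rw [mul_inv, mul_neg]

/-- `h̄(t) h̄(u) h̄(t)⁻¹ = h̄(t² u) h̄(t²)⁻¹` -/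
theorem sym_hS_conj_hS (t : F) (ht : t ≠ 0) (u : F) :
    hS S i t * hS S i u * (hS S i t)⁻¹ = hS S i (t ^ 2 * u) * (hS S i (t ^ 2))⁻¹ := by
  have e : hS S i t * hS S i u * (hS S i t)⁻¹ =
      (hS S i t * S.nb (D.simple i) u * (hS S i t)⁻¹) *
      (hS S i t * S.nb (D.simple i) (-1) * (hS S i t)⁻¹) := by
    conv_lhs =>
      enter [1, 2]
      unfold hS
    group
  rw [e, sym_hS_conj_nb S i hi t ht, sym_hS_conj_nb S i hi t ht, mul_neg, mul_one, ← S.nb_inv]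
  unfold hS
  group

omit hi in
theorem hGL_mul_hGL (r : ℕ) (hr : r < D.nroots) (t u : F) (ht : t ≠ 0) (hu : u ≠ 0) :
    hGL D hD F r t * hGL D hD F r u = hGL D hD F r (t * u) := by
  apply Units.ext
  rw [Units.val_mul, hGL_coe, hGL_coe, hGL_coe, (hMat_all D hD r hr t ht).1, (hMat_all D hD r hr u hu).1,
    (hMat_all D hD r hr _ (mul_ne_zero ht hu)).1, hDiag_mul]

/-- the symbols are central -/
theorem sym_central (t u : F) (ht : t ≠ 0) (hu : u ≠ 0) :
    hS S i t * hS S i u * (hS S i (t * u))⁻¹ ∈ Subgroup.center Γ := by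
  obtain ⟨hp, -⟩ := simple_facts D hD i hi
  apply (ker_le S _ _).2
  rw [map_mul, map_mul, map_inv, π_hS, π_hS, π_hS, hGL_mul_hGL _ hp t u ht hu, mul_inv_cancel]


/-- `h̄(t u) = c h̄(t) h̄(u)` with `c` central -/
theorem sym_hS_mul (t u : F) (ht : t ≠ 0) (hu : u ≠ 0) :
    ∃ c ∈ Subgroup.center Γ, hS S i (t * u) = c * hS S i t * hS S i u := by
  refine ⟨(hS S i t * hS S i u * (hS S i (t * u))⁻¹)⁻¹, inv_mem (sym_central S i hi t u ht hu), ?_⟩
  group

/-- the parameters `t` with `h̄(t)` commuting with a given element -/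
def symCommSub (g : Γ) : Subgroup Fˣ where
  carrier := {t | Commute (hS S i (t : F)) g}
  one_mem' := by
    show Commute (hS S i ((1 : Fˣ) : F)) g
    rw [Units.val_one, hS_one]
    exact Commute.one_left g
  mul_mem' := by
    intro a b ha hb
    show Commute (hS S i ((a * b : Fˣ) : F)) g
    rw [Units.val_mul]
    obtain ⟨c, hc, e⟩ := sym_hS_mul S i hi (a : F) (b : F) a.ne_zero b.ne_zero
    rw [e]
    have hcg : Commute c g := (Subgroup.mem_center_iff.1 hc g).symm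
    exact (hcg.mul_left ha).mul_left hb
  inv_mem' := by
    intro a ha
    show Commute (hS S i ((a⁻¹ : Fˣ) : F)) g
    obtain ⟨c, hc, e⟩ := sym_hS_mul S i hi (a : F) ((a⁻¹ : Fˣ) : F) a.ne_zero (a⁻¹).ne_zero
    rw [← Units.val_mul, mul_inv_cancel, Units.val_one, hS_one] at e
    have e' : hS S i ((a⁻¹ : Fˣ) : F) = (c * hS S i (a : F))⁻¹ :=
      eq_inv_of_mul_eq_one_right e.symm
    rw [e']
    have hcg : Commute c g := (Subgroup.mem_center_iff.1 hc g).symm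
    exact (hcg.mul_left ha).inv_left

/-- over a field with cyclic multiplicative group the `h̄(t)` commute -/
theorem sym_hcomm_of_cyclic [IsCyclic Fˣ] (t u : F) (ht : t ≠ 0) (hu : u ≠ 0) :
    Commute (hS S i t) (hS S i u) := by
  obtain ⟨v, hv⟩ := IsCyclic.exists_generator (α := Fˣ)
  have key : ∀ g : Γ, Commute (hS S i (v : F)) g → ∀ a : Fˣ, Commute (hS S i (a : F)) g := by
    intro g hg a
    have hle : Subgroup.zpowers v ≤ symCommSub S i hi g := by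
      rw [Subgroup.zpowers_le]
      exact hg
    exact hle (hv a)
  have h1 : ∀ a : Fˣ, Commute (hS S i (a : F)) (hS S i (v : F)) :=
    key _ (Commute.refl _)
  have h2 : ∀ a b : Fˣ, Commute (hS S i (a : F)) (hS S i (b : F)) := fun a b =>
    key _ (h1 b).symm a
  exact h2 (Units.mk0 t ht) (Units.mk0 u hu)

/-- if the `h̄(t)` commute, the symbol `{t², u}` is trivial -/
theorem sym_sq (hcomm : ∀ t u : F, t ≠ 0 → u ≠ 0 → Commute (hS S i t) (hS S i u))
    (t u : F) (ht : t ≠ 0) (hu : u ≠ 0) : hS S i (t ^ 2) * hS S i u = hS S i (t ^ 2 * u) := by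
  have h1 := sym_hS_conj_hS S i hi t ht u
  have h2 : hS S i t * hS S i u * (hS S i t)⁻¹ = hS S i u := by
    rw [(hcomm t u ht hu).eq, mul_assoc, mul_inv_cancel, mul_one]
  rw [h2] at h1
  rw [(hcomm _ _ (pow_ne_zero 2 ht) hu).eq, h1]
  group


theorem sym_hinv_x (t : F) (ht : t ≠ 0) (u : F) :
    (hS S i t)⁻¹ * S.X (D.simple i) u * hS S i t = S.X (D.simple i) ((t ^ 2)⁻¹ * u) := by
  have h := sym_h_x S i hi t ht ((t ^ 2)⁻¹ * u)
  rw [← mul_assoc, mul_inv_cancel₀ (pow_ne_zero 2 ht), one_mul] at h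
  rw [← h]
  group

theorem sym_y_h (t : F) (ht : t ≠ 0) (w : F) :
    S.X (D.neg (D.simple i)) w * hS S i t = hS S i t * S.X (D.neg (D.simple i)) (t ^ 2 * w) := by
  have h := sym_h_y S i hi t ht (t ^ 2 * w)
  rw [← mul_assoc, inv_mul_cancel₀ (pow_ne_zero 2 ht), one_mul] at h
  rw [← h]
  group

/-- the Gauss decomposition of `x̄_{-p}(a) x̄_p(b)` -/
theorem sym_star (a b e : F) (ha : a ≠ 0) (he : e ≠ 0) (hab : e = a⁻¹ + b) :
    S.X (D.neg (D.simple i)) a * S.X (D.simple i) b =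
      S.X (D.simple i) (a⁻¹ - (a ^ 2)⁻¹ * e⁻¹) * (hS S i (-a⁻¹) * (hS S i (-e))⁻¹) *
        S.X (D.neg (D.simple i)) e⁻¹ := by
  have e1 : S.X (D.simple i) e * S.X (D.simple i) (-e) = 1 := S.X_mul_neg _ _
  have e2 : S.X (D.neg (D.simple i)) (-e⁻¹) * S.X (D.neg (D.simple i)) e⁻¹ = 1 := S.X_neg_mul _ _
  have h3 : S.X (D.simple i) e =
      S.nb (D.simple i) e * S.X (D.simple i) (-e) * S.X (D.neg (D.simple i)) e⁻¹ := by
    symm
    calc S.nb (D.simple i) e * S.X (D.simple i) (-e) * S.X (D.neg (D.simple i)) e⁻¹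
        = S.X (D.simple i) e * S.X (D.neg (D.simple i)) (-e⁻¹) *
          (S.X (D.simple i) e * S.X (D.simple i) (-e)) * S.X (D.neg (D.simple i)) e⁻¹ := by
          unfold StSys.nb; group
      _ = S.X (D.simple i) e * (S.X (D.neg (D.simple i)) (-e⁻¹) * S.X (D.neg (D.simple i)) e⁻¹) := by
          rw [e1]; group
      _ = S.X (D.simple i) e := by rw [e2, mul_one]
  have h4 : S.nb (D.simple i) (-a⁻¹) * S.nb (D.simple i) e = hS S i (-a⁻¹) * (hS S i (-e))⁻¹ := by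
    unfold hS
    rw [mul_inv_rev, S.nb_inv _ (-e), neg_neg]
    group
  have hne : -e ≠ 0 := neg_ne_zero.2 he
  have hna : -a⁻¹ ≠ 0 := neg_ne_zero.2 (inv_ne_zero ha)
  have h5 : (hS S i (-a⁻¹) * (hS S i (-e))⁻¹) * S.X (D.simple i) (-e) =
      S.X (D.simple i) ((-a⁻¹) ^ 2 * (((-e) ^ 2)⁻¹ * (-e))) * (hS S i (-a⁻¹) * (hS S i (-e))⁻¹) := by
    rw [← sym_h_x S i hi (-a⁻¹) hna, ← sym_hinv_x S i hi (-e) hne]
    group
  rw [S.X_neg_eq (D.simple i) a ha, mul_assoc, S.X_add, ← hab]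
  calc S.X (D.simple i) a⁻¹ * S.nb (D.simple i) (-a⁻¹) * S.X (D.simple i) e
      = S.X (D.simple i) a⁻¹ * S.nb (D.simple i) (-a⁻¹) *
          (S.nb (D.simple i) e * S.X (D.simple i) (-e) * S.X (D.neg (D.simple i)) e⁻¹) := by rw [← h3]
    _ = S.X (D.simple i) a⁻¹ * ((S.nb (D.simple i) (-a⁻¹) * S.nb (D.simple i) e) * S.X (D.simple i) (-e)) *
          S.X (D.neg (D.simple i)) e⁻¹ := by group
    _ = S.X (D.simple i) a⁻¹ * S.X (D.simple i) ((-a⁻¹) ^ 2 * (((-e) ^ 2)⁻¹ * (-e))) *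
          (hS S i (-a⁻¹) * (hS S i (-e))⁻¹) * S.X (D.neg (D.simple i)) e⁻¹ := by
          rw [h4, h5]; group
    _ = _ := by
          rw [S.X_add]
          congr 3
          field_simp
          ring


/-- if the `h̄(t)` commute, the symbol `{1 - t, t}` is trivial -/
theorem sym_one_sub (hcomm : ∀ t u : F, t ≠ 0 → u ≠ 0 → Commute (hS S i t) (hS S i u))
    (t : F) (ht0 : t ≠ 0) (ht1 : t ≠ 1) (htm : t ≠ -1) :
    hS S i (1 - t) * hS S i t = hS S i (t * (1 - t)) := by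
  have h1t : 1 - t ≠ 0 := sub_ne_zero.2 (Ne.symm ht1)
  have htp : t + 1 ≠ 0 := fun h => htm (eq_neg_of_add_eq_zero_left h)
  have ht2 : t ^ 2 - 1 ≠ 0 := by
    intro h
    have : (t - 1) * (t + 1) = 0 := by rw [← h]; ring
    rcases mul_eq_zero.1 this with h | h
    · exact ht1 (sub_eq_zero.1 h)
    · exact htp h
  have ht2' : 1 - t ^ 2 ≠ 0 := by
    intro h
    apply ht2
    rw [← neg_sub, h, neg_zero]
  have ht3 : t ^ 2 - t ≠ 0 := by
    intro h
    have : t * (t - 1) = 0 := by rw [← h]; ring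
    rcases mul_eq_zero.1 this with h | h
    · exact ht0 h
    · exact ht1 (sub_eq_zero.1 h)
  -- first decomposition
  have I1 : S.X (D.neg (D.simple i)) (-t⁻¹) * S.X (D.simple i) (t - 1) =
      S.X (D.simple i) (t ^ 2 - t) * hS S i t * S.X (D.neg (D.simple i)) (-1) := by
    rw [sym_star S i hi (-t⁻¹) (t - 1) (-1) (neg_ne_zero.2 (inv_ne_zero ht0))
      (neg_ne_zero.2 one_ne_zero) (by rw [inv_neg, inv_inv]; ring)]
    have a1 : (-t⁻¹)⁻¹ - ((-t⁻¹) ^ 2)⁻¹ * (-1 : F)⁻¹ = t ^ 2 - t := by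
      field_simp
      ring
    have a2 : -(-t⁻¹)⁻¹ = t := by rw [inv_neg, inv_inv, neg_neg]
    have a3 : (-(-1 : F)) = 1 := neg_neg 1
    have a4 : (-1 : F)⁻¹ = -1 := by rw [inv_neg, inv_one]
    rw [a1, a2, a3, a4, hS_one, inv_one, mul_one]
  -- second decomposition
  have I2 : S.X (D.neg (D.simple i)) (-(1 - t)⁻¹) * S.X (D.simple i) (t ^ 2 - t) =
      S.X (D.simple i) (t * (t - 1) * (t + 1)⁻¹) * (hS S i (1 - t) * (hS S i (1 - t ^ 2))⁻¹) *
        S.X (D.neg (D.simple i)) (t ^ 2 - 1)⁻¹ := by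
    rw [sym_star S i hi (-(1 - t)⁻¹) (t ^ 2 - t) (t ^ 2 - 1) (neg_ne_zero.2 (inv_ne_zero h1t))
      ht2 (by rw [inv_neg, inv_inv]; ring)]
    have a1 : (-(1 - t)⁻¹)⁻¹ - ((-(1 - t)⁻¹) ^ 2)⁻¹ * (t ^ 2 - 1)⁻¹ = t * (t - 1) * (t + 1)⁻¹ := by
      have e : t ^ 2 - 1 = (t - 1) * (t + 1) := by ring
      have ht1' : t - 1 ≠ 0 := sub_ne_zero.2 ht1
      rw [e]
      field_simp
      ring
    have a2 : -(-(1 - t)⁻¹)⁻¹ = 1 - t := by rw [inv_neg, inv_inv, neg_neg]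
    have a3 : -(t ^ 2 - 1) = 1 - t ^ 2 := by ring
    rw [a1, a2, a3]
  -- third decomposition
  have I3 : S.X (D.neg (D.simple i)) ((t ^ 2 - t)⁻¹) * S.X (D.simple i) (t - 1) =
      S.X (D.simple i) (t * (t - 1) * (t + 1)⁻¹) * (hS S i (t * (1 - t)) * (hS S i (1 - t ^ 2))⁻¹) *
        S.X (D.neg (D.simple i)) (t ^ 2 - 1)⁻¹ := by
    rw [sym_star S i hi ((t ^ 2 - t)⁻¹) (t - 1) (t ^ 2 - 1) (inv_ne_zero ht3)
      ht2 (by rw [inv_inv]; ring)]
    have a1 : ((t ^ 2 - t)⁻¹)⁻¹ - (((t ^ 2 - t)⁻¹) ^ 2)⁻¹ * (t ^ 2 - 1)⁻¹ = t * (t - 1) * (t + 1)⁻¹ := by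
      have e : t ^ 2 - 1 = (t - 1) * (t + 1) := by ring
      have e' : t ^ 2 - t = t * (t - 1) := by ring
      have ht1' : t - 1 ≠ 0 := sub_ne_zero.2 ht1
      rw [e, e']
      field_simp
      ring
    have a2 : -((t ^ 2 - t)⁻¹)⁻¹ = t * (1 - t) := by rw [inv_inv]; ring
    have a3 : -(t ^ 2 - 1) = 1 - t ^ 2 := by ring
    rw [a1, a2, a3]
  have d1 : -(1 - t)⁻¹ + -t⁻¹ = (t ^ 2 - t)⁻¹ := by
    have e' : t ^ 2 - t = t * (t - 1) := by ring
    have ht1' : t - 1 ≠ 0 := sub_ne_zero.2 ht1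
    have e'' : 1 - t = -(t - 1) := by ring
    rw [e', e'']
    field_simp
    ring
  have d2 : t ^ 2 * (t ^ 2 - 1)⁻¹ + -1 = (t ^ 2 - 1)⁻¹ := by
    field_simp
    ring
  have key : S.X (D.simple i) (t * (t - 1) * (t + 1)⁻¹) * (hS S i (t * (1 - t)) * (hS S i (1 - t ^ 2))⁻¹) *
        S.X (D.neg (D.simple i)) (t ^ 2 - 1)⁻¹ =
      S.X (D.simple i) (t * (t - 1) * (t + 1)⁻¹) *
        (hS S i (1 - t) * (hS S i (1 - t ^ 2))⁻¹ * hS S i t) * S.X (D.neg (D.simple i)) (t ^ 2 - 1)⁻¹ := by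
    rw [← I3, ← d1, ← S.X_add, mul_assoc, I1]
    calc S.X (D.neg (D.simple i)) (-(1 - t)⁻¹) *
          (S.X (D.simple i) (t ^ 2 - t) * hS S i t * S.X (D.neg (D.simple i)) (-1))
        = (S.X (D.neg (D.simple i)) (-(1 - t)⁻¹) * S.X (D.simple i) (t ^ 2 - t)) * hS S i t *
            S.X (D.neg (D.simple i)) (-1) := by group
      _ = S.X (D.simple i) (t * (t - 1) * (t + 1)⁻¹) * (hS S i (1 - t) * (hS S i (1 - t ^ 2))⁻¹) *
            (S.X (D.neg (D.simple i)) (t ^ 2 - 1)⁻¹ * hS S i t) * S.X (D.neg (D.simple i)) (-1) := by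
          rw [I2]; group
      _ = S.X (D.simple i) (t * (t - 1) * (t + 1)⁻¹) * (hS S i (1 - t) * (hS S i (1 - t ^ 2))⁻¹ * hS S i t) *
            (S.X (D.neg (D.simple i)) (t ^ 2 * (t ^ 2 - 1)⁻¹) * S.X (D.neg (D.simple i)) (-1)) := by
          rw [sym_y_h S i hi t ht0]; group
      _ = _ := by rw [S.X_add, d2]
  have key2 : hS S i (t * (1 - t)) * (hS S i (1 - t ^ 2))⁻¹ =
      hS S i (1 - t) * (hS S i (1 - t ^ 2))⁻¹ * hS S i t :=
    mul_left_cancel (mul_right_cancel key)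
  have hc : Commute (hS S i (1 - t ^ 2))⁻¹ (hS S i t) := (hcomm _ _ ht2' ht0).inv_left
  rw [mul_assoc, hc.eq, ← mul_assoc] at key2
  exact (mul_right_cancel key2).symm


omit hi in
theorem braid_sq_eq {Γ : Type*} [Group Γ] (x Y : Γ) (hY : Y ^ 3 = 1) (hb : x * Y * x = Y * x * Y) :
    (x * Y⁻¹) ^ 2 = (x * Y * x) ^ 2 := by
  have hY' : Y⁻¹ = Y * Y := by
    apply inv_eq_of_mul_eq_one_right
    rw [← hY]; simp [pow_succ, mul_assoc]
  calc (x * Y⁻¹) ^ 2 = x * Y * (Y * x * Y) * Y := by rw [hY']; simp [pow_succ, mul_assoc]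
    _ = x * Y * (x * Y * x) * Y := by rw [hb]
    _ = (x * Y * x) * (Y * x * Y) := by group
    _ = (x * Y * x) * (x * Y * x) := by rw [← hb]
    _ = (x * Y * x) ^ 2 := (pow_two _).symm

omit hi in
theorem braid_sq_eq' {Γ : Type*} [Group Γ] (x Y : Γ) (hx : x ^ 3 = 1) (hb : x * Y * x = Y * x * Y) :
    (x⁻¹ * Y) ^ 2 = (x * Y * x) ^ 2 := by
  have hx' : x⁻¹ = x * x := by
    apply inv_eq_of_mul_eq_one_right
    rw [← hx]; simp [pow_succ, mul_assoc]
  calc (x⁻¹ * Y) ^ 2 = x * (x * Y * x) * x * Y := by rw [hx']; simp [pow_succ, mul_assoc]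
    _ = x * (Y * x * Y) * x * Y := by rw [hb]
    _ = (x * Y * x) * (Y * x * Y) := by group
    _ = (x * Y * x) * (x * Y * x) := by rw [← hb]
    _ = (x * Y * x) ^ 2 := (pow_two _).symm

omit hi in
/-- in the quotient of the braid group on three strands by the cubes of the generators the
fundamental element has order dividing four -/
theorem braid_pow_four {Γ : Type*} [Group Γ] (x Y : Γ) (hx : x ^ 3 = 1) (hY : Y ^ 3 = 1)
    (hb : x * Y * x = Y * x * Y) : (x * Y * x) ^ 4 = 1 := by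
  have h1 := braid_sq_eq' x Y hx hb
  have hb' : x⁻¹ * Y⁻¹ * x⁻¹ = Y⁻¹ * x⁻¹ * Y⁻¹ := by
    have e1 : x⁻¹ * Y⁻¹ * x⁻¹ = (x * Y * x)⁻¹ := by group
    have e2 : Y⁻¹ * x⁻¹ * Y⁻¹ = (Y * x * Y)⁻¹ := by group
    rw [e1, e2, hb]
  have h2 := braid_sq_eq x⁻¹ Y⁻¹ (by rw [inv_pow, hY, inv_one]) hb'
  rw [inv_inv] at h2
  have e : x⁻¹ * Y⁻¹ * x⁻¹ = (x * Y * x)⁻¹ := by group
  rw [e, h1, inv_pow] at h2
  have h3 : (x * Y * x) ^ 2 * (x * Y * x) ^ 2 = 1 := mul_eq_one_iff_eq_inv.2 h2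
  rw [← pow_add] at h3
  exact h3

/-- in characteristic three `h̄(-1)² = 1` -/
theorem sym_neg_one_char_three (h3 : (3 : F) = 0) : hS S i (-1) * hS S i (-1) = 1 := by
  have hx : (S.X (D.simple i) 1) ^ 3 = 1 := by
    rw [pow_succ, pow_two, S.X_add, S.X_add]
    have : (1 : F) + 1 + 1 = 0 := by rw [← h3]; norm_num
    rw [this, S.X_zero]
  have hY : (S.X (D.neg (D.simple i)) (-1)) ^ 3 = 1 := by
    rw [pow_succ, pow_two, S.X_add, S.X_add]
    have : (-1 : F) + -1 + -1 = 0 := by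
      have : (-1 : F) + -1 + -1 = -3 := by norm_num
      rw [this, h3, neg_zero]
    rw [this, S.X_zero]
  have hn : S.nb (D.simple i) 1 =
      S.X (D.simple i) 1 * S.X (D.neg (D.simple i)) (-1) * S.X (D.simple i) 1 := by
    unfold StSys.nb
    rw [inv_one]
  have hb : S.X (D.simple i) 1 * S.X (D.neg (D.simple i)) (-1) * S.X (D.simple i) 1 =
      S.X (D.neg (D.simple i)) (-1) * S.X (D.simple i) 1 * S.X (D.neg (D.simple i)) (-1) := by
    rw [← hn]
    have := sym_nb_eq_yxy S i hi 1 one_ne_zero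
    rw [inv_one] at this
    exact this
  have h4 := braid_pow_four _ _ hx hY hb
  rw [← hn] at h4
  unfold hS
  rw [← S.nb_inv]
  have : (S.nb (D.simple i) 1)⁻¹ * (S.nb (D.simple i) 1)⁻¹ * ((S.nb (D.simple i) 1)⁻¹ * (S.nb (D.simple i) 1)⁻¹) =
      ((S.nb (D.simple i) 1) ^ 4)⁻¹ := by group
  rw [this, h4, inv_one]


omit hi in
theorem isSquare_mul_of_not_isSquare {F : Type*} [Field F] [Finite F] {a b : F}
    (ha : ¬IsSquare a) (hb : ¬IsSquare b) : IsSquare (a * b) := by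
  classical
  haveI := Fintype.ofFinite F
  have ha0 : a ≠ 0 := fun h => ha (h ▸ IsSquare.zero)
  have hb0 : b ≠ 0 := fun h => hb (h ▸ IsSquare.zero)
  have ha' := quadraticChar_neg_one_iff_not_isSquare.2 ha
  have hb' := quadraticChar_neg_one_iff_not_isSquare.2 hb
  apply (quadraticChar_one_iff_isSquare (mul_ne_zero ha0 hb0)).1
  rw [map_mul, ha', hb']
  norm_num

omit hi in
theorem exists_sq_add_sq_neg_one {F : Type*} [Field F] [Finite F] (h3 : (3 : F) ≠ 0)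
    (hm : ¬IsSquare (-1 : F)) : ∃ a b : F, a ≠ 0 ∧ b ≠ 0 ∧ a ^ 2 ≠ 1 ∧ a ^ 2 + b ^ 2 = -1 := by
  haveI : CharP F (ringChar F) := ringChar.charP F
  haveI : NeZero (ringChar F) := ⟨CharP.char_ne_zero_of_finite F (ringChar F)⟩
  obtain ⟨a, b, hab⟩ := CharP.sq_add_sq F (ringChar F) (-1)
  have hab' : (a : F) ^ 2 + (b : F) ^ 2 = -1 := by
    rw [hab]; simp
  have ha0 : (a : F) ≠ 0 := by
    intro h
    apply hm
    rw [h] at hab'
    refine ⟨(b : F), ?_⟩
    rw [← hab']; ring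
  have hb0 : (b : F) ≠ 0 := by
    intro h
    apply hm
    rw [h] at hab'
    refine ⟨(a : F), ?_⟩
    rw [← hab']; ring
  by_cases h1 : (a : F) ^ 2 = 1
  · refine ⟨(b : F), (a : F), hb0, ha0, ?_, by rw [add_comm]; exact hab'⟩
    intro h2
    apply h3
    have : (1 : F) + 1 = -1 := by rw [← hab', h1, h2]
    have e : (3 : F) = 1 + 1 + 1 := by norm_num
    rw [e, this, neg_add_cancel]
  · exact ⟨(a : F), (b : F), ha0, hb0, h1, hab'⟩

/-- over a finite field, (R3) at a fundamental root follows from (R1) and (R2) -/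
theorem sym_R3_finite_aux [Finite F] (t u : F) (ht : t ≠ 0) (hu : u ≠ 0) :
    hS S i t * hS S i u = hS S i (t * u) := by
  haveI : IsCyclic Fˣ := inferInstance
  have hcomm := sym_hcomm_of_cyclic S i hi
  have hsq := sym_sq S i hi hcomm
  -- `h̄(-1)² = 1` when `-1` is not a square
  have hneg1 : ¬IsSquare (-1 : F) → hS S i (-1) * hS S i (-1) = 1 := by
    intro hm
    by_cases h3 : (3 : F) = 0
    · exact sym_neg_one_char_three S i hi h3
    · obtain ⟨a, b, ha0, hb0, ha1, hab⟩ := exists_sq_add_sq_neg_one h3 hm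
      have hτ0 : -(a ^ 2) ≠ 0 := neg_ne_zero.2 (pow_ne_zero 2 ha0)
      have hτ1 : -(a ^ 2) ≠ 1 := by
        intro h
        apply hm
        refine ⟨a, ?_⟩
        rw [← h]; ring
      have hτm : -(a ^ 2) ≠ -1 := fun h => ha1 (neg_injective h)
      have key := sym_one_sub S i hi hcomm (-(a ^ 2)) hτ0 hτ1 hτm
      have e1 : 1 - -(a ^ 2) = b ^ 2 * (-1) := by
        have : b ^ 2 = -1 - a ^ 2 := by rw [← hab]; ring
        rw [this]; ring
      have e2 : -(a ^ 2) = a ^ 2 * (-1) := by ring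
      have e3 : -(a ^ 2) * (1 - -(a ^ 2)) = a ^ 2 * b ^ 2 := by
        rw [e1]; ring
      rw [e3, e1] at key
      rw [e2] at key
      have hm1 : (-1 : F) ≠ 0 := neg_ne_zero.2 one_ne_zero
      rw [← hsq b (-1) hb0 hm1, ← hsq a (-1) ha0 hm1, ← hsq a (b ^ 2) ha0 (pow_ne_zero 2 hb0)] at key
      -- key : h(b²) h(-1) (h(a²) h(-1)) = h(a²) h(b²)
      have c1 : Commute (hS S i (-1)) (hS S i (a ^ 2)) := hcomm _ _ hm1 (pow_ne_zero 2 ha0)
      have c2 : Commute (hS S i (b ^ 2)) (hS S i (a ^ 2)) :=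
        hcomm _ _ (pow_ne_zero 2 hb0) (pow_ne_zero 2 ha0)
      have lhs_eq : hS S i (b ^ 2) * hS S i (-1) * (hS S i (a ^ 2) * hS S i (-1)) =
          hS S i (a ^ 2) * hS S i (b ^ 2) * (hS S i (-1) * hS S i (-1)) := by
        calc hS S i (b ^ 2) * hS S i (-1) * (hS S i (a ^ 2) * hS S i (-1))
            = hS S i (b ^ 2) * (hS S i (-1) * hS S i (a ^ 2)) * hS S i (-1) := by group
          _ = hS S i (b ^ 2) * (hS S i (a ^ 2) * hS S i (-1)) * hS S i (-1) := by rw [c1.eq]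
          _ = (hS S i (b ^ 2) * hS S i (a ^ 2)) * (hS S i (-1) * hS S i (-1)) := by group
          _ = _ := by rw [c2.eq]
      rw [lhs_eq] at key
      exact mul_eq_left.1 key
  -- the duplication formula
  have hdbl : ∀ t : F, t ≠ 0 → hS S i t * hS S i t = hS S i (t ^ 2) := by
    intro t ht
    by_cases hm : IsSquare (-1 : F)
    · obtain ⟨j, hj⟩ := hm
      have hj0 : j ≠ 0 := by
        intro h
        rw [h, mul_zero] at hj
        exact neg_ne_zero.2 one_ne_zero hj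
      have h1 := sym_hS_neg S i hi t ht
      have e1 : -t = j ^ 2 * t := by rw [pow_two, ← hj]; ring
      have e2 : -(t ^ 2) = j ^ 2 * t ^ 2 := by rw [pow_two j, ← hj]; ring
      rw [e1, e2, ← hsq j t hj0 ht, ← hsq j (t ^ 2) hj0 (pow_ne_zero 2 ht)] at h1
      have c1 : Commute (hS S i t) (hS S i (j ^ 2)) := hcomm _ _ ht (pow_ne_zero 2 hj0)
      rw [← mul_assoc, c1.eq, mul_assoc] at h1
      exact mul_left_cancel h1
    · have h11 := hneg1 hm
      have hm1 : (-1 : F) ≠ 0 := neg_ne_zero.2 one_ne_zero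
      by_cases hts : IsSquare t
      · obtain ⟨s, hs⟩ := hts
        have hs0 : s ≠ 0 := by
          intro h
          rw [h, mul_zero] at hs
          exact ht hs
        have e1 : t = s ^ 2 := by rw [hs, pow_two]
        rw [e1, hsq s (s ^ 2) hs0 (pow_ne_zero 2 hs0)]
        congr 1
        ring
      · obtain ⟨s, hs⟩ := isSquare_mul_of_not_isSquare hm hts
        have hs0 : s ≠ 0 := by
          intro h
          rw [h, mul_zero] at hs
          exact (mul_ne_zero hm1 ht) hs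
        have e1 : t = s ^ 2 * (-1) := by
          have : s * s = -t := by rw [← hs]; ring
          rw [pow_two, this]; ring
        have e2 : t ^ 2 = s ^ 2 * s ^ 2 := by rw [e1]; ring
        rw [e2, ← hsq s (s ^ 2) hs0 (pow_ne_zero 2 hs0), e1, ← hsq s (-1) hs0 hm1]
        have c1 : Commute (hS S i (-1)) (hS S i (s ^ 2)) := hcomm _ _ hm1 (pow_ne_zero 2 hs0)
        calc hS S i (s ^ 2) * hS S i (-1) * (hS S i (s ^ 2) * hS S i (-1))
            = hS S i (s ^ 2) * (hS S i (-1) * hS S i (s ^ 2)) * hS S i (-1) := by group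
          _ = hS S i (s ^ 2) * (hS S i (s ^ 2) * hS S i (-1)) * hS S i (-1) := by rw [c1.eq]
          _ = hS S i (s ^ 2) * hS S i (s ^ 2) * (hS S i (-1) * hS S i (-1)) := by group
          _ = _ := by rw [h11, mul_one]
  -- the general case
  by_cases hts : IsSquare t
  · obtain ⟨s, hs⟩ := hts
    have hs0 : s ≠ 0 := by
      intro h
      rw [h, mul_zero] at hs
      exact ht hs
    have e1 : t = s ^ 2 := by rw [hs, pow_two]
    rw [e1]
    exact hsq s u hs0 hu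
  by_cases hus : IsSquare u
  · obtain ⟨s, hs⟩ := hus
    have hs0 : s ≠ 0 := by
      intro h
      rw [h, mul_zero] at hs
      exact hu hs
    have e1 : u = s ^ 2 := by rw [hs, pow_two]
    rw [e1, (hcomm _ _ ht (pow_ne_zero 2 hs0)).eq, mul_comm t]
    exact hsq s t hs0 ht
  · obtain ⟨s, hs⟩ := isSquare_mul_of_not_isSquare hts hus
    have hr0 : s * t⁻¹ ≠ 0 := by
      apply mul_ne_zero _ (inv_ne_zero ht)
      intro h
      rw [h, mul_zero] at hs
      exact (mul_ne_zero ht hu) hs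
    have e1 : u = (s * t⁻¹) ^ 2 * t := by
      have : s * s = t * u := hs.symm
      field_simp
      rw [pow_two, this]; ring
    have e2 : t * u = (s * t⁻¹) ^ 2 * t ^ 2 := by
      rw [e1]; ring
    rw [e2, ← hsq _ (t ^ 2) hr0 (pow_ne_zero 2 ht), ← hdbl t ht, e1, ← hsq _ t hr0 ht]
    have c1 : Commute (hS S i t) (hS S i ((s * t⁻¹) ^ 2)) := hcomm _ _ ht (pow_ne_zero 2 hr0)
    rw [← mul_assoc, c1.eq, mul_assoc]

end rankone

section allroots
variable {D : ChevalleyDatum} {hD : D ∈ [chevG2, chevB2, chevD4, chevF4, chevE6, chevE7, chevE8]}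
variable {F : Type*} [Field F] {Γ : Type*} [Group Γ] (S : StSys D hD F Γ)

/-- over a finite field, (R3) at the fundamental roots follows from (R1) and (R2) -/
theorem sym_R3Simple [Finite F] : R3Simple S :=
  fun i hi t₁ t₂ h1 h2 => sym_R3_finite_aux S i hi t₁ t₂ h1 h2

/-- `h̄_r(t)` for an arbitrary root -/
def hR (r : ℕ) (t : F) : Γ := S.nb r t * S.nb r (-1)

/-- `n̄_p n̄_r(t) n̄_p⁻¹ = n̄_{w_p r}(η t)`, with a sign not depending on `t` -/
theorem nS1_conj_nb_unif (i : ℕ) (hi : i < D.rank) (r : ℕ) (hr : r < D.nroots) :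
    ∃ ε : F, (ε = 1 ∨ ε = -1) ∧ ∀ t : F,
      nS1 S i * S.nb r t * (nS1 S i)⁻¹ = S.nb (D.reflectRoot i r) (ε * t) := by
  obtain ⟨-, -, -, -, hs'⟩ := chkN2_spec D (chkN2_all D hD) i hi
  obtain ⟨-, -, h3, -, h5, -⟩ := hs' r hr
  have hnr := wf_neg D (wf_all D hD) r hr
  have hη : nEta D i (D.neg r) = nEta D i r := by
    rcases h3 with h | h <;> rw [h] at h5 ⊢ <;> omega
  refine ⟨((nEta D i r : ℤ) : F), by rcases h3 with h | h <;> rw [h] <;> simp, fun t => ?_⟩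
  have e : nS1 S i * S.nb r t * (nS1 S i)⁻¹ = (nS1 S i * S.X r t * (nS1 S i)⁻¹) *
      (nS1 S i * S.X (D.neg r) (-t⁻¹) * (nS1 S i)⁻¹) * (nS1 S i * S.X r t * (nS1 S i)⁻¹) := by
    unfold StSys.nb; group
  rw [e, nS1_conj S i hi r hr, nS1_conj S i hi _ hnr, hη, reflectRoot_neg D hD i r hi hr]
  unfold StSys.nb
  congr 2
  rcases h3 with h | h <;> rw [h] <;> simp

/-- (R3) for all roots follows from (R3) for the fundamental roots -/
theorem R3_all (h : R3Simple S) (r : ℕ) (hr : r < D.nroots) :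
    ∀ t₁ t₂ : F, t₁ ≠ 0 → t₂ ≠ 0 → hR S r t₁ * hR S r t₂ = hR S r (t₁ * t₂) := by
  refine root_induction D hD
    (fun r => ∀ t₁ t₂ : F, t₁ ≠ 0 → t₂ ≠ 0 → hR S r t₁ * hR S r t₂ = hR S r (t₁ * t₂)) ?_ ?_ r hr
  · intro i hi t₁ t₂ h1 h2
    exact h i hi t₁ t₂ h1 h2
  · intro i hi r hr ih
    obtain ⟨ε, hε, hc⟩ := nS1_conj_nb_unif S i hi r hr
    have key : ∀ t : F, t ≠ 0 →
        hR S (D.reflectRoot i r) t = nS1 S i * hR S r t * (nS1 S i)⁻¹ := by
      intro t ht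
      rcases hε with rfl | rfl
      · have a1 := hc t
        have a2 := hc (-1)
        rw [one_mul] at a1 a2
        unfold hR
        rw [← a1, ← a2]
        group
      · have a1 := hc (-t)
        have a2 := hc 1
        rw [neg_one_mul, neg_neg] at a1
        rw [mul_one] at a2
        have e1 : S.nb r (-t) * S.nb r 1 = hR S r t := by
          have e2 : S.nb r (-t) * S.nb r 1 = hR S r (t * (-1)) * (hR S r (-1))⁻¹ := by
            have e3 : S.nb r 1 = (S.nb r (-1))⁻¹ := by rw [S.nb_inv, neg_neg]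
            unfold hR
            rw [mul_neg, mul_one, e3]
            group
          rw [e2, ← ih t (-1) ht (neg_ne_zero.2 one_ne_zero)]
          group
        unfold hR at e1 ⊢
        rw [← a1, ← a2, ← e1]
        group
    intro t₁ t₂ h1 h2
    rw [key t₁ h1, key t₂ h2, key _ (mul_ne_zero h1 h2), ← ih t₁ t₂ h1 h2]
    group

end allroots

end Cfsg.Agent.Lib.Helper18
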