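import Cfsg.Agent.Lib.Helper18.ChevCommAll
import Cfsg.Agent.Lib.Helper18.ChevUp
import Cfsg.Agent.Lib.Helper36.ChevGL

/-! # Abstract Steinberg systems (helper18)

A group `Γ` with elements `X r t` satisfying Steinberg's relations (R1), (R2) of a Chevalley datum, together with a
homomorphism to the Chevalley group sending `X r t` to `x_r(t)`. -/

set_option autoImplicit false

namespace Cfsg.Agent.Lib.Helper18

open Cfsg Cfsg.Lie Cfsg.Agent.Lib.Helper36

/-- the product of a word of root elements -/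
def wordOf {F Γ : Type*} [Group Γ] (X : ℕ → F → Γ) (w : List (ℕ × F)) : Γ := (w.map fun p => X p.1 p.2).prod

theorem wordOf_nil {F Γ : Type*} [Group Γ] (X : ℕ → F → Γ) : wordOf X [] = 1 := rfl

theorem wordOf_cons {F Γ : Type*} [Group Γ] (X : ℕ → F → Γ) (p : ℕ × F) (w : List (ℕ × F)) :
    wordOf X (p :: w) = X p.1 p.2 * wordOf X w := by
  unfold wordOf
  rw [List.map_cons, List.prod_cons]

theorem wordOf_append {F Γ : Type*} [Group Γ] (X : ℕ → F → Γ) (w w' : List (ℕ × F)) :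
    wordOf X (w ++ w') = wordOf X w * wordOf X w' := by
  unfold wordOf
  rw [List.map_append, List.prod_append]

theorem wordOf_mem {F Γ : Type*} [Group Γ] (X : ℕ → F → Γ) (K : Subgroup Γ) (w : List (ℕ × F))
    (h : ∀ p ∈ w, X p.1 p.2 ∈ K) : wordOf X w ∈ K := by
  unfold wordOf
  apply Subgroup.list_prod_mem
  intro g hg
  obtain ⟨p, hp, rfl⟩ := List.mem_map.1 hg
  exact h p hp

/-- an abstract Steinberg system -/
structure StSys (D : ChevalleyDatum) (hD : D ∈ [chevG2, chevB2, chevD4, chevF4, chevE6, chevE7, chevE8])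
    (F : Type*) [Field F] (Γ : Type*) [Group Γ] where
  X : ℕ → F → Γ
  X_add : ∀ (r : ℕ) (t u : F), X r t * X r u = X r (t + u)
  X_comm : ∀ (r s : ℕ), r < D.nroots → s < D.nroots → s ≠ r → s ≠ D.neg r → ∀ t u : F,
    (X s u)⁻¹ * (X r t)⁻¹ * X s u * X r t = wordOf X (D.commWord F r s t u)
  π : Γ →* GL D.Idx F
  π_X : ∀ (r : ℕ) (t : F), π (X r t) = xGL D hD F r t
  gen : Subgroup.closure {g : Γ | ∃ (r : ℕ) (t : F), r < D.nroots ∧ g = X r t} = ⊤

section
variable {D : ChevalleyDatum} {hD : D ∈ [chevG2, chevB2, chevD4, chevF4, chevE6, chevE7, chevE8]}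
variable {F : Type*} [Field F] {Γ : Type*} [Group Γ] (S : StSys D hD F Γ)

theorem StSys.X_zero (r : ℕ) : S.X r 0 = 1 := by
  have := S.X_add r 0 0
  rw [add_zero] at this
  exact mul_eq_left.1 this

theorem StSys.X_inv (r : ℕ) (t : F) : (S.X r t)⁻¹ = S.X r (-t) := by
  rw [inv_eq_iff_mul_eq_one, S.X_add, add_neg_cancel, S.X_zero]

theorem StSys.X_mul_neg (r : ℕ) (t : F) : S.X r t * S.X r (-t) = 1 := by
  rw [S.X_add, add_neg_cancel, S.X_zero]

theorem StSys.X_neg_mul (r : ℕ) (t : F) : S.X r (-t) * S.X r t = 1 := by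
  rw [S.X_add, neg_add_cancel, S.X_zero]

theorem StSys.π_word (w : List (ℕ × F)) : S.π (wordOf S.X w) = wordGL D hD F w := by
  induction w with
  | nil => simp [wordOf, wordGL]
  | cons p w ih =>
    rw [wordOf_cons, map_mul, ih, S.π_X]
    simp [wordGL]

/-- conjugation form of (R2) -/
theorem StSys.X_conj (r s : ℕ) (hr : r < D.nroots) (hs : s < D.nroots) (hsr : s ≠ r) (hsn : s ≠ D.neg r)
    (t u : F) :
    S.X r t * S.X s u * (S.X r t)⁻¹ = S.X s u * wordOf S.X (D.commWord F r s (-t) u) := by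
  rw [← S.X_comm r s hr hs hsr hsn (-t) u, ← S.X_inv, inv_inv]
  group

/-- if the elements `f a` form a subgroup normalising `K` then the subgroup generated is `f(F) K` -/
theorem decomp_of_normalizes (K : Subgroup Γ) (f : F → Γ) (hadd : ∀ a b, f a * f b = f (a + b))
    (hnorm : ∀ a, ∀ k ∈ K, f a * k * (f a)⁻¹ ∈ K) (g : Γ)
    (hg : g ∈ Subgroup.closure (Set.range f ∪ (K : Set Γ))) : ∃ a, ∃ k ∈ K, g = f a * k := by
  have h0 : f 0 = 1 := by
    have := hadd 0 0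
    rw [add_zero] at this
    exact mul_eq_left.1 this
  have hinv : ∀ a, (f a)⁻¹ = f (-a) := by
    intro a
    rw [inv_eq_iff_mul_eq_one, hadd, add_neg_cancel, h0]
  induction hg using Subgroup.closure_induction with
  | mem x hx =>
    rcases hx with ⟨a, rfl⟩ | hx
    · exact ⟨a, 1, one_mem _, by rw [mul_one]⟩
    · exact ⟨0, x, hx, by rw [h0, one_mul]⟩
  | one => exact ⟨0, 1, one_mem _, by rw [h0, one_mul]⟩
  | mul x y _ _ hx hy =>
    obtain ⟨a, k, hk, rfl⟩ := hx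
    obtain ⟨a', k', hk', rfl⟩ := hy
    refine ⟨a + a', (f (-a') * k * (f (-a'))⁻¹) * k', mul_mem (hnorm _ k hk) hk', ?_⟩
    rw [← hadd, ← hinv, inv_inv]
    group
  | inv x _ hx =>
    obtain ⟨a, k, hk, rfl⟩ := hx
    refine ⟨-a, f a * k⁻¹ * (f a)⁻¹, hnorm _ _ (inv_mem hk), ?_⟩
    rw [← hinv]
    group

/-- `n̄_r(t)` -/
def StSys.nb (r : ℕ) (t : F) : Γ := S.X r t * S.X (D.neg r) (-t⁻¹) * S.X r t

theorem StSys.nb_inv (r : ℕ) (t : F) : (S.nb r t)⁻¹ = S.nb r (-t) := by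
  unfold StSys.nb
  rw [mul_inv_rev, mul_inv_rev, S.X_inv, S.X_inv, neg_neg, inv_neg, neg_neg, mul_assoc]

theorem StSys.π_nb (r : ℕ) (t : F) : S.π (S.nb r t) = nGL D hD F r t := by
  unfold StSys.nb nGL wordGL ChevalleyDatum.nWord
  simp [S.π_X, mul_assoc]

/-- the rank one identity `x_{-r}(s) = x_r(s⁻¹) n_r(-s⁻¹) x_r(s⁻¹)` -/
theorem StSys.X_neg_eq (r : ℕ) (s : F) (hs : s ≠ 0) :
    S.X (D.neg r) s = S.X r s⁻¹ * S.nb r (-s⁻¹) * S.X r s⁻¹ := by
  unfold StSys.nb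
  have e : -(-s⁻¹)⁻¹ = s := by
    rw [inv_neg, inv_inv, neg_neg]
  rw [e]
  have h1 : S.X r s⁻¹ * S.X r (-s⁻¹) = 1 := S.X_mul_neg r _
  have h2 : S.X r (-s⁻¹) * S.X r s⁻¹ = 1 := S.X_neg_mul r _
  calc S.X (D.neg r) s = 1 * S.X (D.neg r) s * 1 := by rw [one_mul, mul_one]
    _ = (S.X r s⁻¹ * S.X r (-s⁻¹)) * S.X (D.neg r) s * (S.X r (-s⁻¹) * S.X r s⁻¹) := by rw [h1, h2]
    _ = _ := by group

end

end Cfsg.Agent.Lib.Helper18
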