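import Cfsg.Agent.Lib.Helper18.StPresH
import Cfsg.Agent.Lib.Helper18.ChevHSmith

/-! # The torus `H̄` of a Steinberg system satisfying (R3) (helper18) -/

set_option autoImplicit false

namespace Cfsg.Agent.Lib.Helper18

open Cfsg Cfsg.Lie Cfsg.Agent.Lib.Helper36

section abstract
variable {D : ChevalleyDatum} {hD : D ∈ [chevG2, chevB2, chevD4, chevF4, chevE6, chevE7, chevE8]}
variable {F : Type*} [Field F] {Γ : Type*} [Group Γ] (S : StSys D hD F Γ)

/-- relation (R3) on the fundamental roots -/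
def R3Simple : Prop :=
  ∀ i < D.rank, ∀ t₁ t₂ : F, t₁ ≠ 0 → t₂ ≠ 0 → hS S i t₁ * hS S i t₂ = hS S i (t₁ * t₂)

theorem hS_one (i : ℕ) : hS S i 1 = 1 := by
  unfold hS
  rw [← S.nb_inv, mul_inv_cancel]

/-- the `h̄_p(t)` commute with each other -/
theorem hS_comm (hmul : R3Simple S) (i : ℕ) (hi : i < D.rank) (x : F) (hx : x ≠ 0)
    (j : ℕ) (hj : j < D.rank) (y : F) (hy : y ≠ 0) :
    hS S i x * hS S j y = hS S j y * hS S i x := by
  obtain ⟨hp, hnp, -⟩ := simple_facts D hD j hj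
  set h := hS S i x with hh_def
  have hhN : h ∈ Nb S := hS_mem_Nb S i hi x hx
  have hhπ : S.π h ∈ D.diagonalSubgroup F := π_Hb_mem S h (hS_mem S i hi x hx)
  obtain ⟨χ, hχ, hact⟩ := diag_act S h hhN hhπ
  set c : F := (χ (D.simple j) : F) with hc_def
  have hc0 : c ≠ 0 := Units.ne_zero _
  have hcn : ((χ (D.neg (D.simple j)) : Fˣ) : F) = c⁻¹ := by
    rw [hχ.1 _ hp]
    simp [hc_def]
  have e1 : ∀ s : F, h * S.nb (D.simple j) s * h⁻¹ = S.nb (D.simple j) (c * s) := by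
    intro s
    have a1 := hact _ hp s
    have a2 := hact _ hnp (-s⁻¹)
    have e : h * S.nb (D.simple j) s * h⁻¹ = (h * S.X (D.simple j) s * h⁻¹) *
        (h * S.X (D.neg (D.simple j)) (-s⁻¹) * h⁻¹) * (h * S.X (D.simple j) s * h⁻¹) := by
      unfold StSys.nb; group
    rw [e, a1, a2, hcn]
    unfold StSys.nb
    congr 2
    rw [mul_inv, mul_neg]
  have e2 : h * hS S j y * h⁻¹ = hS S j y := by
    have e3 : h * hS S j y * h⁻¹ =
        (h * S.nb (D.simple j) y * h⁻¹) * (h * S.nb (D.simple j) (-1) * h⁻¹) := by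
      unfold hS; group
    rw [e3, e1, e1, mul_neg, mul_one, ← S.nb_inv, nb_eq_hS_mul S j (c * y), nb_eq_hS_mul S j c,
      mul_comm c y, ← hmul j hj y c hy hc0]
    group
  calc h * hS S j y = (h * hS S j y * h⁻¹) * h := by group
    _ = hS S j y * h := by rw [e2]

/-- the one-parameter subgroup `t ↦ h̄_{p_j}(t)` -/
noncomputable def hHom (hmul : R3Simple S) (j : Fin D.rank) : Fˣ →* Γ where
  toFun c := hS S j.val (c : F)
  map_one' := by
    rw [Units.val_one]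
    exact hS_one S j.val
  map_mul' a b := by
    rw [Units.val_mul]
    exact (hmul j.val j.isLt _ _ a.ne_zero b.ne_zero).symm

theorem hHom_comm (hmul : R3Simple S) :
    Pairwise fun i j : Fin D.rank => ∀ x y : Fˣ, Commute (hHom S hmul i x) (hHom S hmul j y) := by
  intro i j _ x y
  exact hS_comm S hmul i.val i.isLt _ x.ne_zero j.val j.isLt _ y.ne_zero

/-- the torus map `(Fˣ)^l → H̄` -/
noncomputable def torusLift (hmul : R3Simple S) : (Fin D.rank → Fˣ) →* Γ :=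
  MonoidHom.noncommPiCoprod (hHom S hmul) (hHom_comm S hmul)

theorem torusLift_mulSingle (hmul : R3Simple S) (j : Fin D.rank) (c : Fˣ) :
    torusLift S hmul (Pi.mulSingle j c) = hS S j.val (c : F) := by
  unfold torusLift
  rw [MonoidHom.noncommPiCoprod_mulSingle]
  rfl

theorem π_torusLift (hmul : R3Simple S) (t : Fin D.rank → Fˣ) :
    S.π (torusLift S hmul t) = torusHom D F t := by
  have hmem : t ∈ MonoidHom.eqLocus (S.π.comp (torusLift S hmul)) (torusHom D F) := by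
    apply Subgroup.pi_mem_of_mulSingle_mem
    intro j
    show S.π (torusLift S hmul (Pi.mulSingle j (t j))) = torusHom D F (Pi.mulSingle j (t j))
    rw [torusLift_mulSingle, π_hS, torusHom_mulSingle D hD F]
  exact hmem

theorem Hb_le_range (hmul : R3Simple S) : Hb S ≤ (torusLift S hmul).range := by
  unfold Hb
  rw [Subgroup.closure_le]
  rintro g ⟨i, t, hi, ht, rfl⟩
  exact ⟨Pi.mulSingle ⟨i, hi⟩ (Units.mk0 t ht), torusLift_mulSingle S hmul ⟨i, hi⟩ (Units.mk0 t ht)⟩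

/-- if the Cartan matrix is unimodular, `π` is injective -/
theorem eq_one_of_π_eq_one (hmul : R3Simple S) (P' : Matrix (Fin D.rank) (Fin D.rank) ℤ)
    (h1 : cartanMat D * P' = 1) (h2 : P' * cartanMat D = 1) (z : Γ) (hz : S.π z = 1) : z = 1 := by
  obtain ⟨t, rfl⟩ := Hb_le_range S hmul (ker_le_Hb S z hz)
  rw [π_torusLift] at hz
  have hk : t ∈ (torusHom D F).ker := hz
  rw [torusHom_ker D hD F, MonoidHom.mem_ker] at hk
  have ht : t = 1 := by
    apply (monoMap_bijective (C := Fˣ) (cartanMat D) P' h1 h2).1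
    rw [hk, map_one]
  rw [ht, map_one]

end abstract

theorem cartanInv_G2 : cartanMat chevG2 * matOfList _ [[2, 3], [1, 2]] = 1 ∧
    matOfList _ [[2, 3], [1, 2]] * cartanMat chevG2 = 1 := by
  decide +kernel

theorem cartanInv_F4 : cartanMat chevF4 * matOfList _ [[2, 3, 4, 2], [3, 6, 8, 4], [2, 4, 6, 3], [1, 2, 3, 2]] = 1 ∧
    matOfList _ [[2, 3, 4, 2], [3, 6, 8, 4], [2, 4, 6, 3], [1, 2, 3, 2]] * cartanMat chevF4 = 1 := by
  decide +kernel

theorem cartanInv_E8 : cartanMat chevE8 * matOfList _ [[4, 5, 7, 10, 8, 6, 4, 2], [5, 8, 10, 15, 12, 9, 6, 3],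
      [7, 10, 14, 20, 16, 12, 8, 4], [10, 15, 20, 30, 24, 18, 12, 6], [8, 12, 16, 24, 20, 15, 10, 5],
      [6, 9, 12, 18, 15, 12, 8, 4], [4, 6, 8, 12, 10, 8, 6, 3], [2, 3, 4, 6, 5, 4, 3, 2]] = 1 ∧
    matOfList _ [[4, 5, 7, 10, 8, 6, 4, 2], [5, 8, 10, 15, 12, 9, 6, 3],
      [7, 10, 14, 20, 16, 12, 8, 4], [10, 15, 20, 30, 24, 18, 12, 6], [8, 12, 16, 24, 20, 15, 10, 5],
      [6, 9, 12, 18, 15, 12, 8, 4], [4, 6, 8, 12, 10, 8, 6, 3], [2, 3, 4, 6, 5, 4, 3, 2]] * cartanMat chevE8 = 1 := by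
  decide +kernel

end Cfsg.Agent.Lib.Helper18
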