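import Cfsg.Agent.Lib.Helper18.StSection
import Cfsg.Agent.Lib.Helper41.Sm_TOPSLcore
import Cfsg.Agent.S1077
import Cfsg.Agent.S1078

/-! # Trivial Schur multiplier from central closedness, for the Chevalley types (helper18)

`multiplier_trivial_of_cc`: a finite group `G ≃* S` such that every central extension of `S` splits has trivial
Schur multiplier.  `steinberg_equiv_group`: for `G₂, F₄, E₈` the presented group is the Chevalley group. -/

set_option autoImplicit false

universe u

namespace Cfsg.Agent.Lib.Helper18.StSection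

open Cfsg Cfsg.Lie Cfsg.Agent.Lib.Helper39.Sm

/-- a finite group isomorphic to a centrally closed group has trivial multiplier -/
theorem multiplier_trivial_of_cc {G S : Type u} [Group G] [Finite G] [Group S] (e : S ≃* G)
    (hcc : ∀ (Y : Type u) [Group Y] (φ : Y →* S), Function.Surjective φ → φ.ker ≤ Subgroup.center Y →
      ∃ τ : S →* Y, φ.comp τ = MonoidHom.id S) :
    Cfsg.HasCyclicSchurMultiplier G 1 := by
  classical
  refine ⟨⟨G, inferInstance, inferInstance, MonoidHom.id _, ⟨Function.surjective_id, ?_, ?_⟩, ?_⟩, ?_⟩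
  · rw [MonoidHom.ker_id]; exact bot_le
  · rw [MonoidHom.ker_id]; exact bot_le
  · exact topsl_ker_equiv _ MonoidHom.ker_id
  · intro Γ _ _ σ hσ
    obtain ⟨hs, hc, hk⟩ := hσ
    set φ : Γ →* S := (e.symm : G →* S).comp σ with hφdef
    have hker : φ.ker = σ.ker := by
      ext x
      simp only [MonoidHom.mem_ker, hφdef, MonoidHom.comp_apply]
      constructor
      · intro h
        have := congrArg e h
        simpa using this
      · intro h
        rw [h]; simp
    have hφs : Function.Surjective φ := e.symm.surjective.comp hs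
    obtain ⟨τ, hτ⟩ := hcc Γ φ hφs (hker ▸ hc)
    have hbot : φ.ker = ⊥ := topsl_ker_eq_bot φ (hker ▸ hc) (hker ▸ hk) τ hτ
    exact topsl_surj_of_ker_bot σ (hker ▸ hbot)

/-- for `G₂, F₄, E₈` the presented group is the Chevalley group -/
theorem steinberg_equiv_group {K : Type*} [Field K] (D : ChevalleyDatum) (hD : D ∈ [chevG2, chevF4, chevE8]) :
    Nonempty (D.SteinbergGroup K ≃* ↥(D.group K)) := by
  have hD' : D ∈ [chevG2, chevB2, chevD4, chevF4, chevE6, chevE7, chevE8] := by
    simp only [List.mem_cons, List.not_mem_nil, or_false] at hD ⊢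
    rcases hD with h | h | h <;> simp [h]
  obtain ⟨θ, hθ, hker, -⟩ := Cfsg.Agent.S1077.result (K := K) D hD'
  rw [Cfsg.Agent.S1078.result (K := K) D hD] at hker
  exact ⟨MulEquiv.ofBijective θ ⟨(MonoidHom.ker_eq_bot_iff θ).1 hker, hθ⟩⟩

end Cfsg.Agent.Lib.Helper18.StSection
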