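import Cfsg.Agent.Lib.Helper18.StSides
import Cfsg.Agent.Lib.Helper18.ChevUpAll
import Cfsg.Agent.Lib.Helper18.ChevBnB

/-! # The subgroups `Ū_p`, `V̄_p` of an abstract Steinberg system (helper18) -/

set_option autoImplicit false
set_option maxRecDepth 100000

namespace Cfsg.Agent.Lib.Helper18

open Cfsg Cfsg.Lie Cfsg.Agent.Lib.Helper36

/-- table check: the roots `i r + j (-s)`, `r = ± p_i`, `s` positive other than `p_i`, are negative roots other
than `-p_i` -/
def chkUpN (D : ChevalleyDatum) (i : ℕ) : Bool :=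
  (List.range D.nroots).all fun s => !decide (D.IsPosRoot s) || Nat.beq s (D.simple i) ||
    (((D.commTerms (D.simple i) (D.neg s)).all fun c =>
        decide (D.IsNegRoot c.1) && !Nat.beq c.1 (D.neg (D.simple i))) &&
    ((D.commTerms (D.neg (D.simple i)) (D.neg s)).all fun c =>
        decide (D.IsNegRoot c.1) && !Nat.beq c.1 (D.neg (D.simple i))))

theorem chkUpN_G2 : (List.range chevG2.rank).all (chkUpN chevG2) = true := by decide +kernel
theorem chkUpN_B2 : (List.range chevB2.rank).all (chkUpN chevB2) = true := by decide +kernel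
theorem chkUpN_D4 : (List.range chevD4.rank).all (chkUpN chevD4) = true := by decide +kernel
theorem chkUpN_F4 : (List.range chevF4.rank).all (chkUpN chevF4) = true := by decide +kernel
theorem chkUpN_E6 : (List.range chevE6.rank).all (chkUpN chevE6) = true := by decide +kernel
theorem chkUpN_E7 : (List.range chevE7.rank).all (chkUpN chevE7) = true := by decide +kernel
theorem chkUpN_E8 : (List.range chevE8.rank).all (chkUpN chevE8) = true := by decide +kernel

theorem chkUpN_all (D : ChevalleyDatum) (hD : D ∈ [chevG2, chevB2, chevD4, chevF4, chevE6, chevE7, chevE8])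
    (i : ℕ) (hi : i < D.rank) (s : ℕ) (hs : D.IsPosRoot s) (hsp : s ≠ D.simple i) :
    (∀ c ∈ D.commTerms (D.simple i) (D.neg s), D.IsNegRoot c.1 ∧ c.1 ≠ D.neg (D.simple i)) ∧
    (∀ c ∈ D.commTerms (D.neg (D.simple i)) (D.neg s), D.IsNegRoot c.1 ∧ c.1 ≠ D.neg (D.simple i)) := by
  have h : (List.range D.rank).all (chkUpN D) = true :=
    seven_cases (P := fun D => (List.range D.rank).all (chkUpN D) = true) D hD chkUpN_G2 chkUpN_B2
      chkUpN_D4 chkUpN_F4 chkUpN_E6 chkUpN_E7 chkUpN_E8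
  rw [List.all_eq_true] at h
  have h1 := h i (List.mem_range.2 hi)
  unfold chkUpN at h1
  rw [List.all_eq_true] at h1
  have h2 := h1 s (List.mem_range.2 hs.1)
  simp only [Bool.or_eq_true, Bool.and_eq_true, Bool.not_eq_true', decide_eq_false_iff_not,
    decide_eq_true_eq, List.all_eq_true] at h2
  have key : ∀ c : ℕ × ℤ × ℕ × ℕ, (D.IsNegRoot c.1 ∧ Nat.beq c.1 (D.neg (D.simple i)) = false) →
      D.IsNegRoot c.1 ∧ c.1 ≠ D.neg (D.simple i) := by
    rintro c ⟨a, b⟩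
    refine ⟨a, fun e => ?_⟩
    rw [e] at b
    have : Nat.beq (D.neg (D.simple i)) (D.neg (D.simple i)) = true := Nat.beq_refl _
    rw [this] at b
    exact Bool.noConfusion b
  rcases h2 with (h2 | h2) | h2
  · exact absurd hs h2
  · exact absurd (Nat.eq_of_beq_eq_true h2) hsp
  · exact ⟨fun c hc => key c (h2.1 c hc), fun c hc => key c (h2.2 c hc)⟩

/-- the interface: `X_{±p}` normalise the subgroup generated by the `X (ρ s)`, `s` positive other than `p` -/
structure UpSide (D : ChevalleyDatum) (ρ : ℕ → ℕ) (i : ℕ) : Prop where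
  base : ∀ s, D.IsPosRoot s → s ≠ D.simple i →
    ρ s < D.nroots ∧ ρ s ≠ D.simple i ∧ ρ s ≠ D.neg (D.simple i)
  terms : ∀ s, D.IsPosRoot s → s ≠ D.simple i → ∀ r, (r = D.simple i ∨ r = D.neg (D.simple i)) →
    ∀ c ∈ D.commTerms r (ρ s), ∃ c', D.IsPosRoot c' ∧ c' ≠ D.simple i ∧ c.1 = ρ c'
  refl : ∀ s, D.IsPosRoot s → s ≠ D.simple i →
    ∃ s', D.IsPosRoot s' ∧ s' ≠ D.simple i ∧ D.reflectRoot i (ρ s) = ρ s'

section sides
variable (D : ChevalleyDatum) (hD : D ∈ [chevG2, chevB2, chevD4, chevF4, chevE6, chevE7, chevE8])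

include hD in
theorem upSidePos (i : ℕ) (hi : i < D.rank) : UpSide D (fun r => r) i := by
  obtain ⟨hnn, hnp, hT⟩ := chkUp_spec D i (chkUp_all D hD i hi)
  refine ⟨fun s hs hsp => ⟨hs.1, hsp, fun e => ?_⟩, ?_, ?_⟩
  · rw [e] at hs; exact hnp hs
  · intro s hs hsp r hr c hc
    obtain ⟨h1, h2⟩ := hT s hs hsp
    rcases hr with rfl | rfl
    · exact ⟨c.1, (h1 c hc).1, (h1 c hc).2, rfl⟩
    · exact ⟨c.1, (h2 c hc).1, (h2 c hc).2, rfl⟩
  · intro s hs hsp
    obtain ⟨h1, h2⟩ := chkPerm_all D hD i hi s hs hsp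
    exact ⟨_, h1, h2, rfl⟩

include hD in
theorem upSideNeg (i : ℕ) (hi : i < D.rank) : UpSide D D.neg i := by
  have hwf := wf_all D hD
  have hpi := isPosRoot_simple D hD i hi
  refine ⟨fun s hs hsp => ⟨wf_neg D hwf s hs.1, fun e => ?_, fun e => ?_⟩, ?_, ?_⟩
  · have := isNegRoot_neg D hD s hs
    rw [e] at this
    exact not_pos_and_neg D hD _ hpi this
  · have := congrArg D.neg e
    rw [neg_neg_root D hD s hs.1, neg_neg_root D hD _ hpi.1] at this
    exact hsp this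
  · intro s hs hsp r hr c hc
    obtain ⟨h1, h2⟩ := chkUpN_all D hD i hi s hs hsp
    have hc' : D.IsNegRoot c.1 ∧ c.1 ≠ D.neg (D.simple i) := by
      rcases hr with rfl | rfl
      · exact h1 c hc
      · exact h2 c hc
    refine ⟨D.neg c.1, isPosRoot_neg D hD _ hc'.1, fun e => ?_, (neg_neg_root D hD _ hc'.1.1).symm⟩
    apply hc'.2
    rw [← e, neg_neg_root D hD _ hc'.1.1]
  · intro s hs hsp
    obtain ⟨h1, h2⟩ := chkPerm_all D hD i hi s hs hsp
    refine ⟨_, h1, h2, ?_⟩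
    have := Cfsg.Agent.Lib.Helper18.wRoot_neg D hD [i] (by simpa using hi) s hs.1
    simpa [wRoot] using this

end sides

section abstract
variable {D : ChevalleyDatum} {hD : D ∈ [chevG2, chevB2, chevD4, chevF4, chevE6, chevE7, chevE8]}
variable {F : Type*} [Field F] {Γ : Type*} [Group Γ] (S : StSys D hD F Γ)
variable (ρ : ℕ → ℕ)

/-- generators of `Ū_p` (or `V̄_p`) -/
def upS (p : ℕ) : Set Γ := {g : Γ | ∃ (s : ℕ) (t : F), D.IsPosRoot s ∧ s ≠ p ∧ g = S.X (ρ s) t}

theorem X_mem_upS (p s : ℕ) (hs : D.IsPosRoot s) (hsp : s ≠ p) (u : F) :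
    S.X (ρ s) u ∈ Subgroup.closure (upS S ρ p) :=
  Subgroup.subset_closure ⟨s, u, hs, hsp, rfl⟩

theorem upS_le_gensS (p : ℕ) : Subgroup.closure (upS S ρ p) ≤ Subgroup.closure (gensS S ρ 0) := by
  apply Subgroup.closure_mono
  rintro g ⟨s, t, hs, -, rfl⟩
  exact ⟨s, t, hs, Nat.zero_le _, rfl⟩

theorem conj_gen_mem_upS (i : ℕ) (hu : UpSide D ρ i) (r : ℕ) (hr : r < D.nroots)
    (hrp : r = D.simple i ∨ r = D.neg (D.simple i)) (hnn : D.neg (D.neg (D.simple i)) = D.simple i)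
    (t : F) (k : Γ) (hk : k ∈ upS S ρ (D.simple i)) :
    S.X r t * k * (S.X r t)⁻¹ ∈ Subgroup.closure (upS S ρ (D.simple i)) := by
  obtain ⟨s, u, hs, hsp, rfl⟩ := hk
  obtain ⟨h1, h2, h3⟩ := hu.base s hs hsp
  have hsr : ρ s ≠ r := by
    rcases hrp with rfl | rfl
    · exact h2
    · exact h3
  have hsnr : ρ s ≠ D.neg r := by
    rcases hrp with rfl | rfl
    · exact h3
    · rw [hnn]; exact h2
  rw [S.X_conj r (ρ s) hr h1 hsr hsnr]
  refine mul_mem (X_mem_upS S ρ _ _ hs hsp _) ?_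
  apply wordOf_mem
  intro q hq
  unfold ChevalleyDatum.commWord at hq
  obtain ⟨c, hc, rfl⟩ := List.mem_map.1 hq
  obtain ⟨c', hc', hcp, e⟩ := hu.terms s hs hsp r hrp c hc
  simp only
  rw [e]
  exact X_mem_upS S ρ _ _ hc' hcp _

theorem conj_mem_upS (i : ℕ) (hu : UpSide D ρ i) (r : ℕ) (hr : r < D.nroots)
    (hrp : r = D.simple i ∨ r = D.neg (D.simple i)) (hnn : D.neg (D.neg (D.simple i)) = D.simple i)
    (t : F) (k : Γ) (hk : k ∈ Subgroup.closure (upS S ρ (D.simple i))) :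
    S.X r t * k * (S.X r t)⁻¹ ∈ Subgroup.closure (upS S ρ (D.simple i)) :=
  conj_mem_closure _ _ (fun k hk => conj_gen_mem_upS S ρ i hu r hr hrp hnn t k hk) k hk

theorem nb_conj_mem_upS (i : ℕ) (hu : UpSide D ρ i) (hp : D.simple i < D.nroots)
    (hnp : D.neg (D.simple i) < D.nroots) (hnn : D.neg (D.neg (D.simple i)) = D.simple i)
    (t : F) (k : Γ) (hk : k ∈ Subgroup.closure (upS S ρ (D.simple i))) :
    S.nb (D.simple i) t * k * (S.nb (D.simple i) t)⁻¹ ∈ Subgroup.closure (upS S ρ (D.simple i)) := by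
  have h1 := conj_mem_upS S ρ i hu _ hp (Or.inl rfl) hnn t k hk
  have h2 := conj_mem_upS S ρ i hu _ hnp (Or.inr rfl) hnn (-t⁻¹) _ h1
  have h3 := conj_mem_upS S ρ i hu _ hp (Or.inl rfl) hnn t _ h2
  have e : S.nb (D.simple i) t * k * (S.nb (D.simple i) t)⁻¹ =
      S.X (D.simple i) t * (S.X (D.neg (D.simple i)) (-t⁻¹) * (S.X (D.simple i) t * k * (S.X (D.simple i) t)⁻¹) *
        (S.X (D.neg (D.simple i)) (-t⁻¹))⁻¹) * (S.X (D.simple i) t)⁻¹ := by
    unfold StSys.nb
    group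
  rw [e]
  exact h3

end abstract

end Cfsg.Agent.Lib.Helper18
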