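import Cfsg.Agent.Lib.Helper18.StbGlue
import Cfsg.Agent.Lib.Helper6.St.Main
import Cfsg.Agent.Lib.Helper74.Osima5

/-! # The Steinberg character of the Chevalley groups: S2311, S2327, S2328 (helper18, on helper6's abstract theory) -/

set_option autoImplicit false

namespace Cfsg.Agent.Lib.Helper18.Stb

open Cfsg Cfsg.Lie Cfsg.Agent.Lib.Helper36 Cfsg.Agent.Lib.Helper6.St

section
variable (D : ChevalleyDatum) (hD : D ∈ [chevG2, chevB2, chevD4, chevF4, chevE6, chevE7, chevE8])
variable (F : Type*) [Field F] [Fintype F]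

/-- the group is finite -/
noncomputable def fintypeGroup : Fintype ↥(D.group F) := Fintype.ofFinite _

attribute [local instance] fintypeGroup

include hD in
theorem steinberg_eq_stChar : D.steinbergCharacter F = stChar (bnP D hD F) (stT D hD F) := by
  funext g
  rw [steinberg_eq D hD F g]
  rfl

include hD in
/-- S2311 -/
theorem steinberg_irr : Cfsg.IsIrrCharacter ↥(D.group F) (D.steinbergCharacter F) := by
  rw [steinberg_eq_stChar D hD F]
  exact isIrrCharacter_stChar (bnP D hD F) (stT D hD F) (coe_stT D hD F)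

include hD in
/-- S2327 -/
theorem steinberg_one : D.steinbergCharacter F 1 = (Fintype.card F : ℂ) ^ (D.nroots / 2) := by
  have h := stChar_one_mul (bnP D hD F) (stT D hD F) (coe_stT D hD F) (n0G_mem D hD F)
    (fun n hn => card_C_le D hD F n hn)
  rw [← steinberg_eq_stChar D hD F, card_C_n0 D hD F] at h
  have hB : (Nat.card (bnP D hD F).B : ℂ) ≠ 0 := by
    have : 0 < Nat.card (bnP D hD F).B := Nat.card_pos
    exact_mod_cast this.ne'
  push_cast at h
  exact mul_right_cancel₀ hB h

include hD in
/-- S2328 -/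
theorem steinberg_vanish (p : ℕ) [Fact p.Prime] [CharP F p] (g : ↥(D.group F)) (hg : p ∣ orderOf g) :
    D.steinbergCharacter F g = 0 := by
  obtain ⟨k, hk, hpk⟩ := card_group_ppart D hD F p
  exact Cfsg.Agent.Lib.Helper74.irr_vanish_of_defect_zero (Fact.out : p.Prime)
    ⟨D.steinbergCharacter F, steinberg_irr D hD F⟩ (Fintype.card F ^ (D.nroots / 2)) k
    (by
      show D.steinbergCharacter F 1 = _
      rw [steinberg_one D hD F]; push_cast; rfl) hk hpk g hg

end

end Cfsg.Agent.Lib.Helper18.Stb
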