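import Cfsg.Agent.Lib.Helper36.ChevCells
import Cfsg.Agent.Lib.Helper36.ChevW0d
import Cfsg.Agent.Lib.Helper6.BN
import Cfsg.Agent.S1045
import Cfsg.Agent.S1027
import Cfsg.Agent.S2326
import Cfsg.Prelude.Def_ParabolicCharacters

/-! # Steinberg character: the glue between the Chevalley groups and the abstract (B,N)-pair theory (helper18)

For helper6's ST project (S2311, S2327, S2328). -/

set_option autoImplicit false

namespace Cfsg.Agent.Lib.Helper18.Stb

open Cfsg Cfsg.Lie Cfsg.Agent.Lib.Helper36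

section
variable (D : ChevalleyDatum) (hD : D ∈ [chevG2, chevB2, chevD4, chevF4, chevE6, chevE7, chevE8])
variable (F : Type*) [Field F]

include hD in
theorem h45_all : ∀ i < D.rank, H45 D F i := fun i hi => Cfsg.Agent.S1045.result D hD i hi

/-- the (B,N)-pair of the Chevalley group -/
noncomputable def bnP : Cfsg.BNPair ↥(D.group F) :=
  Classical.choose (exists_bnPair D hD F (h45_all D hD F))

theorem bnP_B : (bnP D hD F).B = (D.borelSubgroup F).subgroupOf (D.group F) :=
  (Classical.choose_spec (exists_bnPair D hD F (h45_all D hD F))).1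

theorem bnP_N : (bnP D hD F).N = (D.monomialSubgroup F).subgroupOf (D.group F) :=
  (Classical.choose_spec (exists_bnPair D hD F (h45_all D hD F))).2.1

theorem bnP_S : (bnP D hD F).S = {n : ↥(D.group F) | ∃ i < D.rank,
    ((n : GL D.Idx F) : Matrix D.Idx D.Idx F) = D.nMat F (D.simple i) 1} :=
  (Classical.choose_spec (exists_bnPair D hD F (h45_all D hD F))).2.2

open Classical in
/-- the generator `n_i(1)` as an element of the group -/
noncomputable def sGen (i : ℕ) : ↥(D.group F) :=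
  if hi : i < D.rank then ⟨nGL D hD F (D.simple i) 1, monomial_le_group D hD F (nS_mem_monomial D hD F i hi)⟩ else 1

theorem sGen_coe (i : ℕ) (hi : i < D.rank) : ((sGen D hD F i : ↥(D.group F)) : GL D.Idx F) = nGL D hD F (D.simple i) 1 := by
  unfold sGen
  rw [dif_pos hi]

theorem sGen_injOn (i j : ℕ) (hi : i < D.rank) (hj : j < D.rank) (h : sGen D hD F i = sGen D hD F j) : i = j := by
  apply nS_eq_of_mem_borel D hD F i j hi hj
  rw [← sGen_coe D hD F i hi, ← sGen_coe D hD F j hj, h, inv_mul_cancel]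
  exact one_mem _

theorem mem_S_iff (n : ↥(D.group F)) : n ∈ (bnP D hD F).S ↔ ∃ i < D.rank, n = sGen D hD F i := by
  rw [bnP_S]
  constructor
  · rintro ⟨i, hi, e⟩
    refine ⟨i, hi, Subtype.ext (Units.ext ?_)⟩
    rw [e, sGen_coe D hD F i hi, nGL_coe]
  · rintro ⟨i, hi, rfl⟩
    exact ⟨i, hi, by rw [sGen_coe D hD F i hi, nGL_coe]⟩

open Classical in
/-- the finite set of distinguished generators -/
noncomputable def stT : Finset ↥(D.group F) := (Finset.range D.rank).image (sGen D hD F)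

theorem coe_stT : (↑(stT D hD F) : Set ↥(D.group F)) = (bnP D hD F).S := by
  ext n
  rw [mem_S_iff]
  unfold stT
  simp only [Finset.coe_image, Finset.coe_range, Set.mem_image, Set.mem_Iio]
  constructor
  · rintro ⟨i, hi, rfl⟩; exact ⟨i, hi, rfl⟩
  · rintro ⟨i, hi, rfl⟩; exact ⟨i, hi, rfl⟩

open Classical in
/-- the standard parabolic subgroups are the parabolic subgroups of the (B,N)-pair -/
theorem parabolicIn_eq (J : Finset ℕ) (hJ : J ⊆ Finset.range D.rank) :
    D.parabolicIn F J = (bnP D hD F).parabolic (↑(J.image (sGen D hD F)) : Set ↥(D.group F)) := by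
  unfold ChevalleyDatum.parabolicIn ChevalleyDatum.parabolicSubgroup Cfsg.BNPair.parabolic
  rw [bnP_B]
  have hBG := borel_le_group D hD F
  set T : Set (GL D.Idx F) := {g | ∃ j ∈ (↑J : Set ℕ), j < D.rank ∧
    (g : Matrix D.Idx D.Idx F) = D.nMat F (D.simple j) 1} with hT
  have hTimg : T = (D.group F).subtype '' (↑(J.image (sGen D hD F)) : Set ↥(D.group F)) := by
    ext g
    simp only [hT, Set.mem_setOf_eq, Finset.coe_image, Set.mem_image, Finset.mem_coe, Subgroup.coe_subtype]
    constructor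
    · rintro ⟨j, hj, hjr, e⟩
      refine ⟨sGen D hD F j, ⟨j, hj, rfl⟩, ?_⟩
      rw [sGen_coe D hD F j hjr]
      exact Units.ext (by rw [e, nGL_coe])
    · rintro ⟨_, ⟨j, hj, rfl⟩, rfl⟩
      have hjr : j < D.rank := Finset.mem_range.1 (hJ hj)
      exact ⟨j, hj, hjr, by rw [sGen_coe D hD F j hjr, nGL_coe]⟩
  have hcl : Subgroup.closure T = (Subgroup.closure (↑(J.image (sGen D hD F)) : Set ↥(D.group F))).map
      (D.group F).subtype := by
    rw [MonoidHom.map_closure, hTimg]
  have hclG : Subgroup.closure T ≤ D.group F := by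
    rw [hcl]
    rintro _ ⟨x, -, rfl⟩
    exact x.2
  rw [Subgroup.subgroupOf_sup hBG hclG]
  congr 1
  rw [hcl]
  ext x
  rw [Subgroup.mem_subgroupOf]
  constructor
  · rintro ⟨y, hy, e⟩
    have : y = x := Subtype.ext e
    rwa [← this]
  · intro hx
    exact ⟨x, hx, rfl⟩

/-- the Steinberg character of the Chevalley group in terms of the (B,N)-pair -/
theorem steinberg_eq (g : ↥(D.group F)) :
    D.steinbergCharacter F g = ∑ J ∈ (stT D hD F).powerset,
      (-1 : ℂ) ^ J.card * Cfsg.fixedPointCharacter ((bnP D hD F).parabolic (↑J : Set ↥(D.group F))) g := by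
  classical
  unfold ChevalleyDatum.steinbergCharacter
  have hinj : Set.InjOn (sGen D hD F) (↑(Finset.range D.rank) : Set ℕ) := by
    intro i hi j hj h
    exact sGen_injOn D hD F i j (Finset.mem_range.1 hi) (Finset.mem_range.1 hj) h
  apply Finset.sum_bij (fun J _ => J.image (sGen D hD F))
  · intro J hJ
    rw [Finset.mem_powerset] at hJ ⊢
    exact Finset.image_subset_image hJ
  · intro J₁ hJ₁ J₂ hJ₂ h
    rw [Finset.mem_powerset] at hJ₁ hJ₂
    ext i
    constructor
    · intro hi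
      have : sGen D hD F i ∈ J₂.image (sGen D hD F) := by
        rw [← h]; exact Finset.mem_image_of_mem _ hi
      obtain ⟨j, hj, e⟩ := Finset.mem_image.1 this
      have := hinj (hJ₂ hj) (hJ₁ hi) e
      rwa [← this]
    · intro hi
      have : sGen D hD F i ∈ J₁.image (sGen D hD F) := by
        rw [h]; exact Finset.mem_image_of_mem _ hi
      obtain ⟨j, hj, e⟩ := Finset.mem_image.1 this
      have := hinj (hJ₁ hj) (hJ₂ hi) e
      rwa [← this]
  · intro K hK
    rw [Finset.mem_powerset] at hK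
    refine ⟨(Finset.range D.rank).filter (fun i => sGen D hD F i ∈ K), ?_, ?_⟩
    · rw [Finset.mem_powerset]; exact Finset.filter_subset _ _
    · ext x
      simp only [Finset.mem_image, Finset.mem_filter, Finset.mem_range]
      constructor
      · rintro ⟨i, ⟨-, hiK⟩, rfl⟩; exact hiK
      · intro hx
        have := hK hx
        unfold stT at this
        obtain ⟨i, hi, rfl⟩ := Finset.mem_image.1 this
        exact ⟨i, ⟨Finset.mem_range.1 hi, hx⟩, rfl⟩
  · intro J hJ
    rw [Finset.mem_powerset] at hJ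
    rw [Finset.card_image_of_injOn (fun i hi j hj h => hinj (hJ hi) (hJ hj) h), parabolicIn_eq D hD F J hJ]


/-! ### (g2) the sizes of the cells -/

theorem mem_bnP_B (x : ↥(D.group F)) : x ∈ (bnP D hD F).B ↔ (x : GL D.Idx F) ∈ D.borelSubgroup F := by
  rw [bnP_B, Subgroup.mem_subgroupOf]

theorem mem_bnP_N (x : ↥(D.group F)) : x ∈ (bnP D hD F).N ↔ (x : GL D.Idx F) ∈ D.monomialSubgroup F := by
  rw [bnP_N, Subgroup.mem_subgroupOf]

theorem card_bnP_B : Nat.card (bnP D hD F).B = Nat.card (D.borelSubgroup F) := by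
  rw [bnP_B]
  exact Nat.card_congr (Subgroup.subgroupOfEquivOfLe (borel_le_group D hD F)).toEquiv

/-- the cell in the group and the cell in `GL` have the same number of elements -/
theorem card_C_eq (n : ↥(D.group F)) :
    Nat.card (Cfsg.Agent.Lib.Helper6.C (bnP D hD F) n) = Nat.card (cell D F (n : GL D.Idx F)) := by
  have hBG := borel_le_group D hD F
  apply Nat.card_congr
  refine
    { toFun := fun g => ⟨(g.1 : GL D.Idx F), ?_⟩
      invFun := fun g => ⟨⟨g.1, ?_⟩, ?_⟩
      left_inv := fun g => rfl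
      right_inv := fun g => rfl }
  · obtain ⟨x, hx, y, hy, e⟩ := (Cfsg.Agent.Lib.Helper6.mem_C (bnP D hD F)).1 g.2
    refine ⟨x, (mem_bnP_B D hD F x).1 hx, y, (mem_bnP_B D hD F y).1 hy, ?_⟩
    rw [e]
    rfl
  · obtain ⟨b1, hb1, b2, hb2, e⟩ := g.2
    rw [e]
    exact mul_mem (mul_mem (hBG hb1) n.2) (hBG hb2)
  · obtain ⟨b1, hb1, b2, hb2, e⟩ := g.2
    rw [Cfsg.Agent.Lib.Helper6.mem_C]
    refine ⟨⟨b1, hBG hb1⟩, (mem_bnP_B D hD F _).2 hb1, ⟨b2, hBG hb2⟩, (mem_bnP_B D hD F _).2 hb2, ?_⟩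
    exact Subtype.ext e

include hD in
/-- `B n B = B n U` for `n ∈ N` -/
theorem cell_eq_BnU (n : GL D.Idx F) (hn : n ∈ D.monomialSubgroup F) (g : GL D.Idx F) (hg : g ∈ cell D F n) :
    ∃ b ∈ D.borelSubgroup F, ∃ u ∈ D.posUnipotent F, g = b * n * u := by
  obtain ⟨b1, hb1, b2, hb2, e⟩ := hg
  obtain ⟨u, hu, h, hh, e2⟩ := (mem_borel_iff D hD F b2).1 hb2
  have hnh : n * h * n⁻¹ ∈ D.diagonalSubgroup F := conj_mem_diag_of_mem_monomial D hD F n h hn hh
  have hu' : h⁻¹ * u * h ∈ D.posUnipotent F := by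
    have hN := diagonal_le_normalizer_pos D hD F (inv_mem hh)
    have := (Subgroup.mem_normalizer_iff.1 hN u).1 hu
    simpa using this
  have hucomm : u * h = h * (h⁻¹ * u * h) := by group
  refine ⟨b1 * (n * h * n⁻¹), mul_mem hb1 (diagonal_le_borel D F hnh), h⁻¹ * u * h, hu', ?_⟩
  rw [e, ← e2, hucomm]
  group

include hD in
/-- every cell has at most `|B| |U|` elements -/
theorem card_cell_le [Finite F] (n : GL D.Idx F) (hn : n ∈ D.monomialSubgroup F) :
    Nat.card (cell D F n) ≤ Nat.card (D.borelSubgroup F) * Nat.card (D.posUnipotent F) := by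
  classical
  haveI : Fintype F := Fintype.ofFinite F
  rw [← Nat.card_prod]
  let f : ↥(D.borelSubgroup F) × ↥(D.posUnipotent F) → cell D F n := fun p =>
    ⟨(p.1 : GL D.Idx F) * n * (p.2 : GL D.Idx F), (p.1 : GL D.Idx F), p.1.2, (p.2 : GL D.Idx F), pos_le_borel D F p.2.2, rfl⟩
  apply Nat.card_le_card_of_surjective f
  intro g
  obtain ⟨b, hb, u, hu, e⟩ := cell_eq_BnU D hD F n hn g.1 g.2
  exact ⟨(⟨b, hb⟩, ⟨u, hu⟩), Subtype.ext e.symm⟩

include hD in
/-- the big cell has exactly `|B| |U|` elements -/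
theorem card_cell_w0 [Finite F] :
    Nat.card (cell D F (nWordGL D hD F (w0word D))) = Nat.card (D.borelSubgroup F) * Nat.card (D.posUnipotent F) := by
  classical
  haveI : Fintype F := Fintype.ofFinite F
  set n0 := nWordGL D hD F (w0word D) with hn0
  have hn0N : n0 ∈ D.monomialSubgroup F := nWordGL_mem D hD F _ (chkW0_spec D hD).1
  rw [← Nat.card_prod]
  let f : ↥(D.borelSubgroup F) × ↥(D.posUnipotent F) → cell D F n0 := fun p =>
    ⟨(p.1 : GL D.Idx F) * n0 * (p.2 : GL D.Idx F), (p.1 : GL D.Idx F), p.1.2, (p.2 : GL D.Idx F), pos_le_borel D F p.2.2, rfl⟩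
  have hsurj : Function.Surjective f := by
    intro g
    obtain ⟨b, hb, u, hu, e⟩ := cell_eq_BnU D hD F n0 hn0N g.1 g.2
    exact ⟨(⟨b, hb⟩, ⟨u, hu⟩), Subtype.ext e.symm⟩
  have hinj : Function.Injective f := by
    rintro ⟨⟨b, hb⟩, ⟨u, hu⟩⟩ ⟨⟨b', hb'⟩, ⟨u', hu'⟩⟩ h
    have e : b * n0 * u = b' * n0 * u' := congrArg Subtype.val h
    have e1 : b'⁻¹ * b = n0 * (u' * u⁻¹) * n0⁻¹ := by
      have : b = b' * n0 * u' * u⁻¹ * n0⁻¹ := by
        rw [← e]; group
      rw [this]; group
    have hV : n0 * (u' * u⁻¹) * n0⁻¹ ∈ D.negUnipotent F := by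
      rw [← posUnipotent_map_conj D hD F]
      exact ⟨u' * u⁻¹, mul_mem hu' (inv_mem hu), rfl⟩
    have hB : n0 * (u' * u⁻¹) * n0⁻¹ ∈ D.borelSubgroup F := by
      rw [← e1]; exact mul_mem (inv_mem hb') hb
    have h1 : n0 * (u' * u⁻¹) * n0⁻¹ ∈ D.borelSubgroup F ⊓ D.negUnipotent F := ⟨hB, hV⟩
    rw [borel_inf_neg D hD F, Subgroup.mem_bot] at h1
    have hb1 : b'⁻¹ * b = 1 := by rw [e1, h1]
    have hu1 : u' * u⁻¹ = 1 := by
      have : u' * u⁻¹ = n0⁻¹ * (n0 * (u' * u⁻¹) * n0⁻¹) * n0 := by group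
      rw [this, h1]; group
    have ebb : b = b' := (inv_mul_eq_one.1 hb1).symm
    have euu : u = u' := (mul_inv_eq_one.1 hu1).symm
    subst ebb euu
    rfl
  exact (Nat.card_congr (Equiv.ofBijective f ⟨hinj, hsurj⟩)).symm

/-- the representative of the longest element in the group -/
noncomputable def n0G : ↥(D.group F) :=
  ⟨nWordGL D hD F (w0word D), monomial_le_group D hD F (nWordGL_mem D hD F _ (chkW0_spec D hD).1)⟩

theorem n0G_mem : n0G D hD F ∈ (bnP D hD F).N := by
  rw [mem_bnP_N]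
  exact nWordGL_mem D hD F _ (chkW0_spec D hD).1

/-- (g2) the size of the big cell -/
theorem card_C_n0 [Fintype F] :
    Nat.card (Cfsg.Agent.Lib.Helper6.C (bnP D hD F) (n0G D hD F)) =
      Fintype.card F ^ (D.nroots / 2) * Nat.card (bnP D hD F).B := by
  rw [card_C_eq, card_bnP_B]
  show Nat.card (cell D F (nWordGL D hD F (w0word D))) = _
  rw [card_cell_w0 D hD F, Cfsg.Agent.S1027.result D hD, mul_comm]

/-- (g2) every cell is at most as large as the big cell -/
theorem card_C_le [Fintype F] (n : ↥(D.group F)) (hn : n ∈ (bnP D hD F).N) :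
    Nat.card (Cfsg.Agent.Lib.Helper6.C (bnP D hD F) n) ≤
      Nat.card (Cfsg.Agent.Lib.Helper6.C (bnP D hD F) (n0G D hD F)) := by
  rw [card_C_n0, card_C_eq, card_bnP_B, ← Cfsg.Agent.S1027.result D hD, mul_comm]
  exact card_cell_le D hD F _ ((mem_bnP_N D hD F n).1 hn)

/-! ### (g3) the `p`-part of the order -/

include hD in
/-- `|G| = q^N k` with `k` prime to `p` -/
theorem card_group_ppart [Fintype F] (p : ℕ) [Fact p.Prime] [CharP F p] :
    ∃ k : ℕ, Nat.card ↥(D.group F) = Fintype.card F ^ (D.nroots / 2) * k ∧ ¬ p ∣ k := by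
  obtain ⟨P, hP⟩ := Cfsg.Agent.S2326.result p D hD (F := F)
  refine ⟨(P : Subgroup ↥(D.group F)).index, ?_, P.not_dvd_index⟩
  rw [← Cfsg.Agent.S1027.result D hD, ← Subgroup.card_mul_index (P : Subgroup ↥(D.group F)), hP]
  congr 1
  exact Nat.card_congr (Subgroup.subgroupOfEquivOfLe (posUnipotent_le_group D hD F)).toEquiv

end

end Cfsg.Agent.Lib.Helper18.Stb
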