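import Cfsg.Agent.Lib.Helper18.StbGlue

/-! # Steinberg character glue, part 2: `B ∩ n₀ B n₀⁻¹ = H` (helper18, for S2313) -/

set_option autoImplicit false

namespace Cfsg.Agent.Lib.Helper18.Stb

open Cfsg Cfsg.Lie Cfsg.Agent.Lib.Helper36

section
variable (D : ChevalleyDatum) (hD : D ∈ [chevG2, chevB2, chevD4, chevF4, chevE6, chevE7, chevE8])
variable (F : Type*) [Field F]

include hD in
/-- `B ∩ n₀ B n₀⁻¹ = H` in `GL` -/
theorem borel_inf_conj_n0 :
    D.borelSubgroup F ⊓ (D.borelSubgroup F).map (MulAut.conj (nWordGL D hD F (w0word D))).toMonoidHom =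
      D.diagonalSubgroup F := by
  set n0 := nWordGL D hD F (w0word D) with hn0
  have hn0N : n0 ∈ D.monomialSubgroup F := nWordGL_mem D hD F _ (chkW0_spec D hD).1
  apply le_antisymm
  · rintro g ⟨hgB, b, hb, rfl⟩
    obtain ⟨u, hu, h, hh, e⟩ := (mem_borel_iff D hD F b).1 hb
    have hv : n0 * u * n0⁻¹ ∈ D.negUnipotent F := by
      rw [← posUnipotent_map_conj D hD F]
      exact ⟨u, hu, rfl⟩
    have hh' : n0 * h * n0⁻¹ ∈ D.diagonalSubgroup F := conj_mem_diag_of_mem_monomial D hD F n0 h hn0N hh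
    have e1 : (MulAut.conj n0).toMonoidHom b = (n0 * u * n0⁻¹) * (n0 * h * n0⁻¹) := by
      show n0 * b * n0⁻¹ = _
      rw [← e]; group
    have hvB : n0 * u * n0⁻¹ ∈ D.borelSubgroup F := by
      have : n0 * u * n0⁻¹ = (MulAut.conj n0).toMonoidHom b * (n0 * h * n0⁻¹)⁻¹ := by
        rw [e1]; group
      rw [this]
      exact mul_mem hgB (inv_mem (diagonal_le_borel D F hh'))
    have h1 : n0 * u * n0⁻¹ ∈ D.borelSubgroup F ⊓ D.negUnipotent F := ⟨hvB, hv⟩
    rw [borel_inf_neg D hD F, Subgroup.mem_bot] at h1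
    rw [e1, h1, one_mul]
    exact hh'
  · intro g hg
    refine ⟨diagonal_le_borel D F hg, n0⁻¹ * g * n0, ?_, ?_⟩
    · exact diagonal_le_borel D F (conj_mem_diag_of_mem_monomial' D hD F n0 g hn0N hg)
    · show n0 * (n0⁻¹ * g * n0) * n0⁻¹ = g
      group

/-- `B ∩ n₀ B n₀⁻¹ = H` in the group -/
theorem bnP_B_inf_conj_n0 :
    (bnP D hD F).B ⊓ (bnP D hD F).B.map (MulAut.conj (n0G D hD F)).toMonoidHom =
      (D.diagonalSubgroup F).subgroupOf (D.group F) := by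
  ext x
  rw [Subgroup.mem_inf, Subgroup.mem_subgroupOf, ← borel_inf_conj_n0 D hD F, Subgroup.mem_inf, mem_bnP_B]
  apply and_congr Iff.rfl
  constructor
  · rintro ⟨b, hb, rfl⟩
    exact ⟨(b : GL D.Idx F), (mem_bnP_B D hD F b).1 hb, rfl⟩
  · rintro ⟨b, hb, e⟩
    have hbG : b ∈ D.group F := borel_le_group D hD F hb
    refine ⟨⟨b, hbG⟩, (mem_bnP_B D hD F _).2 hb, ?_⟩
    apply Subtype.ext
    rw [← e]
    rfl

end

end Cfsg.Agent.Lib.Helper18.Stb
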