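import Cfsg.Agent.Lib.Helper18.Syl168d

/-! # Transport along Sylow conjugacy (helper18) -/

set_option autoImplicit false

namespace Cfsg.Agent.Lib.Helper18.Syl168

open Subgroup
open scoped Pointwise

section
variable {G : Type*} [Group G] [Finite G]

theorem mem_conj_sylow {p : ℕ} [Fact p.Prime] (E : Sylow p G) (g x : G) :
    x ∈ ((g • E : Sylow p G) : Subgroup G) ↔ g⁻¹ * x * g ∈ (E : Subgroup G) := by
  rw [Sylow.coe_subgroup_smul, Subgroup.mem_pointwise_smul_iff_inv_smul_mem, MulAut.smul_def,
    ← map_inv, MulAut.conj_apply, inv_inv]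

/-- `C(S) = S` and `|N(S)| = 168` are invariant under Sylow conjugacy -/
theorem transport {p : ℕ} [Fact p.Prime] (E S : Sylow p G)
    (hC : centralizer ((E : Subgroup G) : Set G) = E)
    (hN : Nat.card (normalizer ((E : Subgroup G) : Set G)) = 168) :
    centralizer ((S : Subgroup G) : Set G) = S ∧
      Nat.card (normalizer ((S : Subgroup G) : Set G)) = 168 := by
  obtain ⟨g, rfl⟩ := MulAction.exists_smul_eq G E S
  have hmem := mem_conj_sylow E g
  constructor
  · ext x
    rw [hmem, ← hC, mem_centralizer_iff, mem_centralizer_iff]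
    constructor
    · intro h y hy
      have hy' : g * y * g⁻¹ ∈ (((g • E : Sylow p G) : Subgroup G) : Set G) := by
        rw [SetLike.mem_coe, hmem]
        have : g⁻¹ * (g * y * g⁻¹) * g = y := by group
        rw [this]; exact hy
      have := h _ hy'
      have e1 : y * (g⁻¹ * x * g) = g⁻¹ * (g * y * g⁻¹ * x) * g := by group
      have e2 : g⁻¹ * x * g * y = g⁻¹ * (x * (g * y * g⁻¹)) * g := by group
      rw [e1, e2, this]
    · intro h y hy
      have hy' : g⁻¹ * y * g ∈ ((E : Subgroup G) : Set G) := (hmem y).1 hy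
      have := h _ hy'
      have e1 : y * x = g * (g⁻¹ * y * g * (g⁻¹ * x * g)) * g⁻¹ := by group
      have e2 : x * y = g * (g⁻¹ * x * g * (g⁻¹ * y * g)) * g⁻¹ := by group
      rw [e1, e2, this]
  · rw [← hN]
    have hnorm : ∀ x : G, x ∈ normalizer (((g • E : Sylow p G) : Subgroup G) : Set G) ↔
        g⁻¹ * x * g ∈ normalizer ((E : Subgroup G) : Set G) := by
      intro x
      rw [mem_normalizer_iff, mem_normalizer_iff]
      constructor
      · intro h y
        have := h (g * y * g⁻¹)
        rw [hmem, hmem] at this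
        have e1 : g⁻¹ * (g * y * g⁻¹) * g = y := by group
        have e2 : g⁻¹ * (x * (g * y * g⁻¹) * x⁻¹) * g = g⁻¹ * x * g * y * (g⁻¹ * x * g)⁻¹ := by group
        rwa [e1, e2] at this
      · intro h y
        rw [hmem, hmem]
        have := h (g⁻¹ * y * g)
        have e2 : g⁻¹ * x * g * (g⁻¹ * y * g) * (g⁻¹ * x * g)⁻¹ = g⁻¹ * (x * y * x⁻¹) * g := by group
        rwa [e2] at this
    refine Nat.card_congr ⟨fun x => ⟨g⁻¹ * x.1 * g, (hnorm x.1).1 x.2⟩,
      fun y => ⟨g * y.1 * g⁻¹, (hnorm _).2 (by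
        have : g⁻¹ * (g * y.1 * g⁻¹) * g = y.1 := by group
        rw [this]; exact y.2)⟩, fun x => Subtype.ext (by simp only; group), fun y => Subtype.ext (by simp only; group)⟩

end

end Cfsg.Agent.Lib.Helper18.Syl168
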