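import Mathlib

/-! # Automorphisms of an elementary abelian group of order 8 (helper18) -/

set_option autoImplicit false

namespace Cfsg.Agent.Lib.Helper18.Syl168

section aut
variable {S : Type*} [Group S] [Finite S]

/-- a group of exponent two is commutative -/
theorem comm_of_sq (hexp : ∀ x : S, x * x = 1) (x y : S) : x * y = y * x := by
  have h1 : x⁻¹ = x := inv_eq_of_mul_eq_one_left (hexp x)
  have h2 : y⁻¹ = y := inv_eq_of_mul_eq_one_left (hexp y)
  have h3 : (x * y)⁻¹ = x * y := inv_eq_of_mul_eq_one_left (hexp (x * y))
  rw [mul_inv_rev, h1, h2] at h3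
  exact h3.symm

/-- the order of the automorphism group of an elementary abelian group of order 8 divides 168 -/
theorem card_mulAut_dvd (hcard : Nat.card S = 8) (hexp : ∀ x : S, x * x = 1) :
    Nat.card (MulAut S) ∣ 168 := by
  classical
  letI : CommGroup S := { (inferInstance : Group S) with mul_comm := comm_of_sq hexp }
  have h2 : ∀ v : Additive S, 2 • v = 0 := by
    intro v
    rw [two_nsmul]
    exact congrArg Additive.ofMul (hexp v.toMul)
  letI : Module (ZMod 2) (Additive S) := AddCommGroup.zmodModule h2
  haveI : Finite (Additive S) := inferInstanceAs (Finite S)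
  -- the dimension
  have hfin : Module.finrank (ZMod 2) (Additive S) = 3 := by
    letI : Fintype (Additive S) := Fintype.ofFinite _
    have h1 := Module.card_eq_pow_finrank (K := ZMod 2) (V := Additive S)
    have h3 : Nat.card (Additive S) = 8 := hcard
    rw [← Nat.card_eq_fintype_card, h3, ZMod.card] at h1
    have : (2 : ℕ) ^ 3 = 2 ^ Module.finrank (ZMod 2) (Additive S) := by rw [← h1]; norm_num
    exact (Nat.pow_right_injective (le_refl 2) this).symm
  -- the linear map attached to an automorphism
  let L : MulAut S → (Additive S →ₗ[ZMod 2] Additive S) := fun φ =>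
    (MulEquiv.toAdditive φ : Additive S ≃+ Additive S).toAddMonoidHom.toZModLinearMap 2
  have hL : ∀ (φ : MulAut S) (v : Additive S), L φ v = Additive.ofMul (φ v.toMul) := fun φ v => rfl
  have hLker : ∀ φ : MulAut S, LinearMap.ker (L φ) = ⊥ := by
    intro φ
    rw [LinearMap.ker_eq_bot]
    intro v w h
    rw [hL, hL] at h
    have := φ.injective (Additive.ofMul.injective h)
    exact Additive.toMul.injective this
  -- the action on the linearly independent triples
  let X := { s : Fin 3 → Additive S // LinearIndependent (ZMod 2) s }
  let _ : MulAction (MulAut S) X :=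
    { smul := fun φ s => ⟨fun i => L φ (s.1 i), s.2.map' (L φ) (hLker φ)⟩
      one_smul := fun s => Subtype.ext (funext fun i => rfl)
      mul_smul := fun φ ψ s => Subtype.ext (funext fun i => rfl) }
  have hsmul : ∀ (φ : MulAut S) (s : X) (i : Fin 3), (φ • s).1 i = L φ (s.1 i) := fun φ s i => rfl
  have hfree : ∀ s : X, MulAction.stabilizer (MulAut S) s = ⊥ := by
    intro s
    rw [Subgroup.eq_bot_iff_forall]
    intro φ hφ
    rw [MulAction.mem_stabilizer_iff] at hφ
    have hfix : ∀ i, L φ (s.1 i) = s.1 i := fun i => by rw [← hsmul, hφ]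
    have hspan : Submodule.span (ZMod 2) (Set.range s.1) = ⊤ :=
      s.2.span_eq_top_of_card_eq_finrank' (by rw [Fintype.card_fin, hfin])
    have hid : L φ = LinearMap.id := by
      apply LinearMap.ext_on_range hspan
      intro i
      rw [hfix, LinearMap.id_apply]
    ext x
    have := congrArg (fun f => f (Additive.ofMul x)) hid
    simp only [LinearMap.id_apply] at this
    rw [hL] at this
    exact Additive.ofMul.injective this
  have hX : Nat.card X = 168 := by
    have := card_linearIndependent (K := ZMod 2) (V := Additive S) (k := 3) (by rw [hfin])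
    rw [this, hfin, ZMod.card, Fin.prod_univ_three]
    rfl
  have e := MulAction.selfEquivOrbitsQuotientProd hfree
  have h3 := Nat.card_congr e
  rw [Nat.card_prod, hX] at h3
  exact ⟨_, by rw [h3, mul_comm]⟩

end aut

end Cfsg.Agent.Lib.Helper18.Syl168
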