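import Cfsg.Agent.Lib.Helper18.Syl168a

/-! # The normaliser of a self-centralising elementary abelian Sylow 2-subgroup of order 8
in a perfect group (helper18) -/

set_option autoImplicit false

namespace Cfsg.Agent.Lib.Helper18.Syl168

open Subgroup

section
variable {G : Type*} [Group G] [Finite G]

/-- the `g`-norm map on a subgroup normalised by an element `g` of order three -/
def nrm (g x : G) : G := x * (g * x * g⁻¹) * (g * g * x * (g * g)⁻¹)

theorem nrm_fixed (g y : G) (hy : g * y * g⁻¹ = y) (hy2 : y * y = 1) : nrm g y = y := by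
  have h2 : g * g * y * (g * g)⁻¹ = y := by
    have : g * g * y * (g * g)⁻¹ = g * (g * y * g⁻¹) * g⁻¹ := by group
    rw [this, hy, hy]
  unfold nrm
  rw [hy, h2, hy2, one_mul]

variable (S : Subgroup G)

theorem nrm_mem (g : G) (hg : g ∈ normalizer (S : Set G)) (x : G) (hx : x ∈ S) : nrm g x ∈ S := by
  have h1 : g * x * g⁻¹ ∈ S := (mem_normalizer_iff.1 hg x).1 hx
  have h2 : g * g * x * (g * g)⁻¹ ∈ S := (mem_normalizer_iff.1 (mul_mem hg hg) x).1 hx
  exact mul_mem (mul_mem hx h1) h2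

theorem nrm_mul (hcomm : ∀ a ∈ S, ∀ b ∈ S, a * b = b * a) (g : G) (hg : g ∈ normalizer (S : Set G))
    (x y : G) (hx : x ∈ S) (hy : y ∈ S) : nrm g (x * y) = nrm g x * nrm g y := by
  have hx1 : g * x * g⁻¹ ∈ S := (mem_normalizer_iff.1 hg x).1 hx
  have hx2 : g * g * x * (g * g)⁻¹ ∈ S := (mem_normalizer_iff.1 (mul_mem hg hg) x).1 hx
  have hy1 : g * y * g⁻¹ ∈ S := (mem_normalizer_iff.1 hg y).1 hy
  have hy2 : g * g * y * (g * g)⁻¹ ∈ S := (mem_normalizer_iff.1 (mul_mem hg hg) y).1 hy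
  have e1 : g * (x * y) * g⁻¹ = (g * x * g⁻¹) * (g * y * g⁻¹) := by group
  have e2 : g * g * (x * y) * (g * g)⁻¹ = (g * g * x * (g * g)⁻¹) * (g * g * y * (g * g)⁻¹) := by group
  unfold nrm
  rw [e1, e2]
  set a := g * x * g⁻¹
  set b := g * y * g⁻¹
  set c := g * g * x * (g * g)⁻¹
  set d := g * g * y * (g * g)⁻¹
  -- x y a b c d = x a c y b d in a commutative subgroup
  have c1 : y * a = a * y := hcomm y hy a hx1
  have c2 : y * c = c * y := hcomm y hy c hx2
  have c3 : b * c = c * b := hcomm b hy1 c hx2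
  calc x * y * (a * b) * (c * d) = x * (y * a) * b * c * d := by group
    _ = x * (a * y) * b * c * d := by rw [c1]
    _ = x * a * y * (b * c) * d := by group
    _ = x * a * y * (c * b) * d := by rw [c3]
    _ = x * a * (y * c) * b * d := by group
    _ = x * a * (c * y) * b * d := by rw [c2]
    _ = x * a * c * (y * b * d) := by group

theorem nrm_conj (hcomm : ∀ a ∈ S, ∀ b ∈ S, a * b = b * a) (g : G) (hg : g ∈ normalizer (S : Set G))
    (hg3 : g * g * g = 1) (x : G) (hx : x ∈ S) : nrm g (g * x * g⁻¹) = nrm g x := by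
  have hx1 : g * x * g⁻¹ ∈ S := (mem_normalizer_iff.1 hg x).1 hx
  have hx2 : g * g * x * (g * g)⁻¹ ∈ S := (mem_normalizer_iff.1 (mul_mem hg hg) x).1 hx
  have e1 : g * (g * x * g⁻¹) * g⁻¹ = g * g * x * (g * g)⁻¹ := by group
  have e2 : g * g * (g * x * g⁻¹) * (g * g)⁻¹ = x := by
    have : g * g * (g * x * g⁻¹) * (g * g)⁻¹ = (g * g * g) * x * (g * g * g)⁻¹ := by group
    rw [this, hg3, one_mul, inv_one, mul_one]
  unfold nrm
  rw [e1, e2]
  have c1 := (hcomm x hx (g * x * g⁻¹ * (g * g * x * (g * g)⁻¹)) (mul_mem hx1 hx2)).symm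
  rw [c1]
  group

theorem nrm_conj_pow (hcomm : ∀ a ∈ S, ∀ b ∈ S, a * b = b * a) (g : G) (hg : g ∈ normalizer (S : Set G))
    (hg3 : g * g * g = 1) (i : ℕ) (x : G) (hx : x ∈ S) : nrm g (g ^ i * x * (g ^ i)⁻¹) = nrm g x := by
  induction i generalizing x with
  | zero => simp
  | succ k ih =>
    have hx1 : g * x * g⁻¹ ∈ S := (mem_normalizer_iff.1 hg x).1 hx
    have e : g ^ (k + 1) * x * (g ^ (k + 1))⁻¹ = g ^ k * (g * x * g⁻¹) * (g ^ k)⁻¹ := by
      rw [pow_succ]; group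
    rw [e, ih _ hx1, nrm_conj S hcomm g hg hg3 x hx]

end

end Cfsg.Agent.Lib.Helper18.Syl168
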