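import Cfsg.Agent.Lib.Helper18.Syl168b

/-! # `|N(S)| = 168` (helper18) -/

set_option autoImplicit false

namespace Cfsg.Agent.Lib.Helper18.Syl168

open Subgroup
open scoped commutatorElement

section
variable {G : Type*} [Group G] [Finite G]

/-- in a perfect group the norm map kills an abelian Sylow subgroup whose normaliser is `S⟨g⟩` -/
theorem nrm_eq_one {p : ℕ} [Fact p.Prime] (hperf : commutator G = ⊤) (S : Sylow p G)
    (hcomm : ∀ a ∈ (S : Subgroup G), ∀ b ∈ (S : Subgroup G), a * b = b * a)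
    (g : G) (hgN : g ∈ normalizer ((S : Subgroup G) : Set G)) (hg3 : g * g * g = 1)
    (hdec : ∀ n ∈ normalizer ((S : Subgroup G) : Set G), ∃ s ∈ (S : Subgroup G), ∃ i : ℕ, n = s * g ^ i)
    (x : G) (hx : x ∈ (S : Subgroup G)) : nrm g x = 1 := by
  haveI : IsMulCommutative (S : Subgroup G) := ⟨⟨fun a b => Subtype.ext (hcomm a a.2 b b.2)⟩⟩
  -- invariance under the normaliser
  have hinv : ∀ n ∈ normalizer ((S : Subgroup G) : Set G), ∀ y ∈ (S : Subgroup G),
      nrm g (n * y * n⁻¹) = nrm g y := by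
    intro n hn y hy
    obtain ⟨s, hs, i, rfl⟩ := hdec n hn
    have hgi : g ^ i ∈ normalizer ((S : Subgroup G) : Set G) := pow_mem hgN i
    have hy1 : g ^ i * y * (g ^ i)⁻¹ ∈ (S : Subgroup G) := (mem_normalizer_iff.1 hgi y).1 hy
    have e : s * g ^ i * y * (s * g ^ i)⁻¹ = s * (g ^ i * y * (g ^ i)⁻¹) * s⁻¹ := by group
    rw [e, hcomm s hs _ hy1, mul_assoc, mul_inv_cancel, mul_one]
    exact nrm_conj_pow (S : Subgroup G) hcomm g hgN hg3 i y hy
  -- the kernel of the norm map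
  let K : Subgroup G :=
    { carrier := {y | y ∈ (S : Subgroup G) ∧ nrm g y = 1}
      mul_mem' := fun {a b} ha hb => ⟨mul_mem ha.1 hb.1, by
        rw [nrm_mul (S : Subgroup G) hcomm g hgN a b ha.1 hb.1, ha.2, hb.2, one_mul]⟩
      one_mem' := ⟨one_mem _, by unfold nrm; group⟩
      inv_mem' := fun {a} ha => ⟨inv_mem ha.1, by
        have h1 := nrm_mul (S : Subgroup G) hcomm g hgN a a⁻¹ ha.1 (inv_mem ha.1)
        rw [mul_inv_cancel, ha.2, one_mul] at h1
        rw [← h1]; unfold nrm; group⟩ }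
  have hK : ∀ y, y ∈ K ↔ y ∈ (S : Subgroup G) ∧ nrm g y = 1 := fun y => Iff.rfl
  have hone : nrm g (1 : G) = 1 := by unfold nrm; group
  have hfoc : (S : Subgroup G).focalSubgroup ≤ K := by
    rw [focalSubgroup_def, closure_le]
    rintro c ⟨hcS, y, hy, u, rfl⟩
    refine (hK _).2 ⟨hcS, ?_⟩
    -- `⁅y, u⁆ = y * (u * y⁻¹ * u⁻¹)`
    have e1 : ⁅y, u⁆ = y * (u * y⁻¹ * u⁻¹) := by rw [commutatorElement_def]; group
    have h1 : u * y⁻¹ * u⁻¹ ∈ (S : Subgroup G) := by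
      have : u * y⁻¹ * u⁻¹ = y⁻¹ * ⁅y, u⁆ := by rw [e1]; group
      rw [this]
      exact mul_mem (inv_mem hy) hcS
    obtain ⟨n, hn, e2⟩ := S.conj_eq_normalizer_conj_of_mem y⁻¹ u⁻¹ (inv_mem hy) (by rwa [inv_inv])
    rw [inv_inv] at e2
    rw [e1, e2, nrm_mul (S : Subgroup G) hcomm g hgN _ _ hy (by rw [← e2]; exact h1)]
    have h2 := hinv n⁻¹ (inv_mem hn) y⁻¹ (inv_mem hy)
    rw [inv_inv] at h2
    rw [h2, ← nrm_mul (S : Subgroup G) hcomm g hgN _ _ hy (inv_mem hy), mul_inv_cancel, hone]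
  have hS : (S : Subgroup G) ≤ K := by
    have h1 := Subgroup.commutator_inf_eq_focalSubgroup S
    rw [hperf, top_inf_eq] at h1
    rw [h1]
    exact hfoc
  exact ((hK x).1 (hS hx)).2

end

end Cfsg.Agent.Lib.Helper18.Syl168
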