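import Cfsg.Agent.Lib.Helper18.Syl168c

/-! # `|N(S)| = 168`: the main statement (helper18) -/

set_option autoImplicit false

namespace Cfsg.Agent.Lib.Helper18.Syl168

open Subgroup

section
variable {G : Type*} [Group G] [Finite G]

/-- an automorphism of order dividing three of a group of order 8 fixes a non-trivial element -/
theorem exists_fixed_of_card_eight {S : Type*} [Group S] [Finite S] (hcard : Nat.card S = 8)
    (φ : MulAut S) (hφ : φ ^ 3 = 1) : ∃ y : S, y ≠ 1 ∧ φ y = y := by
  classical
  letI : Fintype S := Fintype.ofFinite S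
  let σ : Equiv.Perm {x : S // x ≠ 1} :=
    φ.toEquiv.subtypeEquiv (fun a => by
      show a ≠ 1 ↔ φ a ≠ 1
      rw [Ne, Ne, map_eq_one_iff φ φ.injective])
  have hσv : ∀ t : {x : S // x ≠ 1}, ((σ t : {x : S // x ≠ 1}) : S) = φ t.1 := fun t => rfl
  have hσ : σ ^ 3 ^ 1 = 1 := by
    ext t
    rw [pow_one, pow_succ, pow_two, Equiv.Perm.mul_apply, Equiv.Perm.mul_apply, hσv, hσv, hσv,
      Equiv.Perm.one_apply]
    have h3 : (φ ^ 3) t.1 = t.1 := by rw [hφ]; rfl
    rw [pow_succ, pow_two, MulAut.mul_apply, MulAut.mul_apply] at h3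
    exact h3
  have hc : Fintype.card {x : S // x ≠ 1} = 7 := by
    have h1 := Set.card_ne_eq (1 : S)
    have hS8 : Fintype.card S = 8 := by rw [← Nat.card_eq_fintype_card]; exact hcard
    rw [hS8] at h1
    have h2 : Fintype.card {x : S // x ≠ 1} = Fintype.card {x : S | x ≠ 1} := by
      apply Fintype.card_congr
      exact Equiv.refl _
    rw [h2, h1]
  have : Fact (Nat.Prime 3) := ⟨by norm_num⟩
  obtain ⟨t, ht⟩ := Equiv.Perm.exists_fixed_point_of_prime (p := 3) (n := 1) (by rw [hc]; norm_num) hσ
  exact ⟨t.1, t.2, by rw [← hσv, ht]⟩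

/-- **Main lemma**: in a perfect group, a self-centralising elementary abelian Sylow 2-subgroup of
order 8 whose normaliser contains an element of order 3 has a normaliser of order 168 -/
theorem card_normalizer_eq_168 (hperf : commutator G = ⊤) (S : Sylow 2 G)
    (hcard : Nat.card (S : Subgroup G) = 8) (hexp : ∀ x ∈ (S : Subgroup G), x * x = 1)
    (hC : centralizer ((S : Subgroup G) : Set G) = S) (g : G)
    (hgN : g ∈ normalizer ((S : Subgroup G) : Set G)) (hg : orderOf g = 3) :
    Nat.card (normalizer ((S : Subgroup G) : Set G)) = 168 := by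
  classical
  have hcomm : ∀ a ∈ (S : Subgroup G), ∀ b ∈ (S : Subgroup G), a * b = b * a := by
    intro a ha b hb
    have := comm_of_sq (S := ↥(S : Subgroup G)) (fun x => Subtype.ext (hexp x x.2)) ⟨a, ha⟩ ⟨b, hb⟩
    exact congrArg Subtype.val this
  set N := normalizer ((S : Subgroup G) : Set G) with hN
  have hSN : (S : Subgroup G) ≤ N := le_normalizer
  set ρ := (S : Subgroup G).normalizerMonoidHom with hρ
  -- the kernel
  have hker : Nat.card ρ.ker = 8 := by
    rw [hρ, normalizerMonoidHom_ker, hC, Nat.card_congr (subgroupOfEquivOfLe hSN).toEquiv, hcard]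
  have hmul : Nat.card N = 8 * Nat.card ρ.range := by
    rw [← hker, ← Subgroup.index_ker, Subgroup.card_mul_index]
  set r := Nat.card ρ.range with hr
  have hr168 : r ∣ 168 :=
    (Subgroup.card_subgroup_dvd_card ρ.range).trans
      (card_mulAut_dvd hcard (fun x => Subtype.ext (hexp x x.2)))
  -- `r` is odd
  have hrodd : Nat.Coprime r 8 := by
    have h1 : Nat.card N ∣ Nat.card G := Subgroup.card_subgroup_dvd_card N
    have h2 : Nat.card G = 8 * (S : Subgroup G).index := by
      rw [← hcard, Subgroup.card_mul_index]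
    rw [hmul, h2] at h1
    have h3 : r ∣ (S : Subgroup G).index := Nat.dvd_of_mul_dvd_mul_left (by norm_num) h1
    have h4 : ¬ 2 ∣ (S : Subgroup G).index := S.not_dvd_index
    have h5 : ¬ 2 ∣ r := fun h => h4 (h.trans h3)
    have : Nat.Coprime r 2 := (Nat.coprime_comm.1 ((Nat.Prime.coprime_iff_not_dvd Nat.prime_two).2 h5))
    exact Nat.Coprime.pow_right 3 this
  have hr21 : r ∣ 21 := by
    have : r ∣ 8 * 21 := by norm_num; exact hr168
    exact hrodd.dvd_of_dvd_mul_left this
  -- `3 ∣ r`
  have h3r : 3 ∣ r := by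
    have h1 : orderOf (⟨g, hgN⟩ : N) = 3 := by rw [Subgroup.orderOf_mk, hg]
    have h2 : 3 ∣ Nat.card N := by rw [← h1]; exact orderOf_dvd_natCard _
    rw [hmul] at h2
    exact (Nat.Coprime.dvd_of_dvd_mul_left (by norm_num : Nat.Coprime 3 8) h2)
  have hcases : r = 3 ∨ r = 21 := by
    have hle : r ≤ 21 := Nat.le_of_dvd (by norm_num) hr21
    obtain ⟨k, hk⟩ := h3r
    have hk7 : k ≤ 7 := by omega
    interval_cases k
    · rw [hk] at hr21; norm_num at hr21
    · left; omega
    · rw [hk] at hr21; norm_num at hr21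
    · rw [hk] at hr21; norm_num at hr21
    · rw [hk] at hr21; norm_num at hr21
    · rw [hk] at hr21; norm_num at hr21
    · rw [hk] at hr21; norm_num at hr21
    · right; omega
  rcases hcases with h3 | h21
  · -- the case `r = 3` is impossible
    exfalso
    have hN24 : Nat.card N = 24 := by rw [hmul, h3]
    have hg3 : g * g * g = 1 := by
      have := pow_orderOf_eq_one g
      rw [hg, pow_succ, pow_two] at this
      exact this
    -- decomposition of the normaliser
    have hdec : ∀ n ∈ N, ∃ s ∈ (S : Subgroup G), ∃ i : ℕ, n = s * g ^ i := by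
      intro n hn
      set g' : N := ⟨g, hgN⟩ with hg'
      have ho : orderOf g' = 3 := by rw [hg', Subgroup.orderOf_mk, hg]
      have hcH : Nat.card ((S : Subgroup G).subgroupOf N) = 8 := by
        rw [Nat.card_congr (subgroupOfEquivOfLe hSN).toEquiv, hcard]
      have hcK : Nat.card (zpowers g') = 3 := by rw [Nat.card_zpowers, ho]
      have hcompl : IsComplement' ((S : Subgroup G).subgroupOf N) (zpowers g') :=
        isComplement'_of_coprime (by rw [hcH, hcK, hN24]) (by rw [hcH, hcK]; norm_num)
      obtain ⟨⟨h, k⟩, hhk, -⟩ := hcompl.existsUnique (⟨n, hn⟩ : N)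
      have hk : (k : N) ∈ zpowers g' := k.2
      have hfin : IsOfFinOrder g' := isOfFinOrder_of_finite g'
      rw [← mem_powers_iff_mem_zpowers] at hk
      obtain ⟨i, hi⟩ := hk
      refine ⟨((h : N) : G), mem_subgroupOf.1 h.2, i, ?_⟩
      have := congrArg Subtype.val hhk
      simp only [Subgroup.coe_mul] at this
      rw [← this, ← hi]
      rfl
    have hnrm := nrm_eq_one hperf S hcomm g hgN hg3 hdec
    -- a fixed point
    have hφ3 : (ρ ⟨g, hgN⟩) ^ 3 = 1 := by
      rw [← map_pow]
      have : (⟨g, hgN⟩ : N) ^ 3 = 1 := by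
        apply Subtype.ext
        rw [Subgroup.coe_pow, Subgroup.coe_one, ← hg]
        exact pow_orderOf_eq_one g
      rw [this, map_one]
    obtain ⟨y, hy1, hy⟩ := exists_fixed_of_card_eight hcard (ρ ⟨g, hgN⟩) hφ3
    have hy' : g * (y : G) * g⁻¹ = y := by
      have := congrArg Subtype.val hy
      exact this
    have h1 := nrm_fixed g (y : G) hy' (hexp y y.2)
    rw [hnrm y y.2] at h1
    exact hy1 (Subtype.ext h1.symm)
  · rw [hmul, h21]

end

end Cfsg.Agent.Lib.Helper18.Syl168
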