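import Mathlib

set_option autoImplicit false

namespace Cfsg.Agent.Lib.Helper18

open scoped BigOperators

section
variable {C : Type*} [CommGroup C] {l : ℕ}

/-- the monomial map attached to an integer matrix: `(μ_A t)_k = ∏_j t_j ^ A j k` -/
def monoMap (A : Matrix (Fin l) (Fin l) ℤ) : (Fin l → C) →* (Fin l → C) where
  toFun t k := ∏ j, t j ^ A j k
  map_one' := by
    funext k
    simp
  map_mul' s t := by
    funext k
    simp [mul_zpow, Finset.prod_mul_distrib]

theorem monoMap_apply (A : Matrix (Fin l) (Fin l) ℤ) (t : Fin l → C) (k : Fin l) :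
    monoMap A t k = ∏ j, t j ^ A j k := rfl

theorem zpow_finset_sum {ι : Type*} (s : Finset ι) (c : C) (f : ι → ℤ) :
    c ^ (∑ j ∈ s, f j) = ∏ j ∈ s, c ^ f j := by
  classical
  induction s using Finset.induction_on with
  | empty => simp
  | insert a s ha ih => rw [Finset.sum_insert ha, Finset.prod_insert ha, zpow_add, ih]

theorem monoMap_mul (A B : Matrix (Fin l) (Fin l) ℤ) (t : Fin l → C) :
    monoMap (A * B) t = monoMap B (monoMap A t) := by
  funext k
  simp only [monoMap_apply, Matrix.mul_apply]
  have : ∀ j, (∏ i, t i ^ A i j) ^ B j k = ∏ i, t i ^ (A i j * B j k) := by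
    intro j
    rw [← Finset.prod_zpow]
    apply Finset.prod_congr rfl
    intro i _
    rw [zpow_mul]
  simp only [this]
  rw [Finset.prod_comm]
  apply Finset.prod_congr rfl
  intro i _
  rw [zpow_finset_sum]

theorem monoMap_one (t : Fin l → C) : monoMap (1 : Matrix (Fin l) (Fin l) ℤ) t = t := by
  funext k
  rw [monoMap_apply, Finset.prod_eq_single k]
  · simp
  · intro j _ hj
    simp [Matrix.one_apply_ne hj]
  · intro h; exact absurd (Finset.mem_univ k) h

theorem monoMap_bijective (P P' : Matrix (Fin l) (Fin l) ℤ) (h1 : P * P' = 1) (h2 : P' * P = 1) :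
    Function.Bijective (monoMap (C := C) P) := by
  refine Function.bijective_iff_has_inverse.2 ⟨monoMap P', fun t => ?_, fun t => ?_⟩
  · rw [← monoMap_mul, h1, monoMap_one]
  · rw [← monoMap_mul, h2, monoMap_one]

end

section card
variable {C : Type*} [CommGroup C] [Finite C] [IsCyclic C] {l : ℕ}

theorem card_ker_monoMap_diagonal (d : Fin l → ℕ) :
    Nat.card (monoMap (C := C) (Matrix.diagonal fun k => (d k : ℤ))).ker = ∏ k, (Nat.card C).gcd (d k) := by
  have e : (monoMap (C := C) (Matrix.diagonal fun k => (d k : ℤ))).ker ≃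
      ((k : Fin l) → (powMonoidHom (d k) : C →* C).ker) :=
    { toFun := fun t k => ⟨t.1 k, by
        have := t.2
        rw [MonoidHom.mem_ker] at this ⊢
        have h1 := congrFun this k
        rw [monoMap_apply, Finset.prod_eq_single k] at h1
        · simpa using h1
        · intro j _ hj
          simp [Matrix.diagonal_apply_ne _ hj]
        · intro h; exact absurd (Finset.mem_univ k) h⟩
      invFun := fun u => ⟨fun k => (u k).1, by
        rw [MonoidHom.mem_ker]
        funext k
        rw [monoMap_apply, Finset.prod_eq_single k]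
        · have := (u k).2
          rw [MonoidHom.mem_ker] at this
          simpa using this
        · intro j _ hj
          simp [Matrix.diagonal_apply_ne _ hj]
        · intro h; exact absurd (Finset.mem_univ k) h⟩
      left_inv := fun t => rfl
      right_inv := fun u => rfl }
  rw [Nat.card_congr e, Nat.card_pi]
  apply Finset.prod_congr rfl
  intro k _
  exact IsCyclic.card_powMonoidHom_ker C (d k)

/-- the number of solutions of a monomial system, from a Smith normal form -/
theorem card_ker_monoMap (A P P' Q Q' : Matrix (Fin l) (Fin l) ℤ) (d : Fin l → ℕ)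
    (hA : A = P * Matrix.diagonal (fun k => (d k : ℤ)) * Q) (hP : P * P' = 1) (hP' : P' * P = 1)
    (hQ : Q * Q' = 1) (hQ' : Q' * Q = 1) :
    Nat.card (monoMap (C := C) A).ker = ∏ k, (Nat.card C).gcd (d k) := by
  subst hA
  rw [← card_ker_monoMap_diagonal (C := C) d]
  have hbP := monoMap_bijective (C := C) P P' hP hP'
  have hbQ := monoMap_bijective (C := C) Q Q' hQ hQ'
  let eP : (Fin l → C) ≃ (Fin l → C) := Equiv.ofBijective _ hbP
  apply Nat.card_congr
  refine
    { toFun := fun t => ⟨monoMap P t.1, ?_⟩
      invFun := fun u => ⟨eP.symm u.1, ?_⟩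
      left_inv := fun t => Subtype.ext (eP.symm_apply_apply t.1)
      right_inv := fun u => Subtype.ext (eP.apply_symm_apply u.1) }
  · have := t.2
    rw [MonoidHom.mem_ker] at this ⊢
    rw [monoMap_mul, monoMap_mul] at this
    apply hbQ.1
    rw [map_one]
    exact this
  · rw [MonoidHom.mem_ker]
    have hu := u.2
    rw [MonoidHom.mem_ker] at hu
    rw [monoMap_mul, monoMap_mul]
    have : monoMap P (eP.symm u.1) = u.1 := eP.apply_symm_apply u.1
    rw [this, hu, map_one]

end card

end Cfsg.Agent.Lib.Helper18
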